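/-
Commutative algebras spanned by semisimple operators on a vector space over a prime field:
fields, semilinear groups, elements of primitive prime order.
-/
import Mathlib
set_option autoImplicit false
set_option maxHeartbeats 400000

namespace Cfsg.Agent.H88

variable {q : ℕ} [Fact q.Prime] {V : Type*} [AddCommGroup V] [Module (ZMod q) V]
  {G : Type*} [Group G] {ρ : G →* (V ≃ₗ[ZMod q] V)}

/-- The algebra spanned by the images of a subset. -/
def spanAlg (ρ : G →* (V ≃ₗ[ZMod q] V)) (A : Set G) : Subalgebra (ZMod q) (Module.End (ZMod q) V) :=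
  Algebra.adjoin (ZMod q) ((fun g => (ρ g : Module.End (ZMod q) V)) '' A)

lemma mem_spanAlg {A : Set G} {g : G} (hg : g ∈ A) : (ρ g : Module.End (ZMod q) V) ∈ spanAlg ρ A :=
  Algebra.subset_adjoin ⟨g, hg, rfl⟩

lemma rho_mul (g h : G) :
    (ρ (g * h) : Module.End (ZMod q) V) = (ρ g : Module.End (ZMod q) V) * (ρ h : Module.End (ZMod q) V) := by
  rw [map_mul]; rfl

lemma rho_one : ((ρ 1 : V ≃ₗ[ZMod q] V) : Module.End (ZMod q) V) = 1 := by rw [map_one]; rfl

lemma rho_mul_inv (g : G) : (ρ g : Module.End (ZMod q) V) * (ρ g⁻¹ : Module.End (ZMod q) V) = 1 := by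
  rw [← rho_mul, mul_inv_cancel, rho_one]

lemma rho_inv_mul (g : G) : (ρ g⁻¹ : Module.End (ZMod q) V) * (ρ g : Module.End (ZMod q) V) = 1 := by
  rw [← rho_mul, inv_mul_cancel, rho_one]

lemma commute_spanAlg {A : Set G} {x : Module.End (ZMod q) V}
    (h : ∀ a ∈ A, Commute x (ρ a : Module.End (ZMod q) V)) {r : Module.End (ZMod q) V} (hr : r ∈ spanAlg ρ A) :
    Commute x r := by
  induction hr using Algebra.adjoin_induction with
  | mem r hr => obtain ⟨a, ha, rfl⟩ := hr; exact h a ha
  | algebraMap c => exact Algebra.commute_algebraMap_right c x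
  | add a b _ _ ha hb => exact ha.add_right hb
  | mul a b _ _ ha hb => exact ha.mul_right hb

lemma spanAlg_comm {A : Set G} (hA : ∀ a ∈ A, ∀ b ∈ A, a * b = b * a) {r s : Module.End (ZMod q) V}
    (hr : r ∈ spanAlg ρ A) (hs : s ∈ spanAlg ρ A) : Commute r s :=
  commute_spanAlg (fun a ha => (commute_spanAlg (x := (ρ a : Module.End (ZMod q) V))
    (fun b hb => by
      show (ρ a : Module.End (ZMod q) V) * (ρ b : Module.End (ZMod q) V) = _
      rw [← rho_mul, hA a ha b hb, rho_mul]) hr).symm) hs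

/-- Conjugation by a normalising element preserves the spanned algebra. -/
lemma conj_mem_spanAlg {A : Set G} {g : G} (h : ∀ a ∈ A, g * a * g⁻¹ ∈ A) {r : Module.End (ZMod q) V}
    (hr : r ∈ spanAlg ρ A) :
    (ρ g : Module.End (ZMod q) V) * r * (ρ g⁻¹ : Module.End (ZMod q) V) ∈ spanAlg ρ A := by
  induction hr using Algebra.adjoin_induction with
  | mem r hr =>
    obtain ⟨a, ha, rfl⟩ := hr
    rw [← rho_mul, ← rho_mul]
    exact mem_spanAlg (h a ha)
  | algebraMap c =>
    rw [← Algebra.commutes c, mul_assoc, rho_mul_inv, mul_one]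
    exact Subalgebra.algebraMap_mem _ c
  | add a b _ _ ha hb => rw [mul_add, add_mul]; exact Subalgebra.add_mem _ ha hb
  | mul a b _ _ ha hb =>
    have e : (ρ g : Module.End (ZMod q) V) * (a * b) * (ρ g⁻¹ : Module.End (ZMod q) V)
        = ((ρ g : Module.End (ZMod q) V) * a * (ρ g⁻¹ : Module.End (ZMod q) V))
          * ((ρ g : Module.End (ZMod q) V) * b * (ρ g⁻¹ : Module.End (ZMod q) V)) := by
      simp only [mul_assoc]
      rw [← mul_assoc (ρ g⁻¹ : Module.End (ZMod q) V) (ρ g : Module.End (ZMod q) V), rho_inv_mul, one_mul]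
    rw [e]
    exact Subalgebra.mul_mem _ ha hb

/-- Commuting elements of order prime to `q` span an algebra fixed by a Frobenius power. -/
lemma exists_pow_eq_self [Nontrivial V] {A : Set G} (hA : ∀ a ∈ A, ∀ b ∈ A, a * b = b * a) {n : ℕ}
    (hn : n.Coprime q) (hAn : ∀ a ∈ A, a ^ n = 1) :
    ∃ N : ℕ, 2 ≤ N ∧ ∀ r ∈ spanAlg ρ A, r ^ N = r := by
  have hq : q.Prime := Fact.out
  haveI hchar : CharP (Module.End (ZMod q) V) q :=
    charP_of_injective_algebraMap (algebraMap (ZMod q) (Module.End (ZMod q) V)).injective q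
  rcases eq_or_ne n 0 with rfl | hn0
  · rw [Nat.coprime_zero_left] at hn; exact absurd hn hq.one_lt.ne'
  set M := n.totient with hM
  have hM0 : 0 < M := Nat.totient_pos.2 (Nat.pos_of_ne_zero hn0)
  refine ⟨q ^ M, (hq.two_le.trans (Nat.le_self_pow hM0.ne' q)), fun r hr => ?_⟩
  induction hr using Algebra.adjoin_induction with
  | mem r hr =>
    obtain ⟨a, ha, rfl⟩ := hr
    have e : q ^ M ≡ 1 [MOD n] := Nat.ModEq.pow_totient hn.symm
    have h1 : a ^ (q ^ M) = a := by
      conv_rhs => rw [← pow_one a]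
      exact pow_eq_pow_iff_modEq.2 (e.of_dvd (orderOf_dvd_of_pow_eq_one (hAn a ha)))
    conv_rhs => rw [← h1]
    exact (map_pow ((LinearEquiv.automorphismGroup.toLinearMapMonoidHom (R := ZMod q) (M := V)).comp ρ) a (q ^ M)).symm
  | algebraMap c => rw [← map_pow, ZMod.pow_card_pow]
  | add a b ha' hb' ha hb => rw [add_pow_expChar_pow_of_commute _ _ (spanAlg_comm hA ha' hb'), ha, hb]
  | mul a b ha' hb' ha hb => rw [(spanAlg_comm hA ha' hb').mul_pow, ha, hb]

/-- Every nonzero element is injective. -/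
def FieldLike (R : Subalgebra (ZMod q) (Module.End (ZMod q) V)) : Prop := ∀ r ∈ R, r ≠ 0 → Function.Injective r

lemma fieldLike_or_idem {R : Subalgebra (ZMod q) (Module.End (ZMod q) V)} {N : ℕ} (hN : 2 ≤ N)
    (hR : ∀ r ∈ R, r ^ N = r) :
    FieldLike R ∨ ∃ e ∈ R, e * e = e ∧ e ≠ 0 ∧ e ≠ 1 := by
  refine or_iff_not_imp_left.2 fun hnf => ?_
  unfold FieldLike at hnf
  push Not at hnf
  obtain ⟨r, hr, hr0, hni⟩ := hnf
  have hre : r * r ^ (N - 1) = r := by rw [← pow_succ', Nat.sub_add_cancel (by omega), hR r hr]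
  refine ⟨r ^ (N - 1), R.pow_mem hr _, ?_, fun h => hr0 (by rw [← hre, h, mul_zero]), fun h => hni ?_⟩
  · have e1 : r ^ (N - 1) * r ^ (N - 1) = r ^ N * r ^ (N - 2) := by
      rw [← pow_add, ← pow_add]; congr 1; omega
    rw [e1, hR r hr, ← pow_succ']
    congr 1; omega
  · intro x y hxy
    have h1 : r ^ (N - 1) = r ^ (N - 2) * r := by rw [← pow_succ]; congr 1; omega
    have := congrArg (r ^ (N - 2)) hxy
    rw [← Module.End.mul_apply, ← Module.End.mul_apply, ← h1, h] at this
    simpa using this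

lemma FieldLike.mono {R S : Subalgebra (ZMod q) (Module.End (ZMod q) V)} (hS : FieldLike S) (h : R ≤ S) :
    FieldLike R := fun r hr => hS r (h hr)

variable [Finite V] {R : Subalgebra (ZMod q) (Module.End (ZMod q) V)}

lemma finite_end : Finite (Module.End (ZMod q) V) :=
  Finite.of_injective (fun f : Module.End (ZMod q) V => (f : V → V)) DFunLike.coe_injective

lemma FieldLike.card_le (hR : FieldLike R) [Nontrivial V] : Nat.card R ≤ Nat.card V := by
  obtain ⟨v, hv⟩ := exists_ne (0 : V)
  refine Nat.card_le_card_of_injective (fun r : R => (r : Module.End (ZMod q) V) v) fun r s h => ?_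
  by_contra hne
  have hsub : (r : Module.End (ZMod q) V) - s ≠ 0 := sub_ne_zero.2 fun e => hne (Subtype.ext e)
  refine hv (hR _ (R.sub_mem r.2 s.2) hsub ?_)
  rw [LinearMap.map_zero, LinearMap.sub_apply]
  exact sub_eq_zero.2 h

lemma FieldLike.exists_eq (hR : FieldLike R) [Nontrivial V] (hcard : Nat.card R = Nat.card V) {v : V}
    (hv : v ≠ 0) (w : V) : ∃ r ∈ R, r v = w := by
  haveI := finite_end (q := q) (V := V)
  have hinj : Function.Injective fun r : R => (r : Module.End (ZMod q) V) v := by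
    intro r s h
    by_contra hne
    have hsub : (r : Module.End (ZMod q) V) - s ≠ 0 := sub_ne_zero.2 fun e => hne (Subtype.ext e)
    refine hv (hR _ (R.sub_mem r.2 s.2) hsub ?_)
    rw [LinearMap.map_zero, LinearMap.sub_apply]
    exact sub_eq_zero.2 h
  obtain ⟨r, hr⟩ := (Function.Injective.bijective_of_nat_card_le hinj hcard.ge).2 w
  exact ⟨r, r.2, hr⟩

/-- A regular field is its own commutant. -/
lemma FieldLike.mem_of_commute (hR : FieldLike R) (hcomm : ∀ r ∈ R, ∀ s ∈ R, Commute r s) [Nontrivial V]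
    (hcard : Nat.card R = Nat.card V) {x : Module.End (ZMod q) V} (hx : ∀ r ∈ R, Commute x r) : x ∈ R := by
  obtain ⟨v, hv⟩ := exists_ne (0 : V)
  obtain ⟨r, hr, hrv⟩ := hR.exists_eq hcard hv (x v)
  suffices x = r by rw [this]; exact hr
  refine LinearMap.ext fun w => ?_
  obtain ⟨s, hs, rfl⟩ := hR.exists_eq hcard hv w
  rw [← Module.End.mul_apply, (hx s hs).eq, Module.End.mul_apply, ← hrv, ← Module.End.mul_apply,
    (hcomm s hs r hr).eq, Module.End.mul_apply]

/-- Transitive groups: a normalised commuting set spans a field. -/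
theorem fieldLike_of_transitive [Nontrivial V] {A : Set G} (hA : ∀ a ∈ A, ∀ b ∈ A, a * b = b * a)
    (hnorm : ∀ g : G, ∀ a ∈ A, g * a * g⁻¹ ∈ A) {n : ℕ} (hn : n.Coprime q) (hAn : ∀ a ∈ A, a ^ n = 1)
    (htrans : ∀ v w : V, v ≠ 0 → w ≠ 0 → ∃ g : G, ρ g v = w) : FieldLike (spanAlg ρ A) := by
  classical
  obtain ⟨N, hN, hpow⟩ := exists_pow_eq_self (ρ := ρ) hA hn hAn
  rcases fieldLike_or_idem hN hpow with h | ⟨e, he, hee, he0, he1⟩
  · exact h
  exfalso
  haveI := finite_end (q := q) (V := V)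
  haveI := Fintype.ofFinite V
  -- a nonzero idempotent with smallest image
  let P : ℕ → Prop := fun k => ∃ f ∈ spanAlg ρ A, f * f = f ∧ f ≠ 0 ∧ Nat.card (LinearMap.range f) = k
  obtain ⟨f, hf, hff, hf0, hfk⟩ : P (Nat.find (⟨_, e, he, hee, he0, rfl⟩ : ∃ k, P k)) := Nat.find_spec _
  obtain ⟨y, hy⟩ : ∃ y, f y ≠ 0 := by
    by_contra h
    push Not at h
    exact hf0 (LinearMap.ext h)
  -- every vector is in or killed by every idempotent
  have hdich : ∀ e' ∈ spanAlg ρ A, e' * e' = e' → ∀ x, e' x = x ∨ e' x = 0 := by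
    intro e' he' hee' x
    rcases eq_or_ne x 0 with rfl | hx
    · exact Or.inl (map_zero e')
    obtain ⟨g, rfl⟩ := htrans (f y) x hy hx
    set e'' := (ρ g⁻¹ : Module.End (ZMod q) V) * e' * (ρ g⁻¹⁻¹ : Module.End (ZMod q) V)
    have he'' : e'' ∈ spanAlg ρ A := conj_mem_spanAlg (hnorm g⁻¹) he'
    have hee'' : e'' * e'' = e'' := by
      simp only [e'', mul_assoc]
      rw [← mul_assoc (ρ g⁻¹⁻¹ : Module.End (ZMod q) V) (ρ g⁻¹ : Module.End (ZMod q) V), rho_inv_mul, one_mul,
        ← mul_assoc e' e', hee']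
    have key : e'' (f y) = f y ∨ e'' (f y) = 0 := by
      rcases eq_or_ne (e'' * f) 0 with h | h
      · exact Or.inr (by rw [← Module.End.mul_apply, h]; rfl)
      · left
        have hc := spanAlg_comm hA he'' hf
        have hid : (e'' * f) * (e'' * f) = e'' * f := by
          rw [mul_assoc, ← mul_assoc f e'' f, ← hc.eq, mul_assoc e'' f f, hff, ← mul_assoc, hee'']
        have hle : LinearMap.range (e'' * f) ≤ LinearMap.range f := by
          rintro _ ⟨z, rfl⟩
          exact ⟨e'' z, by rw [← Module.End.mul_apply, ← hc.eq]⟩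
        have hge : Nat.card (LinearMap.range f) ≤ Nat.card (LinearMap.range (e'' * f)) := by
          rw [hfk]
          exact Nat.find_min' _ ⟨_, Subalgebra.mul_mem _ he'' hf, hid, h, rfl⟩
        have heq : LinearMap.range (e'' * f) = LinearMap.range f := SetLike.coe_injective
          (Set.eq_of_subset_of_ncard_le hle (by rw [← Nat.card_coe_set_eq, ← Nat.card_coe_set_eq]; exact hge)
            (Set.toFinite _))
        obtain ⟨z, hz⟩ := heq ▸ LinearMap.mem_range_self f y
        rw [← hz, ← Module.End.mul_apply e'' (e'' * f), ← mul_assoc, hee'']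
    have e5 : e' (ρ g (f y)) = ρ g (e'' (f y)) := by
      simp only [e'', Module.End.mul_apply, LinearEquiv.coe_coe, inv_inv]
      rw [← LinearEquiv.mul_apply, ← map_mul, mul_inv_cancel, map_one]
      rfl
    rcases key with h | h
    · exact Or.inl (by rw [e5, h])
    · exact Or.inr (by rw [e5, h, map_zero])
  obtain ⟨x, hx⟩ : ∃ x, e x ≠ x := by
    by_contra h
    push Not at h
    exact he1 (LinearMap.ext h)
  obtain ⟨z, hz⟩ : ∃ z, e z ≠ 0 := by
    by_contra h
    push Not at h
    exact he0 (LinearMap.ext h)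
  have hx0 := (hdich e he hee x).resolve_left hx
  have hz1 := (hdich e he hee z).resolve_right hz
  rcases hdich e he hee (x + z) with h | h
  · rw [map_add, hx0, hz1, zero_add, right_eq_add] at h
    exact hx (by rw [h, map_zero])
  · rw [map_add, hx0, hz1, zero_add] at h
    exact hz (by rw [hz1, h])

/-- Conjugation by an element of prime order larger than the dimension fixes a spanned field. -/
lemma commute_of_fieldLike [Nontrivial V] {A : Set G} (hA : ∀ a ∈ A, ∀ b ∈ A, a * b = b * a)
    (hR : FieldLike (spanAlg ρ A)) {g : G} (hg : ∀ a ∈ A, g * a * g⁻¹ ∈ A) {ℓ : ℕ} (hℓ : ℓ.Prime)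
    (hgℓ : g ^ ℓ = 1) (hbig : Module.finrank (ZMod q) V < ℓ) {r : Module.End (ZMod q) V}
    (hr : r ∈ spanAlg ρ A) : Commute (ρ g : Module.End (ZMod q) V) r := by
  haveI := finite_end (q := q) (V := V)
  set R := spanAlg ρ A
  letI : CommRing R := { (inferInstance : Ring R) with
    mul_comm := fun a b => Subtype.ext (spanAlg_comm hA a.2 b.2).eq }
  haveI : NoZeroDivisors R := ⟨fun {a b} hab => by
    by_contra h
    push Not at h
    have ha : (a : Module.End (ZMod q) V) ≠ 0 := fun e => h.1 (Subtype.ext e)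
    refine h.2 (Subtype.ext (LinearMap.ext fun v => hR _ a.2 ha ?_))
    rw [← Module.End.mul_apply]
    simpa using LinearMap.congr_fun (congrArg Subtype.val hab) v⟩
  haveI : Nontrivial R := ⟨⟨0, 1, fun e => zero_ne_one (congrArg Subtype.val e)⟩⟩
  haveI : IsDomain R := NoZeroDivisors.to_isDomain _
  letI : Field R := (Finite.isField_of_domain R).toField
  -- the conjugation
  let σ : R →+* R :=
    { toFun := fun a => ⟨_, conj_mem_spanAlg hg a.2⟩
      map_one' := Subtype.ext (by
        show (ρ g : Module.End (ZMod q) V) * 1 * (ρ g⁻¹ : Module.End (ZMod q) V) = 1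
        rw [mul_one, rho_mul_inv])
      map_mul' := fun a b => Subtype.ext (by
        simp only [Subalgebra.coe_mul, mul_assoc]
        rw [← mul_assoc (ρ g⁻¹ : Module.End (ZMod q) V) (ρ g : Module.End (ZMod q) V), rho_inv_mul, one_mul])
      map_zero' := Subtype.ext (by simp)
      map_add' := fun a b => Subtype.ext (by simp [mul_add, add_mul]) }
  have hiter : ∀ (k : ℕ) (a : R), ((σ^[k]) a : Module.End (ZMod q) V)
      = (ρ (g ^ k) : Module.End (ZMod q) V) * a * (ρ (g ^ k)⁻¹ : Module.End (ZMod q) V) := by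
    intro k a
    induction k with
    | zero =>
      rw [Function.iterate_zero, id_eq, pow_zero, inv_one, rho_one, one_mul, mul_one]
    | succ k ih =>
      rw [Function.iterate_succ_apply']
      show (ρ g : Module.End (ZMod q) V) * _ * (ρ g⁻¹ : Module.End (ZMod q) V) = _
      rw [ih, pow_succ', mul_inv_rev, rho_mul, rho_mul]
      simp only [mul_assoc]
  let σ' : Gal(↥R/ZMod q) := AlgEquiv.ofBijective
    { σ with commutes' := fun c => Subtype.ext (by
        show (ρ g : Module.End (ZMod q) V) * algebraMap (ZMod q) _ c * (ρ g⁻¹ : Module.End (ZMod q) V) = _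
        rw [← Algebra.commutes c, mul_assoc, rho_mul_inv, mul_one]
        rfl) }
    ⟨RingHom.injective σ, Finite.surjective_of_injective (RingHom.injective σ)⟩
  have hcoe : ∀ k : ℕ, ⇑(σ' ^ k) = σ^[k] := fun k => by
    induction k with
    | zero => rfl
    | succ k ih => funext a; rw [pow_succ', AlgEquiv.mul_apply, ih, Function.iterate_succ_apply']; rfl
  have hσℓ : σ' ^ ℓ = 1 := AlgEquiv.ext fun a => Subtype.ext (by
    rw [hcoe, hiter, hgℓ, inv_one, rho_one, one_mul, mul_one]; rfl)
  have hfin : Module.finrank (ZMod q) R ≤ Module.finrank (ZMod q) V := by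
    obtain ⟨v, hv⟩ := exists_ne (0 : V)
    refine LinearMap.finrank_le_finrank_of_injective
      (f := (LinearMap.applyₗ v).comp R.val.toLinearMap) fun a b h => ?_
    by_contra hne
    have hsub : (a : Module.End (ZMod q) V) - b ≠ 0 := sub_ne_zero.2 fun e => hne (Subtype.ext e)
    refine hv (hR _ (R.sub_mem a.2 b.2) hsub ?_)
    rw [LinearMap.map_zero, LinearMap.sub_apply]
    exact sub_eq_zero.2 h
  have hσ1 : σ' = 1 := by
    by_contra hne
    haveI : Fact ℓ.Prime := ⟨hℓ⟩
    have ho : orderOf σ' = ℓ := orderOf_eq_prime hσℓ hne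
    have h1 := orderOf_dvd_natCard σ'
    rw [ho, IsGalois.card_aut_eq_finrank] at h1
    exact absurd (Nat.le_of_dvd Module.finrank_pos h1) (by omega)
  have h := congrArg Subtype.val (AlgEquiv.congr_fun hσ1 ⟨r, hr⟩)
  change (ρ g : Module.End (ZMod q) V) * r * (ρ g⁻¹ : Module.End (ZMod q) V) = r at h
  have h' := congrArg (· * (ρ g : Module.End (ZMod q) V)) h
  simp only [mul_assoc, rho_inv_mul, mul_one] at h'
  exact h'

/-- Semilinear groups: a normalised irreducible commuting set. -/
theorem semilinear_of_fieldLike [Nontrivial V] {A : Set G} (hA : ∀ a ∈ A, ∀ b ∈ A, a * b = b * a)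
    (hR : FieldLike (spanAlg ρ A)) (hnorm : ∀ g : G, ∀ a ∈ A, g * a * g⁻¹ ∈ A)
    (hcard : Nat.card (spanAlg ρ A) = Nat.card V) :
    ∃ (F : Type) (_ : Field F) (_ : Fintype F) (e : V ≃+ F),
      ∀ g : G, ∃ (a : F) (σ : F ≃+* F), ∀ v : V, e (ρ g v) = a * σ (e v) := by
  haveI := finite_end (q := q) (V := V)
  set R := spanAlg ρ A
  letI : CommRing R := { (inferInstance : Ring R) with
    mul_comm := fun a b => Subtype.ext (spanAlg_comm hA a.2 b.2).eq }
  haveI : NoZeroDivisors R := ⟨fun {a b} hab => by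
    by_contra h
    push Not at h
    have ha : (a : Module.End (ZMod q) V) ≠ 0 := fun e => h.1 (Subtype.ext e)
    refine h.2 (Subtype.ext (LinearMap.ext fun v => hR _ a.2 ha ?_))
    rw [← Module.End.mul_apply]
    simpa using LinearMap.congr_fun (congrArg Subtype.val hab) v⟩
  haveI : Nontrivial R := ⟨⟨0, 1, fun e => zero_ne_one (congrArg Subtype.val e)⟩⟩
  haveI : IsDomain R := NoZeroDivisors.to_isDomain _
  letI : Field R := (Finite.isField_of_domain R).toField
  haveI : Fintype R := Fintype.ofFinite R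
  haveI hcq : CharP R q := charP_of_injective_algebraMap (algebraMap (ZMod q) R).injective q
  obtain ⟨k, -, hk⟩ := FiniteField.card R q
  haveI : Fintype (GaloisField q k) := Fintype.ofFinite _
  have hcards : Fintype.card R = Fintype.card (GaloisField q k) := by
    rw [hk, ← Nat.card_eq_fintype_card, GaloisField.card q k k.ne_zero]
  let φ : R ≃+* GaloisField q k := FiniteField.ringEquivOfCardEq hcards
  obtain ⟨v₀, hv₀⟩ := exists_ne (0 : V)
  let E : R →+ V :=
    { toFun := fun r => (r : Module.End (ZMod q) V) v₀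
      map_zero' := rfl
      map_add' := fun _ _ => rfl }
  have hE : Function.Bijective E := by
    refine Function.Surjective.bijective_of_nat_card_le (fun w => ?_) hcard.le
    obtain ⟨r, hr, h⟩ := hR.exists_eq hcard hv₀ w
    exact ⟨⟨r, hr⟩, h⟩
  let e : V ≃+ GaloisField q k := (AddEquiv.ofBijective E hE).symm.trans φ.toAddEquiv
  refine ⟨GaloisField q k, inferInstance, inferInstance, e, fun g => ?_⟩
  let σ : R →+* R :=
    { toFun := fun a => ⟨_, conj_mem_spanAlg (hnorm g) a.2⟩
      map_one' := Subtype.ext (by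
        show (ρ g : Module.End (ZMod q) V) * 1 * (ρ g⁻¹ : Module.End (ZMod q) V) = 1
        rw [mul_one, rho_mul_inv])
      map_mul' := fun a b => Subtype.ext (by
        simp only [Subalgebra.coe_mul, mul_assoc]
        rw [← mul_assoc (ρ g⁻¹ : Module.End (ZMod q) V) (ρ g : Module.End (ZMod q) V), rho_inv_mul, one_mul])
      map_zero' := Subtype.ext (by simp)
      map_add' := fun a b => Subtype.ext (by simp [mul_add, add_mul]) }
  let σ' : R ≃+* R := RingEquiv.ofBijective σ ⟨RingHom.injective σ, Finite.surjective_of_injective (RingHom.injective σ)⟩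
  refine ⟨e (ρ g v₀), (φ.symm.trans σ').trans φ, fun v => ?_⟩
  obtain ⟨r, rfl⟩ := hE.2 v
  obtain ⟨a, ha⟩ := hE.2 (ρ g v₀)
  have h1 : e (E r) = φ r := congrArg φ ((AddEquiv.ofBijective E hE).symm_apply_apply r)
  have h2 : ∀ s : R, e (E s) = φ s := fun s => congrArg φ ((AddEquiv.ofBijective E hE).symm_apply_apply s)
  have h3 : ρ g (E r) = E (σ' r * a) := by
    show ρ g ((r : Module.End (ZMod q) V) v₀) = ((σ r : Module.End (ZMod q) V) * a) v₀
    rw [Module.End.mul_apply, show (a : Module.End (ZMod q) V) v₀ = ρ g v₀ from ha]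
    simp only [σ, RingHom.coe_mk, MonoidHom.coe_mk, OneHom.coe_mk, Module.End.mul_apply, LinearEquiv.coe_coe]
    rw [← LinearEquiv.mul_apply (ρ g⁻¹), ← map_mul, inv_mul_cancel, map_one]
    rfl
  rw [h3, ← ha, h2, h2, h1, map_mul, mul_comm, RingEquiv.trans_apply, RingEquiv.trans_apply,
    RingEquiv.symm_apply_apply]

/-- An element of primitive prime order generates a regular field. -/
theorem primitive_fieldLike [Nontrivial V] (hρ : Function.Injective ρ) {ℓ : ℕ} (hℓ : ℓ.Prime) (hℓq : ℓ ≠ q)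
    (hprim : ∀ k, 0 < k → k < Module.finrank (ZMod q) V → ¬ ℓ ∣ q ^ k - 1) {g : G} (hg : orderOf g = ℓ) :
    FieldLike (spanAlg ρ {g}) ∧ Nat.card (spanAlg ρ {g}) = Nat.card V := by
  classical
  haveI := finite_end (q := q) (V := V)
  haveI : FiniteDimensional (ZMod q) V := Module.Finite.of_finite
  haveI : Fact ℓ.Prime := ⟨hℓ⟩
  have hq : q.Prime := Fact.out
  have hg1 : ρ g ≠ 1 := fun e => by
    rw [← map_one ρ] at e
    rw [hρ e, orderOf_one] at hg
    exact hℓ.one_lt.ne hg
  -- fixed vectors in every invariant proper subspace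
  have hfix : ∀ U : Submodule (ZMod q) V, (∀ x ∈ U, ρ g x ∈ U) → U ≠ ⊥ → U ≠ ⊤ → ∃ x ∈ U, x ≠ 0 ∧ ρ g x = x := by
    intro U hU hbot htop
    have hUpow : ∀ k : ℕ, ∀ x ∈ U, ρ (g ^ k) x ∈ U := by
      intro k
      induction k with
      | zero => intro x hx; simpa using hx
      | succ k ih => intro x hx; rw [pow_succ', map_mul, LinearEquiv.mul_apply]; exact hU _ (ih x hx)
    have hmem : ∀ z : Subgroup.zpowers g, ∀ x ∈ U, ρ z x ∈ U := by
      rintro ⟨z, hz⟩ x hx
      obtain ⟨k, -, rfl⟩ := (IsOfFinOrder.mem_zpowers_iff_mem_range_orderOf (orderOf_pos_iff.1 (by rw [hg]; exact hℓ.pos))).1 hz |> Finset.mem_image.1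
      exact hUpow k x hx
    letI : MulAction (Subgroup.zpowers g) U :=
      { smul := fun z x => ⟨ρ z x, hmem z x x.2⟩
        one_smul := fun x => Subtype.ext (by show ρ 1 (x : V) = x; rw [map_one]; rfl)
        mul_smul := fun a b x => Subtype.ext (by show ρ ((a : G) * b) (x : V) = ρ a (ρ b (x : V)); rw [map_mul]; rfl) }
    have hP : IsPGroup ℓ (Subgroup.zpowers g) := IsPGroup.of_card (n := 1) (by rw [Nat.card_zpowers, hg, pow_one])
    have h1 := hP.card_modEq_card_fixedPoints U
    by_contra hno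
    push Not at hno
    have h2 : MulAction.fixedPoints (Subgroup.zpowers g) U = {(0 : U)} := by
      ext x
      refine ⟨fun hx => ?_, fun hx z => ?_⟩
      · by_contra hne
        exact hno x x.2 (fun e => hne (Subtype.ext e)) (congrArg Subtype.val (hx ⟨g, Subgroup.mem_zpowers g⟩))
      · rw [Set.mem_singleton_iff] at hx
        subst hx
        exact Subtype.ext (map_zero _)
    have h3 : Nat.card (MulAction.fixedPoints (Subgroup.zpowers g) U) = 1 := by rw [h2]; simp
    rw [h3, Module.natCard_eq_pow_finrank (K := ZMod q), Nat.card_zmod] at h1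
    refine hprim (Module.finrank (ZMod q) U) ?_ (Submodule.finrank_lt htop) ((Nat.modEq_iff_dvd' (Nat.one_le_pow _ _ hq.pos)).1 h1.symm)
    exact Nat.pos_of_ne_zero fun e => hbot (Submodule.finrank_eq_zero.1 e)
  set D : Module.End (ZMod q) V := (ρ g : Module.End (ZMod q) V) - 1 with hD
  have hDinv : ∀ x ∈ LinearMap.range D, ρ g x ∈ LinearMap.range D := by
    rintro _ ⟨y, rfl⟩
    exact ⟨ρ g y, by simp [hD]⟩
  have hnofix : ∀ x ∈ LinearMap.range D, ρ g x = x → x = 0 := by
    rintro _ ⟨y, rfl⟩ hx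
    have hit : ∀ k : ℕ, ρ (g ^ k) y = y + k • D y := by
      intro k
      induction k with
      | zero => simp
      | succ k ih =>
        rw [pow_succ', map_mul, LinearEquiv.mul_apply, ih, map_add, map_nsmul, hx, succ_nsmul]
        simp [hD]
        abel
    have h1 := hit ℓ
    rw [show g ^ ℓ = 1 from hg ▸ pow_orderOf_eq_one g, map_one] at h1
    have h2 : (ℓ : ZMod q) • D y = 0 := by
      rw [Nat.cast_smul_eq_nsmul]
      simpa using h1
    refine (smul_eq_zero.1 h2).resolve_left fun e => hℓq ?_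
    rw [ZMod.natCast_eq_zero_iff] at e
    exact ((Nat.prime_dvd_prime_iff_eq hq hℓ).1 e).symm
  have hDtop : LinearMap.range D = ⊤ := by
    by_contra htop
    have hbot : LinearMap.range D ≠ ⊥ := fun e => hg1 (LinearEquiv.toLinearMap_injective
      (sub_eq_zero.1 (LinearMap.range_eq_bot.1 e)))
    obtain ⟨x, hx, hx0, hxf⟩ := hfix _ hDinv hbot htop
    exact hx0 (hnofix x hx hxf)
  have hirr : ∀ U : Submodule (ZMod q) V, (∀ x ∈ U, ρ g x ∈ U) → U = ⊥ ∨ U = ⊤ := by
    intro U hU
    by_contra h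
    push Not at h
    obtain ⟨x, -, hx0, hxf⟩ := hfix U hU h.1 h.2
    exact hx0 (hnofix x (hDtop ▸ Submodule.mem_top) hxf)
  have hcomm : ∀ a ∈ ({g} : Set G), ∀ b ∈ ({g} : Set G), a * b = b * a := by rintro a rfl b rfl; rfl
  have hgR : (ρ g : Module.End (ZMod q) V) ∈ spanAlg ρ {g} := mem_spanAlg rfl
  have hfl : FieldLike (spanAlg ρ {g}) := by
    intro r hr hr0
    rcases hirr (LinearMap.ker r) (fun x hx => by
      rw [LinearMap.mem_ker] at hx ⊢
      have := LinearMap.congr_fun (spanAlg_comm hcomm hr hgR).eq x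
      simp only [Module.End.mul_apply, LinearEquiv.coe_coe] at this
      rw [this, hx, map_zero]) with h | h
    · exact LinearMap.ker_eq_bot.1 h
    · exact absurd (LinearMap.ker_eq_top.1 h) hr0
  refine ⟨hfl, le_antisymm hfl.card_le ?_⟩
  obtain ⟨v, hv⟩ := exists_ne (0 : V)
  let f : ↥(spanAlg ρ {g}) →ₗ[ZMod q] V := (LinearMap.applyₗ v).comp (spanAlg ρ {g}).val.toLinearMap
  rcases hirr (LinearMap.range f) (fun x hx => by
    obtain ⟨r, rfl⟩ := hx
    exact ⟨⟨_, Subalgebra.mul_mem _ hgR r.2⟩, rfl⟩) with h | h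
  · exfalso
    have : v ∈ LinearMap.range f := ⟨1, rfl⟩
    rw [h, Submodule.mem_bot] at this
    exact hv this
  · exact Nat.card_le_card_of_surjective f (LinearMap.range_eq_top.1 h)

end Cfsg.Agent.H88
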