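/-
Transitive linear groups over a prime field: basic facts, fields spanned by normal abelian
subgroups, scalar elements.
-/
import Cfsg.Agent.H88.NField
import Cfsg.Agent.Cores.Fitting
set_option autoImplicit false
set_option maxHeartbeats 400000

open Cfsg

namespace Cfsg.Agent.H88

variable {q : ℕ} [Fact q.Prime] {V : Type*} [AddCommGroup V] [Module (ZMod q) V]
  {G : Type*} [Group G] {ρ : G →* (V ≃ₗ[ZMod q] V)}

/-- The semilinear conclusion. -/
def Semilinear (ρ : G →* (V ≃ₗ[ZMod q] V)) : Prop :=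
  ∃ (F : Type) (_ : Field F) (_ : Fintype F) (e : V ≃+ F),
    ∀ g : G, ∃ (a : F) (σ : F ≃+* F), ∀ v : V, e (ρ g v) = a * σ (e v)

/-- The elements acting as scalars. -/
def scal (ρ : G →* (V ≃ₗ[ZMod q] V)) : Subgroup G where
  carrier := {g | ∃ c : ZMod q, (ρ g : Module.End (ZMod q) V) = algebraMap (ZMod q) _ c}
  one_mem' := ⟨1, by rw [rho_one, map_one]⟩
  mul_mem' := by
    rintro g h ⟨c, hc⟩ ⟨c', hc'⟩
    exact ⟨c * c', by rw [rho_mul, hc, hc', map_mul]⟩
  inv_mem' := by
    rintro g ⟨c, hc⟩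
    rcases eq_or_ne c 0 with rfl | hc0
    · refine ⟨0, ?_⟩
      have h1 : (1 : Module.End (ZMod q) V) = 0 := by rw [← rho_inv_mul (ρ := ρ) g, hc, map_zero, mul_zero]
      rw [map_zero, ← mul_one (ρ g⁻¹ : Module.End (ZMod q) V), h1, mul_zero]
    · refine ⟨c⁻¹, ?_⟩
      calc (ρ g⁻¹ : Module.End (ZMod q) V)
          = (ρ g⁻¹ : Module.End (ZMod q) V) * algebraMap (ZMod q) _ (c * c⁻¹) := by
            rw [mul_inv_cancel₀ hc0, map_one, mul_one]
        _ = algebraMap (ZMod q) _ c⁻¹ := by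
            rw [map_mul, ← mul_assoc, ← hc, rho_inv_mul, one_mul]

lemma mem_scal {g : G} :
    g ∈ scal ρ ↔ ∃ c : ZMod q, (ρ g : Module.End (ZMod q) V) = algebraMap (ZMod q) _ c := Iff.rfl

lemma eq_of_rho_eq (hρ : Function.Injective ρ) {g h : G}
    (e : (ρ g : Module.End (ZMod q) V) = (ρ h : Module.End (ZMod q) V)) : g = h :=
  hρ (LinearEquiv.toLinearMap_injective e)

lemma scal_comm (hρ : Function.Injective ρ) {s : G} (hs : s ∈ scal ρ) (g : G) : g * s = s * g := by
  obtain ⟨c, hc⟩ := hs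
  refine eq_of_rho_eq hρ ?_
  rw [rho_mul, rho_mul, hc]
  exact (Algebra.commutes c _).symm

lemma scal_normal (hρ : Function.Injective ρ) : (scal ρ).Normal :=
  ⟨fun s hs g => by rwa [scal_comm hρ hs g, mul_inv_cancel_right]⟩

/-! ### fields -/

/-- The field structure on the spanned algebra. -/
@[reducible] noncomputable def spanField [Finite V] [Nontrivial V] {A : Set G}
    (hA : ∀ a ∈ A, ∀ b ∈ A, a * b = b * a) (hR : FieldLike (spanAlg ρ A)) : Field (spanAlg ρ A) :=
  letI : CommRing (spanAlg ρ A) := { (inferInstance : Ring (spanAlg ρ A)) with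
    mul_comm := fun a b => Subtype.ext (spanAlg_comm hA a.2 b.2).eq }
  haveI : NoZeroDivisors (spanAlg ρ A) := ⟨fun {a b} hab => by
    by_contra h
    push Not at h
    have ha : (a : Module.End (ZMod q) V) ≠ 0 := fun e => h.1 (Subtype.ext e)
    refine h.2 (Subtype.ext (LinearMap.ext fun v => hR _ a.2 ha ?_))
    rw [← Module.End.mul_apply]
    simpa using LinearMap.congr_fun (congrArg Subtype.val hab) v⟩
  haveI : Nontrivial (spanAlg ρ A) := ⟨⟨0, 1, fun e => zero_ne_one (congrArg Subtype.val e)⟩⟩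
  haveI : IsDomain (spanAlg ρ A) := NoZeroDivisors.to_isDomain _
  haveI := finite_end (q := q) (V := V)
  (Finite.isField_of_domain (spanAlg ρ A)).toField

lemma orderOf_dvd_card_sub_one [Finite V] [Nontrivial V] (hρ : Function.Injective ρ) {A : Set G}
    (hA : ∀ a ∈ A, ∀ b ∈ A, a * b = b * a) (hR : FieldLike (spanAlg ρ A)) {a : G} (ha : a ∈ A) :
    orderOf a ∣ Nat.card (spanAlg ρ A) - 1 := by
  haveI := finite_end (q := q) (V := V)
  letI := spanField hA hR
  haveI : Fintype (spanAlg ρ A) := Fintype.ofFinite _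
  let x : spanAlg ρ A := ⟨_, mem_spanAlg ha⟩
  have hx : x ≠ 0 := fun e => by
    have h1 := rho_inv_mul (ρ := ρ) a
    rw [show (ρ a : Module.End (ZMod q) V) = 0 from congrArg Subtype.val e, mul_zero] at h1
    exact zero_ne_one h1
  have h1 := congrArg Subtype.val (FiniteField.pow_card_sub_one_eq_one x hx)
  rw [Nat.card_eq_fintype_card]
  refine orderOf_dvd_of_pow_eq_one (eq_of_rho_eq hρ ?_)
  rw [rho_one]
  refine Eq.trans ?_ h1
  exact map_pow ((LinearEquiv.automorphismGroup.toLinearMapMonoidHom (R := ZMod q) (M := V)).comp ρ) a _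

lemma isCyclic_of_le [Finite V] [Nontrivial V] [Finite G] (hρ : Function.Injective ρ) {A : Set G}
    (hA : ∀ a ∈ A, ∀ b ∈ A, a * b = b * a) (hR : FieldLike (spanAlg ρ A)) (T : Subgroup G)
    (hT : ∀ t ∈ T, (ρ t : Module.End (ZMod q) V) ∈ spanAlg ρ A) : IsCyclic T := by
  letI := spanField hA hR
  refine isCyclic_of_injective_ringHom (R := spanAlg ρ A) (G := T)
    { toFun := fun t => ⟨_, hT t t.2⟩
      map_one' := Subtype.ext rho_one
      map_mul' := fun t u => Subtype.ext (rho_mul (ρ := ρ) t u) } ?_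
  intro t u h
  exact Subtype.ext (eq_of_rho_eq hρ (congrArg Subtype.val h))

/-- A normal commuting set inside a regular field gives a semilinear group. -/
lemma semilinear_of_le [Finite V] [Nontrivial V] {A B : Set G} (hA : ∀ a ∈ A, ∀ b ∈ A, a * b = b * a)
    (hR : FieldLike (spanAlg ρ A)) (hcard : Nat.card (spanAlg ρ A) = Nat.card V)
    (hBA : ∀ b ∈ B, (ρ b : Module.End (ZMod q) V) ∈ spanAlg ρ A)
    (hAB : ∀ a ∈ A, (ρ a : Module.End (ZMod q) V) ∈ spanAlg ρ B)
    (hnorm : ∀ g : G, ∀ b ∈ B, g * b * g⁻¹ ∈ B) (hρ : Function.Injective ρ) : Semilinear ρ := by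
  have hle : spanAlg ρ B ≤ spanAlg ρ A := Algebra.adjoin_le (by rintro _ ⟨b, hb, rfl⟩; exact hBA b hb)
  have hge : spanAlg ρ A ≤ spanAlg ρ B := Algebra.adjoin_le (by rintro _ ⟨a, ha, rfl⟩; exact hAB a ha)
  refine semilinear_of_fieldLike (A := B) (fun a ha b hb => eq_of_rho_eq hρ ?_) (hR.mono hle) hnorm ?_
  · rw [rho_mul, rho_mul]
    exact (spanAlg_comm hA (hBA a ha) (hBA b hb)).eq
  · rw [le_antisymm hle hge, hcard]

lemma le_card_spanAlg [Finite V] [Nontrivial V] (A : Set G) : q ≤ Nat.card (spanAlg ρ A) := by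
  haveI := finite_end (q := q) (V := V)
  have := Nat.card_le_card_of_injective
    (fun c : ZMod q => (⟨algebraMap _ _ c, (spanAlg ρ A).algebraMap_mem c⟩ : spanAlg ρ A))
    (fun c c' e => (algebraMap (ZMod q) (Module.End (ZMod q) V)).injective (congrArg Subtype.val e))
  rwa [Nat.card_zmod] at this

lemma sq_le_card_spanAlg [Finite V] [Nontrivial V] {A : Set G} {a : G} (ha : a ∈ A) (has : a ∉ scal ρ) :
    q ^ 2 ≤ Nat.card (spanAlg ρ A) := by
  haveI := finite_end (q := q) (V := V)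
  have := Nat.card_le_card_of_injective
    (fun c : ZMod q × ZMod q => (⟨algebraMap _ _ c.1 + c.2 • (ρ a : Module.End (ZMod q) V),
      (spanAlg ρ A).add_mem ((spanAlg ρ A).algebraMap_mem c.1) ((spanAlg ρ A).smul_mem (mem_spanAlg ha) c.2)⟩ :
        spanAlg ρ A))
    (fun c c' e => by
      have h := congrArg Subtype.val e
      simp only at h
      have h2 : c.2 = c'.2 := by
        by_contra hne
        refine has ⟨(c.2 - c'.2)⁻¹ * (c'.1 - c.1), ?_⟩
        have h3 : (c.2 - c'.2) • (ρ a : Module.End (ZMod q) V) = algebraMap (ZMod q) _ (c'.1 - c.1) := by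
          rw [sub_smul, map_sub, sub_eq_sub_iff_add_eq_add, add_comm, h, add_comm]
        rw [map_mul, ← h3, ← Algebra.smul_def, smul_smul, inv_mul_cancel₀ (sub_ne_zero.2 hne), one_smul]
      rw [h2, add_left_inj] at h
      exact Prod.ext ((algebraMap (ZMod q) (Module.End (ZMod q) V)).injective h) h2)
  rwa [Nat.card_prod, Nat.card_zmod, ← sq] at this

/-! ### transitive groups -/

variable [Finite V] [Nontrivial V] [Finite G]

lemma card_sub_one_dvd (htrans : ∀ v w : V, v ≠ 0 → w ≠ 0 → ∃ g : G, ρ g v = w) :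
    Nat.card V - 1 ∣ Nat.card G := by
  classical
  haveI := Fintype.ofFinite V
  letI : MulAction G V :=
    { smul := fun g v => ρ g v
      one_smul := fun v => by show ρ 1 v = v; rw [map_one]; rfl
      mul_smul := fun g h v => by show ρ (g * h) v = ρ g (ρ h v); rw [map_mul]; rfl }
  obtain ⟨v, hv⟩ := exists_ne (0 : V)
  have ho : MulAction.orbit G v = {w : V | w ≠ 0} := by
    ext w
    refine ⟨?_, fun hw => htrans v w hv hw⟩
    rintro ⟨g, rfl⟩
    exact fun e => hv ((ρ g).map_eq_zero_iff.1 e)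
  have h := MulAction.index_stabilizer G v
  rw [ho, ← Nat.card_coe_set_eq] at h
  have e1 : Nat.card {w : V | w ≠ 0} = Nat.card V - 1 := by
    rw [Nat.card_eq_fintype_card, Nat.card_eq_fintype_card]
    show Fintype.card {w : V // ¬ w = 0} = _
    rw [Fintype.card_subtype_compl, Fintype.card_subtype_eq]
  rw [← e1, ← h]
  exact Subgroup.index_dvd_card _

omit [Finite G] in
lemma eq_one_of_pGroup (hρ : Function.Injective ρ)
    (htrans : ∀ v w : V, v ≠ 0 → w ≠ 0 → ∃ g : G, ρ g v = w) (P : Subgroup G) [P.Normal]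
    (hP : IsPGroup q P) {x : G} (hx : x ∈ P) : x = 1 := by
  letI : MulAction P V :=
    { smul := fun g v => ρ g v
      one_smul := fun v => by show ρ 1 v = v; rw [map_one]; rfl
      mul_smul := fun g h v => by show ρ ((g : G) * h) v = ρ g (ρ h v); rw [map_mul]; rfl }
  have hpos : 0 < Module.finrank (ZMod q) V := by
    haveI : FiniteDimensional (ZMod q) V := Module.Finite.of_finite
    exact Module.finrank_pos
  have hdvd : q ∣ Nat.card V := by
    rw [Module.natCard_eq_pow_finrank (K := ZMod q), Nat.card_zmod]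
    exact dvd_pow_self q hpos.ne'
  obtain ⟨b, hb, hb0⟩ := hP.exists_fixed_point_of_prime_dvd_card_of_fixed_point V hdvd
    (a := (0 : V)) (fun g => map_zero (ρ g))
  have hfix : ∀ w : V, ρ x w = w := by
    intro w
    rcases eq_or_ne w 0 with rfl | hw
    · exact map_zero _
    obtain ⟨g, rfl⟩ := htrans b w hb0.symm hw
    have h1 : ρ (g⁻¹ * x * g) b = b :=
      hb ⟨g⁻¹ * x * g, by simpa using (inferInstance : P.Normal).conj_mem x hx g⁻¹⟩
    rw [← LinearEquiv.mul_apply, ← map_mul, show x * g = g * (g⁻¹ * x * g) by group, map_mul, LinearEquiv.mul_apply, h1]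
  exact hρ (LinearEquiv.ext fun w => by rw [hfix, map_one]; rfl)

lemma pCore_eq_bot_of_transitive (hρ : Function.Injective ρ)
    (htrans : ∀ v w : V, v ≠ 0 → w ≠ 0 → ∃ g : G, ρ g v = w) : pCore q G = ⊥ :=
  (Subgroup.eq_bot_iff_forall _).2 fun _ hx => eq_one_of_pGroup hρ htrans _ Cores.pCore_isPGroup hx

lemma coprime_card_abelian (hρ : Function.Injective ρ)
    (htrans : ∀ v w : V, v ≠ 0 → w ≠ 0 → ∃ g : G, ρ g v = w) (A : Subgroup G) [A.Normal]
    (hA : ∀ a ∈ A, ∀ b ∈ A, a * b = b * a) : (Nat.card A).Coprime q := by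
  have hq : q.Prime := Fact.out
  rw [Nat.coprime_comm, hq.coprime_iff_not_dvd]
  intro h
  obtain ⟨x, hx⟩ := exists_prime_orderOf_dvd_card' (G := A) q h
  let T : Subgroup G :=
    { carrier := {a | a ∈ A ∧ a ^ q = 1}
      one_mem' := ⟨A.one_mem, one_pow q⟩
      mul_mem' := fun {a b} ha hb => ⟨A.mul_mem ha.1 hb.1, by
        rw [Commute.mul_pow (hA a ha.1 b hb.1), ha.2, hb.2, one_mul]⟩
      inv_mem' := fun {a} ha => ⟨A.inv_mem ha.1, by rw [inv_pow, ha.2, inv_one]⟩ }
  haveI : T.Normal := ⟨fun a ha g => ⟨(inferInstance : A.Normal).conj_mem a ha.1 g, by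
    rw [conj_pow, ha.2, mul_one, mul_inv_cancel]⟩⟩
  have hT : IsPGroup q T := fun a => ⟨1, Subtype.ext (by rw [pow_one]; exact a.2.2)⟩
  have hx1 : (x : G) = 1 := eq_one_of_pGroup hρ htrans T hT
    ⟨x.2, congrArg Subtype.val (hx ▸ pow_orderOf_eq_one x)⟩
  rw [show x = 1 from Subtype.ext hx1, orderOf_one] at hx
  exact hq.one_lt.ne hx

lemma fieldLike_normal_abelian (hρ : Function.Injective ρ)
    (htrans : ∀ v w : V, v ≠ 0 → w ≠ 0 → ∃ g : G, ρ g v = w) (A : Subgroup G) [A.Normal]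
    (hA : ∀ a ∈ A, ∀ b ∈ A, a * b = b * a) : FieldLike (spanAlg ρ (A : Set G)) :=
  fieldLike_of_transitive hA (fun g a ha => (inferInstance : A.Normal).conj_mem a ha g)
    (coprime_card_abelian hρ htrans A hA)
    (fun a ha => congrArg Subtype.val (pow_card_eq_one' (x := (⟨a, ha⟩ : A)))) htrans

/-- A normal abelian subgroup spanning a field of full size. -/
lemma semilinear_normal_abelian (hρ : Function.Injective ρ)
    (htrans : ∀ v w : V, v ≠ 0 → w ≠ 0 → ∃ g : G, ρ g v = w) (A : Subgroup G) [A.Normal]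
    (hA : ∀ a ∈ A, ∀ b ∈ A, a * b = b * a) (hcard : Nat.card V ≤ Nat.card (spanAlg ρ (A : Set G))) :
    Semilinear ρ := by
  have hfl := fieldLike_normal_abelian hρ htrans A hA
  exact semilinear_of_fieldLike hA hfl (fun g a ha => (inferInstance : A.Normal).conj_mem a ha g)
    (le_antisymm hfl.card_le hcard)

/-- A group acting on a line is semilinear. -/
lemma semilinear_of_finrank_one (hρ : Function.Injective ρ)
    (htrans : ∀ v w : V, v ≠ 0 → w ≠ 0 → ∃ g : G, ρ g v = w) (hd : Module.finrank (ZMod q) V = 1) :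
    Semilinear ρ := by
  refine semilinear_normal_abelian hρ htrans ⊥ ?_ ?_
  · intro a ha b hb
    rw [Subgroup.mem_bot] at ha hb
    rw [ha, hb]
  · rw [Module.natCard_eq_pow_finrank (K := ZMod q), Nat.card_zmod, hd, pow_one]
    exact le_card_spanAlg _

end Cfsg.Agent.H88
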