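/-
An element of primitive prime order acting nontrivially on an r-group of linear operators forces
the Fermat configuration: r = 2, the prime is the dimension plus one.
-/
import Cfsg.Agent.H88.NField
set_option autoImplicit false
set_option maxHeartbeats 1000000

namespace Cfsg.Agent.H88

open scoped commutatorElement

variable {q : ℕ} [Fact q.Prime] {V : Type*} [AddCommGroup V] [Module (ZMod q) V]
  {G : Type*} [Group G] {ρ : G →* (V ≃ₗ[ZMod q] V)}

variable [Finite V]

/-- Elements with distinct characters are linearly independent over a field commuting with them. -/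
lemma indep_of_chars {R : Subalgebra (ZMod q) (Module.End (ZMod q) V)} (hR : FieldLike R)
    (hcomm : ∀ r ∈ R, ∀ s ∈ R, Commute r s) {ι : Type*} [Fintype ι]
    (f : ι → Module.End (ZMod q) V) (hf : ∀ i, Function.Injective (f i))
    (hchar : ∀ i j, i ≠ j → ∃ (y y' : Module.End (ZMod q) V) (c : ι → Module.End (ZMod q) V),
      (∀ r ∈ R, Commute y r) ∧ y' * y = 1 ∧ (∀ l, c l ∈ R) ∧ (∀ l, y * f l = c l * f l * y) ∧ c i ≠ c j) :
    ∀ a : ι → Module.End (ZMod q) V, (∀ i, a i ∈ R) → ∑ i, a i * f i = 0 → ∀ i, a i = 0 := by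
  classical
  haveI := finite_end (q := q) (V := V)
  suffices key : ∀ (s : Finset ι) (a : ι → Module.End (ZMod q) V), (∀ i, a i ∈ R) →
      ∑ i ∈ s, a i * f i = 0 → ∀ i ∈ s, a i = 0 by
    intro a ha h i
    exact key Finset.univ a ha h i (Finset.mem_univ i)
  intro s
  induction s using Finset.strongInduction with
  | H s ih =>
    intro a ha hsum i hi
    by_contra hne
    have hinj := hR _ (ha i) hne
    by_cases hj : ∃ j ∈ s, j ≠ i
    · obtain ⟨j, hjs, hji⟩ := hj
      obtain ⟨y, y', c, hy, hy', hc, hyf, hcij⟩ := hchar i j (Ne.symm hji)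
      have h0 : (∑ l ∈ s, (a l * c l) * f l) * y = 0 := by
        have h1 : y * ∑ l ∈ s, a l * f l = 0 := by rw [hsum, mul_zero]
        rw [← h1, Finset.mul_sum, Finset.sum_mul]
        refine Finset.sum_congr rfl fun l _ => ?_
        rw [← mul_assoc y, (hy _ (ha l)).eq, mul_assoc (a l) y, hyf l]
        simp only [mul_assoc]
      have h1 : ∑ l ∈ s, (a l * c l) * f l = 0 := by
        -- `y` has a left inverse, hence is surjective on a finite space or cancels
        have hz : ∀ l ∈ s, (a l * (c l - c j)) * f l = (a l * c l) * f l - c j * (a l * f l) := by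
          intro l _
          rw [mul_sub, sub_mul, ← mul_assoc (c j), (hcomm _ (hc j) _ (ha l)).eq]
        clear hz
        have hy2 : y * y' = 1 := mul_eq_one_comm.1 hy'
        rw [← mul_one (∑ l ∈ s, (a l * c l) * f l), ← hy2, ← mul_assoc, h0, zero_mul]
      have h2 : ∑ l ∈ s, (a l * (c l - c j)) * f l = 0 := by
        have e : ∀ l, (a l * (c l - c j)) * f l = (a l * c l) * f l - c j * (a l * f l) := fun l => by
          rw [mul_sub, sub_mul, ← mul_assoc (c j), (hcomm _ (hc j) _ (ha l)).eq]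
        simp only [e, Finset.sum_sub_distrib, ← Finset.mul_sum, hsum, mul_zero, h1, sub_zero]
      rw [← Finset.add_sum_erase _ _ hjs] at h2
      simp only [sub_self, mul_zero, zero_mul, zero_add] at h2
      have h3 := ih _ (Finset.erase_ssubset hjs) _ (fun l => R.mul_mem (ha l) (R.sub_mem (hc l) (hc j))) h2 i
        (Finset.mem_erase.2 ⟨Ne.symm hji, hi⟩)
      refine hcij (sub_eq_zero.1 (LinearMap.ext fun x => hinj ?_))
      rw [← Module.End.mul_apply, h3]
      simp
    · push Not at hj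
      have hs : s = {i} := Finset.eq_singleton_iff_unique_mem.2 ⟨hi, hj⟩
      rw [hs, Finset.sum_singleton] at hsum
      refine hne (LinearMap.ext fun x => ?_)
      obtain ⟨x, rfl⟩ : ∃ z, f i z = x := by
        by_contra h
        push Not at h
        -- injective operators on the left cancel
        have : f i = 0 := LinearMap.ext fun z => hinj (by rw [← Module.End.mul_apply, hsum]; simp)
        exact h 0 (by
          have h' : ∀ u v : V, u = v := fun u v => hf i (by rw [this]; rfl)
          exact h' _ _)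
      rw [← Module.End.mul_apply, hsum]
      rfl

/-- A commuting invariant set of operators of order prime to `q` and prime power order commutes with an element
of primitive prime order normalising it. -/
lemma commute_of_abelian [Nontrivial V] (hρ : Function.Injective ρ) {ℓ : ℕ} (hℓ : ℓ.Prime) (hℓq : ℓ ≠ q)
    (hprim : ∀ k, 0 < k → k < Module.finrank (ZMod q) V → ¬ ℓ ∣ q ^ k - 1)
    (hbig : Module.finrank (ZMod q) V < ℓ) {g : G} (hg : orderOf g = ℓ) {A : Set G}
    (hA : ∀ a ∈ A, ∀ b ∈ A, a * b = b * a) (hgA : ∀ a ∈ A, g * a * g⁻¹ ∈ A) {n : ℕ} (hn : n.Coprime q)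
    (hAn : ∀ a ∈ A, a ^ n = 1) : ∀ a ∈ A, g * a = a * g := by
  classical
  haveI := finite_end (q := q) (V := V)
  haveI : FiniteDimensional (ZMod q) V := Module.Finite.of_finite
  haveI : Fact ℓ.Prime := ⟨hℓ⟩
  obtain ⟨hfl, hcard⟩ := primitive_fieldLike hρ hℓ hℓq hprim hg
  have hgc : ∀ a ∈ ({g} : Set G), ∀ b ∈ ({g} : Set G), a * b = b * a := by rintro a rfl b rfl; rfl
  set R := spanAlg ρ A
  -- idempotents fixed by `g` are trivial
  have hidem : ∀ e ∈ R, e * e = e → Commute (ρ g : Module.End (ZMod q) V) e → e = 0 ∨ e = 1 := by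
    intro e he hee hge
    have he' : e ∈ spanAlg ρ {g} := hfl.mem_of_commute (fun r hr s hs => spanAlg_comm hgc hr hs) hcard
      (fun r hr => commute_spanAlg (by rintro a rfl; exact hge.symm) hr)
    refine or_iff_not_imp_left.2 fun hne => LinearMap.ext fun x => hfl e he' hne ?_
    rw [← Module.End.mul_apply, hee]
    rfl
  obtain ⟨N, hN, hpow⟩ := exists_pow_eq_self (ρ := ρ) hA hn hAn
  have hfield : FieldLike R := by
    rcases fieldLike_or_idem hN hpow with h | ⟨e, he, hee, he0, he1⟩
    · exact h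
    exfalso
    haveI := Fintype.ofFinite V
    haveI := Fintype.ofFinite (Module.End (ZMod q) V)
    -- minimal idempotents
    let P : ℕ → Prop := fun k => ∃ f ∈ R, f * f = f ∧ f ≠ 0 ∧ Nat.card (LinearMap.range f) = k
    obtain ⟨f, hf, hff, hf0, hfk⟩ : P (Nat.find (⟨_, e, he, hee, he0, rfl⟩ : ∃ k, P k)) := Nat.find_spec _
    let c : ℕ → Module.End (ZMod q) V := fun i =>
      (ρ (g ^ i) : Module.End (ZMod q) V) * f * (ρ (g ^ i)⁻¹ : Module.End (ZMod q) V)
    have hpowA : ∀ i, ∀ a ∈ A, g ^ i * a * (g ^ i)⁻¹ ∈ A := by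
      intro i
      induction i with
      | zero => intro a ha; simpa using ha
      | succ i ih =>
        intro a ha
        rw [pow_succ', mul_inv_rev, show g * g ^ i * a * ((g ^ i)⁻¹ * g⁻¹) = g * (g ^ i * a * (g ^ i)⁻¹) * g⁻¹ by group]
        exact hgA _ (ih a ha)
    have hcR : ∀ i, c i ∈ R := fun i => conj_mem_spanAlg (hpowA i) hf
    have hcc : ∀ i, c i * c i = c i := fun i => by
      simp only [c, mul_assoc]
      rw [← mul_assoc (ρ (g ^ i)⁻¹ : Module.End (ZMod q) V) (ρ (g ^ i) : Module.End (ZMod q) V), rho_inv_mul,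
        one_mul, ← mul_assoc f f, hff]
    have hcinv : ∀ i, f = (ρ (g ^ i)⁻¹ : Module.End (ZMod q) V) * c i * (ρ (g ^ i) : Module.End (ZMod q) V) := fun i => by
      simp only [c, mul_assoc, rho_inv_mul, mul_one]
      rw [← mul_assoc, rho_inv_mul, one_mul]
    have hc0 : ∀ i, c i ≠ 0 := fun i h => hf0 (by rw [hcinv i, h, mul_zero, zero_mul])
    have hcr : ∀ i, Nat.card (LinearMap.range (c i)) = Nat.card (LinearMap.range f) := by
      intro i
      have hr : LinearMap.range (c i) = (LinearMap.range f).map (ρ (g ^ i) : V →ₗ[ZMod q] V) := by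
        ext x
        constructor
        · rintro ⟨y, rfl⟩
          exact ⟨_, LinearMap.mem_range_self f _, rfl⟩
        · rintro ⟨_, ⟨y, rfl⟩, rfl⟩
          refine ⟨ρ (g ^ i) y, ?_⟩
          simp only [c, Module.End.mul_apply, LinearEquiv.coe_coe]
          rw [← LinearEquiv.mul_apply (ρ (g ^ i)⁻¹), ← map_mul, inv_mul_cancel, map_one]
          rfl
      rw [hr]
      exact Nat.card_congr (Submodule.equivMapOfInjective _ (ρ (g ^ i)).injective _).symm.toEquiv
    have hmin : ∀ i j, c i * c j = 0 ∨ c i = c j := by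
      intro i j
      refine or_iff_not_imp_left.2 fun hne => ?_
      have hc := spanAlg_comm hA (hcR i) (hcR j)
      have hid : (c i * c j) * (c i * c j) = c i * c j := by
        rw [mul_assoc, ← mul_assoc (c j) (c i), ← hc.eq, mul_assoc (c i) (c j) (c j), hcc j, ← mul_assoc, hcc i]
      have hge : Nat.card (LinearMap.range f) ≤ Nat.card (LinearMap.range (c i * c j)) := by
        rw [hfk]
        exact Nat.find_min' _ ⟨_, R.mul_mem (hcR i) (hcR j), hid, hne, rfl⟩
      have key : ∀ a b : Module.End (ZMod q) V, Commute a b → a * a = a → b * b = b →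
          Nat.card (LinearMap.range b) ≤ Nat.card (LinearMap.range (a * b)) → a * b = b := by
        intro a b hab haa _ hle
        have hsub : LinearMap.range (a * b) ≤ LinearMap.range b := by
          rintro _ ⟨z, rfl⟩
          exact ⟨a z, by rw [← Module.End.mul_apply, ← hab.eq]⟩
        have heq : LinearMap.range (a * b) = LinearMap.range b := SetLike.coe_injective
          (Set.eq_of_subset_of_ncard_le hsub (by rw [← Nat.card_coe_set_eq, ← Nat.card_coe_set_eq]; exact hle)
            (Set.toFinite _))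
        refine LinearMap.ext fun z => ?_
        obtain ⟨w, hw⟩ := heq ▸ LinearMap.mem_range_self b z
        rw [Module.End.mul_apply, ← hw, ← Module.End.mul_apply a (a * b), ← mul_assoc, haa]
      have h1 := key (c i) (c j) hc (hcc i) (hcc j) (by rw [hcr j]; exact hge)
      have h2 := key (c j) (c i) hc.symm (hcc j) (hcc i) (by rw [← hc.eq, hcr i]; exact hge)
      rw [← h2, ← hc.eq, h1]
    -- periodicity
    have hstep : ∀ i, c (i + 1) = (ρ g : Module.End (ZMod q) V) * c i * (ρ g⁻¹ : Module.End (ZMod q) V) := fun i => by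
      simp only [c, pow_succ', mul_inv_rev, rho_mul, mul_assoc]
    have hsum : ∀ i j, i < j → j < ℓ → c i * c j = 0 := by
      intro i j hij hj
      refine (hmin i j).resolve_right fun heq => ?_
      have hshift : ∀ m, c (i + m) = c (j + m) := by
        intro m
        induction m with
        | zero => exact heq
        | succ m ih => rw [← add_assoc, ← add_assoc, hstep, hstep, ih]
      have hper : ∀ m, c (m + ℓ) = c m := fun m => by
        have : g ^ (m + ℓ) = g ^ m := by rw [pow_add, ← hg, pow_orderOf_eq_one, mul_one]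
        simp only [c, this]
      have hperm : ∀ m k, c (m + k * ℓ) = c m := by
        intro m k
        induction k with
        | zero => simp
        | succ k ih => rw [Nat.succ_mul, ← add_assoc, hper, ih]
      have hδ : ∀ k, c (k * (j - i)) = c 0 := by
        intro k
        induction k with
        | zero => simp
        | succ k ih =>
          have h1 := hshift (k * (j - i) + (ℓ - i))
          rw [show i + (k * (j - i) + (ℓ - i)) = k * (j - i) + ℓ by omega,
            show j + (k * (j - i) + (ℓ - i)) = (k + 1) * (j - i) + ℓ by rw [Nat.succ_mul]; omega, hper, hper] at h1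
          rw [← h1, ih]
      have hc1 : c 1 = c 0 := by
        obtain ⟨k, hk⟩ := Nat.exists_mul_mod_eq_one_of_coprime (k := ℓ) (n := j - i)
          ((Nat.Prime.coprime_iff_not_dvd hℓ).2 (Nat.not_dvd_of_pos_of_lt (by omega) (by omega))).symm hℓ.one_lt
        have h1 := hδ k
        rw [← Nat.mod_add_div (k * (j - i)) ℓ, mul_comm k, hk.2, mul_comm ℓ, hperm] at h1
        exact h1
      have hfix : Commute (ρ g : Module.End (ZMod q) V) f := by
        have e0 : c 0 = f := by simp only [c, pow_zero, inv_one, rho_one, one_mul, mul_one]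
        have := hstep 0
        rw [hc1, e0] at this
        have h' := congrArg (· * (ρ g : Module.End (ZMod q) V)) this
        simp only [mul_assoc, rho_inv_mul, mul_one] at h'
        exact h'.symm
      rcases hidem f hf hff hfix with h | h
      · exact hf0 h
      · have hle : Nat.card (LinearMap.range f) ≤ Nat.card (LinearMap.range e) := by
          rw [hfk]; exact Nat.find_min' _ ⟨e, he, hee, he0, rfl⟩
        rw [h, show LinearMap.range (1 : Module.End (ZMod q) V) = ⊤ from LinearMap.range_id] at hle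
        have htop : LinearMap.range e = ⊤ := SetLike.coe_injective
          (Set.eq_of_subset_of_ncard_le (fun x _ => Set.mem_univ x) (by
            rw [← Nat.card_coe_set_eq, ← Nat.card_coe_set_eq]; exact hle) (Set.toFinite _))
        refine he1 (LinearMap.ext fun x => ?_)
        obtain ⟨z, hz⟩ := htop ▸ (Submodule.mem_top : x ∈ (⊤ : Submodule (ZMod q) V))
        rw [← hz, ← Module.End.mul_apply, hee]
        rfl
    -- `ℓ` orthogonal idempotents
    have hind : LinearIndependent (ZMod q) fun i : Fin ℓ => c i := by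
      rw [Fintype.linearIndependent_iff]
      intro a ha i
      have h := congrArg (c i * ·) ha
      simp only [Finset.mul_sum, mul_smul_comm, mul_zero] at h
      rw [Finset.sum_eq_single i (fun j _ hji => by
        rcases lt_or_gt_of_ne (Fin.val_ne_of_ne hji) with hlt | hlt
        · rw [(spanAlg_comm hA (hcR i) (hcR j)).eq, hsum _ _ hlt i.2, smul_zero]
        · rw [hsum _ _ hlt j.2, smul_zero]) (by simp), hcc] at h
      exact (smul_eq_zero.1 h).resolve_right (hc0 i)
    have hpick : ∀ i : Fin ℓ, ∃ x, c i x ≠ 0 := fun i => by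
      by_contra h
      push Not at h
      exact hc0 i (LinearMap.ext h)
    choose x hx using hpick
    have hindV : LinearIndependent (ZMod q) fun i : Fin ℓ => c i (x i) := by
      rw [Fintype.linearIndependent_iff]
      intro a ha i
      have h := congrArg (c i) ha
      simp only [map_sum, map_smul, map_zero, ← Module.End.mul_apply] at h
      rw [Finset.sum_eq_single i (fun j _ hji => by
        rcases lt_or_gt_of_ne (Fin.val_ne_of_ne hji) with hlt | hlt
        · rw [(spanAlg_comm hA (hcR i) (hcR j)).eq, hsum _ _ hlt i.2]; simp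
        · rw [hsum _ _ hlt j.2]; simp) (by simp), hcc] at h
      exact (smul_eq_zero.1 h).resolve_right (hx i)
    have := hindV.fintype_card_le_finrank
    rw [Fintype.card_fin] at this
    omega
  intro a ha
  refine hρ (LinearEquiv.toLinearMap_injective ?_)
  rw [rho_mul, rho_mul]
  exact (commute_of_fieldLike hA hfield hgA hℓ (hg ▸ pow_orderOf_eq_one g) hbig (mem_spanAlg ha)).eq

/-- Hall–Higman type lemma. -/
theorem hall_higman [Finite G] [Nontrivial V] (hρ : Function.Injective ρ) {ℓ : ℕ} (hℓ : ℓ.Prime) (hℓq : ℓ ≠ q)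
    (hprim : ∀ k, 0 < k → k < Module.finrank (ZMod q) V → ¬ ℓ ∣ q ^ k - 1)
    (hbig : Module.finrank (ZMod q) V < ℓ) (hd : 2 ≤ Module.finrank (ZMod q) V)
    {h : G} {a : ℕ} (hh : orderOf h = ℓ ^ (a + 1)) {r : ℕ} [Fact r.Prime] (hrℓ : r ≠ ℓ) (hrq : r ≠ q)
    (P : Subgroup G) (hP : IsPGroup r P) (hnorm : ∀ x ∈ P, h * x * h⁻¹ ∈ P)
    (hnc : ∃ x ∈ P, h ^ ℓ ^ a * x ≠ x * h ^ ℓ ^ a) :
    r = 2 ∧ ℓ = Module.finrank (ZMod q) V + 1 ∧ ℓ ^ (a + 1) ∣ Module.finrank (ZMod q) V ^ 2 - 1 ∧
      ∃ k, Module.finrank (ZMod q) V = 2 ^ k := by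
  classical
  haveI := finite_end (q := q) (V := V)
  haveI : FiniteDimensional (ZMod q) V := Module.Finite.of_finite
  haveI : Fact ℓ.Prime := ⟨hℓ⟩
  have hq : q.Prime := Fact.out
  have hr : r.Prime := Fact.out
  set g := h ^ ℓ ^ a with hg
  have hgo : orderOf g = ℓ := by
    rw [hg, orderOf_pow' h (pow_ne_zero a hℓ.ne_zero), hh, Nat.gcd_eq_right ⟨ℓ, by ring⟩, pow_succ,
      Nat.mul_div_cancel_left _ (pow_pos hℓ.pos a)]
  obtain ⟨hfl, hcard⟩ := primitive_fieldLike hρ hℓ hℓq hprim hgo
  have hgc : ∀ x ∈ ({g} : Set G), ∀ y ∈ ({g} : Set G), x * y = y * x := by rintro a rfl b rfl; rfl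
  -- the centraliser of `g` is commutative
  have hcent : ∀ x : G, g * x = x * g → (ρ x : Module.End (ZMod q) V) ∈ spanAlg ρ {g} := by
    intro x hx
    refine hfl.mem_of_commute (fun r hr s hs => spanAlg_comm hgc hr hs) hcard fun s hs => commute_spanAlg ?_ hs
    rintro y rfl
    show (ρ x : Module.End (ZMod q) V) * (ρ g : Module.End (ZMod q) V) = _
    rw [← rho_mul, ← hx, rho_mul]
  have hcomm : ∀ x y : G, g * x = x * g → g * y = y * g → x * y = y * x := fun x y hx hy =>
    hρ (LinearEquiv.toLinearMap_injective (by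
      rw [rho_mul, rho_mul]; exact (spanAlg_comm hgc (hcent x hx) (hcent y hy)).eq))
  -- a minimal subgroup
  let Good : ℕ → Prop := fun k => ∃ Q : Subgroup G, Q ≤ P ∧ (∀ x ∈ Q, h * x * h⁻¹ ∈ Q) ∧
    (∃ x ∈ Q, g * x ≠ x * g) ∧ Nat.card Q = k
  obtain ⟨Q, hQP, hQh, hQnc, hQk⟩ : Good (Nat.find (⟨_, P, le_rfl, hnorm, hnc, rfl⟩ : ∃ k, Good k)) := Nat.find_spec _
  have hmin : ∀ T : Subgroup G, T ≤ Q → (∀ x ∈ T, h * x * h⁻¹ ∈ T) → (∃ x ∈ T, g * x ≠ x * g) → T = Q := fun T hT hTh hTn =>
    Subgroup.eq_of_le_of_card_ge hT (by rw [hQk]; exact Nat.find_min' _ ⟨T, hT.trans hQP, hTh, hTn, rfl⟩)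
  have hQp : IsPGroup r Q := hP.to_le hQP
  have hpowQ : ∀ {T : Subgroup G}, (∀ x ∈ T, h * x * h⁻¹ ∈ T) → ∀ k : ℕ, ∀ x ∈ T, h ^ k * x * (h ^ k)⁻¹ ∈ T := by
    intro T hT k
    induction k with
    | zero => intro x hx; simpa using hx
    | succ k ih =>
      intro x hx
      rw [pow_succ', mul_inv_rev, show h * h ^ k * x * ((h ^ k)⁻¹ * h⁻¹) = h * (h ^ k * x * (h ^ k)⁻¹) * h⁻¹ by group]
      exact hT _ (ih x hx)
  have hgnorm : ∀ {T : Subgroup G}, (∀ x ∈ T, h * x * h⁻¹ ∈ T) → ∀ x ∈ T, g * x * g⁻¹ ∈ T :=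
    fun hT => hpowQ hT _
  -- abelian invariant subgroups are centralised
  obtain ⟨M, hM⟩ := hQp.exists_card_eq
  have hQpow : ∀ x ∈ Q, x ^ r ^ M = 1 := fun x hx => by
    have := pow_card_eq_one' (x := (⟨x, hx⟩ : Q))
    rw [hM] at this
    exact congrArg Subtype.val this
  have habel : ∀ T : Subgroup G, T ≤ Q → (∀ x ∈ T, h * x * h⁻¹ ∈ T) → (∀ x ∈ T, ∀ y ∈ T, x * y = y * x) →
      ∀ x ∈ T, g * x = x * g := fun T hT hTh hTc =>
    commute_of_abelian hρ hℓ hℓq hprim hbig hgo (A := (T : Set G)) hTc (hgnorm hTh)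
      (Nat.Coprime.pow_left M ((Nat.coprime_primes hr hq).2 hrq)) (fun x hx => hQpow x (hT hx))
  -- `Z`, the centraliser of `g`
  set Z : Subgroup G := Q ⊓ Subgroup.centralizer ({g} : Set G) with hZ
  have hZmem : ∀ {x}, x ∈ Z ↔ x ∈ Q ∧ g * x = x * g := by
    intro x
    rw [hZ, Subgroup.mem_inf, Subgroup.mem_centralizer_singleton_iff]
    exact ⟨fun hx => ⟨hx.1, hx.2.symm⟩, fun hx => ⟨hx.1, hx.2.symm⟩⟩
  have hhg : h * g = g * h := (Commute.self_pow h _).eq
  have hconjg : ∀ {x}, g * x = x * g → g * (h * x * h⁻¹) = h * x * h⁻¹ * g := by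
    intro x hx
    calc g * (h * x * h⁻¹) = h * (g * x) * h⁻¹ := by rw [← mul_assoc, ← mul_assoc, ← hhg]; group
      _ = h * (x * g) * h⁻¹ := by rw [hx]
      _ = h * x * (g * h⁻¹) := by group
      _ = h * x * h⁻¹ * g := by
        rw [show g * h⁻¹ = h⁻¹ * g from (Commute.inv_right (Commute.symm hhg)).eq]; group
  have hZh : ∀ x ∈ Z, h * x * h⁻¹ ∈ Z := fun x hx =>
    hZmem.2 ⟨hQh x (hZmem.1 hx).1, hconjg (hZmem.1 hx).2⟩
  -- commutators lie in `Z`
  have hder : ∀ x ∈ Q, ∀ y ∈ Q, ⁅x, y⁆ ∈ Z := by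
    haveI : Group.IsNilpotent Q := hQp.isNilpotent
    set D := ⁅Q, Q⁆
    have hDQ : D ≤ Q := Subgroup.commutator_le_self Q
    have hmapQ : Q.map (MulAut.conj h).toMonoidHom ≤ Q := by
      rintro _ ⟨x, hx, rfl⟩
      exact hQh x hx
    have hDh : ∀ x ∈ D, h * x * h⁻¹ ∈ D := fun x hx => by
      have : D.map (MulAut.conj h).toMonoidHom ≤ D := by
        rw [Subgroup.map_commutator]; exact Subgroup.commutator_mono hmapQ hmapQ
      exact this ⟨x, hx, rfl⟩
    intro x hx y hy
    refine hZmem.2 ⟨hDQ (Subgroup.commutator_mem_commutator hx hy), ?_⟩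
    by_contra hne
    have hDQ' : D = Q := hmin D hDQ hDh ⟨_, Subgroup.commutator_mem_commutator hx hy, hne⟩
    haveI : Nontrivial Q := by
      obtain ⟨z, hz, hzn⟩ := hQnc
      refine ⟨⟨⟨z, hz⟩, 1, fun e => hzn ?_⟩⟩
      rw [show z = 1 from congrArg Subtype.val e]
      group
    have hlt : commutator Q ≠ ⊤ := by
      intro e
      obtain ⟨n, hn⟩ := Subgroup.nilpotent_iff_lowerCentralSeries.1 (inferInstance : Group.IsNilpotent Q)
      have hall : ∀ k, (⊤ : Subgroup Q).lowerCentralSeries k = ⊤ := fun k => by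
        induction k with
        | zero => rfl
        | succ k ih => rw [Subgroup.lowerCentralSeries_succ, ih, ← commutator_def]; exact e
      rw [hall] at hn
      exact top_ne_bot hn
    refine hlt (Subgroup.map_injective Q.subtype_injective ?_)
    rw [Subgroup.map_subtype_commutator, ← MonoidHom.range_eq_map, Subgroup.range_subtype]
    exact hDQ'
  have hZn : ∀ x ∈ Q, ∀ z ∈ Z, x * z * x⁻¹ ∈ Z := fun x hx z hz => by
    have := Z.mul_mem (hder x hx z (hZmem.1 hz).1) hz
    simpa [commutatorElement_def] using this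
  -- modulo `Z` only the identity is fixed
  have hfpf : ∀ x ∈ Q, x⁻¹ * (g * x * g⁻¹) ∈ Z → x ∈ Z := by
    intro x hx hz
    set z := x⁻¹ * (g * x * g⁻¹) with hzdef
    have hgx : g * x * g⁻¹ = x * z := by rw [hzdef]; group
    have hgz : g * z * g⁻¹ = z := by rw [(hZmem.1 hz).2]; group
    have hiter : ∀ k : ℕ, g ^ k * x * (g ^ k)⁻¹ = x * z ^ k := by
      intro k
      induction k with
      | zero => simp
      | succ k ih =>
        calc g ^ (k + 1) * x * (g ^ (k + 1))⁻¹ = g * (g ^ k * x * (g ^ k)⁻¹) * g⁻¹ := by rw [pow_succ']; group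
          _ = g * (x * z ^ k) * g⁻¹ := by rw [ih]
          _ = (g * x * g⁻¹) * (g * z * g⁻¹) ^ k := by rw [conj_pow]; group
          _ = x * z ^ (k + 1) := by rw [hgx, hgz, pow_succ']; group
    have h1 := hiter ℓ
    rw [show g ^ ℓ = 1 from hgo ▸ pow_orderOf_eq_one g] at h1
    have hzl : z ^ ℓ = 1 := by simpa using h1.symm
    have hz1 : z = 1 := by
      have h2 := (pow_gcd_eq_one (m := ℓ) (n := r ^ M)).2 ⟨hzl, hQpow z (hZmem.1 hz).1⟩
      rw [show Nat.gcd ℓ (r ^ M) = 1 from Nat.Coprime.pow_right M ((Nat.coprime_primes hℓ hr).2 hrℓ.symm), pow_one] at h2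
      exact h2
    rw [hz1, mul_one, mul_inv_eq_iff_eq_mul] at hgx
    exact hZmem.2 ⟨hx, hgx⟩
  -- `Z` is central
  have hZc : ∀ x ∈ Q, ∀ z ∈ Z, x * z = z * x := by
    set T := Q ⊓ Subgroup.centralizer (Z : Set G)
    have hTh : ∀ x ∈ T, h * x * h⁻¹ ∈ T := by
      intro x hx
      refine ⟨hQh x hx.1, Subgroup.mem_centralizer_iff.2 fun z hz => ?_⟩
      -- write `z` as a conjugate of an element of `Z`
      have hZk := hpowQ hZh (orderOf h - 1) z hz
      have e1 : h ^ (orderOf h - 1) = h⁻¹ := eq_inv_of_mul_eq_one_left (by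
        rw [← pow_succ, Nat.sub_add_cancel (orderOf_pos h), pow_orderOf_eq_one])
      rw [e1, inv_inv] at hZk
      have := Subgroup.mem_centralizer_iff.1 hx.2 _ hZk
      calc z * (h * x * h⁻¹) = h * ((h⁻¹ * z * h) * x) * h⁻¹ := by group
        _ = h * (x * (h⁻¹ * z * h)) * h⁻¹ := by rw [this]
        _ = h * x * h⁻¹ * z := by group
    by_cases hT : ∃ x ∈ T, g * x ≠ x * g
    · have := hmin T inf_le_left hTh hT
      intro x hx z hz
      rw [← this] at hx
      exact (Subgroup.mem_centralizer_iff.1 hx.2 z hz).symm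
    · exfalso
      push Not at hT
      obtain ⟨x, hx, hxn⟩ := hQnc
      refine hxn (hZmem.1 (hfpf x hx (hZmem.2 ⟨Q.mul_mem (Q.inv_mem hx) (hgnorm hQh x hx), hT _
        ⟨Q.mul_mem (Q.inv_mem hx) (hgnorm hQh x hx), Subgroup.mem_centralizer_iff.2 fun z hz => ?_⟩⟩))).2
      -- conjugation by `x⁻¹ (g x g⁻¹)` is trivial on `Z`
      have hz' := hZn x hx z hz
      have h1 : g * (x * z * x⁻¹) * g⁻¹ = x * z * x⁻¹ := by rw [(hZmem.1 hz').2]; group
      have hgz : g * z * g⁻¹ = z := by rw [(hZmem.1 hz).2]; group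
      have h2 : (g * x * g⁻¹) * z * (g * x * g⁻¹)⁻¹ = x * z * x⁻¹ := by
        conv_rhs => rw [← h1]
        conv_lhs => rw [← hgz]
        group
      calc z * (x⁻¹ * (g * x * g⁻¹)) = x⁻¹ * (x * z * x⁻¹) * (g * x * g⁻¹) := by group
        _ = x⁻¹ * ((g * x * g⁻¹) * z * (g * x * g⁻¹)⁻¹) * (g * x * g⁻¹) := by rw [h2]
        _ = x⁻¹ * (g * x * g⁻¹) * z := by group
  -- elements centralising `Q` are in `Z`
  have hrad : ∀ x ∈ Q, (∀ y ∈ Q, x * y = y * x) → x ∈ Z := by
    intro x hx hxc
    set T := Q ⊓ Subgroup.centralizer (Q : Set G)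
    have hxT : x ∈ T := ⟨hx, Subgroup.mem_centralizer_iff.2 fun y hy => (hxc y hy).symm⟩
    refine hZmem.2 ⟨hx, habel T inf_le_left ?_ ?_ x hxT⟩
    · intro y hy
      refine ⟨hQh y hy.1, Subgroup.mem_centralizer_iff.2 fun z hz => ?_⟩
      have hZk := hpowQ hQh (orderOf h - 1) z hz
      have e1 : h ^ (orderOf h - 1) = h⁻¹ := eq_inv_of_mul_eq_one_left (by
        rw [← pow_succ, Nat.sub_add_cancel (orderOf_pos h), pow_orderOf_eq_one])
      rw [e1, inv_inv] at hZk
      have := Subgroup.mem_centralizer_iff.1 hy.2 _ hZk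
      calc z * (h * y * h⁻¹) = h * ((h⁻¹ * z * h) * y) * h⁻¹ := by group
        _ = h * (y * (h⁻¹ * z * h)) * h⁻¹ := by rw [this]
        _ = h * y * h⁻¹ * z := by group
    · exact fun y hy z hz => (Subgroup.mem_centralizer_iff.1 hy.2 z hz.1).symm
  -- the field of `Z`
  set R := spanAlg ρ (Z : Set G)
  have hRle : R ≤ spanAlg ρ {g} := Algebra.adjoin_le (by rintro _ ⟨z, hz, rfl⟩; exact hcent z (hZmem.1 hz).2)
  have hRfl : FieldLike R := hfl.mono hRle
  have hRcomm : ∀ a ∈ R, ∀ b ∈ R, Commute a b := fun a ha b hb => spanAlg_comm hgc (hRle ha) (hRle hb)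
  -- commutator pairing
  have hbil : ∀ x ∈ Q, ∀ y ∈ Q, ∀ w ∈ Q, ⁅x * y, w⁆ = ⁅x, w⁆ * ⁅y, w⁆ := by
    intro x hx y hy w hw
    have hc := hZc x hx _ (hder y hy w hw)
    have hc2 := hcomm _ _ (hZmem.1 (hder y hy w hw)).2 (hZmem.1 (hder x hx w hw)).2
    calc ⁅x * y, w⁆ = (x * ⁅y, w⁆) * x⁻¹ * ⁅x, w⁆ := by simp only [commutatorElement_def]; group
      _ = (⁅y, w⁆ * x) * x⁻¹ * ⁅x, w⁆ := by rw [hc]
      _ = ⁅y, w⁆ * ⁅x, w⁆ := by group
      _ = ⁅x, w⁆ * ⁅y, w⁆ := hc2
  haveI : (Z.subgroupOf Q).Normal := ⟨fun z hz x => by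
    rw [Subgroup.mem_subgroupOf] at hz ⊢
    exact hZn x x.2 z hz⟩
  set W := ↥Q ⧸ Z.subgroupOf Q
  haveI : Fintype W := Fintype.ofFinite W
  have hmod : ∀ a b : Q, ((a : W) = (b : W)) ↔ (a : G)⁻¹ * (b : G) ∈ Z := fun a b => by
    rw [QuotientGroup.eq, Subgroup.mem_subgroupOf]
    rfl
  let f : W → Module.End (ZMod q) V := fun w => (ρ (w.out : G) : Module.End (ZMod q) V)
  have hindep := indep_of_chars hRfl hRcomm f (fun w => (ρ _).injective) (by
    intro i j hij
    obtain ⟨y, hy, hne⟩ : ∃ y ∈ Q, ⁅(i.out : G), y⁆ ≠ ⁅(j.out : G), y⁆ := by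
      by_contra hall
      push Not at hall
      refine hij ?_
      rw [← Quotient.out_eq i, ← Quotient.out_eq j]
      refine (hmod i.out j.out).2 (hrad _ (Q.mul_mem (Q.inv_mem i.out.2) j.out.2) fun y hy => ?_)
      have h0 : ⁅(i.out : G)⁻¹ * j.out, y⁆ = 1 := by
        rw [hbil _ (Q.inv_mem i.out.2) _ j.out.2 y hy, ← hall y hy, ← hbil _ (Q.inv_mem i.out.2) _ i.out.2 y hy,
          inv_mul_cancel, commutatorElement_one_left]
      exact commutatorElement_eq_one_iff_mul_comm.1 h0
    refine ⟨(ρ y : Module.End (ZMod q) V), (ρ y⁻¹ : Module.End (ZMod q) V),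
      fun l => (ρ ⁅y, (l.out : G)⁆ : Module.End (ZMod q) V),
      fun s hs => commute_spanAlg (fun z hz => by
        show (ρ y : Module.End (ZMod q) V) * _ = _
        rw [← rho_mul, hZc y hy z hz, rho_mul]) hs,
      rho_inv_mul y, fun l => mem_spanAlg (hder y hy _ l.out.2), fun l => ?_, fun e => hne ?_⟩
    · simp only [f]
      rw [← rho_mul, ← rho_mul, ← rho_mul]
      congr 2
      simp only [commutatorElement_def]
      group
    · rw [← commutatorElement_inv y (i.out : G), ← commutatorElement_inv y (j.out : G),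
        hρ (LinearEquiv.toLinearMap_injective e)])
  -- counting the combinations
  have hcount : Nat.card R ^ Nat.card W ≤ Nat.card (Module.End (ZMod q) V) := by
    rw [← Nat.card_fun]
    refine Nat.card_le_card_of_injective (fun c : W → R => ∑ w, (c w : Module.End (ZMod q) V) * f w) fun c c' hcc => ?_
    funext w
    refine Subtype.ext (sub_eq_zero.1 (hindep (fun w => (c w : Module.End (ZMod q) V) - c' w)
      (fun w => R.sub_mem (c w).2 (c' w).2) ?_ w))
    simp only [sub_mul, Finset.sum_sub_distrib]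
    exact sub_eq_zero.2 hcc
  set d := Module.finrank (ZMod q) V with hddef
  have hWd : Nat.card W ≤ d ^ 2 := by
    have hEnd : Nat.card (Module.End (ZMod q) V) = q ^ (d ^ 2) := by
      rw [Module.natCard_eq_pow_finrank (K := ZMod q), Nat.card_zmod, Module.finrank_linearMap, sq]
    rw [hEnd] at hcount
    have hR2 : q ≤ Nat.card R := by
      have := Nat.card_le_card_of_injective (fun c : ZMod q => (⟨algebraMap _ _ c, R.algebraMap_mem c⟩ : R))
        (fun c c' e => (algebraMap (ZMod q) (Module.End (ZMod q) V)).injective (congrArg Subtype.val e))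
      rwa [Nat.card_zmod] at this
    exact (Nat.pow_le_pow_iff_right hq.one_lt).1 ((Nat.pow_le_pow_left hR2 _).trans hcount)
  -- the order of `W` is a square
  have hsquare : ∃ m, Nat.card W = m * m := by
    -- a maximal abelian subgroup containing `Z`
    let Ab : ℕ → Prop := fun k => ∃ L : Subgroup G, Z ≤ L ∧ L ≤ Q ∧ (∀ x ∈ L, ∀ y ∈ L, x * y = y * x) ∧ Nat.card L = k
    have hAbZ : Ab (Nat.card Z) := ⟨Z, le_rfl, inf_le_left, fun x hx y hy => hcomm x y (hZmem.1 hx).2 (hZmem.1 hy).2, rfl⟩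
    obtain ⟨L, hZL, hLQ, hLc, hLk⟩ : Ab (Nat.findGreatest Ab (Nat.card G)) :=
      Nat.findGreatest_spec (P := Ab) (Subgroup.card_le_card_group Z) hAbZ
    have hself : ∀ x ∈ Q, (∀ l ∈ L, x * l = l * x) → x ∈ L := by
      intro x hx hxl
      set L' := L ⊔ Subgroup.zpowers x
      have hL'c : ∀ a ∈ L', ∀ b ∈ L', a * b = b * a := by
        have hgen : L' = Subgroup.closure ((L : Set G) ∪ {x}) := by
          rw [Subgroup.closure_union, Subgroup.closure_eq, ← Subgroup.zpowers_eq_closure]
        have hle : L' ≤ Subgroup.centralizer (L' : Set G) := by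
          rw [hgen, Subgroup.centralizer_closure, Subgroup.closure_le]
          intro a ha
          rw [SetLike.mem_coe, Subgroup.mem_centralizer_iff]
          intro b hb
          rcases ha with ha | rfl <;> rcases hb with hb | rfl
          exacts [hLc b hb a ha, hxl a ha, (hxl b hb).symm, rfl]
        exact fun a ha b hb => (Subgroup.mem_centralizer_iff.1 (hle ha) b hb).symm
      have hL'Q : L' ≤ Q := sup_le hLQ (Subgroup.zpowers_le.2 hx)
      have heq : L = L' := Subgroup.eq_of_le_of_card_ge le_sup_left (by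
        rw [hLk]
        exact Nat.le_findGreatest (Subgroup.card_le_card_group L') ⟨L', hZL.trans le_sup_left, hL'Q, hL'c, rfl⟩)
      rw [heq]
      exact Subgroup.mem_sup_right (Subgroup.mem_zpowers x)
    haveI : (L.subgroupOf Q).Normal := ⟨fun l hl x => by
      rw [Subgroup.mem_subgroupOf] at hl ⊢
      have := L.mul_mem (hZL (hder x x.2 l (hLQ hl))) hl
      simpa [commutatorElement_def] using this⟩
    haveI : ((Z.subgroupOf L)).Normal := ⟨fun z hz x => by
      rw [Subgroup.mem_subgroupOf] at hz ⊢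
      exact hZn x (hLQ x.2) z hz⟩
    letI : CommRing R := { (inferInstance : Ring R) with mul_comm := fun a b => Subtype.ext (hRcomm a a.2 b b.2).eq }
    haveI : NoZeroDivisors R := ⟨fun {a b} hab => by
      by_contra hc
      push Not at hc
      have ha : (a : Module.End (ZMod q) V) ≠ 0 := fun e => hc.1 (Subtype.ext e)
      refine hc.2 (Subtype.ext (LinearMap.ext fun v => hRfl _ a.2 ha ?_))
      rw [← Module.End.mul_apply]
      simpa using LinearMap.congr_fun (congrArg Subtype.val hab) v⟩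
    haveI : Nontrivial R := ⟨⟨0, 1, fun e => zero_ne_one (congrArg Subtype.val e)⟩⟩
    haveI : IsDomain R := NoZeroDivisors.to_isDomain _
    letI : Field R := (Finite.isField_of_domain R).toField
    -- the number of linear characters is at most the order
    haveI hfinhom : ∀ (A : Type _) [Group A] [Finite A], Finite (A →* R) := fun A _ _ =>
      Finite.of_injective (fun f => (f : A → R)) DFunLike.coe_injective
    have hdedekind : ∀ (A : Type _) [Group A] [Finite A], Nat.card (A →* R) ≤ Nat.card A := by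
      intro A _ _
      haveI : Fintype A := Fintype.ofFinite A
      haveI : Finite (A →* R) := Finite.of_injective (fun f => (f : A → R)) DFunLike.coe_injective
      haveI : Fintype (A →* R) := Fintype.ofFinite _
      have := (linearIndependent_monoidHom A R).fintype_card_le_finrank
      rw [Module.finrank_fintype_fun_eq_card] at this
      simpa [Nat.card_eq_fintype_card] using this
    let χ : ↥Q → ↥Q → R := fun x y => ⟨(ρ ⁅(x : G), (y : G)⁆ : Module.End (ZMod q) V), mem_spanAlg (hder x x.2 y y.2)⟩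
    have hχl : ∀ x x' y : ↥Q, χ (x * x') y = χ x y * χ x' y := fun x x' y => Subtype.ext (by
      show (ρ ⁅((x : G) * x'), (y : G)⁆ : Module.End (ZMod q) V) = _ * _
      rw [hbil x x.2 x' x'.2 y y.2, rho_mul])
    have hχr : ∀ x y y' : ↥Q, χ x (y * y') = χ x y * χ x y' := fun x y y' => Subtype.ext (by
      show (ρ ⁅(x : G), ((y : G) * y')⁆ : Module.End (ZMod q) V) = _ * _
      rw [← commutatorElement_inv, hbil y y.2 y' y'.2 x x.2, mul_inv_rev, commutatorElement_inv, commutatorElement_inv,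
        hcomm _ _ (hZmem.1 (hder x x.2 y' y'.2)).2 (hZmem.1 (hder x x.2 y y.2)).2, rho_mul])
    have hχ1 : ∀ x y : ↥Q, ⁅(x : G), (y : G)⁆ = 1 → χ x y = 1 := fun x y e => Subtype.ext (by
      show (ρ ⁅(x : G), (y : G)⁆ : Module.End (ZMod q) V) = 1
      rw [e, rho_one])
    have hχ2 : ∀ x y : ↥Q, χ x y = 1 → ⁅(x : G), (y : G)⁆ = 1 := fun x y e =>
      hρ (LinearEquiv.toLinearMap_injective ((congrArg Subtype.val e).trans rho_one.symm))
    let LQ : ↥L →* ↥Q := Subgroup.inclusion hLQ
    -- two injections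
    have h1 : Nat.card (↥Q ⧸ L.subgroupOf Q) ≤ Nat.card (↥L ⧸ Z.subgroupOf L) := by
      refine le_trans ?_ (hdedekind _)
      let φ : ↥Q → ((↥L ⧸ Z.subgroupOf L) →* R) := fun x =>
        QuotientGroup.lift _ { toFun := fun l => χ x (LQ l), map_one' := hχ1 _ _ (by simp [LQ]),
                               map_mul' := fun l l' => by simp only [map_mul, hχr] }
          (fun l hl => by
            refine MonoidHom.mem_ker.2 (hχ1 _ _ ?_)
            rw [Subgroup.mem_subgroupOf] at hl
            exact commutatorElement_eq_one_iff_mul_comm.2 (hZc x x.2 l hl))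
      refine Nat.card_le_card_of_injective (fun w => φ w.out) fun w w' hww => ?_
      rw [← Quotient.out_eq w, ← Quotient.out_eq w']
      refine QuotientGroup.eq.2 (Subgroup.mem_subgroupOf.2 (hself _ (w.out⁻¹ * w'.out).2 fun l hl => ?_))
      have h' := DFunLike.congr_fun hww (QuotientGroup.mk ⟨l, hl⟩)
      simp only [φ, QuotientGroup.lift_mk, MonoidHom.coe_mk, OneHom.coe_mk] at h'
      refine commutatorElement_eq_one_iff_mul_comm.1 (hχ2 (w.out⁻¹ * w'.out) (LQ ⟨l, hl⟩) ?_)
      rw [hχl, ← h', ← hχl, inv_mul_cancel]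
      exact hχ1 _ _ (by simp)
    have h2 : Nat.card (↥L ⧸ Z.subgroupOf L) ≤ Nat.card (↥Q ⧸ L.subgroupOf Q) := by
      refine le_trans ?_ (hdedekind _)
      let φ : ↥L → ((↥Q ⧸ L.subgroupOf Q) →* R) := fun l =>
        QuotientGroup.lift _ { toFun := fun x => χ x (LQ l), map_one' := hχ1 _ _ (by simp),
                               map_mul' := fun x x' => hχl x x' _ }
          (fun x hx => by
            refine MonoidHom.mem_ker.2 (hχ1 _ _ ?_)
            rw [Subgroup.mem_subgroupOf] at hx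
            exact commutatorElement_eq_one_iff_mul_comm.2 (hLc x hx l l.2))
      refine Nat.card_le_card_of_injective (fun w => φ w.out) fun w w' hww => ?_
      rw [← Quotient.out_eq w, ← Quotient.out_eq w']
      refine QuotientGroup.eq.2 (Subgroup.mem_subgroupOf.2 (hrad _ (hLQ (w.out⁻¹ * w'.out).2) fun y hy => ?_))
      have h' := DFunLike.congr_fun hww (QuotientGroup.mk ⟨y, hy⟩)
      simp only [φ, QuotientGroup.lift_mk, MonoidHom.coe_mk, OneHom.coe_mk] at h'
      refine (commutatorElement_eq_one_iff_mul_comm.1 (hχ2 ⟨y, hy⟩ (LQ (w.out⁻¹ * w'.out)) ?_)).symm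
      rw [map_mul, hχr, ← h', ← hχr, ← map_mul, inv_mul_cancel, map_one]
      exact hχ1 _ _ (by simp)
    refine ⟨Nat.card (↥L ⧸ Z.subgroupOf L), ?_⟩
    have e : Nat.card W = (Z.subgroupOf L).index * (L.subgroupOf Q).index :=
      (Subgroup.relIndex_mul_relIndex Z L Q hZL hLQ).symm
    rw [e]
    show Nat.card (↥L ⧸ Z.subgroupOf L) * Nat.card (↥Q ⧸ L.subgroupOf Q) = _
    rw [le_antisymm h1 h2]
  obtain ⟨m, hm⟩ := hsquare
  -- the action on `W`
  have hgact : ℓ ^ (a + 1) ∣ Nat.card W - 1 := by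
    let H := Subgroup.zpowers h
    have hHQ : ∀ k : H, ∀ x ∈ Q, (k : G) * x * (k : G)⁻¹ ∈ Q := by
      rintro ⟨k, hk⟩ x hx
      obtain ⟨i, -, rfl⟩ := (IsOfFinOrder.mem_zpowers_iff_mem_range_orderOf (isOfFinOrder_of_finite h)).1 hk |> Finset.mem_image.1
      exact hpowQ hQh i x hx
    have hHZ : ∀ k : H, ∀ x ∈ Z, (k : G) * x * (k : G)⁻¹ ∈ Z := by
      rintro ⟨k, hk⟩ x hx
      obtain ⟨i, -, rfl⟩ := (IsOfFinOrder.mem_zpowers_iff_mem_range_orderOf (isOfFinOrder_of_finite h)).1 hk |> Finset.mem_image.1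
      exact hpowQ hZh i x hx
    let act : H → W → W := fun k => Quotient.map' (fun x : ↥Q => (⟨(k : G) * x * (k : G)⁻¹, hHQ k x x.2⟩ : ↥Q))
      (fun x y hxy => by
        rw [QuotientGroup.leftRel_apply, Subgroup.mem_subgroupOf] at hxy ⊢
        have := hHZ k _ hxy
        simp only [Subgroup.coe_mul, Subgroup.coe_inv] at this ⊢
        rw [show ((k : G) * x * (k : G)⁻¹)⁻¹ * ((k : G) * y * (k : G)⁻¹) = (k : G) * ((x : G)⁻¹ * y) * (k : G)⁻¹ by group]
        exact this)
    letI : MulAction H W :=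
      { smul := act
        one_smul := fun w => by
          induction w using QuotientGroup.induction_on with
          | H x => exact congrArg (Quotient.mk'') (Subtype.ext (by simp))
        mul_smul := fun k k' w => by
          induction w using QuotientGroup.induction_on with
          | H x => exact congrArg (Quotient.mk'') (Subtype.ext (by
              simp only [Subgroup.coe_mul, mul_inv_rev, mul_assoc])) }
    have hfree : ∀ w : W, w ≠ 1 → MulAction.stabilizer H w = ⊥ := by
      intro w hw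
      rw [eq_bot_iff]
      intro k hk
      rw [Subgroup.mem_bot]
      by_contra hk1
      -- a nontrivial subgroup of a cyclic group of prime power order contains `g`
      have hgk : g ∈ Subgroup.zpowers (k : G) := by
        obtain ⟨i, hi, hik⟩ := (IsOfFinOrder.mem_zpowers_iff_mem_range_orderOf (isOfFinOrder_of_finite h)).1 k.2 |> Finset.mem_image.1
        have hle : Subgroup.zpowers (k : G) ≤ H := Subgroup.zpowers_le.2 k.2
        have hdvd : orderOf (k : G) ∣ ℓ ^ (a + 1) := hh ▸ (by rw [← hik]; exact orderOf_pow_dvd i)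
        obtain ⟨b, hb, hbo⟩ := (Nat.dvd_prime_pow hℓ).1 hdvd
        have hb1 : 1 ≤ b := by
          by_contra hb0
          have : orderOf (k : G) = 1 := by rw [hbo, show b = 0 by omega, pow_zero]
          exact hk1 (Subtype.ext (orderOf_eq_one_iff.1 this))
        set y := (k : G) ^ ℓ ^ (b - 1)
        have hyo : orderOf y = ℓ := by
          rw [orderOf_pow' _ (pow_ne_zero _ hℓ.ne_zero), hbo, Nat.gcd_eq_right (pow_dvd_pow ℓ (Nat.sub_le b 1)),
            Nat.pow_div (Nat.sub_le b 1) hℓ.pos, show b - (b - 1) = 1 by omega, pow_one]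
        have hcard2 : Nat.card (Subgroup.zpowers y) = Nat.card (Subgroup.zpowers g) := by
          rw [Nat.card_zpowers, Nat.card_zpowers, hyo, hgo]
        obtain ⟨j, -, hj⟩ := (IsOfFinOrder.mem_zpowers_iff_mem_range_orderOf (isOfFinOrder_of_finite h)).1
          (hle (Subgroup.pow_mem _ (Subgroup.mem_zpowers _) _) : y ∈ H) |> Finset.mem_image.1
        have hyg : y ∈ Subgroup.zpowers g := by
          have h1 : y ^ ℓ = 1 := hyo ▸ pow_orderOf_eq_one y
          rw [← hj, ← pow_mul, ← orderOf_dvd_iff_pow_eq_one, hh, pow_succ] at h1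
          obtain ⟨j', hj'⟩ := Nat.dvd_of_mul_dvd_mul_right hℓ.pos h1
          rw [← hj, hj', pow_mul]
          exact Subgroup.pow_mem _ (Subgroup.mem_zpowers g) _
        have e : Subgroup.zpowers y = Subgroup.zpowers g :=
          Subgroup.eq_of_le_of_card_ge (Subgroup.zpowers_le.2 hyg) hcard2.ge
        obtain ⟨n, hn'⟩ : g ∈ Subgroup.zpowers y := e ▸ Subgroup.mem_zpowers _
        exact hn' ▸ Subgroup.zpow_mem _ (Subgroup.pow_mem _ (Subgroup.mem_zpowers _) _) n
      obtain ⟨n, hn⟩ := hgk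
      have hgw : (⟨g, Subgroup.pow_mem _ (Subgroup.mem_zpowers h) _⟩ : H) ∈ MulAction.stabilizer H w := by
        have := (MulAction.stabilizer H w).zpow_mem hk n
        convert this using 1
        exact Subtype.ext hn.symm
      apply hw
      induction w using QuotientGroup.induction_on with
      | H x =>
        have h1 := MulAction.mem_stabilizer_iff.1 hgw
        change ((⟨g * x * g⁻¹, _⟩ : ↥Q) : W) = (x : W) at h1
        have h3 := hfpf x x.2 ((hmod x ⟨g * x * g⁻¹, _⟩).1 h1.symm)
        rw [QuotientGroup.eq_one_iff, Subgroup.mem_subgroupOf]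
        exact h3
    have hHcard : Nat.card H = ℓ ^ (a + 1) := by rw [Nat.card_zpowers, hh]
    have h0 : ∀ k : H, k • (1 : W) = 1 := fun k => congrArg Quotient.mk'' (Subtype.ext (by simp))
    letI : MulAction H {w : W // w ≠ 1} :=
      { smul := fun k w => ⟨k • (w : W), fun e => w.2 (MulAction.injective k (e.trans (h0 k).symm))⟩
        one_smul := fun w => Subtype.ext (one_smul H (w : W))
        mul_smul := fun a b w => Subtype.ext (mul_smul a b (w : W)) }
    have hs : ∀ w : {w : W // w ≠ 1}, MulAction.stabilizer H w = ⊥ := fun w => eq_bot_iff.2 fun k hk => by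
      rw [← hfree _ w.2]
      exact congrArg Subtype.val hk
    have e1 : Nat.card {w : W // w ≠ 1} = Nat.card W - 1 := by
      rw [Nat.card_eq_fintype_card, Nat.card_eq_fintype_card, Fintype.card_subtype_compl, Fintype.card_subtype_eq]
    rw [← e1, ← hHcard, Nat.card_congr (MulAction.selfEquivSigmaOrbits H {w : W // w ≠ 1})]
    haveI : Fintype (Quotient (MulAction.orbitRel H {w : W // w ≠ 1})) := Fintype.ofFinite _
    rw [Nat.card_sigma]
    refine Finset.dvd_sum fun o _ => ?_
    have h4 := MulAction.index_stabilizer H o.out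
    rw [hs, Subgroup.index_bot, ← Nat.card_coe_set_eq] at h4
    exact (dvd_of_eq h4)
  -- arithmetic
  obtain ⟨M', hM'⟩ : ∃ k, Nat.card W = r ^ k := by
    have : IsPGroup r W := hQp.to_quotient _
    exact this.exists_card_eq
  have hW1 : 1 < Nat.card W := by
    obtain ⟨x, hx, hxn⟩ := hQnc
    refine (Finite.one_lt_card_iff_nontrivial).2 ⟨⟨((⟨x, hx⟩ : ↥Q) : W), 1, fun e => hxn ?_⟩⟩
    rw [QuotientGroup.eq_one_iff, Subgroup.mem_subgroupOf] at e
    exact (hZmem.1 e).2
  have hm2 : m * m ≤ d * d := by rw [← hm, ← sq]; exact hWd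
  have hmd : m ≤ d := Nat.mul_self_le_mul_self_iff.1 hm2
  have hm1 : 1 < m := by
    by_contra hle
    have : m = 0 ∨ m = 1 := by omega
    rcases this with rfl | rfl <;> omega
  have hℓdvd : ℓ ∣ (m + 1) * (m - 1) := by
    have h5 : ℓ ∣ Nat.card W - 1 := (dvd_pow_self ℓ (Nat.succ_ne_zero a)).trans hgact
    rw [hm] at h5
    rwa [show (m + 1) * (m - 1) = m * m - 1 by rw [← sq, ← Nat.sq_sub_sq m 1, one_pow]]
  have hℓm : ℓ = m + 1 ∧ m = d := by
    rcases hℓ.dvd_mul.1 hℓdvd with h6 | h6
    · have := Nat.le_of_dvd (by omega) h6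
      omega
    · have := Nat.le_of_dvd (by omega) h6
      omega
  suffices hr2 : r = 2 by
    refine ⟨hr2, by omega, by rw [sq, ← hℓm.2, ← hm]; exact hgact, ?_⟩
    obtain ⟨k, -, hk⟩ := (Nat.dvd_prime_pow hr).1 (hM' ▸ hm ▸ dvd_mul_right m m : m ∣ r ^ M')
    exact ⟨k, by rw [← hℓm.2, hk, hr2]⟩
  have hℓodd : Odd ℓ := hℓ.odd_of_ne_two (by omega)
  have hmeven : 2 ∣ Nat.card W := by
    rw [hm]
    exact Dvd.dvd.mul_right (Nat.Odd.sub_odd hℓodd odd_one |> fun he => by rw [hℓm.1, Nat.add_sub_cancel] at he; exact even_iff_two_dvd.1 he) m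
  rw [hM'] at hmeven
  exact ((Nat.prime_dvd_prime_iff_eq Nat.prime_two hr).1 (Nat.prime_two.dvd_of_dvd_pow hmeven)).symm

end Cfsg.Agent.H88
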