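/-
Solvable transitive linear groups of dimension at least three.
-/
import Cfsg.Agent.H88.NBase
import Cfsg.Agent.H88.NHall
import Cfsg.Agent.Arith.LargePrimDiv
set_option autoImplicit false
set_option maxHeartbeats 1000000

open Cfsg

namespace Cfsg.Agent.H88

variable {q : ℕ} [Fact q.Prime] {V : Type*} [AddCommGroup V] [Module (ZMod q) V] [Finite V] [Nontrivial V]
  {G : Type*} [Group G] [Finite G] {ρ : G →* (V ≃ₗ[ZMod q] V)}

/-- One primitive element of prime power order: semilinear or the Fermat configuration. -/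
theorem semilinear_or_hall (hsol : Group.IsSolvable G) (hρ : Function.Injective ρ)
    (htrans : ∀ v w : V, v ≠ 0 → w ≠ 0 → ∃ g : G, ρ g v = w) {ℓ : ℕ} (hℓ : ℓ.Prime) (hℓq : ℓ ≠ q)
    (hprim : ∀ k, 0 < k → k < Module.finrank (ZMod q) V → ¬ ℓ ∣ q ^ k - 1)
    (hbig : Module.finrank (ZMod q) V < ℓ) (hd : 2 ≤ Module.finrank (ZMod q) V)
    {h : G} {a : ℕ} (hh : orderOf h = ℓ ^ (a + 1)) :
    Semilinear ρ ∨ (q ≠ 2 ∧ ℓ = Module.finrank (ZMod q) V + 1 ∧
      ℓ ^ (a + 1) ∣ Module.finrank (ZMod q) V ^ 2 - 1 ∧ ∃ k, Module.finrank (ZMod q) V = 2 ^ k) := by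
  classical
  haveI := hsol
  set g := h ^ ℓ ^ a with hg
  have hgo : orderOf g = ℓ := by
    rw [hg, orderOf_pow' h (pow_ne_zero a hℓ.ne_zero), hh, Nat.gcd_eq_right ⟨ℓ, by ring⟩, pow_succ,
      Nat.mul_div_cancel_left _ (pow_pos hℓ.pos a)]
  obtain ⟨hfl, hcard⟩ := primitive_fieldLike hρ hℓ hℓq hprim hgo
  have hgc : ∀ x ∈ ({g} : Set G), ∀ y ∈ ({g} : Set G), x * y = y * x := by rintro a rfl b rfl; rfl
  by_cases hall : ∀ r : Nat.Primes, pCore (r : ℕ) G ≤ Subgroup.centralizer ({g} : Set G)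
  · -- `g` centralises the Fitting subgroup
    left
    have hF : fittingSubgroup G ≤ Subgroup.centralizer ({g} : Set G) := by
      rw [Cores.iSup_pCore_eq_fittingSubgroup]
      exact iSup_le hall
    have hgF : g ∈ fittingSubgroup G := Cores.centralizer_fittingSubgroup_le
      (Subgroup.mem_centralizer_iff.2 fun x hx => (Subgroup.mem_centralizer_singleton_iff.1 (hF hx)))
    refine semilinear_of_le hgc hfl hcard (B := (fittingSubgroup G : Set G)) (fun x hx => ?_) ?_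
      (fun y x hx => (inferInstance : (fittingSubgroup G).Normal).conj_mem x hx y) hρ
    · refine hfl.mem_of_commute (fun r hr s hs => spanAlg_comm hgc hr hs) hcard fun s hs => commute_spanAlg ?_ hs
      rintro y rfl
      show (ρ x : Module.End (ZMod q) V) * (ρ g : Module.End (ZMod q) V) = _
      rw [← rho_mul, Subgroup.mem_centralizer_singleton_iff.1 (hF hx), rho_mul]
    · rintro x rfl
      exact mem_spanAlg hgF
  push Not at hall
  obtain ⟨r, hr⟩ := hall
  obtain ⟨x, hx, hxg⟩ := SetLike.not_le_iff_exists.1 hr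
  haveI : Fact (r : ℕ).Prime := ⟨r.2⟩
  set P := pCore (r : ℕ) G with hP
  have hPp : IsPGroup (r : ℕ) P := Cores.pCore_isPGroup
  have hrq : (r : ℕ) ≠ q := by
    intro e
    have hPb : P = ⊥ := by rw [hP, e]; exact pCore_eq_bot_of_transitive hρ htrans
    rw [hPb, Subgroup.mem_bot] at hx
    exact hxg (hx ▸ Subgroup.one_mem _)
  by_cases hrℓ : (r : ℕ) = ℓ
  · -- a central element of `O_ℓ` is primitive
    left
    haveI : Nontrivial P := by
      refine ⟨⟨⟨x, hx⟩, 1, fun e => hxg ?_⟩⟩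
      rw [show x = 1 from congrArg Subtype.val e]
      exact Subgroup.one_mem _
    haveI := hPp.center_nontrivial
    obtain ⟨n, hn, hcn⟩ := (IsPGroup.nontrivial_iff_card (hPp.to_subgroup (Subgroup.center P))).1 inferInstance
    obtain ⟨z, hz⟩ := exists_prime_orderOf_dvd_card' (G := Subgroup.center P) (r : ℕ)
      (hcn ▸ dvd_pow_self _ hn.ne')
    set z' : G := ((z : P) : G)
    have hzo : orderOf z' = ℓ := by rw [← hrℓ, ← hz, Subgroup.orderOf_coe, Subgroup.orderOf_coe]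
    obtain ⟨hfl', hcard'⟩ := primitive_fieldLike hρ hℓ hℓq hprim hzo
    have hzc : ∀ x ∈ ({z'} : Set G), ∀ y ∈ ({z'} : Set G), x * y = y * x := by rintro a rfl b rfl; rfl
    refine semilinear_of_le hzc hfl' hcard' (B := (P : Set G)) (fun y hy => ?_) ?_
      (fun u y hy => (inferInstance : P.Normal).conj_mem y hy u) hρ
    · refine hfl'.mem_of_commute (fun r hr s hs => spanAlg_comm hzc hr hs) hcard' fun s hs => commute_spanAlg ?_ hs
      rintro _ rfl
      show (ρ y : Module.End (ZMod q) V) * (ρ z' : Module.End (ZMod q) V) = _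
      rw [← rho_mul, show y * z' = z' * y from congrArg Subtype.val (Subgroup.mem_center_iff.1 z.2 ⟨y, hy⟩), rho_mul]
    · rintro u rfl
      exact mem_spanAlg (z : P).2
  right
  obtain ⟨hr2, h1, h2, h3⟩ := hall_higman hρ hℓ hℓq hprim hbig hd hh hrℓ hrq P hPp
    (fun y hy => (inferInstance : P.Normal).conj_mem y hy h)
    ⟨x, hx, fun e => hxg (Subgroup.mem_centralizer_singleton_iff.2 e.symm)⟩
  exact ⟨fun e => hrq (hr2.trans e.symm), h1, h2, h3⟩

/-- A subgroup of the unit group of a field of order `q^d` has an element of order `ℓ²`. -/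
lemma exists_orderOf_sq (hρ : Function.Injective ρ) {ℓ : ℕ} (hℓ : ℓ.Prime) (hℓq : ℓ ≠ q)
    (hprim : ∀ k, 0 < k → k < Module.finrank (ZMod q) V → ¬ ℓ ∣ q ^ k - 1) (h2 : ℓ ^ 2 ∣ Nat.card G) :
    ∃ h : G, orderOf h = ℓ ^ 2 := by
  haveI : Fact ℓ.Prime := ⟨hℓ⟩
  obtain ⟨S, hS⟩ := Sylow.exists_subgroup_card_pow_prime ℓ h2
  have hSp : IsPGroup ℓ S := IsPGroup.of_card hS
  haveI : Nontrivial S := (IsPGroup.nontrivial_iff_card hSp).2 ⟨2, by norm_num, hS⟩
  haveI := hSp.center_nontrivial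
  obtain ⟨n, hn, hcn⟩ := (IsPGroup.nontrivial_iff_card (hSp.to_subgroup (Subgroup.center S))).1 inferInstance
  obtain ⟨z, hz⟩ := exists_prime_orderOf_dvd_card' (G := Subgroup.center S) ℓ (hcn ▸ dvd_pow_self _ hn.ne')
  set z' : G := ((z : S) : G)
  have hzo : orderOf z' = ℓ := by rw [← hz, Subgroup.orderOf_coe, Subgroup.orderOf_coe]
  obtain ⟨hfl, hcard⟩ := primitive_fieldLike hρ hℓ hℓq hprim hzo
  have hzc : ∀ x ∈ ({z'} : Set G), ∀ y ∈ ({z'} : Set G), x * y = y * x := by rintro a rfl b rfl; rfl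
  haveI : IsCyclic S := by
    refine isCyclic_of_le hρ hzc hfl S fun y hy => ?_
    refine hfl.mem_of_commute (fun r hr s hs => spanAlg_comm hzc hr hs) hcard fun s hs => commute_spanAlg ?_ hs
    rintro _ rfl
    show (ρ y : Module.End (ZMod q) V) * (ρ z' : Module.End (ZMod q) V) = _
    rw [← rho_mul, show y * z' = z' * y from congrArg Subtype.val (Subgroup.mem_center_iff.1 z.2 ⟨y, hy⟩), rho_mul]
  obtain ⟨u, hu⟩ := IsCyclic.exists_ofOrder_eq_natCard (α := S)
  exact ⟨u, by rw [Subgroup.orderOf_coe, hu, hS]⟩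

/-- Dimension at least three, a primitive prime divisor existing. -/
theorem semilinear_or_eighty_one (hsol : Group.IsSolvable G) (hρ : Function.Injective ρ)
    (htrans : ∀ v w : V, v ≠ 0 → w ≠ 0 → ∃ g : G, ρ g v = w) (hd : 3 ≤ Module.finrank (ZMod q) V)
    (h6 : ¬ (q = 2 ∧ Module.finrank (ZMod q) V = 6)) :
    Semilinear ρ ∨ Nat.card V = 81 := by
  classical
  have hq : q.Prime := Fact.out
  set d := Module.finrank (ZMod q) V with hdd
  refine or_iff_not_imp_left.2 fun hns => ?_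
  have hdvd : q ^ d - 1 ∣ Nat.card G := by
    have := card_sub_one_dvd htrans
    rwa [Module.natCard_eq_pow_finrank (K := ZMod q), Nat.card_zmod] at this
  -- every primitive prime is `d + 1`, to the first power
  have key : ∀ ℓ, Arith.IsPPD ℓ q d → q ≠ 2 ∧ ℓ = d + 1 ∧ (∃ k, d = 2 ^ k) ∧ ¬ ℓ ^ 2 ∣ q ^ d - 1 := by
    intro ℓ hl
    obtain ⟨hℓ, hℓd, hprim⟩ := hl
    haveI : Fact ℓ.Prime := ⟨hℓ⟩
    have hℓq : ℓ ≠ q := by
      rintro rfl
      have h1 : ℓ ∣ ℓ ^ d := dvd_pow_self ℓ (by omega)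
      have := Nat.dvd_sub h1 hℓd
      rw [show ℓ ^ d - (ℓ ^ d - 1) = 1 by have := Nat.one_le_pow d ℓ hℓ.pos; omega] at this
      exact hℓ.not_dvd_one this
    have hbig : d < ℓ := by
      have h0 : (q : ZMod ℓ) ≠ 0 := Arith.ne_zero_of_dvd_pow_sub_one hℓ hq.one_le (by omega) hℓd
      have h1 : orderOf (q : ZMod ℓ) = d := by
        refine le_antisymm (Nat.le_of_dvd (by omega) ((Arith.dvd_pow_sub_one_iff hq.one_le).1 hℓd))
          (not_lt.1 fun hlt => ?_)
        exact hprim _ (orderOf_pos_iff.2 (isOfFinOrder_iff_pow_eq_one.2 ⟨ℓ - 1, by have := hℓ.two_le; omega,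
          ZMod.pow_card_sub_one_eq_one h0⟩)) hlt ((Arith.dvd_pow_sub_one_iff hq.one_le).2 dvd_rfl)
      have h2 := orderOf_dvd_of_pow_eq_one (ZMod.pow_card_sub_one_eq_one h0)
      rw [h1] at h2
      have := Nat.le_of_dvd (by have := hℓ.two_le; omega) h2
      omega
    obtain ⟨g, hg⟩ := exists_prime_orderOf_dvd_card' (G := G) ℓ (hℓd.trans hdvd)
    obtain h | ⟨hq2, hld, -, hk⟩ := semilinear_or_hall hsol hρ htrans hℓ hℓq hprim hbig (by omega)
      (h := g) (a := 0) (by rw [hg, zero_add, pow_one])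
    · exact absurd h hns
    refine ⟨hq2, hld, hk, fun h2 => ?_⟩
    obtain ⟨u, hu⟩ := exists_orderOf_sq hρ hℓ hℓq hprim (h2.trans hdvd)
    obtain h | ⟨-, -, h4, -⟩ := semilinear_or_hall hsol hρ htrans hℓ hℓq hprim hbig (by omega)
      (h := u) (a := 1) hu
    · exact absurd h hns
    -- `ℓ²` does not divide `(ℓ-1)²-1`
    rw [← hdd, show d ^ 2 - 1 = (d + 1) * (d - 1) by simpa using Nat.sq_sub_sq d 1, hld,
      show (1 : ℕ) + 1 = 2 from rfl, sq] at h4
    have := Nat.le_of_dvd (by omega) (Nat.dvd_of_mul_dvd_mul_left (by omega) h4)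
    omega
  obtain ⟨ℓ, hℓ⟩ := Arith.exists_isPPD (a := q) (n := d) hq.one_lt (by omega) h6 (fun h => by omega)
  obtain ⟨hq2, -, ⟨k, hk⟩, -⟩ := key ℓ hℓ
  obtain ⟨e, rfl⟩ : ∃ e, k = e + 2 := ⟨k - 2, by
    rcases k with _ | _ | k
    · rw [pow_zero] at hk; omega
    · rw [pow_one] at hk; omega
    · omega⟩
  set m := 2 ^ (e + 1) with hm
  have hdm : d = 2 * m := by rw [hk, hm, ← pow_succ']
  -- every odd prime divisor of `q^m+1` is `d+1`
  have hodd : Odd q := hq.odd_of_ne_two hq2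
  have hq8 : ∃ t, q ^ m = 2 * (2 * t) + 1 := by
    obtain ⟨u, hu⟩ := hodd.pow (n := 2 ^ e)
    refine ⟨u * u + u, ?_⟩
    rw [hm, pow_succ, pow_mul, hu]
    ring
  obtain ⟨t, ht⟩ := hq8
  set n := 2 * t + 1
  have hn : 2 * n = q ^ m + 1 := by omega
  have hsplit : q ^ d - 1 = (q ^ m + 1) * (q ^ m - 1) := by
    rw [hdm, mul_comm 2, pow_mul]
    simpa using Nat.sq_sub_sq (q ^ m) 1
  have hprimes : ∀ p, p.Prime → p ∣ n → Arith.IsPPD p q d := by
    intro p hp hpn
    have hp1 : p ∣ q ^ m + 1 := hn ▸ hpn.mul_left 2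
    refine ⟨hp, hsplit ▸ hp1.mul_right _, fun i hi hid hdiv => ?_⟩
    have ho := (Arith.dvd_pow_sub_one_iff hq.one_le).1 hdiv
    have hd' := (Arith.dvd_pow_sub_one_iff hq.one_le).1 (hsplit ▸ hp1.mul_right _ : p ∣ q ^ d - 1)
    obtain ⟨j, hj, hjo⟩ := (Nat.dvd_prime_pow Nat.prime_two).1 (hk ▸ hd')
    have hjk : j ≠ e + 1 + 1 := by
      rintro rfl
      rw [hjo, ← hk] at ho
      exact absurd (Nat.le_of_dvd hi ho) (by omega)
    have hpm : p ∣ q ^ m - 1 := (Arith.dvd_pow_sub_one_iff hq.one_le).2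
      (by rw [hjo, hm]; exact pow_dvd_pow 2 (by omega))
    have h2 := Nat.dvd_sub hp1 hpm
    rw [show q ^ m + 1 - (q ^ m - 1) = 2 by have := Nat.one_le_pow m q hq.pos; omega] at h2
    rw [(Nat.prime_dvd_prime_iff_eq hp Nat.prime_two).1 h2] at hpn
    omega
  have hn0 : n ≠ 0 := by omega
  obtain ⟨j, hj⟩ : ∃ j, n = (d + 1) ^ j :=
    ⟨_, Nat.eq_prime_pow_of_unique_prime_dvd hn0 fun {p} hp hpn => (key p (hprimes p hp hpn)).2.1⟩
  have hm2 : 2 ≤ m := Nat.le_self_pow (by omega) 2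
  have hj1 : j = 1 := by
    rcases j with _ | _ | j
    · exfalso
      rw [pow_zero] at hj
      have : q ^ 1 ≤ q ^ m := Nat.pow_le_pow_right hq.pos (by omega)
      rw [pow_one] at this
      have := hq.two_le
      omega
    · rfl
    · exfalso
      have hp : (d + 1).Prime := by
        obtain ⟨p, hp, hpn⟩ := Nat.exists_prime_and_dvd (n := n) (by
          rw [hj]
          exact (Nat.one_lt_pow (by omega) (by omega)).ne')
        rw [← (key p (hprimes p hp hpn)).2.1]; exact hp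
      refine (key (d + 1) (hprimes _ hp (hj ▸ dvd_pow_self _ (by omega)))).2.2.2 ?_
      refine (pow_dvd_pow (d + 1) (show 2 ≤ j + 1 + 1 by omega)).trans ?_
      rw [← hj, hsplit, ← hn]
      exact (dvd_mul_left n 2).mul_right _
  rw [hj1, pow_one] at hj
  -- `q^m = 4m+1`
  have heq : q ^ m = 4 * m + 1 := by omega
  have hq3 : 3 ≤ q := by have := hq.two_le; omega
  have hm' : m = 2 := by
    by_contra hne
    have hgrow : ∀ i, 3 ≤ i → 4 * i + 1 < 3 ^ i := by
      intro i hi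
      induction i, hi using Nat.le_induction with
      | base => norm_num
      | succ i _ ih => rw [pow_succ]; omega
    have := (hgrow m (by omega)).trans_le (Nat.pow_le_pow_left hq3 m)
    omega
  rw [Module.natCard_eq_pow_finrank (K := ZMod q), Nat.card_zmod, ← hdd, hdm, hm', pow_mul]
  rw [hm'] at heq
  rw [heq]
  norm_num

end Cfsg.Agent.H88
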