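/-
Solvable transitive linear groups: the exception of Zsigmondy, sixty-four vectors.
-/
import Cfsg.Agent.H88.NBase
set_option autoImplicit false
set_option maxHeartbeats 1000000

open Cfsg

namespace Cfsg.Agent.H88

variable {q : ℕ} [Fact q.Prime] {V : Type*} [AddCommGroup V] [Module (ZMod q) V] [Finite V] [Nontrivial V]
  {G : Type*} [Group G] [Finite G] {ρ : G →* (V ≃ₗ[ZMod q] V)}

theorem semilinear_six (hsol : Group.IsSolvable G) (hρ : Function.Injective ρ)
    (htrans : ∀ v w : V, v ≠ 0 → w ≠ 0 → ∃ g : G, ρ g v = w) (hq2 : q = 2)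
    (hd : Module.finrank (ZMod q) V = 6) : Semilinear ρ := by
  classical
  subst hq2
  haveI := hsol
  haveI : Fact (Nat.Prime 7) := ⟨by norm_num⟩
  haveI := finite_end (q := 2) (V := V)
  have hV : Nat.card V = 64 := by
    rw [Module.natCard_eq_pow_finrank (K := ZMod 2), Nat.card_zmod, hd]
    norm_num
  have h63 : 63 ∣ Nat.card G := by
    have := card_sub_one_dvd htrans
    rwa [hV] at this
  -- the order divides that of `GL(6,2)`
  have hGL : Nat.card G ∣ 20158709760 := by
    let b := Module.finBasisOfFinrankEq (ZMod 2) V hd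
    let e : (V ≃ₗ[ZMod 2] V) ≃* GL (Fin 6) (ZMod 2) :=
      (LinearMap.GeneralLinearGroup.generalLinearEquiv (ZMod 2) V).symm.trans
        (Units.mapEquiv (algEquivMatrix b).toMulEquiv)
    have h1 := Subgroup.card_dvd_of_injective (e.toMonoidHom.comp ρ) (e.injective.comp hρ)
    rw [Matrix.card_GL_field, Fin.prod_univ_six, ZMod.card] at h1
    simpa using h1
  obtain ⟨g, hg⟩ := exists_prime_orderOf_dvd_card' (G := G) 7 (dvd_trans (by norm_num) h63)
  -- `g` centralises the cores of other primes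
  have hcent : ∀ r : Nat.Primes, (r : ℕ) ≠ 7 → pCore (r : ℕ) G ≤ Subgroup.centralizer ({g} : Set G) := by
    intro r hr7
    haveI : Fact (r : ℕ).Prime := ⟨r.2⟩
    rcases eq_or_ne (r : ℕ) 2 with hr2 | hr2
    · rw [hr2, pCore_eq_bot_of_transitive hρ htrans]
      exact bot_le
    set P := pCore (r : ℕ) G with hP
    have hPp : IsPGroup (r : ℕ) P := Cores.pCore_isPGroup
    obtain ⟨m, hm⟩ := IsPGroup.iff_card.1 hPp
    set C : Subgroup G := P ⊓ Subgroup.centralizer ({g} : Set G)
    obtain ⟨c, hc⟩ := IsPGroup.iff_card.1 (hPp.to_le (inf_le_left : C ≤ P))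
    have hcm : c ≤ m := (Nat.pow_le_pow_iff_right r.2.one_lt).1
      (hc ▸ hm ▸ Subgroup.card_le_of_le (inf_le_left : C ≤ P))
    suffices hmc : m = c by
      have hCP : C = P := Subgroup.eq_of_le_of_card_ge inf_le_left (by rw [hm, hc, hmc])
      exact hCP ▸ inf_le_right
    by_contra hne
    -- fixed points of conjugation by `g`
    let H := Subgroup.zpowers g
    letI : MulAction H P :=
      { smul := fun k x => ⟨(k : G) * x * (k : G)⁻¹, (inferInstance : P.Normal).conj_mem x x.2 k⟩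
        one_smul := fun x => Subtype.ext (by show (1 : G) * (x : G) * (1 : G)⁻¹ = x; group)
        mul_smul := fun k l x => Subtype.ext (by
          show ((k : G) * l) * (x : G) * ((k : G) * l)⁻¹ = k * (l * x * (l : G)⁻¹) * (k : G)⁻¹
          group) }
    have hH : IsPGroup 7 H := IsPGroup.of_card (n := 1) (by rw [Nat.card_zpowers, hg, pow_one])
    have h1 := hH.card_modEq_card_fixedPoints P
    have h2 : Nat.card (MulAction.fixedPoints H P) = Nat.card C := by
      refine Nat.card_congr ⟨fun x => ⟨(x : P), (x : P).2, ?_⟩, fun x => ⟨⟨x, x.2.1⟩, fun k => ?_⟩,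
        fun x => rfl, fun x => rfl⟩
      · have := congrArg Subtype.val (x.2 ⟨g, Subgroup.mem_zpowers g⟩)
        exact Subgroup.mem_centralizer_singleton_iff.2 (mul_inv_eq_iff_eq_mul.1 this).symm
      · obtain ⟨i, hi⟩ := k.2
        have hcx : Commute g (x : G) := (Subgroup.mem_centralizer_singleton_iff.1 x.2.2).symm
        refine Subtype.ext ?_
        show (k : G) * (x : G) * (k : G)⁻¹ = x
        rw [← show g ^ i = (k : G) from hi, (hcx.zpow_left i).eq, mul_inv_cancel_right]
    rw [h2, hm, hc] at h1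
    have h3 : (r : ℕ) ^ (m - c) % 7 = 1 := by
      have h4 : (r : ℕ) ^ c * (r : ℕ) ^ (m - c) ≡ (r : ℕ) ^ c * 1 [MOD 7] := by
        rw [← pow_add, Nat.add_sub_cancel' hcm, mul_one]
        exact h1
      exact Nat.ModEq.cancel_left_of_coprime
        ((Nat.coprime_primes (by norm_num) r.2).2 (Ne.symm hr7) |>.pow_right c) h4
    have hPdvd : (r : ℕ) ^ m ∣ 20158709760 := hm ▸ (Subgroup.card_subgroup_dvd_card P).trans hGL
    have hrdvd : (r : ℕ) ∣ 2 ^ 15 * 3 ^ 4 * 5 * 7 ^ 2 * 31 := by
      norm_num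
      exact (dvd_pow_self _ (by omega)).trans hPdvd
    have hr' : (r : ℕ) = 3 ∨ (r : ℕ) = 5 ∨ (r : ℕ) = 31 := by
      have hp := r.2
      rcases hp.dvd_mul.1 hrdvd with h | h
      rcases hp.dvd_mul.1 h with h | h
      rcases hp.dvd_mul.1 h with h | h
      rcases hp.dvd_mul.1 h with h | h
      · exact absurd ((Nat.prime_dvd_prime_iff_eq hp Nat.prime_two).1 (hp.dvd_of_dvd_pow h)) hr2
      · exact Or.inl ((Nat.prime_dvd_prime_iff_eq hp Nat.prime_three).1 (hp.dvd_of_dvd_pow h))
      · exact Or.inr (Or.inl ((Nat.prime_dvd_prime_iff_eq hp (by norm_num)).1 h))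
      · exact absurd ((Nat.prime_dvd_prime_iff_eq hp (by norm_num)).1 (hp.dvd_of_dvd_pow h)) hr7
      · exact Or.inr (Or.inr ((Nat.prime_dvd_prime_iff_eq hp (by norm_num)).1 h))
    rcases hr' with e | e | e <;> rw [e] at h3 hPdvd
    · have : m < 5 := by
        by_contra h
        exact absurd ((pow_dvd_pow 3 (not_lt.1 h)).trans hPdvd) (by norm_num)
      obtain ⟨i, hi, hi0, hi4⟩ : ∃ i, i = m - c ∧ 0 < i ∧ i ≤ 4 := ⟨_, rfl, by omega, by omega⟩
      rw [← hi] at h3
      interval_cases i <;> norm_num at h3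
    · have : m < 2 := by
        by_contra h
        exact absurd ((pow_dvd_pow 5 (not_lt.1 h)).trans hPdvd) (by norm_num)
      rw [show m - c = 1 by omega] at h3
      norm_num at h3
    · have : m < 2 := by
        by_contra h
        exact absurd ((pow_dvd_pow 31 (not_lt.1 h)).trans hPdvd) (by norm_num)
      rw [show m - c = 1 by omega] at h3
      norm_num at h3
  set O := pCore 7 G with hO
  have hOp : IsPGroup 7 O := Cores.pCore_isPGroup
  have hOne : O ≠ ⊥ := by
    intro hO'
    have hF : fittingSubgroup G ≤ Subgroup.centralizer ({g} : Set G) := by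
      rw [Cores.iSup_pCore_eq_fittingSubgroup]
      refine iSup_le fun r => ?_
      by_cases hr7 : (r : ℕ) = 7
      · rw [hr7, ← hO, hO']
        exact bot_le
      · exact hcent r hr7
    have hgF : g ∈ fittingSubgroup G := Cores.centralizer_fittingSubgroup_le
      (Subgroup.mem_centralizer_iff.2 fun x hx => (Subgroup.mem_centralizer_singleton_iff.1 (hF hx)))
    rw [Cores.iSup_pCore_eq_fittingSubgroup] at hgF
    have h1 := Cores.iSup_pCore_le_sup (G := G) 7 hgF
    rw [← hO, hO', sup_bot_eq] at h1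
    have h2 := (Subgroup.orderOf_coe (⟨g, h1⟩ : pPrimeCore 7 G)) ▸ orderOf_dvd_natCard (⟨g, h1⟩ : pPrimeCore 7 G)
    rw [hg] at h2
    have h3 := Nat.Coprime.coprime_dvd_left h2 (Cores.coprime_card_pPrimeCore (p := 7) (G := G))
    norm_num at h3
  obtain ⟨n, hn⟩ := IsPGroup.iff_card.1 hOp
  have hn2 : n ≤ 2 := by
    by_contra h
    have h1 : 7 ^ n ∣ 20158709760 := hn ▸ (Subgroup.card_subgroup_dvd_card O).trans hGL
    exact absurd ((pow_dvd_pow 7 (show 3 ≤ n by omega)).trans h1) (by norm_num)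
  have hn0 : n ≠ 0 := fun e => hOne (Subgroup.card_eq_one.1 (by rw [hn, e, pow_zero]))
  have hOc : ∀ a ∈ O, ∀ b ∈ O, a * b = b * a := by
    intro a ha b hb
    rcases (show n = 1 ∨ n = 2 by omega) with rfl | rfl
    · haveI := isCyclic_of_prime_card (α := O) (p := 7) (by rw [hn, pow_one])
      exact congrArg Subtype.val ((IsCyclic.isMulCommutative (α := O)).is_comm.comm (⟨a, ha⟩ : O) ⟨b, hb⟩)
    · exact congrArg Subtype.val (IsPGroup.commutative_of_card_eq_prime_sq hn (⟨a, ha⟩ : O) ⟨b, hb⟩)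
  obtain ⟨y, hy⟩ := exists_prime_orderOf_dvd_card' (G := O) 7 (by rw [hn]; exact dvd_pow_self 7 hn0)
  have hyo : orderOf (y : G) = 7 := by rw [Subgroup.orderOf_coe, hy]
  -- size of spanned fields
  have hsize : ∀ (A : Set G), ∃ k, 0 < k ∧ Nat.card (spanAlg ρ A) = 2 ^ k := by
    intro A
    have h1 : Nat.card (spanAlg ρ A) = 2 ^ Module.finrank (ZMod 2) (spanAlg ρ A) := by
      rw [Module.natCard_eq_pow_finrank (K := ZMod 2), Nat.card_zmod]
    refine ⟨_, Nat.pos_of_ne_zero fun e => ?_, h1⟩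
    have h2 := le_card_spanAlg (q := 2) (ρ := ρ) A
    rw [h1, e] at h2
    norm_num at h2
  by_cases hall : ∀ r : Nat.Primes, (r : ℕ) ≠ 7 → pCore (r : ℕ) G = ⊥
  · -- the Fitting subgroup is `O`
    have hFO : fittingSubgroup G ≤ O := by
      rw [Cores.iSup_pCore_eq_fittingSubgroup]
      refine iSup_le fun r => ?_
      by_cases hr7 : (r : ℕ) = 7
      · rw [hr7]
      · rw [hall r hr7]; exact bot_le
    obtain ⟨k, hk0, hk⟩ := hsize (O : Set G)
    have hfl := fieldLike_normal_abelian hρ htrans O hOc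
    have h7 := orderOf_dvd_card_sub_one hρ hOc hfl y.2
    rw [hyo, hk] at h7
    have hk6 : k ≤ 6 := by
      refine (Nat.pow_le_pow_iff_right (le_refl 2)).1 ?_
      rw [← hk]
      exact hfl.card_le.trans (le_of_eq hV)
    rcases (show k = 6 ∨ k = 3 by interval_cases k <;> first | omega | norm_num at h7) with rfl | rfl
    · exact semilinear_normal_abelian hρ htrans O hOc (by rw [hk, hV]; norm_num)
    exfalso
    haveI : IsCyclic O := isCyclic_of_le hρ hOc hfl O fun t ht => mem_spanAlg ht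
    obtain ⟨u, hu⟩ := IsCyclic.exists_ofOrder_eq_natCard (α := O)
    have hO7 : Nat.card O = 7 := by
      have h1 := orderOf_dvd_card_sub_one hρ hOc hfl u.2
      rw [Subgroup.orderOf_coe, hu, hk, hn] at h1
      rcases (show n = 1 ∨ n = 2 by omega) with rfl | rfl
      · rw [hn]; norm_num
      · norm_num at h1
    set C := Subgroup.centralizer ({(u : G)} : Set G)
    have hzu : ∀ t ∈ O, t ∈ Subgroup.zpowers (u : G) := by
      intro t ht
      have e : Subgroup.zpowers u = ⊤ := Subgroup.eq_top_of_card_eq _ (by rw [Nat.card_zpowers, hu])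
      obtain ⟨i, hi⟩ : (⟨t, ht⟩ : O) ∈ Subgroup.zpowers u := e ▸ Subgroup.mem_top _
      exact ⟨i, congrArg Subtype.val hi⟩
    have hCO : C ≤ O := by
      intro z hz
      refine hFO (Cores.centralizer_fittingSubgroup_le (Subgroup.mem_centralizer_iff.2 fun t ht => ?_))
      obtain ⟨i, hi⟩ := hzu t (hFO ht)
      have hc : Commute (u : G) z := (Subgroup.mem_centralizer_singleton_iff.1 hz).symm
      rw [← show (u : G) ^ i = t from hi]
      exact (hc.zpow_left i).eq
    have hidx : C.index ≤ 7 := by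
      rw [← hO7, Subgroup.index]
      refine Nat.card_le_card_of_injective (fun w : G ⧸ C =>
        (⟨w.out * u * w.out⁻¹, (inferInstance : O.Normal).conj_mem u u.2 _⟩ : O)) fun w w' h => ?_
      have h' := congrArg Subtype.val h
      simp only at h'
      rw [← Quotient.out_eq w, ← Quotient.out_eq w']
      refine QuotientGroup.eq.2 (Subgroup.mem_centralizer_singleton_iff.2 ?_)
      calc w.out⁻¹ * w'.out * (u : G) = w.out⁻¹ * (w'.out * u * w'.out⁻¹) * w'.out := by group
        _ = w.out⁻¹ * (w.out * u * w.out⁻¹) * w'.out := by rw [h']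
        _ = (u : G) * (w.out⁻¹ * w'.out) := by group
    have hle : Nat.card G ≤ 49 := by
      rw [← C.card_mul_index]
      exact Nat.mul_le_mul (hO7 ▸ Subgroup.card_le_of_le hCO) hidx
    have := Nat.le_of_dvd Nat.card_pos h63
    omega
  push Not at hall
  obtain ⟨r, hr7, hrne⟩ := hall
  haveI : Fact (r : ℕ).Prime := ⟨r.2⟩
  have hr2 : (r : ℕ) ≠ 2 := fun e => hrne (by rw [e]; exact pCore_eq_bot_of_transitive hρ htrans)
  set P := pCore (r : ℕ) G with hP
  have hPp : IsPGroup (r : ℕ) P := Cores.pCore_isPGroup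
  haveI : Nontrivial P := (Subgroup.nontrivial_iff_ne_bot P).2 hrne
  haveI := hPp.center_nontrivial
  obtain ⟨j, hj, hcj⟩ := (IsPGroup.nontrivial_iff_card (hPp.to_subgroup (Subgroup.center P))).1 inferInstance
  obtain ⟨x, hx⟩ := exists_prime_orderOf_dvd_card' (G := Subgroup.center P) (r : ℕ) (hcj ▸ dvd_pow_self _ hj.ne')
  set Z : Subgroup G := (Subgroup.center P).map P.subtype with hZ
  haveI : Z.Normal := ConjAct.normal_of_characteristic_of_normal
  have hdisj : Disjoint P O := hPp.disjoint_of_ne _ _ hr7 _ _ hOp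
  have hPO : ∀ a ∈ P, ∀ b ∈ O, a * b = b * a := fun a ha b hb =>
    (Subgroup.commute_of_normal_of_disjoint P O inferInstance inferInstance hdisj a b ha hb).eq
  have hAc : ∀ a ∈ Z ⊔ O, ∀ b ∈ Z ⊔ O, a * b = b * a := by
    intro a ha b hb
    obtain ⟨a₁, ⟨a₀, ha₀, rfl⟩, a₂, ha₂, rfl⟩ := Subgroup.mem_sup_of_normal_right.1 ha
    obtain ⟨b₁, ⟨b₀, hb₀, rfl⟩, b₂, hb₂, rfl⟩ := Subgroup.mem_sup_of_normal_right.1 hb
    have e1 : Commute (a₀ : G) b₀ := congrArg Subtype.val (Subgroup.mem_center_iff.1 hb₀ a₀)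
    exact ((e1.mul_right (hPO _ a₀.2 _ hb₂)).mul_left
      ((Commute.symm (hPO _ b₀.2 _ ha₂)).mul_right (hOc _ ha₂ _ hb₂))).eq
  have hfl := fieldLike_normal_abelian hρ htrans (Z ⊔ O) hAc
  have hxo : orderOf (((x : P) : G)) = r := by rw [Subgroup.orderOf_coe, Subgroup.orderOf_coe, hx]
  have hmem : ((x : P) : G) * (y : G) ∈ Z ⊔ O :=
    Subgroup.mul_mem _ (Subgroup.mem_sup_left ⟨(x : P), x.2, rfl⟩) (Subgroup.mem_sup_right y.2)
  have hord := orderOf_dvd_card_sub_one hρ hAc hfl hmem
  have hxy : Commute ((x : P) : G) (y : G) := hPO _ (x : P).2 _ y.2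
  rw [hxy.orderOf_mul_eq_mul_orderOf_of_coprime
    (by rw [hxo, hyo]; exact (Nat.coprime_primes r.2 (by norm_num)).2 hr7), hxo, hyo] at hord
  obtain ⟨k, hk0, hk⟩ := hsize ((Z ⊔ O : Subgroup G) : Set G)
  rw [hk] at hord
  have hk6 : k ≤ 6 := by
    refine (Nat.pow_le_pow_iff_right (le_refl 2)).1 ?_
    rw [← hk]
    exact hfl.card_le.trans (le_of_eq hV)
  have h7 : 7 ∣ 2 ^ k - 1 := (dvd_mul_left 7 _).trans hord
  rcases (show k = 6 ∨ k = 3 by interval_cases k <;> first | omega | norm_num at h7) with rfl | rfl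
  · exact semilinear_normal_abelian hρ htrans _ hAc (by rw [hk, hV]; norm_num)
  exfalso
  norm_num at hord
  have h1 := Nat.le_of_dvd (by norm_num) hord
  have := r.2.two_le
  omega

end Cfsg.Agent.H88
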