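/-
Solvable transitive linear groups of dimension two: semilinear, or normalisers of a quaternion pair.
-/
import Cfsg.Agent.H88.NBase
set_option autoImplicit false
set_option maxHeartbeats 1000000

open Cfsg

namespace Cfsg.Agent.H88

open scoped commutatorElement

variable {q : ℕ} [Fact q.Prime] {V : Type*} [AddCommGroup V] [Module (ZMod q) V]
  {G : Type*} [Group G] {ρ : G →* (V ≃ₗ[ZMod q] V)}

/-- A pair of elements with commutator acting as `-1`. -/
structure AntiPair (ρ : G →* (V ≃ₗ[ZMod q] V)) (m x y : G) : Prop where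
  inj : Function.Injective ρ
  neg : (ρ m : Module.End (ZMod q) V) = -1
  comm : ⁅x, y⁆ = m
  dim : Module.finrank (ZMod q) V = 2
  odd : q ≠ 2

lemma rho_commutator {x y : G} :
    (ρ ⁅x, y⁆ : Module.End (ZMod q) V) * ((ρ y : Module.End (ZMod q) V) * (ρ x : Module.End (ZMod q) V))
      = (ρ x : Module.End (ZMod q) V) * (ρ y : Module.End (ZMod q) V) := by
  rw [← rho_mul, ← rho_mul, ← rho_mul]
  congr 2
  simp only [commutatorElement_def]
  group

variable [Finite V] [Nontrivial V]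

lemma two_ne_zero_zmod (h : q ≠ 2) : (2 : ZMod q) ≠ 0 := by
  intro e
  have h2 : ((2 : ℕ) : ZMod q) = 0 := by simpa using e
  rw [ZMod.natCast_eq_zero_iff] at h2
  exact h ((Nat.prime_dvd_prime_iff_eq Fact.out Nat.prime_two).1 h2)

/-- Determinants of commutators. -/
lemma eq_one_or_neg_one (hd : Module.finrank (ZMod q) V = 2) {u v : G} (h : ⁅u, v⁆ ∈ scal ρ) :
    (ρ ⁅u, v⁆ : Module.End (ZMod q) V) = 1 ∨ (ρ ⁅u, v⁆ : Module.End (ZMod q) V) = -1 := by
  obtain ⟨c, hc⟩ := h
  haveI : FiniteDimensional (ZMod q) V := Module.Finite.of_finite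
  let D : G →* (ZMod q)ˣ := LinearEquiv.det.comp ρ
  have h1 : D ⁅u, v⁆ = 1 := by
    rw [map_commutatorElement, commutatorElement_eq_one_iff_mul_comm]
    exact mul_comm _ _
  have h2 : LinearMap.det (ρ ⁅u, v⁆ : Module.End (ZMod q) V) = 1 :=
    (LinearEquiv.coe_det _).symm.trans ((congrArg Units.val h1).trans Units.val_one)
  rw [hc, Algebra.algebraMap_eq_smul_one, LinearMap.det_smul, hd, map_one, mul_one, sq,
    mul_self_eq_one_iff] at h2
  rcases h2 with rfl | rfl
  · exact Or.inl (by rw [hc, map_one])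
  · exact Or.inr (by rw [hc, map_neg, map_one])

namespace AntiPair

variable {m x y : G}

lemma m_mem (h : AntiPair ρ m x y) : m ∈ scal ρ := ⟨-1, by rw [h.neg, map_neg, map_one]⟩

lemma m_ne (h : AntiPair ρ m x y) : m ≠ 1 := by
  intro e
  have h1 := h.neg
  rw [e, rho_one] at h1
  have h2 : algebraMap (ZMod q) (Module.End (ZMod q) V) 2 = algebraMap (ZMod q) _ 0 := by
    rw [map_zero, show (2 : ZMod q) = 1 + 1 by norm_num, map_add, map_one]
    calc (1 : Module.End (ZMod q) V) + 1 = 1 + -1 := by rw [← h1]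
      _ = 0 := add_neg_cancel 1
  exact two_ne_zero_zmod h.odd ((algebraMap (ZMod q) (Module.End (ZMod q) V)).injective h2)

lemma m_sq (h : AntiPair ρ m x y) : m * m = 1 :=
  eq_of_rho_eq h.inj (by rw [rho_mul, rho_one, h.neg, neg_mul_neg, one_mul])

lemma m_inv (h : AntiPair ρ m x y) : m⁻¹ = m := inv_eq_of_mul_eq_one_right h.m_sq

lemma symm (h : AntiPair ρ m x y) : AntiPair ρ m y x :=
  ⟨h.inj, h.neg, by rw [← commutatorElement_inv, h.comm, h.m_inv], h.dim, h.odd⟩

lemma eq_one_or (h : AntiPair ρ m x y) {u v : G} (huv : ⁅u, v⁆ ∈ scal ρ) : ⁅u, v⁆ = 1 ∨ ⁅u, v⁆ = m := by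
  rcases eq_one_or_neg_one h.dim huv with e | e
  · exact Or.inl (eq_of_rho_eq h.inj (by rw [e, rho_one]))
  · exact Or.inr (eq_of_rho_eq h.inj (by rw [e, h.neg]))

lemma anti (h : AntiPair ρ m x y) : (ρ y : Module.End (ZMod q) V) * (ρ x : Module.End (ZMod q) V)
    = -((ρ x : Module.End (ZMod q) V) * (ρ y : Module.End (ZMod q) V)) := by
  have := rho_commutator (ρ := ρ) (x := x) (y := y)
  rw [h.comm, h.neg, neg_one_mul] at this
  rw [← this, neg_neg]

lemma not_mem_left (h : AntiPair ρ m x y) : x ∉ scal ρ := fun hx => h.m_ne (by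
  rw [← h.comm]
  exact commutatorElement_eq_one_iff_mul_comm.2 (scal_comm h.inj hx y).symm)

/-- Only scalars commute with an anticommuting pair. -/
lemma mem_scal_of_commute (h : AntiPair ρ m x y) {u : G} (hux : u * x = x * u) (huy : u * y = y * u) :
    u ∈ scal ρ := by
  haveI : FiniteDimensional (ZMod q) V := Module.Finite.of_finite
  set X : Module.End (ZMod q) V := (ρ x : Module.End (ZMod q) V) with hX
  set Y : Module.End (ZMod q) V := (ρ y : Module.End (ZMod q) V) with hY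
  have hA : Y * X = -(X * Y) := h.anti
  have hline : ∀ a b : ZMod q, a • (1 : Module.End (ZMod q) V) + b • X = 0 → a = 0 ∧ b = 0 := by
    intro a b hab
    have hb : b = 0 := by
      by_contra hb
      refine h.not_mem_left ⟨b⁻¹ * -a, ?_⟩
      rw [map_mul, ← Algebra.smul_def, Algebra.algebraMap_eq_smul_one, neg_smul, neg_eq_of_add_eq_zero_right hab,
        smul_smul, inv_mul_cancel₀ hb, one_smul]
    refine ⟨?_, hb⟩
    rw [hb, zero_smul, add_zero, ← Algebra.algebraMap_eq_smul_one] at hab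
    exact (algebraMap (ZMod q) (Module.End (ZMod q) V)).injective (hab.trans (map_zero _).symm)
  have hY1 : Y * (ρ y⁻¹ : Module.End (ZMod q) V) = 1 := rho_mul_inv y
  have hX1 : (ρ x⁻¹ : Module.End (ZMod q) V) * X = 1 := rho_inv_mul x
  let f : Fin 4 → Module.End (ZMod q) V := ![1, X, Y, X * Y]
  have hf : LinearIndependent (ZMod q) f := by
    rw [Fintype.linearIndependent_iff]
    intro a ha
    rw [Fin.sum_univ_four] at ha
    simp only [f, Matrix.cons_val_zero, Matrix.cons_val_one, Matrix.cons_val] at ha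
    set S := a 0 • (1 : Module.End (ZMod q) V) + a 1 • X + a 2 • Y + a 3 • (X * Y) with hS
    have h1 : X * S - S * X = (2 : ZMod q) • (X * ((a 2 • 1 + a 3 • X) * Y)) := by
      have e : (X * Y) * X = -(X * (X * Y)) := by rw [mul_assoc, hA, mul_neg]
      simp only [hS, mul_add, add_mul, mul_smul_comm, smul_mul_assoc, mul_one, one_mul, hA, e, smul_neg, two_smul,
        smul_add, mul_assoc]
      abel
    rw [ha, mul_zero, zero_mul, sub_zero] at h1
    have h2 : X * ((a 2 • 1 + a 3 • X) * Y) = 0 :=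
      (smul_eq_zero.1 h1.symm).resolve_left (two_ne_zero_zmod h.odd)
    have h3 : a 2 • (1 : Module.End (ZMod q) V) + a 3 • X = 0 := by
      have := congrArg (fun T => (ρ x⁻¹ : Module.End (ZMod q) V) * T * (ρ y⁻¹ : Module.End (ZMod q) V)) h2
      simpa only [← mul_assoc, hX1, one_mul, mul_assoc _ Y, hY1, mul_one, mul_zero, zero_mul] using this
    obtain ⟨e2, e3⟩ := hline _ _ h3
    rw [hS, e2, e3, zero_smul, zero_smul, add_zero, add_zero] at ha
    obtain ⟨e0, e1⟩ := hline _ _ ha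
    intro i
    fin_cases i <;> assumption
  have hspan : Submodule.span (ZMod q) (Set.range f) = ⊤ := hf.span_eq_top_of_card_eq_finrank
    (by rw [Fintype.card_fin, Module.finrank_linearMap, h.dim])
  set U : Module.End (ZMod q) V := (ρ u : Module.End (ZMod q) V) with hU
  have hUX : Commute U X := by
    show U * X = X * U
    rw [hU, hX, ← rho_mul, hux, rho_mul]
  have hUY : Commute U Y := by
    show U * Y = Y * U
    rw [hU, hY, ← rho_mul, huy, rho_mul]
  have hc : U ∈ Subalgebra.center (ZMod q) (Module.End (ZMod q) V) := by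
    rw [Subalgebra.mem_center_iff]
    intro T
    have hT : T ∈ Submodule.span (ZMod q) (Set.range f) := hspan ▸ Submodule.mem_top
    induction hT using Submodule.span_induction with
    | mem T hT =>
      obtain ⟨i, rfl⟩ := hT
      fin_cases i
      · exact (Commute.one_left U).eq
      · exact hUX.symm.eq
      · exact hUY.symm.eq
      · exact (hUX.mul_right hUY).symm.eq
    | zero => rw [zero_mul, mul_zero]
    | add a b _ _ ha hb => rw [add_mul, mul_add, ha, hb]
    | smul c a _ ha => rw [smul_mul_assoc, mul_smul_comm, ha]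
  rw [Algebra.IsCentral.center_eq_bot, Algebra.mem_bot] at hc
  obtain ⟨c, hc⟩ := hc
  exact ⟨c, hc.symm⟩

lemma commutator_mul_left (h : AntiPair ρ m x y) {a b z : G} (hb : ⁅b, z⁆ ∈ scal ρ) :
    ⁅a * b, z⁆ = ⁅a, z⁆ * ⁅b, z⁆ := by
  have hc := scal_comm h.inj hb
  calc ⁅a * b, z⁆ = (a * ⁅b, z⁆) * a⁻¹ * ⁅a, z⁆ := by simp only [commutatorElement_def]; group
    _ = (⁅b, z⁆ * a) * a⁻¹ * ⁅a, z⁆ := by rw [hc]
    _ = ⁅b, z⁆ * ⁅a, z⁆ := by group
    _ = ⁅a, z⁆ * ⁅b, z⁆ := (hc _).symm

lemma sq_mem (h : AntiPair ρ m x y) : x * x ∈ scal ρ := by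
  refine h.mem_scal_of_commute (by group) (commutatorElement_eq_one_iff_mul_comm.1 ?_)
  rw [h.commutator_mul_left (h.comm.symm ▸ h.m_mem), h.comm, h.m_sq]

/-- The four cosets. -/
lemma cases4 (h : AntiPair ρ m x y) {u : G} (hux : ⁅u, x⁆ ∈ scal ρ) (huy : ⁅u, y⁆ ∈ scal ρ) :
    u ∈ scal ρ ∨ u * x ∈ scal ρ ∨ u * y ∈ scal ρ ∨ u * (x * y) ∈ scal ρ := by
  have h1 : (1 : G) ∈ scal ρ := (scal ρ).one_mem
  have hxx : ⁅x, x⁆ = 1 := commutatorElement_self x
  have hyy : ⁅y, y⁆ = 1 := commutatorElement_self y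
  have hyx : ⁅y, x⁆ = m := h.symm.comm
  have hxy : ⁅x, y⁆ = m := h.comm
  have key : ∀ w : G, ⁅w, x⁆ ∈ scal ρ → ⁅w, y⁆ ∈ scal ρ → ⁅u, x⁆ * ⁅w, x⁆ = 1 → ⁅u, y⁆ * ⁅w, y⁆ = 1 →
      u * w ∈ scal ρ := fun w hwx hwy e1 e2 => h.mem_scal_of_commute
    (commutatorElement_eq_one_iff_mul_comm.1 (by rw [h.commutator_mul_left hwx, e1]))
    (commutatorElement_eq_one_iff_mul_comm.1 (by rw [h.commutator_mul_left hwy, e2]))
  have ex : ⁅x * y, x⁆ = m := by rw [h.commutator_mul_left (hyx ▸ h.m_mem), hxx, hyx, one_mul]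
  have ey : ⁅x * y, y⁆ = m := by rw [h.commutator_mul_left (hyy ▸ h1), hxy, hyy, mul_one]
  rcases h.eq_one_or hux with e1 | e1 <;> rcases h.eq_one_or huy with e2 | e2
  · exact Or.inl (h.mem_scal_of_commute (commutatorElement_eq_one_iff_mul_comm.1 e1)
      (commutatorElement_eq_one_iff_mul_comm.1 e2))
  · exact Or.inr (Or.inl (key x (hxx ▸ h1) (hxy ▸ h.m_mem) (by rw [e1, hxx, one_mul])
      (by rw [e2, hxy, h.m_sq])))
  · exact Or.inr (Or.inr (Or.inl (key y (hyx ▸ h.m_mem) (hyy ▸ h1) (by rw [e1, hyx, h.m_sq])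
      (by rw [e2, hyy, one_mul]))))
  · exact Or.inr (Or.inr (Or.inr (key _ (ex ▸ h.m_mem) (ey ▸ h.m_mem) (by rw [e1, ex, h.m_sq])
      (by rw [e2, ey, h.m_sq]))))

end AntiPair

/-- The exceptional configuration in dimension two. -/
structure TwoExc (ρ : G →* (V ≃ₗ[ZMod q] V)) (A : Subgroup G) : Prop where
  normal : A.Normal
  pair : ∃ m x y, AntiPair ρ m x y ∧ x ∈ A ∧ y ∈ A
  scal_le : scal ρ ≤ A
  mem : ∀ {m x y u : G}, AntiPair ρ m x y → x ∈ A → y ∈ A → ⁅u, x⁆ ∈ scal ρ → ⁅u, y⁆ ∈ scal ρ → u ∈ A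
  commutator : ∀ {u v : G}, u ∈ A → v ∈ A → ⁅u, v⁆ ∈ scal ρ
  index_scal : (scal ρ).index = 4 * A.index
  index_dvd : A.index ∣ 6
  prime : q ∈ ({3, 5, 7, 11, 23} : Set ℕ)

variable [Finite G]

lemma card_scal_dvd (hρ : Function.Injective ρ) : Nat.card (scal ρ) ∣ q - 1 := by
  choose c hc using fun s : scal ρ => s.2
  have hinj := (algebraMap (ZMod q) (Module.End (ZMod q) V)).injective
  let φ : scal ρ →* (ZMod q)ˣ := MonoidHom.toHomUnits
    { toFun := c
      map_one' := hinj (by rw [← hc, map_one, Subgroup.coe_one, rho_one])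
      map_mul' := fun s t => hinj (by rw [← hc, map_mul, ← hc, ← hc, Subgroup.coe_mul, rho_mul]) }
  have hφ : Function.Injective φ := fun s t e => by
    have e' : c s = c t := congrArg Units.val e
    exact Subtype.ext (eq_of_rho_eq hρ (by rw [hc, hc, e']))
  have := Subgroup.card_dvd_of_injective φ hφ
  rwa [Nat.card_eq_fintype_card (α := (ZMod q)ˣ), ZMod.card_units] at this

/-- Dimension two. -/
theorem semilinear_or_twoExc (hsol : Group.IsSolvable G) (hρ : Function.Injective ρ)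
    (htrans : ∀ v w : V, v ≠ 0 → w ≠ 0 → ∃ g : G, ρ g v = w) (hd : Module.finrank (ZMod q) V = 2) :
    Semilinear ρ ∨ ∃ A, TwoExc ρ A := by
  classical
  haveI := hsol
  have hq : q.Prime := Fact.out
  have hV : Nat.card V = q ^ 2 := by
    rw [Module.natCard_eq_pow_finrank (K := ZMod q), Nat.card_zmod, hd]
  refine or_iff_not_imp_left.2 fun hns => ?_
  -- abelian normal subgroups are scalar
  have hab : ∀ B : Subgroup G, B.Normal → (∀ a ∈ B, ∀ b ∈ B, a * b = b * a) → B ≤ scal ρ := by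
    intro B hB hBc a ha
    by_contra has
    exact hns (semilinear_normal_abelian hρ htrans B hBc (hV ▸ sq_le_card_spanAlg (A := (B : Set G)) ha has))
  haveI hSn : (scal ρ).Normal := scal_normal hρ
  have hdvd : q ^ 2 - 1 ∣ Nat.card G := hV ▸ card_sub_one_dvd htrans
  have hs := card_scal_dvd (ρ := ρ) hρ
  have hq2 : q ^ 2 - 1 = (q + 1) * (q - 1) := by simpa using Nat.sq_sub_sq q 1
  have hq1 : 0 < q - 1 := by have := hq.two_le; omega
  haveI : Nontrivial (G ⧸ scal ρ) := by
    rw [← not_subsingleton_iff_nontrivial]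
    intro hsub
    have hi : (scal ρ).index = 1 := Nat.card_eq_one_iff_unique.2 ⟨hsub, ⟨1⟩⟩
    have h1 : Nat.card G ∣ q - 1 := by
      rw [← (scal ρ).card_mul_index, hi, mul_one]
      exact hs
    have h2 := Nat.le_of_dvd hq1 (hdvd.trans h1)
    rw [hq2] at h2
    have h3 : 2 * (q - 1) ≤ (q + 1) * (q - 1) := Nat.mul_le_mul_right _ (by omega)
    omega
  obtain ⟨B, hBchar, hBne, hBc⟩ := Cores.exists_abelian_normal_ne_bot (G := G ⧸ scal ρ)
  haveI : B.Normal := inferInstance
  set A : Subgroup G := B.comap (QuotientGroup.mk' (scal ρ)) with hA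
  have hAn : A.Normal := Subgroup.Normal.comap inferInstance _
  have hcommA : ∀ {u v : G}, u ∈ A → v ∈ A → ⁅u, v⁆ ∈ scal ρ := by
    intro u v hu hv
    rw [← QuotientGroup.eq_one_iff]
    change QuotientGroup.mk' (scal ρ) ⁅u, v⁆ = 1
    rw [map_commutatorElement, commutatorElement_eq_one_iff_mul_comm]
    exact congrArg Subtype.val (hBc.is_comm.comm (⟨_, hu⟩ : B) ⟨_, hv⟩)
  have hSA : scal ρ ≤ A := by
    intro s hs'
    rw [hA, Subgroup.mem_comap, QuotientGroup.mk'_apply, (QuotientGroup.eq_one_iff s).2 hs']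
    exact B.one_mem
  obtain ⟨x, hx, y, hy, hxy⟩ : ∃ x ∈ A, ∃ y ∈ A, x * y ≠ y * x := by
    by_contra h
    push Not at h
    refine hBne ((Subgroup.eq_bot_iff_forall _).2 fun b hb => ?_)
    obtain ⟨a, rfl⟩ := QuotientGroup.mk'_surjective (scal ρ) b
    exact (QuotientGroup.eq_one_iff a).2 (hab A hAn h hb)
  set m := ⁅x, y⁆ with hm
  have hne : (ρ m : Module.End (ZMod q) V) ≠ 1 := fun e => hxy (commutatorElement_eq_one_iff_mul_comm.1
    (eq_of_rho_eq hρ (e.trans rho_one.symm)))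
  have hneg : (ρ m : Module.End (ZMod q) V) = -1 := (eq_one_or_neg_one hd (hcommA hx hy)).resolve_left hne
  have hodd : q ≠ 2 := by
    rintro rfl
    refine hne (hneg.trans ?_)
    have h2 : algebraMap (ZMod 2) (Module.End (ZMod 2) V) (-1) = algebraMap (ZMod 2) _ 1 := congrArg _ (ZMod.neg_eq_self_mod_two 1)
    rwa [map_neg, map_one] at h2
  have hP : AntiPair ρ m x y := ⟨hρ, hneg, rfl, hd, hodd⟩
  have hmem : ∀ {m' x' y' u : G}, AntiPair ρ m' x' y' → x' ∈ A → y' ∈ A → ⁅u, x'⁆ ∈ scal ρ →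
      ⁅u, y'⁆ ∈ scal ρ → u ∈ A := by
    intro m' x' y' u hP' hx' hy' hux huy
    rcases hP'.cases4 hux huy with h | h | h | h
    · exact hSA h
    · exact (Subgroup.mul_mem_cancel_right _ hx').1 (hSA h)
    · exact (Subgroup.mul_mem_cancel_right _ hy').1 (hSA h)
    · exact (Subgroup.mul_mem_cancel_right _ (A.mul_mem hx' hy')).1 (hSA h)
  -- four cosets
  set mk := QuotientGroup.mk' (scal ρ) with hmk
  have hB4 : (B : Set (G ⧸ scal ρ)) = {1, mk x, mk y, mk (x * y)} := by
    ext b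
    refine ⟨fun hb => ?_, ?_⟩
    · obtain ⟨a, rfl⟩ := QuotientGroup.mk'_surjective (scal ρ) b
      have hxx : mk x * mk x = 1 := by rw [← map_mul]; exact (QuotientGroup.eq_one_iff _).2 hP.sq_mem
      have hyy : mk y * mk y = 1 := by rw [← map_mul]; exact (QuotientGroup.eq_one_iff _).2 hP.symm.sq_mem
      have hxy' : mk (x * y) * mk (x * y) = 1 := by
        rw [← map_mul]
        refine (QuotientGroup.eq_one_iff _).2 ?_
        have e : x * y * (x * y) = ⁅x, y⁆ * y * (x * x) * y := by simp only [commutatorElement_def]; group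
        rw [e, mul_assoc _ (x * x) y, ← scal_comm hρ hP.sq_mem y, ← mul_assoc, mul_assoc _ y y]
        exact (scal ρ).mul_mem ((scal ρ).mul_mem hP.m_mem hP.symm.sq_mem) hP.sq_mem
      simp only [Set.mem_insert_iff, Set.mem_singleton_iff]
      have key : ∀ w : G, mk w * mk w = 1 → a * w ∈ scal ρ → mk a = mk w := fun w hw h => by
        have h1 : mk a * mk w = 1 := by rw [← map_mul]; exact (QuotientGroup.eq_one_iff _).2 h
        rw [eq_inv_of_mul_eq_one_left h1, ← eq_inv_of_mul_eq_one_left hw]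
      rcases hP.cases4 (hcommA hb hx) (hcommA hb hy) with h | h | h | h
      · exact Or.inl ((QuotientGroup.eq_one_iff a).2 h)
      · exact Or.inr (Or.inl (key x hxx h))
      · exact Or.inr (Or.inr (Or.inl (key y hyy h)))
      · exact Or.inr (Or.inr (Or.inr (key _ hxy' h)))
    · rintro (rfl | rfl | rfl | rfl)
      exacts [B.one_mem, hx, hy, A.mul_mem hx hy]
  have hns1 : mk x ≠ 1 := fun e => hP.not_mem_left ((QuotientGroup.eq_one_iff x).1 e)
  have hns2 : mk y ≠ 1 := fun e => hP.symm.not_mem_left ((QuotientGroup.eq_one_iff y).1 e)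
  have hns3 : mk x ≠ mk y := by
    intro e
    have h1 : x⁻¹ * y ∈ scal ρ := QuotientGroup.eq.1 e
    have h2 := scal_comm hρ h1 x
    refine hxy ?_
    calc x * y = x * (x * (x⁻¹ * y)) := by group
      _ = x * ((x⁻¹ * y) * x) := by rw [h2]
      _ = y * x := by group
  have hB4card : Nat.card B = 4 := by
    change Nat.card ((B : Set (G ⧸ scal ρ))) = 4
    rw [hB4, Nat.card_coe_set_eq]
    have e1 : mk y ≠ mk (x * y) := fun e => hns1 (by rwa [map_mul, right_eq_mul] at e)
    have e2 : mk x ≠ mk (x * y) := fun e => hns2 (by rwa [map_mul, left_eq_mul] at e)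
    have e3 : (1 : G ⧸ scal ρ) ≠ mk (x * y) := fun e => hns3 (by
      rw [map_mul] at e
      have hxx : mk x * mk x = 1 := by rw [← map_mul]; exact (QuotientGroup.eq_one_iff _).2 hP.sq_mem
      rw [← mul_one (mk x), e, ← mul_assoc, hxx, one_mul])
    rw [Set.ncard_insert_of_notMem (by rintro (h | h | h); exacts [hns1 h.symm, hns2 h.symm, e3 h]),
      Set.ncard_insert_of_notMem (by rintro (h | h); exacts [hns3 h, e2 h]), Set.ncard_pair e1]
  have hidx : (scal ρ).index = 4 * A.index := by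
    have h1 : A.index = B.index := Subgroup.index_comap_of_surjective _ (QuotientGroup.mk'_surjective _)
    rw [h1, ← hB4card, Subgroup.card_mul_index]
    rfl
  -- the action on the nontrivial cosets
  let T := {b : G ⧸ scal ρ // b ∈ B ∧ b ≠ 1}
  have hTconj : ∀ (u : G) (b : T), mk u * b.1 * (mk u)⁻¹ ∈ B ∧ mk u * b.1 * (mk u)⁻¹ ≠ 1 := fun u b =>
    ⟨(inferInstance : B.Normal).conj_mem _ b.2.1 _, fun e => b.2.2 (by
      rw [mul_inv_eq_iff_eq_mul, one_mul] at e
      exact mul_left_cancel (e.trans (mul_one _).symm))⟩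
  letI : MulAction G T :=
    { smul := fun u b => ⟨_, hTconj u b⟩
      one_smul := fun b => Subtype.ext (by show mk 1 * b.1 * (mk 1)⁻¹ = b.1; rw [map_one]; group)
      mul_smul := fun u v b => Subtype.ext (by
        show mk (u * v) * b.1 * (mk (u * v))⁻¹ = mk u * (mk v * b.1 * (mk v)⁻¹) * (mk u)⁻¹
        rw [map_mul]; group) }
  have hT3 : Nat.card T = 3 := by
    have e : Nat.card T = ((B : Set (G ⧸ scal ρ)) \ {1}).ncard := by
      rw [← Nat.card_coe_set_eq]
      rfl
    rw [e, Set.ncard_sdiff_singleton_of_mem B.one_mem, ← Nat.card_coe_set_eq]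
    change Nat.card B - 1 = 3
    rw [hB4card]
  haveI : Finite T := Nat.finite_of_card_ne_zero (by rw [hT3]; norm_num)
  have hker : (MulAction.toPermHom G T).ker = A := by
    ext u
    constructor
    · intro hu
      have hfix : ∀ w, ∀ hw : w ∈ A, w ∉ scal ρ → ⁅u, w⁆ ∈ scal ρ := by
        intro w hw hws
        have h1 : u • (⟨mk w, hw, fun e => hws ((QuotientGroup.eq_one_iff w).1 e)⟩ : T)
            = ⟨mk w, hw, fun e => hws ((QuotientGroup.eq_one_iff w).1 e)⟩ := congrFun (congrArg DFunLike.coe hu) _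
        have h2 : mk u * mk w * (mk u)⁻¹ = mk w := congrArg Subtype.val h1
        rw [← QuotientGroup.eq_one_iff]
        show mk ⁅u, w⁆ = 1
        rw [map_commutatorElement, commutatorElement_def, h2, mul_inv_cancel]
      exact hmem hP hx hy (hfix x hx hP.not_mem_left) (hfix y hy hP.symm.not_mem_left)
    · intro hu
      refine Equiv.ext fun b => Subtype.ext ?_
      show mk u * b.1 * (mk u)⁻¹ = b.1
      rw [show mk u * b.1 = b.1 * mk u from congrArg Subtype.val (hBc.is_comm.comm (⟨mk u, hu⟩ : B) ⟨b.1, b.2.1⟩),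
        mul_inv_cancel_right]
  have h6 : A.index ∣ 6 := by
    haveI := Fintype.ofFinite T
    rw [← hker, Subgroup.index_ker]
    refine (Subgroup.card_subgroup_dvd_card _).trans ?_
    rw [Nat.card_perm, hT3]
    rfl
  -- the prime
  have hqmem : q ∈ ({3, 5, 7, 11, 23} : Set ℕ) := by
    have h1 : q + 1 ∣ (scal ρ).index := by
      refine Nat.dvd_of_mul_dvd_mul_right hq1 ?_
      rw [← hq2, mul_comm]
      refine hdvd.trans ?_
      rw [← (scal ρ).card_mul_index]
      exact Nat.mul_dvd_mul_right hs _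
    have h24 : q + 1 ∣ 24 := h1.trans (by rw [hidx]; exact Nat.mul_dvd_mul_left 4 h6)
    have hle := Nat.le_of_dvd (by norm_num) h24
    have h3 : 3 ≤ q := by have := hq.two_le; omega
    have key : ∀ n, n.Prime → 3 ≤ n → n + 1 ∣ 24 → n ∈ ({3, 5, 7, 11, 23} : Set ℕ) := by
      intro n hn hn3 hd'
      have := Nat.le_of_dvd (by norm_num) hd'
      have : n ≤ 23 := by omega
      interval_cases n <;> first | (norm_num at hd'; done) | (norm_num at hn; done) | simp
    exact key q hq h3 h24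
  exact ⟨A, hAn, ⟨m, x, y, hP, hx, hy⟩, hSA, hmem, hcommA, hidx, h6, hqmem⟩

end Cfsg.Agent.H88
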