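/-
Huppert's theorem on solvable transitive linear groups.
-/
import Cfsg.Agent.H88.NMain
import Cfsg.Agent.H88.NSix
import Cfsg.Agent.H88.NTwo
set_option autoImplicit false

open Cfsg

namespace Cfsg.Agent.H88

variable {q : ℕ} [Fact q.Prime] {V : Type*} [AddCommGroup V] [Module (ZMod q) V] [Finite V] [Nontrivial V]
  {G : Type*} [Group G] [Finite G] {ρ : G →* (V ≃ₗ[ZMod q] V)}

theorem huppert (hsol : Group.IsSolvable G) (hρ : Function.Injective ρ)
    (htrans : ∀ v w : V, v ≠ 0 → w ≠ 0 → ∃ g : G, ρ g v = w) :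
    Semilinear ρ ∨ (Nat.card V = q ^ 2 ∧ ∃ A, TwoExc ρ A) ∨ Nat.card V = 81 := by
  haveI : FiniteDimensional (ZMod q) V := Module.Finite.of_finite
  have hpos : 0 < Module.finrank (ZMod q) V := Module.finrank_pos
  rcases (show Module.finrank (ZMod q) V = 1 ∨ Module.finrank (ZMod q) V = 2 ∨ 3 ≤ Module.finrank (ZMod q) V by omega)
    with h | h | h
  · exact Or.inl (semilinear_of_finrank_one hρ htrans h)
  · rcases semilinear_or_twoExc hsol hρ htrans h with h' | h'
    · exact Or.inl h'
    · exact Or.inr (Or.inl ⟨by rw [Module.natCard_eq_pow_finrank (K := ZMod q), Nat.card_zmod, h], h'⟩)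
  · by_cases h6 : q = 2 ∧ Module.finrank (ZMod q) V = 6
    · exact Or.inl (semilinear_six hsol hρ htrans h6.1 h6.2)
    · rcases semilinear_or_eighty_one hsol hρ htrans h h6 with h' | h'
      · exact Or.inl h'
      · exact Or.inr (Or.inr h')

end Cfsg.Agent.H88
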