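/-
Quadratic pairs, elementary part: square-zero endomorphisms `A` whose family `1 + c A` lies in `G`,
those of minimal rank, and the root spaces they define.
-/
import Cfsg.Prelude.Def_RootSubgroups
set_option autoImplicit false

namespace Cfsg.Agent.H88

open Module

variable {k : Type*} [Field k] {M : Type*} [AddCommGroup M] [Module k M]


/-- The unit `1 + A` for `A² = 0`. -/
def oneAdd (A : (Module.End k M)) (h : A * A = 0) : (LinearMap.GeneralLinearGroup k M) where
  val := 1 + A
  inv := 1 - A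
  val_inv := by
    have : (1 + A) * (1 - A) = 1 - A * A := by noncomm_ring
    rw [this, h, sub_zero]
  inv_val := by
    have : (1 - A) * (1 + A) = 1 - A * A := by noncomm_ring
    rw [this, h, sub_zero]

@[simp] lemma oneAdd_val (A : (Module.End k M)) (h : A * A = 0) : ((oneAdd A h : (LinearMap.GeneralLinearGroup k M)) : (Module.End k M)) = 1 + A := rfl

lemma oneAdd_inv_val (A : (Module.End k M)) (h : A * A = 0) : (((oneAdd A h)⁻¹ : (LinearMap.GeneralLinearGroup k M)) : (Module.End k M)) = 1 - A := rfl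

lemma smul_sq (A : (Module.End k M)) (h : A * A = 0) (c : k) : (c • A) * (c • A) = 0 := by
  rw [smul_mul_smul_comm, h, smul_zero]

/-- `A² = 0` and every `1 + c A` belongs to `G`. -/
def Rt (G : Subgroup (LinearMap.GeneralLinearGroup k M)) (A : (Module.End k M)) : Prop :=
  A * A = 0 ∧ ∀ c : k, ∃ g ∈ G, (g : (Module.End k M)) = 1 + c • A

variable {G : Subgroup (LinearMap.GeneralLinearGroup k M)}

lemma Rt.sq {A : (Module.End k M)} (h : Rt G A) : A * A = 0 := h.1

lemma Rt.mem {A : (Module.End k M)} (h : Rt G A) {g : (LinearMap.GeneralLinearGroup k M)} (c : k) (hg : (g : (Module.End k M)) = 1 + c • A) : g ∈ G := by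
  obtain ⟨g', hg', e⟩ := h.2 c
  exact (Units.ext (hg.trans e.symm) : g = g') ▸ hg'

lemma Rt.smul {A : (Module.End k M)} (h : Rt G A) (c : k) : Rt G (c • A) :=
  ⟨smul_sq A h.1 c, fun d => by obtain ⟨g, hg, e⟩ := h.2 (d * c); exact ⟨g, hg, by rw [e, mul_smul]⟩⟩

lemma Rt.zero : Rt G (0 : (Module.End k M)) := ⟨mul_zero _, fun c => ⟨1, G.one_mem, by simp⟩⟩

lemma Rt.neg {A : (Module.End k M)} (h : Rt G A) : Rt G (-A) := by
  simpa using h.smul (-1)

lemma Rt.oneAdd_mem {A : (Module.End k M)} (h : Rt G A) : oneAdd A h.1 ∈ G :=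
  h.mem 1 (by simp)

lemma Rt.add {A B : (Module.End k M)} (hA : Rt G A) (hB : Rt G B) (h₁ : A * B = 0) (h₂ : B * A = 0) :
    Rt G (A + B) := by
  refine ⟨?_, fun c => ?_⟩
  · rw [add_mul, mul_add, mul_add, hA.1, hB.1, h₁, h₂]; simp
  · obtain ⟨g, hg, e⟩ := hA.2 c
    obtain ⟨g', hg', e'⟩ := hB.2 c
    refine ⟨g * g', G.mul_mem hg hg', ?_⟩
    rw [Units.val_mul, e, e', add_mul, one_mul, mul_add, mul_one, smul_mul_smul_comm, h₁]
    simp [smul_add, add_assoc, add_comm]

/-- Conjugate endomorphism. -/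
def conjE (g : (LinearMap.GeneralLinearGroup k M)) (A : (Module.End k M)) : (Module.End k M) := (g : (Module.End k M)) * A * ((g⁻¹ : (LinearMap.GeneralLinearGroup k M)) : (Module.End k M))

lemma conjE_mul (g : (LinearMap.GeneralLinearGroup k M)) (A B : (Module.End k M)) : conjE g A * conjE g B = conjE g (A * B) := by
  simp only [conjE, mul_assoc, Units.inv_mul_cancel_left]

lemma conjE_conjE (g h : (LinearMap.GeneralLinearGroup k M)) (A : (Module.End k M)) : conjE g (conjE h A) = conjE (g * h) A := by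
  simp [conjE, mul_assoc]

lemma conjE_one (A : (Module.End k M)) : conjE (1 : (LinearMap.GeneralLinearGroup k M)) A = A := by simp [conjE]

@[simp] lemma conjE_zero (g : (LinearMap.GeneralLinearGroup k M)) : conjE g (0 : (Module.End k M)) = 0 := by simp [conjE]

lemma conjE_add (g : (LinearMap.GeneralLinearGroup k M)) (A B : (Module.End k M)) : conjE g (A + B) = conjE g A + conjE g B := by
  simp [conjE, mul_add, add_mul]

lemma conjE_smul (g : (LinearMap.GeneralLinearGroup k M)) (c : k) (A : (Module.End k M)) : conjE g (c • A) = c • conjE g A := by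
  simp [conjE, mul_assoc]

lemma conjE_one_add (g : (LinearMap.GeneralLinearGroup k M)) (A : (Module.End k M)) :
    (g : (Module.End k M)) * (1 + A) * ((g⁻¹ : (LinearMap.GeneralLinearGroup k M)) : (Module.End k M)) = 1 + conjE g A := by
  simp [conjE, mul_add, add_mul]

lemma conjE_eq_zero_iff (g : (LinearMap.GeneralLinearGroup k M)) (A : (Module.End k M)) : conjE g A = 0 ↔ A = 0 := by
  constructor
  · intro h
    have := congrArg (fun X => ((g⁻¹ : (LinearMap.GeneralLinearGroup k M)) : (Module.End k M)) * X * (g : (Module.End k M))) h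
    simpa [conjE, mul_assoc] using this
  · rintro rfl; simp

lemma Rt.conj {A : (Module.End k M)} (h : Rt G A) {g : (LinearMap.GeneralLinearGroup k M)} (hg : g ∈ G) : Rt G (conjE g A) := by
  refine ⟨by rw [conjE_mul, h.1, conjE_zero], fun c => ?_⟩
  obtain ⟨a, ha, e⟩ := h.2 c
  refine ⟨g * a * g⁻¹, G.mul_mem (G.mul_mem hg ha) (G.inv_mem hg), ?_⟩
  rw [Units.val_mul, Units.val_mul, e, conjE_one_add, conjE_smul]

lemma range_conjE (g : (LinearMap.GeneralLinearGroup k M)) (A : (Module.End k M)) :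
    LinearMap.range (conjE g A) = (LinearMap.range A).map (g : (Module.End k M)) := by
  have hs : LinearMap.range (((g⁻¹ : (LinearMap.GeneralLinearGroup k M)) : (Module.End k M))) = ⊤ :=
    LinearMap.range_eq_top.2 fun m => ⟨(g : (Module.End k M)) m, by
      rw [← Module.End.mul_apply, Units.inv_mul]; rfl⟩
  rw [conjE, Module.End.mul_eq_comp, Module.End.mul_eq_comp, LinearMap.range_comp_of_range_eq_top _ hs,
    LinearMap.range_comp]

lemma ker_conjE (g : (LinearMap.GeneralLinearGroup k M)) (A : (Module.End k M)) :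
    LinearMap.ker (conjE g A) = (LinearMap.ker A).map (g : (Module.End k M)) := by
  have hinj : Function.Injective (g : (Module.End k M)) := Function.LeftInverse.injective
    (g := ((g⁻¹ : (LinearMap.GeneralLinearGroup k M)) : (Module.End k M))) fun m => by rw [← Module.End.mul_apply, Units.inv_mul]; rfl
  ext m
  simp only [LinearMap.mem_ker, Submodule.mem_map, conjE, Module.End.mul_apply]
  constructor
  · intro h
    refine ⟨((g⁻¹ : (LinearMap.GeneralLinearGroup k M)) : (Module.End k M)) m, hinj (by simpa using h), ?_⟩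
    rw [← Module.End.mul_apply, Units.mul_inv]; rfl
  · rintro ⟨y, hy, rfl⟩
    have : ((g⁻¹ : (LinearMap.GeneralLinearGroup k M)) : (Module.End k M)) ((g : (Module.End k M)) y) = y := by
      rw [← Module.End.mul_apply, Units.inv_mul]; rfl
    rw [this, hy, map_zero]

/-- The rank. -/
noncomputable def rk (A : (Module.End k M)) : ℕ := Module.finrank k (LinearMap.range A)

/-- A non-zero member of `Rt G` of minimal rank. -/
def IsMin (G : Subgroup (LinearMap.GeneralLinearGroup k M)) (A : (Module.End k M)) : Prop :=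
  Rt G A ∧ A ≠ 0 ∧ ∀ A', Rt G A' → A' ≠ 0 → rk A ≤ rk A'

lemma IsMin.rt {A : (Module.End k M)} (h : IsMin G A) : Rt G A := h.1
lemma IsMin.sq {A : (Module.End k M)} (h : IsMin G A) : A * A = 0 := h.1.1

lemma range_le_ker {A : (Module.End k M)} (h : A * A = 0) : LinearMap.range A ≤ LinearMap.ker A := by
  rintro _ ⟨x, rfl⟩
  rw [LinearMap.mem_ker, ← Module.End.mul_apply, h]
  rfl

lemma apply_eq_zero_of_range_le_ker {A B : (Module.End k M)}
    (h : LinearMap.range B ≤ LinearMap.ker A) : A * B = 0 :=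
  LinearMap.ext fun x => h ⟨x, rfl⟩

variable [FiniteDimensional k M]

lemma rk_pos {A : (Module.End k M)} (h : A ≠ 0) : 0 < rk A := by
  rw [rk, Nat.pos_iff_ne_zero, Ne, Submodule.finrank_eq_zero, LinearMap.range_eq_bot]
  exact h

lemma rk_conjE (g : (LinearMap.GeneralLinearGroup k M)) (A : (Module.End k M)) : rk (conjE g A) = rk A := by
  rw [rk, range_conjE, rk]
  exact (Submodule.equivMapOfInjective (g : (Module.End k M)) (Function.LeftInverse.injective
    (g := ((g⁻¹ : (LinearMap.GeneralLinearGroup k M)) : (Module.End k M))) fun m => by rw [← Module.End.mul_apply, Units.inv_mul]; rfl)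
    (LinearMap.range A)).finrank_eq.symm

lemma IsMin.conj {A : (Module.End k M)} (h : IsMin G A) {g : (LinearMap.GeneralLinearGroup k M)} (hg : g ∈ G) : IsMin G (conjE g A) :=
  ⟨h.1.conj hg, fun e => h.2.1 ((conjE_eq_zero_iff g A).1 e),
    fun A' h1 h2 => by rw [rk_conjE]; exact h.2.2 A' h1 h2⟩

lemma IsMin.of_rk_le {A A' : (Module.End k M)} (h : IsMin G A) (h' : Rt G A') (hn : A' ≠ 0)
    (hr : rk A' ≤ rk A) : IsMin G A' :=
  ⟨h', hn, fun B hB hB' => hr.trans (h.2.2 B hB hB')⟩

lemma IsMin.rk_eq {A A' : (Module.End k M)} (h : IsMin G A) (h' : IsMin G A') : rk A = rk A' :=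
  le_antisymm (h.2.2 _ h'.1 h'.2.1) (h'.2.2 _ h.1 h.2.1)

lemma rk_le_of_range_le {A A' : (Module.End k M)} (h : LinearMap.range A' ≤ LinearMap.range A) : rk A' ≤ rk A :=
  Submodule.finrank_mono h

lemma IsMin.smul {A : (Module.End k M)} (h : IsMin G A) {c : k} (hc : c ≠ 0) : IsMin G (c • A) :=
  h.of_rk_le (h.1.smul c) (smul_ne_zero hc h.2.1) (rk_le_of_range_le (by
    rintro _ ⟨x, rfl⟩; exact ⟨c • x, by simp⟩))

/-- The root space of `A`: members of `Rt G` vanishing on `ker A` with image in `range A`. -/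
def rootSpace (G : Subgroup (LinearMap.GeneralLinearGroup k M)) (A : (Module.End k M)) (hA : A * A = 0) : Submodule k (Module.End k M) where
  carrier := {X | Rt G X ∧ LinearMap.ker A ≤ LinearMap.ker X ∧ LinearMap.range X ≤ LinearMap.range A}
  zero_mem' := ⟨Rt.zero, by simp, by simp⟩
  smul_mem' := fun c X hX => ⟨hX.1.smul c, fun m hm => by simp [LinearMap.mem_ker.1 (hX.2.1 hm)],
    by rintro _ ⟨m, rfl⟩; exact Submodule.smul_mem _ c (hX.2.2 ⟨m, rfl⟩)⟩
  add_mem' := by
    intro X Y hX hY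
    have h : ∀ {X Y : (Module.End k M)}, LinearMap.range X ≤ LinearMap.range A →
        LinearMap.ker A ≤ LinearMap.ker Y → Y * X = 0 := fun hr hk =>
      apply_eq_zero_of_range_le_ker (hr.trans ((range_le_ker hA).trans hk))
    refine ⟨hX.1.add hY.1 (h hY.2.2 hX.2.1) (h hX.2.2 hY.2.1), fun m hm => ?_, ?_⟩
    · simp [LinearMap.mem_ker.1 (hX.2.1 hm), LinearMap.mem_ker.1 (hY.2.1 hm)]
    · rintro _ ⟨m, rfl⟩
      exact Submodule.add_mem _ (hX.2.2 ⟨m, rfl⟩) (hY.2.2 ⟨m, rfl⟩)

lemma mem_rootSpace {A X : (Module.End k M)} {hA : A * A = 0} :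
    X ∈ rootSpace G A hA ↔
      Rt G X ∧ LinearMap.ker A ≤ LinearMap.ker X ∧ LinearMap.range X ≤ LinearMap.range A := Iff.rfl

lemma self_mem_rootSpace {A : (Module.End k M)} (h : Rt G A) : A ∈ rootSpace G A h.1 := ⟨h, le_rfl, le_rfl⟩

lemma IsMin.of_mem_rootSpace {A X : (Module.End k M)} (h : IsMin G A) (hX : X ∈ rootSpace G A h.sq)
    (hn : X ≠ 0) : IsMin G X :=
  h.of_rk_le hX.1 hn (rk_le_of_range_le hX.2.2)

lemma IsMin.range_eq {A X : (Module.End k M)} (h : IsMin G A) (hX : X ∈ rootSpace G A h.sq) (hn : X ≠ 0) :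
    LinearMap.range X = LinearMap.range A :=
  Submodule.eq_of_le_of_finrank_eq hX.2.2 ((h.of_mem_rootSpace hX hn).rk_eq h)

lemma IsMin.ker_eq {A X : (Module.End k M)} (h : IsMin G A) (hX : X ∈ rootSpace G A h.sq) (hn : X ≠ 0) :
    LinearMap.ker X = LinearMap.ker A := by
  refine (Submodule.eq_of_le_of_finrank_eq hX.2.1 ?_).symm
  have h1 := LinearMap.finrank_range_add_finrank_ker A
  have h2 := LinearMap.finrank_range_add_finrank_ker X
  have h3 : rk X = rk A := (h.of_mem_rootSpace hX hn).rk_eq h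
  simp only [rk] at h3
  omega

lemma rootSpace_mul {A X Y : (Module.End k M)} {hA : A * A = 0} (hX : X ∈ rootSpace G A hA)
    (hY : Y ∈ rootSpace G A hA) : X * Y = 0 :=
  apply_eq_zero_of_range_le_ker (hY.2.2.trans ((range_le_ker hA).trans hX.2.1))

/-- The subgroup `1 + rootSpace G A`. -/
def rootGroup (G : Subgroup (LinearMap.GeneralLinearGroup k M)) (A : (Module.End k M)) (hA : A * A = 0) : Subgroup (LinearMap.GeneralLinearGroup k M) where
  carrier := {g : LinearMap.GeneralLinearGroup k M | (g : (Module.End k M)) - 1 ∈ rootSpace G A hA}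
  one_mem' := by
    show ((1 : LinearMap.GeneralLinearGroup k M) : (Module.End k M)) - 1 ∈ rootSpace G A hA
    simp
  mul_mem' := by
    intro g g' hg hg'
    have e : (((g * g' : (LinearMap.GeneralLinearGroup k M))) : (Module.End k M)) - 1
        = ((g : (Module.End k M)) - 1) * ((g' : (Module.End k M)) - 1) + (((g : (Module.End k M)) - 1) + ((g' : (Module.End k M)) - 1)) := by
      rw [Units.val_mul]; noncomm_ring
    show (((g * g' : (LinearMap.GeneralLinearGroup k M))) : (Module.End k M)) - 1 ∈ rootSpace G A hA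
    rw [e, rootSpace_mul (hA := hA) hg hg', zero_add]
    exact Submodule.add_mem _ hg hg'
  inv_mem' := by
    intro g hg
    have h0 : ((g : (Module.End k M)) - 1) * ((g : (Module.End k M)) - 1) = 0 := rootSpace_mul (hA := hA) hg hg
    have e : g⁻¹ = (oneAdd _ h0)⁻¹ := by
      congr 1; ext1; simp
    show (((g⁻¹ : (LinearMap.GeneralLinearGroup k M))) : (Module.End k M)) - 1 ∈ rootSpace G A hA
    rw [e, oneAdd_inv_val, sub_sub, add_comm, ← sub_sub, sub_self, zero_sub]
    exact Submodule.neg_mem _ hg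

lemma mem_rootGroup {A : (Module.End k M)} {hA : A * A = 0} {g : (LinearMap.GeneralLinearGroup k M)} :
    g ∈ rootGroup G A hA ↔ (g : (Module.End k M)) - 1 ∈ rootSpace G A hA := Iff.rfl

lemma rootGroup_le {A : (Module.End k M)} (hA : A * A = 0) : rootGroup G A hA ≤ G := fun g hg =>
  (mem_rootSpace.1 (mem_rootGroup.1 hg)).1.mem 1 (by simp)

lemma oneAdd_mem_rootGroup {A X : (Module.End k M)} {hA : A * A = 0} (hX : X ∈ rootSpace G A hA) :
    oneAdd X hX.1.1 ∈ rootGroup G A hA := by
  rw [mem_rootGroup]; simpa using hX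

lemma rootGroup_commute {A : (Module.End k M)} {hA : A * A = 0} {g g' : (LinearMap.GeneralLinearGroup k M)} (hg : g ∈ rootGroup G A hA)
    (hg' : g' ∈ rootGroup G A hA) : g * g' = g' * g := by
  have h1 := rootSpace_mul (mem_rootGroup.1 hg) (mem_rootGroup.1 hg')
  have h2 := rootSpace_mul (mem_rootGroup.1 hg') (mem_rootGroup.1 hg)
  ext1
  rw [Units.val_mul, Units.val_mul, ← sub_eq_zero]
  have : (g : (Module.End k M)) * (g' : (Module.End k M)) - (g' : (Module.End k M)) * (g : (Module.End k M))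
      = ((g : (Module.End k M)) - 1) * ((g' : (Module.End k M)) - 1) - ((g' : (Module.End k M)) - 1) * ((g : (Module.End k M)) - 1) := by
    noncomm_ring
  rw [this, h1, h2, sub_zero]

/-! ### Translation to the frozen definitions -/

lemma scalarFamily_subset_iff {σ : (LinearMap.GeneralLinearGroup k M)} (h : ((σ : (Module.End k M)) - 1) * ((σ : (Module.End k M)) - 1) = 0) :
    Cfsg.scalarFamily σ ⊆ (G : Set (LinearMap.GeneralLinearGroup k M)) ↔ ∀ c : k, ∃ g ∈ G, (g : (Module.End k M)) = 1 + c • ((σ : (Module.End k M)) - 1) := by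
  constructor
  · intro hs c
    exact ⟨oneAdd _ (smul_sq _ h c), hs ⟨c, rfl⟩, rfl⟩
  · rintro H τ ⟨c, hc⟩
    obtain ⟨g, hg, e⟩ := H c
    exact (Units.ext (hc.trans e.symm) : τ = g) ▸ hg

lemma mem_quadraticElements_iff {σ : (LinearMap.GeneralLinearGroup k M)} :
    σ ∈ Cfsg.quadraticElements G ↔ Rt G ((σ : (Module.End k M)) - 1) ∧ (σ : (Module.End k M)) - 1 ≠ 0 := by
  constructor
  · rintro ⟨-, ⟨h1, h2⟩, h3⟩
    exact ⟨⟨h1, (scalarFamily_subset_iff h1).1 h3⟩, h2⟩
  · rintro ⟨h1, h2⟩
    exact ⟨h1.mem 1 (by simp), ⟨h1.1, h2⟩, (scalarFamily_subset_iff h1.1).2 h1.2⟩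

lemma mem_minimalQuadraticElements_iff {σ : (LinearMap.GeneralLinearGroup k M)} :
    σ ∈ Cfsg.minimalQuadraticElements G ↔ IsMin G ((σ : (Module.End k M)) - 1) := by
  constructor
  · rintro ⟨h, hm⟩
    obtain ⟨h1, h2⟩ := mem_quadraticElements_iff.1 h
    refine ⟨h1, h2, fun A hA hA' => ?_⟩
    have := hm (oneAdd A hA.1) (mem_quadraticElements_iff.2 ⟨by simpa using hA, by simpa using hA'⟩)
    have e : ((oneAdd A hA.1 : LinearMap.GeneralLinearGroup k M) : Module.End k M) - 1 = A := by
      simp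
    rw [Cfsg.commutatorRank, Cfsg.commutatorRank] at this
    show _ ≤ Module.finrank k (LinearMap.range A)
    rw [← e]
    exact this
  · rintro ⟨h1, h2, h3⟩
    refine ⟨mem_quadraticElements_iff.2 ⟨h1, h2⟩, fun τ hτ => ?_⟩
    obtain ⟨t1, t2⟩ := mem_quadraticElements_iff.1 hτ
    exact h3 _ t1 t2

variable {σ : (LinearMap.GeneralLinearGroup k M)}

lemma sameActionClass_eq (hσ : IsMin G ((σ : (Module.End k M)) - 1)) :
    Cfsg.sameActionClass G σ = {τ | τ ∈ rootGroup G _ hσ.sq ∧ τ ≠ 1} := by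
  ext τ
  constructor
  · rintro ⟨h, hk, hr⟩
    have hm := mem_minimalQuadraticElements_iff.1 h
    refine ⟨mem_rootGroup.2 ⟨hm.1, hk.ge, hr.le⟩, ?_⟩
    rintro rfl; exact hm.2.1 (by simp)
  · rintro ⟨hg, hn⟩
    have hn' : (τ : (Module.End k M)) - 1 ≠ 0 := fun e => hn (Units.ext (by simpa [sub_eq_zero] using e))
    exact ⟨mem_minimalQuadraticElements_iff.2 (hσ.of_mem_rootSpace hg hn'),
      hσ.ker_eq hg hn', hσ.range_eq hg hn'⟩

lemma sameActionSubgroup_eq (hσ : IsMin G ((σ : (Module.End k M)) - 1)) :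
    Cfsg.sameActionSubgroup G σ = rootGroup G _ hσ.sq := by
  refine le_antisymm ((Subgroup.closure_le _).2 ?_) ?_
  · rw [sameActionClass_eq hσ]; exact fun τ h => h.1
  · intro τ hτ
    by_cases h : τ = 1
    · rw [h]; exact Subgroup.one_mem _
    · refine Subgroup.subset_closure ?_
      rw [sameActionClass_eq hσ]; exact ⟨hτ, h⟩

/-- Every member of Σ(G) is a root group of a minimal member of `Rt G`, and conversely. -/
lemma mem_quadraticRootSubgroups_iff {E : Subgroup (LinearMap.GeneralLinearGroup k M)} :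
    E ∈ Cfsg.quadraticRootSubgroups G ↔ ∃ (A : (Module.End k M)) (hA : IsMin G A), E = rootGroup G A hA.sq := by
  constructor
  · rintro ⟨σ, hσ, rfl⟩
    exact ⟨_, mem_minimalQuadraticElements_iff.1 hσ,
      sameActionSubgroup_eq (mem_minimalQuadraticElements_iff.1 hσ)⟩
  · rintro ⟨A, hA, rfl⟩
    have h1 : IsMin G (((oneAdd A hA.sq : (LinearMap.GeneralLinearGroup k M)) : (Module.End k M)) - 1) := by simpa using hA
    refine ⟨oneAdd A hA.sq, mem_minimalQuadraticElements_iff.2 h1, ?_⟩
    rw [sameActionSubgroup_eq h1]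
    congr 1; simp

end Cfsg.Agent.H88
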