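/-
Quadratic pairs: pairs `A, B` with `AB + BA` nilpotent satisfy `ABA = BAB = 0`; consequences for `AB - BA`.
-/
import Cfsg.Agent.H88.QBasic
set_option autoImplicit false

namespace Cfsg.Agent.H88

open Module

variable {k : Type*} [Field k] {M : Type*} [AddCommGroup M] [Module k M]
variable {G : Subgroup (LinearMap.GeneralLinearGroup k M)}

lemma two_ne_zero_of_ringChar {k : Type*} [Field k] (hk : ringChar k ≠ 2) : (2 : k) ≠ 0 :=
  Ring.two_ne_zero hk

lemma conjE_oneAdd (B A : Module.End k M) (h : B * B = 0) :
    conjE (oneAdd B h) A = (1 + B) * A * (1 - B) := rfl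

lemma oneAdd_mem_of_rt {B : Module.End k M} (hB : Rt G B) : oneAdd B hB.sq ∈ G := hB.oneAdd_mem

lemma Rt.conjOneAdd {A B : Module.End k M} (hA : Rt G A) (hB : Rt G B) :
    Rt G ((1 + B) * A * (1 - B)) := hA.conj hB.oneAdd_mem

/-- The commutator of `1 + c A` and `1 + B`. -/
lemma Rt.commutator {A B : Module.End k M} (hA : Rt G A) (hB : Rt G B) (h₁ : A * B * A = 0)
    (h₂ : B * A * B = 0) : Rt G (A * B - B * A) := by
  have hA2 := hA.sq
  have hB2 := hB.sq
  refine ⟨?_, fun c => ?_⟩
  · have : (A * B - B * A) * (A * B - B * A)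
        = (A * B * A) * B - A * (B * B) * A - B * (A * A) * B + (B * A * B) * A := by noncomm_ring
    rw [this, h₁, h₂, hA2, hB2]; simp
  · obtain ⟨g, hg, e⟩ := hA.2 c
    have hcA : (c • A) * (c • A) = 0 := smul_sq A hA2 c
    have hgv : g = oneAdd (c • A) hcA := Units.ext (by simpa using e)
    subst hgv
    refine ⟨oneAdd (c • A) hcA * oneAdd B hB2 * (oneAdd (c • A) hcA)⁻¹ * (oneAdd B hB2)⁻¹,
      G.mul_mem (G.mul_mem (G.mul_mem hg hB.oneAdd_mem) (G.inv_mem hg)) (G.inv_mem hB.oneAdd_mem), ?_⟩
    simp only [Units.val_mul, oneAdd_val, oneAdd_inv_val]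
    have hx : ∀ a : Module.End k M, (1 + a) * (1 + B) * (1 - a) * (1 - B)
        = 1 + (a * B - B * a) - B * B - a * a - a * (B * B) + (a * a) * B - a * B * a
          + B * a * B + (a * B * a) * B := fun a => by noncomm_ring
    rw [hx]
    simp only [smul_mul_assoc, mul_smul_comm, h₁, h₂, hA2, hB2, smul_sub, mul_zero, zero_mul, smul_zero, sub_zero, add_zero]

variable [FiniteDimensional k M]

lemma pow_mul_eq (A B : Module.End k M) (hA : A * A = 0) (hB : B * B = 0) (j : ℕ) :
    (A * B + B * A) ^ j * A = (A * B) ^ j * A := by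
  induction j with
  | zero => simp
  | succ j ih =>
    have h1 : (A * B + B * A) * A = A * B * A := by rw [add_mul, mul_assoc B A A, hA]; simp
    have hc : (A * B + B * A) * (A * B) = A * B * (A * B) := by
      rw [add_mul, show B * A * (A * B) = B * (A * A) * B by noncomm_ring, hA]; simp
    rw [pow_succ', mul_assoc, ih]
    have : ∀ n : ℕ, (A * B + B * A) * ((A * B) ^ n * A) = A * B * ((A * B) ^ n * A) := by
      intro n
      cases n with
      | zero => simpa using h1
      | succ n => rw [pow_succ', mul_assoc, ← mul_assoc (A * B + B * A), hc]; noncomm_ring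
    rw [this, pow_succ', mul_assoc]
    simp only [mul_assoc]

lemma isNilpotent_of_mul_mul (A B : Module.End k M) (hA : A * A = 0) (hB : B * B = 0)
    (h : A * B * A = 0) : IsNilpotent (A * B + B * A) := by
  refine ⟨2, ?_⟩
  have : (A * B + B * A) * (A * B + B * A)
      = (A * B * A) * B + A * (B * B) * A + B * (A * A) * B + B * (A * B * A) := by noncomm_ring
  rw [pow_two, this, h, hA, hB]; simp

/-- A nilpotent pair has `A B A = 0`. -/
theorem classTwo (hk : (2 : k) ≠ 0) {A B : Module.End k M} (hA : IsMin G A) (hB : Rt G B)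
    (hn : IsNilpotent (A * B + B * A)) : A * B * A = 0 := by
  obtain ⟨j, hj⟩ := hn
  have key : ∀ j : ℕ, ∀ B : Module.End k M, Rt G B → (A * B) ^ j * A = 0 → A * B * A = 0 := by
    intro j
    induction j using Nat.strong_induction_on with
    | _ j ih =>
      intro B hB h
      set A' := (1 + B) * A * (1 - B) with hA'
      have hA'r : Rt G A' := hA.rt.conjOneAdd hB
      have e1 : ∀ Z : Module.End k M, A * A' * (A * Z) = -(A * B * (A * B) * (A * Z)) := by
        intro Z
        rw [hA']
        calc A * ((1 + B) * A * (1 - B)) * (A * Z)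
            = (A * A) * A * Z - (A * A) * B * A * Z + A * B * (A * A) * Z
                - A * B * (A * B) * (A * Z) := by noncomm_ring
          _ = _ := by rw [hA.sq]; simp
      have e2 : ∀ i : ℕ, (A * A') ^ i * A = (-1 : k) ^ i • ((A * B) ^ (2 * i) * A) := by
        intro i
        induction i with
        | zero => simp
        | succ i ihi =>
          rw [pow_succ', mul_assoc, ihi, mul_smul_comm]
          have h2 : ∀ n : ℕ, A * A' * ((A * B) ^ n * A) = -(A * B * (A * B) * ((A * B) ^ n * A)) := by
            intro n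
            cases n with
            | zero => simpa using e1 1
            | succ n => simpa [pow_succ', mul_assoc] using e1 (B * ((A * B) ^ n * A))
          rw [h2, show 2 * (i + 1) = 2 * i + 1 + 1 by omega, pow_succ' _ (2 * i + 1),
            pow_succ' _ (2 * i), pow_succ' (-1 : k) i, mul_smul, neg_smul, one_smul, smul_neg]
          simp only [mul_assoc]
      -- first get `A B A B A = 0`
      have h2 : A * B * A * B * A = 0 := by
        by_cases hj : j ≤ 2
        · have : (A * B) ^ (2 : ℕ) * A = 0 := by
            obtain ⟨t, ht⟩ := Nat.exists_eq_add_of_le hj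
            rw [ht, Nat.add_comm j t, pow_add, mul_assoc, h, mul_zero]
          simpa [pow_two, mul_assoc] using this
        · have hlt : (j + 1) / 2 < j := by omega
          have h0 : (A * A') ^ ((j + 1) / 2) * A = 0 := by
            obtain ⟨t, ht⟩ := Nat.exists_eq_add_of_le (show j ≤ 2 * ((j + 1) / 2) by omega)
            rw [e2, ht, Nat.add_comm j t, pow_add, mul_assoc, h, mul_zero, smul_zero]
          have := ih _ hlt A' hA'r h0
          have e := e2 1
          rw [pow_one, this, pow_one, show 2 * 1 = 2 from rfl, pow_two, neg_one_smul] at e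
          simpa [mul_assoc] using e.symm
      -- `A B A` is a member of `Rt G` of smaller rank
      by_contra hne
      have hA2 := hA.sq
      have hB2 := hB.sq
      have k1 : ∀ Z : Module.End k M, A * (B * (A * (B * (A * Z)))) = 0 := fun Z => by
        simpa [mul_assoc] using congrArg (· * Z) h2
      have k1' : A * (B * (A * (B * A))) = 0 := by simpa [mul_assoc] using h2
      have k2 : ∀ Z : Module.End k M, A * (A * Z) = 0 := fun Z => by rw [← mul_assoc, hA2, zero_mul]
      have k3 : ∀ Z : Module.End k M, B * (B * Z) = 0 := fun Z => by rw [← mul_assoc, hB2, zero_mul]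
      have hN : ∀ s : k, Rt G ((2 * s) • (A * B * A) + (s * s) • (B * A * B * A - A * B * A * B)) := by
        intro s
        have hs : Rt G ((1 + s • B) * A * (1 - s • B)) := hA.rt.conjOneAdd (hB.smul s)
        have h1 : A * ((1 + s • B) * A * (1 - s • B)) * A = 0 := by
          simp only [mul_add, add_mul, mul_sub, sub_mul, one_mul, mul_one, smul_mul_assoc,
            mul_smul_comm, mul_assoc, k1', k2, k3, hA2, hB2, mul_zero, zero_mul, smul_zero]
          simp
        have h3 : ((1 + s • B) * A * (1 - s • B)) * A * ((1 + s • B) * A * (1 - s • B)) = 0 := by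
          simp only [mul_add, add_mul, mul_sub, sub_mul, one_mul, mul_one, smul_mul_assoc,
            mul_smul_comm, mul_assoc, k1, k1', k2, k3, hA2, hB2, mul_zero, zero_mul, smul_zero]
          simp
        convert hA.rt.commutator hs h1 h3 using 1
        simp only [mul_add, add_mul, mul_sub, sub_mul, one_mul, mul_one, smul_mul_assoc,
          mul_smul_comm, mul_assoc, k2, k3, hA2, hB2, mul_zero, zero_mul, smul_zero, smul_sub,
          smul_add, two_mul, add_smul, mul_smul]
        abel
      set Y := A * B * A with hY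
      set Q := B * A * B * A - A * B * A * B with hQ
      have p1 : Y * Y = 0 := by
        rw [hY]; simp only [mul_assoc, k2, hA2, mul_zero]
      have p2 : Y * Q = 0 := by
        rw [hY, hQ]; simp only [mul_sub, mul_assoc, k1, k1', k2, hA2, mul_zero, sub_zero]
      have p3 : Q * Y = 0 := by
        rw [hY, hQ]; simp only [sub_mul, mul_assoc, k1, k1', k2, hA2, mul_zero, sub_zero]
      have p4 : Q * Q = 0 := by
        rw [hQ]; simp only [mul_sub, sub_mul, mul_assoc, k1, k1', k2, k3, hA2, hB2, mul_zero, sub_zero]
      have hsum : Rt G ((4 : k) • Y) := by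
        have ha := hN 1
        have hb := (hN (-1)).neg
        convert ha.add hb ?_ ?_ using 1
        · simp only [mul_neg, neg_mul, mul_one, neg_neg, one_smul, neg_smul]
          rw [show (4 : k) = 2 + 2 by norm_num, add_smul]
          abel
        all_goals
          simp only [mul_add, add_mul, smul_mul_assoc, mul_smul_comm, mul_neg, neg_mul, p1, p2, p3,
            p4, smul_zero, add_zero, neg_zero]
      have h4 : (4 : k) ≠ 0 := by
        rw [show (4 : k) = 2 * 2 by norm_num]; exact mul_ne_zero hk hk
      have hYr : Rt G Y := by simpa [smul_smul, inv_mul_cancel₀ h4] using hsum.smul (4 : k)⁻¹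
      have hle : LinearMap.range Y ≤ LinearMap.range A := by
        rintro _ ⟨x, rfl⟩; exact ⟨(B * A) x, rfl⟩
      have heq : LinearMap.range Y = LinearMap.range A :=
        Submodule.eq_of_le_of_finrank_le hle (hA.2.2 Y hYr hne)
      -- `A B` maps `range A` onto itself, hence `A B A B A ≠ 0`
      have : LinearMap.range (A * B * Y) = LinearMap.range A := by
        rw [Module.End.mul_eq_comp, LinearMap.range_comp, heq, ← LinearMap.range_comp,
          ← Module.End.mul_eq_comp]
        exact heq
      rw [show A * B * Y = 0 by simpa [hY, mul_assoc] using h2, LinearMap.range_zero] at this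
      exact hA.2.1 (LinearMap.range_eq_bot.1 this.symm)
  exact key j B hB (by rw [← pow_mul_eq A B hA.sq hB.sq, hj, zero_mul])

/-- Data of a nilpotent pair of minimal elements with `AB ≠ BA`. -/
theorem nilpotentPair_data (hk : (2 : k) ≠ 0) {A B : Module.End k M} (hA : IsMin G A)
    (hB : IsMin G B) (hn : IsNilpotent (A * B + B * A)) (hne : A * B ≠ B * A) :
    IsMin G (A * B - B * A) ∧
    (LinearMap.range B).map A = LinearMap.range A ⊓ LinearMap.ker B ∧
    (LinearMap.range A).map B = LinearMap.range B ⊓ LinearMap.ker A ∧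
    Disjoint ((LinearMap.range B).map A) ((LinearMap.range A).map B) ∧
    LinearMap.range (A * B - B * A) = (LinearMap.range B).map A ⊔ (LinearMap.range A).map B := by
  have hABA := classTwo hk hA hB.rt hn
  have hBAB := classTwo hk hB hA.rt (by rwa [add_comm])
  have hN : Rt G (A * B - B * A) := hA.rt.commutator hB.rt hABA hBAB
  have hN0 : A * B - B * A ≠ 0 := sub_ne_zero.2 hne
  have s1 : (LinearMap.range B).map A ≤ LinearMap.range A ⊓ LinearMap.ker B := by
    rintro _ ⟨_, ⟨x, rfl⟩, rfl⟩
    exact ⟨⟨B x, rfl⟩, congrArg (fun f : Module.End k M => f x) hBAB⟩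
  have s2 : (LinearMap.range A).map B ≤ LinearMap.range B ⊓ LinearMap.ker A := by
    rintro _ ⟨_, ⟨x, rfl⟩, rfl⟩
    exact ⟨⟨A x, rfl⟩, congrArg (fun f : Module.End k M => f x) hABA⟩
  have s3 : LinearMap.range (A * B - B * A)
      ≤ (LinearMap.range B).map A ⊔ (LinearMap.range A).map B := by
    rintro _ ⟨x, rfl⟩
    rw [LinearMap.sub_apply]
    exact Submodule.sub_mem _ (Submodule.mem_sup_left ⟨B x, ⟨x, rfl⟩, rfl⟩)
      (Submodule.mem_sup_right ⟨A x, ⟨x, rfl⟩, rfl⟩)
  have rn : ∀ (f : Module.End k M) (p : Submodule k M),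
      finrank k (p.map f) + finrank k (p ⊓ LinearMap.ker f : Submodule k M) = finrank k p := by
    intro f p
    have h := LinearMap.finrank_range_add_finrank_ker (f.domRestrict p)
    have e1 : LinearMap.range (f.domRestrict p) = p.map f := by
      rw [LinearMap.domRestrict, LinearMap.range_comp, Submodule.range_subtype]
    have e2 : (LinearMap.ker (f.domRestrict p)).map p.subtype = p ⊓ LinearMap.ker f := by
      rw [LinearMap.domRestrict, LinearMap.ker_comp, Submodule.map_comap_eq, Submodule.range_subtype]
    rw [e1, (Submodule.equivMapOfInjective p.subtype p.subtype_injective _).finrank_eq, e2] at h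
    exact h
  have c1 := rn A (LinearMap.range B)
  have c2 := rn B (LinearMap.range A)
  have d1 : finrank k (LinearMap.range A) ≤ finrank k (LinearMap.range (A * B - B * A)) :=
    hA.2.2 _ hN hN0
  have dd : finrank k (LinearMap.range A) = finrank k (LinearMap.range B) := hA.rk_eq hB
  have m1 := Submodule.finrank_mono s1
  have m2 := Submodule.finrank_mono s2
  have m3 := Submodule.finrank_mono s3
  have m4 := Submodule.finrank_sup_add_finrank_inf_eq ((LinearMap.range B).map A)
    ((LinearMap.range A).map B)
  refine ⟨hA.of_rk_le hN hN0 (by show finrank k _ ≤ finrank k _; omega), ?_, ?_, ?_, ?_⟩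
  · exact Submodule.eq_of_le_of_finrank_le s1 (by omega)
  · exact Submodule.eq_of_le_of_finrank_le s2 (by omega)
  · rw [disjoint_iff, ← Submodule.finrank_eq_zero]; omega
  · exact Submodule.eq_of_le_of_finrank_le s3 (by omega)

/-- If a non-zero pair from two root spaces commutes, so does every pair. -/
theorem rootSpace_commute (hk : (2 : k) ≠ 0) {A B A' B' : Module.End k M} (hA : IsMin G A)
    (hB : IsMin G B) (hA' : A' ∈ rootSpace G A hA.sq) (hA0 : A' ≠ 0)
    (hB' : B' ∈ rootSpace G B hB.sq) (hB0 : B' ≠ 0) (hc : A' * B' = B' * A') : A * B = B * A := by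
  have hmA := hA.of_mem_rootSpace hA' hA0
  have r1 := hA.range_eq hA' hA0
  have r2 := hB.range_eq hB' hB0
  have k1 := hA.ker_eq hA' hA0
  -- `A'` maps `range B` into `range A ⊓ range B`
  have z : (LinearMap.range B).map A' ≤ LinearMap.range A ⊓ LinearMap.range B := by
    rw [← r2, ← LinearMap.range_comp, ← Module.End.mul_eq_comp]
    refine le_inf ?_ ?_
    · rw [← r1]; exact LinearMap.range_comp_le_range _ _
    · rw [hc]; exact LinearMap.range_comp_le_range _ _
  have h1 : B * A' * B = 0 := by
    rw [mul_assoc]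
    refine apply_eq_zero_of_range_le_ker ?_
    rw [Module.End.mul_eq_comp, LinearMap.range_comp]
    exact (z.trans inf_le_right).trans (range_le_ker hB.sq)
  have h2 : A' * B * A' = 0 :=
    classTwo hk hmA hB.rt (by rw [add_comm]; exact isNilpotent_of_mul_mul B A' hB.sq hmA.sq h1)
  have h3 : A * B * A = 0 := by
    rw [mul_assoc]
    refine apply_eq_zero_of_range_le_ker ?_
    rw [Module.End.mul_eq_comp, LinearMap.range_comp, ← r1, ← k1, ← LinearMap.range_comp]
    rintro y ⟨x, rfl⟩
    simpa [mul_assoc] using congrArg (fun f : Module.End k M => f x) h2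
  by_contra hne
  obtain ⟨-, e1, e2, hd, -⟩ :=
    nilpotentPair_data hk hA hB (isNilpotent_of_mul_mul A B hA.sq hB.sq h3) hne
  have hz : (LinearMap.range B).map A' = ⊥ := by
    refine le_bot_iff.1 (hd ?_ ?_)
    all_goals first | (rw [e1]; refine z.trans ?_) | (rw [e2]; refine z.trans ?_)
    · exact inf_le_inf_left _ (range_le_ker hB.sq)
    · rw [inf_comm]; exact inf_le_inf_left _ (range_le_ker hA.sq)
  have hAB' : A' * B' = 0 := by
    rw [← LinearMap.range_eq_bot, Module.End.mul_eq_comp, LinearMap.range_comp, r2, hz]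
  apply hne
  have a1 : A * B = 0 := by
    refine apply_eq_zero_of_range_le_ker ?_
    rw [← k1, ← r2]
    rintro y ⟨x, rfl⟩
    simpa using congrArg (fun f : Module.End k M => f x) hAB'
  have a2 : B * A = 0 := by
    refine apply_eq_zero_of_range_le_ker ?_
    rw [← hB.ker_eq hB' hB0, ← r1]
    rintro y ⟨x, rfl⟩
    simpa using congrArg (fun f : Module.End k M => f x) (hc.symm.trans hAB')
  rw [a1, a2]

/-- If `1 + A'` normalizes the root group of `B`, the root spaces of `A` and `B` commute. -/
theorem rootSpace_commute_of_normalize (hk : (2 : k) ≠ 0) {A B A' : Module.End k M}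
    (hA : IsMin G A) (hB : IsMin G B) (hA' : A' ∈ rootSpace G A hA.sq) (hA0 : A' ≠ 0)
    (hn : (1 + A') * B * (1 - A') ∈ rootSpace G B hB.sq) : A * B = B * A := by
  have hmA := hA.of_mem_rootSpace hA' hA0
  have hX := rootSpace_mul (self_mem_rootSpace hB.rt) hn
  have h1 : B * A' * B = 0 := by
    have e : B * ((1 + A') * B * (1 - A')) * (1 + A')
        = B * B + B * A' * B - (B * B + B * A' * B) * (A' * A') := by noncomm_ring
    rw [hX, hmA.sq, hB.sq] at e
    simpa using e.symm
  have hnp : IsNilpotent (A' * B + B * A') := by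
    rw [add_comm]; exact isNilpotent_of_mul_mul B A' hB.sq hmA.sq h1
  refine rootSpace_commute hk hA hB hA' hA0 (self_mem_rootSpace hB.rt) hB.2.1 ?_
  by_contra hne
  obtain ⟨-, e1, e2, hd, e3⟩ := nilpotentPair_data hk hmA hB hnp hne
  have h2 := classTwo hk hmA hB.rt hnp
  have hN : A' * B - B * A' ∈ rootSpace G B hB.sq := by
    have e : (1 + A') * B * (1 - A') - B = A' * B - B * A' - A' * B * A' := by noncomm_ring
    rw [h2, sub_zero] at e
    rw [← e]; exact Submodule.sub_mem _ hn (self_mem_rootSpace hB.rt)
  have hle : (LinearMap.range B).map A' ≤ LinearMap.range B :=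
    (le_sup_left.trans e3.ge).trans hN.2.2
  have hz : (LinearMap.range B).map A' = ⊥ := by
    refine le_bot_iff.1 (hd le_rfl ?_)
    rw [e2]
    exact le_inf hle (LinearMap.map_le_range.trans (range_le_ker hmA.sq))
  have hAB : A' * B = 0 := by
    rw [← LinearMap.range_eq_bot, Module.End.mul_eq_comp, LinearMap.range_comp, hz]
  -- hence `range A' ⊓ ker B = ⊥` and `ker B ≤ ker A'`
  have hk0 : LinearMap.ker B ≤ LinearMap.ker A' := fun m hm => by
    have h := hN.2.1 hm
    rw [LinearMap.mem_ker, hAB, zero_sub, LinearMap.neg_apply, neg_eq_zero] at h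
    have : A' m ∈ LinearMap.range A' ⊓ LinearMap.ker B := ⟨⟨m, rfl⟩, h⟩
    rw [← e1, hz] at this
    exact (Submodule.mem_bot k).1 this
  have hke : LinearMap.ker B = LinearMap.ker A' := Submodule.eq_of_le_of_finrank_le hk0 (by
    have h1 := LinearMap.finrank_range_add_finrank_ker A'
    have h2 := LinearMap.finrank_range_add_finrank_ker B
    have h3 : rk A' = rk B := hmA.rk_eq hB
    simp only [rk] at h3; omega)
  apply hne
  rw [hAB, eq_comm]
  refine apply_eq_zero_of_range_le_ker ?_
  rw [hke]; exact range_le_ker hmA.sq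

end Cfsg.Agent.H88
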