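/-
Two by two special linear group: elementary unipotent elements, and the sets of their parameters in a subgroup.
-/
import Mathlib
import Cfsg.Agent.Linear.Generation
set_option autoImplicit false

namespace Cfsg.Agent.H88

open Matrix

variable {R : Type*} [CommRing R]

/-- Upper unitriangular element. -/
def uu (x : R) : SpecialLinearGroup (Fin 2) R := ⟨!![1, x; 0, 1], by simp [Matrix.det_fin_two]⟩

/-- Lower unitriangular element. -/
def vv (x : R) : SpecialLinearGroup (Fin 2) R := ⟨!![1, 0; x, 1], by simp [Matrix.det_fin_two]⟩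

@[simp] lemma uu_coe (x : R) : (uu x : Matrix (Fin 2) (Fin 2) R) = !![1, x; 0, 1] := rfl
@[simp] lemma vv_coe (x : R) : (vv x : Matrix (Fin 2) (Fin 2) R) = !![1, 0; x, 1] := rfl

lemma sl2_ext {g h : SpecialLinearGroup (Fin 2) R}
    (h00 : g 0 0 = h 0 0) (h01 : g 0 1 = h 0 1) (h10 : g 1 0 = h 1 0) (h11 : g 1 1 = h 1 1) :
    g = h := by
  ext i j
  fin_cases i <;> fin_cases j <;> assumption

lemma sl2_mul (g h : SpecialLinearGroup (Fin 2) R) (i j : Fin 2) :
    (g * h) i j = g i 0 * h 0 j + g i 1 * h 1 j := by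
  simp [Matrix.mul_apply, Fin.sum_univ_two]

lemma sl2_det (g : SpecialLinearGroup (Fin 2) R) : g 0 0 * g 1 1 - g 0 1 * g 1 0 = 1 := by
  have := g.2
  rw [Matrix.det_fin_two] at this
  exact this

lemma sl2_inv (g : SpecialLinearGroup (Fin 2) R) :
    g⁻¹ 0 0 = g 1 1 ∧ g⁻¹ 1 1 = g 0 0 ∧ g⁻¹ 0 1 = -g 0 1 ∧ g⁻¹ 1 0 = -g 1 0 := by
  simp [SpecialLinearGroup.coe_inv, Matrix.adjugate_fin_two]

lemma uu_add (x y : R) : uu (x + y) = uu x * uu y := by
  refine sl2_ext ?_ ?_ ?_ ?_ <;> simp [sl2_mul, add_comm]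

lemma uu_zero : uu (0 : R) = 1 := by
  refine sl2_ext ?_ ?_ ?_ ?_ <;> simp [uu]

lemma vv_add (x y : R) : vv (x + y) = vv x * vv y := by
  refine sl2_ext ?_ ?_ ?_ ?_ <;> simp [sl2_mul, add_comm]

lemma vv_zero : vv (0 : R) = 1 := by
  refine sl2_ext ?_ ?_ ?_ ?_ <;> simp [vv]

lemma uu_inv (x : R) : (uu x)⁻¹ = uu (-x) :=
  inv_eq_of_mul_eq_one_right (by rw [← uu_add, add_neg_cancel, uu_zero])

lemma vv_inv (x : R) : (vv x)⁻¹ = vv (-x) :=
  inv_eq_of_mul_eq_one_right (by rw [← vv_add, add_neg_cancel, vv_zero])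

lemma uu_injective : Function.Injective (uu (R := R)) := fun x y h => by
  simpa using congrArg (fun g : SpecialLinearGroup (Fin 2) R => g 0 1) h

/-- The upper parameters of a subgroup. -/
def upperParam (Γ : Subgroup (SpecialLinearGroup (Fin 2) R)) : AddSubgroup R where
  carrier := {x | uu x ∈ Γ}
  zero_mem' := by simp [uu_zero]
  add_mem' := by
    intro x y hx hy
    show uu (x + y) ∈ Γ
    rw [uu_add]; exact Γ.mul_mem hx hy
  neg_mem' := by
    intro x hx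
    show uu (-x) ∈ Γ
    rw [← uu_inv]; exact Γ.inv_mem hx

@[simp] lemma mem_upperParam {Γ : Subgroup (SpecialLinearGroup (Fin 2) R)} {x : R} :
    x ∈ upperParam Γ ↔ uu x ∈ Γ := Iff.rfl

/-- Conjugating `uu x` by an upper triangular element. -/
lemma conj_uu_of_c_eq_zero {g : SpecialLinearGroup (Fin 2) R} (hc : g 1 0 = 0) (x : R) :
    g * uu x * g⁻¹ = uu (g 0 0 ^ 2 * x) := by
  have hd := sl2_det g
  rw [hc, mul_zero, sub_zero] at hd
  obtain ⟨i0, i1, i2, i3⟩ := sl2_inv g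
  refine sl2_ext ?_ ?_ ?_ ?_ <;>
    simp only [sl2_mul, i0, i1, i2, i3, hc] <;> simp [hc] <;> first | linear_combination hd | ring

lemma sq_mul_mem_upperParam {Γ : Subgroup (SpecialLinearGroup (Fin 2) R)}
    {g : SpecialLinearGroup (Fin 2) R} (hg : g ∈ Γ) (hc : g 1 0 = 0) {x : R}
    (hx : x ∈ upperParam Γ) : g 0 0 ^ 2 * x ∈ upperParam Γ := by
  rw [mem_upperParam, ← conj_uu_of_c_eq_zero hc]
  exact Γ.mul_mem (Γ.mul_mem hg hx) (Γ.inv_mem hg)

variable {F : Type*} [Field F]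

/-- If all upper and lower unitriangular elements lie in `Γ` then `Γ = ⊤`. -/
lemma eq_top_of_uu_vv {Γ : Subgroup (SpecialLinearGroup (Fin 2) F)} (hu : ∀ x, uu x ∈ Γ)
    (hv : ∀ x, vv x ∈ Γ) : Γ = ⊤ := by
  apply Linear.eq_top_of_transvection_mem
  intro i j hij b
  fin_cases i <;> fin_cases j
  · exact absurd rfl hij
  · convert hu b using 1
    refine sl2_ext ?_ ?_ ?_ ?_ <;> simp [SpecialLinearGroup.transvection_coe, uu]
  · convert hv b using 1
    refine sl2_ext ?_ ?_ ?_ ?_ <;> simp [SpecialLinearGroup.transvection_coe, vv]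
  · exact absurd rfl hij

/-- If all upper elements and one lower element lie in `Γ` then `Γ = ⊤`. -/
lemma eq_top_of_uu {Γ : Subgroup (SpecialLinearGroup (Fin 2) F)} (hu : ∀ x, uu x ∈ Γ)
    {m : F} (hm : m ≠ 0) (hv : vv m ∈ Γ) : Γ = ⊤ := by
  refine eq_top_of_uu_vv hu fun x => ?_
  set w := uu (-m⁻¹) * vv m * uu (-m⁻¹) with hw
  have hwΓ : w ∈ Γ := Γ.mul_mem (Γ.mul_mem (hu _) hv) (hu _)
  have e : vv x = w * uu (-(x / m ^ 2)) * w⁻¹ := by
    rw [eq_mul_inv_iff_mul_eq]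
    refine sl2_ext ?_ ?_ ?_ ?_ <;> simp only [hw, sl2_mul, uu_coe, vv_coe] <;> simp <;> field_simp <;> simp <;> ring
  rw [e]
  exact Γ.mul_mem (Γ.mul_mem hwΓ (hu _)) (Γ.inv_mem hwΓ)

end Cfsg.Agent.H88
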