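/-
Coordinates of a pair of square zero endomorphisms `A`, `B` on the part where `A B + B A` is invertible.
-/
import Cfsg.Agent.H88.QBasic
import Cfsg.Agent.H88.SL2Basic
set_option autoImplicit false
set_option maxHeartbeats 1000000

namespace Cfsg.Agent.H88

open Polynomial Matrix

universe u v

variable {k : Type u} [Field k] {M : Type v} [AddCommGroup M] [Module k M]

/-- The `k[x]/(g)`-structure of the part of `M` where `A B + B A` is invertible. -/
structure Coords (A B : Module.End k M) where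
  g : k[X]
  monic : g.Monic
  not_unit : ¬ IsUnit g
  ev : AdjoinRoot g →ₗ[k] Module.End k M
  ev_mul : ∀ r s, ev r * ev s = ev (r * s)
  ev_inj : ∀ r, ev r = 0 → r = 0
  xi : AdjoinRoot g
  root_mul : AdjoinRoot.root g * xi = 1
  ev_root : ev (AdjoinRoot.root g) = (A * B + B * A) * ev 1
  comm : ∀ (r : AdjoinRoot g) (Y : Module.End k M), Commute Y (A * B + B * A) → Commute Y (ev r)
  nilC : IsNilpotent ((A * B + B * A) * (1 - ev 1))
  sqA : A * A = 0
  sqB : B * B = 0

theorem exists_coords [FiniteDimensional k M] {A B : Module.End k M} (hA : A * A = 0) (hB : B * B = 0)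
    (hn : ¬ IsNilpotent (A * B + B * A)) : Nonempty (Coords A B) := by
  set C := A * B + B * A
  have hint : IsIntegral k C := Algebra.IsIntegral.isIntegral C
  have hm0 : minpoly k C ≠ 0 := minpoly.ne_zero hint
  obtain ⟨g, hg, hg0⟩ := Polynomial.exists_eq_pow_rootMultiplicity_mul_and_not_dvd (minpoly k C) hm0 0
  rw [map_zero, sub_zero] at hg hg0
  set a := (minpoly k C).rootMultiplicity 0
  have hmon : g.Monic := (monic_X_pow a).of_mul_monic_left (hg ▸ minpoly.monic hint)
  obtain ⟨s, t, hst⟩ := ((Polynomial.prime_X.coprime_iff_not_dvd).2 hg0).pow_left (m := a + 1)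
  have hnu : ¬ IsUnit g := fun h => hn ⟨a, by
    have := minpoly.aeval k C
    rw [hg, hmon.eq_one_of_isUnit h, mul_one, map_pow, aeval_X] at this
    exact this⟩
  set P : Module.End k M := aeval C (s * X ^ (a + 1)) with hP
  have hz : ∀ f, minpoly k C ∣ f → aeval C f = 0 := fun f => by
    rintro ⟨q, rfl⟩; rw [map_mul, minpoly.aeval, zero_mul]
  obtain ⟨ev, hev⟩ : ∃ ev : AdjoinRoot g →ₗ[k] Module.End k M,
      ∀ f : k[X], ev (AdjoinRoot.mk g f) = aeval C (f * (s * X ^ (a + 1))) := by
    refine ⟨(LinearMap.mulRight k P).comp ((aeval C).toLinearMap.comp (AdjoinRoot.modByMonicHom hmon)),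
      fun f => ?_⟩
    show aeval C (AdjoinRoot.modByMonicHom hmon (AdjoinRoot.mk g f)) * P = _
    rw [AdjoinRoot.modByMonicHom_mk, hP, ← map_mul, ← sub_eq_zero, ← map_sub]
    refine hz _ ⟨-(f /ₘ g) * (s * X), ?_⟩
    rw [hg]
    linear_combination (s * X ^ (a + 1)) * Polynomial.modByMonic_add_div f g
  have hp1 : AdjoinRoot.mk g (s * X ^ (a + 1)) = 1 := by
    rw [← map_one (AdjoinRoot.mk g), AdjoinRoot.mk_eq_mk]
    exact ⟨-t, by linear_combination hst⟩
  have hev1 : ev 1 = P := by
    rw [← map_one (AdjoinRoot.mk g), hev, one_mul]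
  refine ⟨⟨g, hmon, hnu, ev, ?_, ?_, AdjoinRoot.mk g (s * X ^ a), ?_, ?_, ?_, ?_, hA, hB⟩⟩
  · intro r r'
    induction r using AdjoinRoot.induction_on with
    | ih f =>
      induction r' using AdjoinRoot.induction_on with
      | ih f' =>
        rw [← map_mul (AdjoinRoot.mk g), hev, hev, hev, ← map_mul, ← sub_eq_zero, ← map_sub]
        refine hz _ ⟨f * f' * (s * X) * (-t), ?_⟩
        rw [hg]
        linear_combination (f * f' * (s * X ^ (a + 1))) * hst
  · intro r hr
    induction r using AdjoinRoot.induction_on with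
    | ih f =>
      rw [hev, ← minpoly.dvd_iff, hg] at hr
      obtain ⟨q, hq⟩ := hr
      rw [AdjoinRoot.mk_eq_zero]
      exact ⟨X ^ a * q + f * t, by linear_combination hq - f * hst⟩
  · rw [← AdjoinRoot.mk_X, ← map_mul]
    refine Eq.trans ?_ hp1
    rw [show (X : k[X]) * (s * X ^ a) = s * X ^ (a + 1) by ring]
  · rw [← AdjoinRoot.mk_X, hev, hev1, map_mul, aeval_X, hP]
  · intro r Y hY
    induction r using AdjoinRoot.induction_on with
    | ih f =>
      rw [hev]
      generalize f * (s * X ^ (a + 1)) = q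
      induction q using Polynomial.induction_on' with
      | add p q hp hq => rw [map_add]; exact hp.add_right hq
      | monomial n r =>
        rw [aeval_monomial]
        exact (Algebra.commute_algebraMap_right r Y).mul_right (hY.pow_right n)
  · refine ⟨a + 1, ?_⟩
    have hPC : Commute C (1 - ev 1) := by
      rw [hev1, hP, map_mul, map_pow, aeval_X]
      refine (Commute.one_right C).sub_right (Commute.mul_right ?_ ((Commute.refl C).pow_right _))
      have := congrArg (aeval C) (mul_comm X s)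
      rwa [map_mul, map_mul, aeval_X] at this
    have hid : IsIdempotentElem (1 - ev 1) := by
      refine IsIdempotentElem.one_sub ?_
      rw [IsIdempotentElem, hev1, hP, ← map_mul, ← sub_eq_zero, ← map_sub]
      refine hz _ ⟨(s * X) * (-t), ?_⟩
      rw [hg]
      linear_combination (s * X ^ (a + 1)) * hst
    rw [hPC.mul_pow, hid.pow_succ_eq a, hev1, hP,
      show (1 : Module.End k M) = aeval C (1 : k[X]) from (map_one _).symm, ← map_sub,
      show C ^ (a + 1) = aeval C ((X : k[X]) ^ (a + 1)) by rw [map_pow, aeval_X], ← map_mul]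
    refine hz _ ⟨t * X, ?_⟩
    rw [hg]
    linear_combination (-(X ^ (a + 1))) * hst

namespace Coords

variable {A B : Module.End k M} (c : Coords A B)

/-- The idempotent. -/
noncomputable def P : Module.End k M := c.ev 1

/-- The matrix units. -/
noncomputable def E : Matrix (Fin 2) (Fin 2) (Module.End k M) :=
  !![A * B * c.ev c.xi, A * c.P; B * c.ev c.xi, B * A * c.ev c.xi]

/-- The non-unital algebra map from `2 × 2` matrices. -/
noncomputable def Φ (m : Matrix (Fin 2) (Fin 2) (AdjoinRoot c.g)) : Module.End k M :=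
  ∑ i, ∑ j, c.E i j * c.ev (m i j)

lemma commA (r : AdjoinRoot c.g) : Commute A (c.ev r) := by
  refine c.comm r A ?_
  rw [Commute, SemiconjBy, mul_add, add_mul, ← mul_assoc A A B, c.sqA, mul_assoc B A A, c.sqA]
  simp [mul_assoc]

lemma commB (r : AdjoinRoot c.g) : Commute B (c.ev r) := by
  refine c.comm r B ?_
  rw [Commute, SemiconjBy, mul_add, add_mul, ← mul_assoc B B A, c.sqB, mul_assoc A B B, c.sqB]
  simp [mul_assoc]

lemma P_mul (r : AdjoinRoot c.g) : c.P * c.ev r = c.ev r := by rw [P, c.ev_mul, one_mul]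

lemma mul_P (r : AdjoinRoot c.g) : c.ev r * c.P = c.ev r := by rw [P, c.ev_mul, mul_one]

lemma P_sq : c.P * c.P = c.P := c.P_mul 1

lemma Q_sq : (1 - c.P) * (1 - c.P) = 1 - c.P := IsIdempotentElem.one_sub c.P_sq

lemma commute_P {Y : Module.End k M} (h : Commute Y (A * B + B * A)) : Commute Y c.P := c.comm 1 Y h

lemma C_mul_D : (A * B + B * A) * c.ev c.xi = c.P := by
  rw [← c.P_mul c.xi, ← mul_assoc, P, ← c.ev_root, c.ev_mul, c.root_mul]

include c in
lemma A_C : A * (A * B + B * A) = A * B * A := by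
  rw [mul_add, ← mul_assoc, c.sqA, zero_mul, zero_add, mul_assoc]

include c in
lemma B_C : B * (A * B + B * A) = B * A * B := by
  rw [mul_add, ← mul_assoc B B, c.sqB, zero_mul, add_zero, mul_assoc]

lemma E_mul (i j j' l : Fin 2) : c.E i j * c.E j' l = if j = j' then c.E i l else 0 := by
  set D := c.ev c.xi with hD
  have a2 : ∀ Z, A * (A * Z) = 0 := fun Z => by rw [← mul_assoc, c.sqA, zero_mul]
  have b2 : ∀ Z, B * (B * Z) = 0 := fun Z => by rw [← mul_assoc, c.sqB, zero_mul]
  have da : ∀ Z, D * (A * Z) = A * (D * Z) := fun Z => by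
    rw [← mul_assoc, ← (c.commA c.xi).eq, mul_assoc]
  have db : ∀ Z, D * (B * Z) = B * (D * Z) := fun Z => by
    rw [← mul_assoc, ← (c.commB c.xi).eq, mul_assoc]
  have pa : ∀ Z, c.P * (A * Z) = A * (c.P * Z) := fun Z => by
    rw [← mul_assoc, P, ← (c.commA 1).eq, mul_assoc]
  have pb : ∀ Z, c.P * (B * Z) = B * (c.P * Z) := fun Z => by
    rw [← mul_assoc, P, ← (c.commB 1).eq, mul_assoc]
  have pd : c.P * D = D := c.P_mul _
  have dp : D * c.P = D := c.mul_P _
  have pd' : ∀ Z, c.P * (D * Z) = D * Z := fun Z => by rw [← mul_assoc, pd]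
  have aba : ∀ Z, A * (B * (A * (D * Z))) = A * (c.P * Z) := fun Z => by
    rw [← c.C_mul_D, ← hD, mul_assoc _ D Z, ← mul_assoc A (A * B + B * A), c.A_C]
    simp only [mul_assoc]
  have bab : ∀ Z, B * (A * (B * (D * Z))) = B * (c.P * Z) := fun Z => by
    rw [← c.C_mul_D, ← hD, mul_assoc _ D Z, ← mul_assoc B (A * B + B * A), c.B_C]
    simp only [mul_assoc]
  have aba1 : A * (B * (A * D)) = A * c.P := by simpa using aba 1
  have bab1 : B * (A * (B * D)) = B * c.P := by simpa using bab 1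
  fin_cases i <;> fin_cases j <;> fin_cases j' <;> fin_cases l <;>
    simp [E, ← hD, mul_assoc, a2, b2, c.sqA, c.sqB, da, db, pa, pb, pd, dp, pd', aba, bab, aba1, bab1, c.P_sq]

lemma ev_E (r : AdjoinRoot c.g) (i j : Fin 2) : c.ev r * c.E i j = c.E i j * c.ev r := by
  have h1 := c.commA r
  have h2 := c.commB r
  have h3 : Commute (c.ev c.xi) (c.ev r) := by
    rw [Commute, SemiconjBy, c.ev_mul, c.ev_mul, mul_comm]
  have h4 : Commute c.P (c.ev r) := by
    rw [Commute, SemiconjBy, c.P_mul, c.mul_P]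
  have : Commute (c.E i j) (c.ev r) := by
    fin_cases i <;> fin_cases j <;> simp only [E] <;>
      first
      | exact (h1.mul_left h2).mul_left h3
      | exact h1.mul_left h4
      | exact h2.mul_left h3
      | exact (h2.mul_left h1).mul_left h3
  exact this.eq.symm

lemma Φ_mul (m n : Matrix (Fin 2) (Fin 2) (AdjoinRoot c.g)) : c.Φ (m * n) = c.Φ m * c.Φ n := by
  have key : ∀ i j j' l r s, c.E i j * c.ev r * (c.E j' l * c.ev s)
      = (if j = j' then c.E i l else 0) * c.ev (r * s) := by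
    intro i j j' l r s
    rw [mul_assoc, ← mul_assoc (c.ev r), c.ev_E, mul_assoc (c.E j' l), c.ev_mul, ← mul_assoc, c.E_mul]
  simp only [Φ, Fin.sum_univ_two, add_mul, mul_add, key, Matrix.mul_apply, map_add]
  simp [add_assoc]
  abel

lemma Φ_add (m n : Matrix (Fin 2) (Fin 2) (AdjoinRoot c.g)) : c.Φ (m + n) = c.Φ m + c.Φ n := by
  simp only [Φ, Matrix.add_apply, map_add, mul_add, Finset.sum_add_distrib]

lemma Φ_scalar (r : AdjoinRoot c.g) : c.Φ !![r, 0; 0, r] = c.ev r := by
  simp only [Φ, Fin.sum_univ_two, E]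
  simp [← add_mul, c.C_mul_D, c.P_mul]

lemma Φ_one : c.Φ 1 = c.P := by
  rw [show (1 : Matrix (Fin 2) (Fin 2) (AdjoinRoot c.g)) = !![1, 0; 0, 1] by
    ext i j; fin_cases i <;> fin_cases j <;> simp, c.Φ_scalar, P]

lemma P_Φ (m : Matrix (Fin 2) (Fin 2) (AdjoinRoot c.g)) : c.P * c.Φ m = c.Φ m := by
  rw [← c.Φ_one, ← c.Φ_mul, one_mul]

lemma Φ_P (m : Matrix (Fin 2) (Fin 2) (AdjoinRoot c.g)) : c.Φ m * c.P = c.Φ m := by
  rw [← c.Φ_one, ← c.Φ_mul, mul_one]

lemma Φ_upper (r : AdjoinRoot c.g) : c.Φ !![0, r; 0, 0] = A * c.ev r := by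
  simp only [Φ, Fin.sum_univ_two, E]
  simp [mul_assoc, c.P_mul]

lemma Φ_lower (r : AdjoinRoot c.g) : c.Φ !![0, 0; AdjoinRoot.root c.g * r, 0] = B * c.ev r := by
  simp only [Φ, Fin.sum_univ_two, E]
  simp [mul_assoc, c.ev_mul, ← mul_assoc c.xi, mul_comm c.xi, c.root_mul]

lemma Φ_zero : c.Φ 0 = 0 := by simp [Φ]

lemma Φ_inj {m : Matrix (Fin 2) (Fin 2) (AdjoinRoot c.g)} (h : c.Φ m = 0) : m = 0 := by
  have hsum : ∀ r, c.E 0 0 * c.ev r + c.E 1 1 * c.ev r = c.ev r := fun r => by
    simp [E, ← add_mul, c.C_mul_D, c.P_mul]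
  have key : ∀ i j, c.ev (m i j) = 0 := by
    intro i j
    have h0 : ∀ a, c.E a i * c.Φ m * c.E j a = c.E a a * c.ev (m i j) := by
      intro a
      simp only [Φ, Finset.mul_sum, Finset.sum_mul]
      rw [Finset.sum_eq_single i, Finset.sum_eq_single j]
      · rw [mul_assoc, mul_assoc, c.ev_E, ← mul_assoc (c.E i j), c.E_mul, if_pos rfl, ← mul_assoc,
          c.E_mul, if_pos rfl]
      · intro b _ hb
        rw [mul_assoc, mul_assoc, c.ev_E, ← mul_assoc (c.E i b), c.E_mul, if_neg hb]; simp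
      · simp
      · intro b _ hb
        refine Finset.sum_eq_zero fun b' _ => ?_
        rw [← mul_assoc, c.E_mul, if_neg (Ne.symm hb)]; simp
      · simp
    have e0 := h0 0
    have e1 := h0 1
    rw [h] at e0 e1
    simp only [mul_zero, zero_mul] at e0 e1
    rw [← hsum, ← e0, ← e1, add_zero]
  exact Matrix.ext fun i j => c.ev_inj _ (key i j)

end Coords

end Cfsg.Agent.H88
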