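/-
The filtration of an algebra of endomorphisms by word length, and the groups it defines.
-/
import Mathlib
set_option autoImplicit false

namespace Cfsg.Agent.H88

open scoped commutatorElement

variable {k : Type*} [Field k] {M : Type*} [AddCommGroup M] [Module k M]

/-- The span of the products of at least `i` members of `S`. -/
def wordSpan (S : Set (Module.End k M)) (i : ℕ) : Submodule k (Module.End k M) :=
  Submodule.span k {x | ∃ l : List (Module.End k M), (∀ a ∈ l, a ∈ S) ∧ i ≤ l.length ∧ x = l.prod}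

variable {S : Set (Module.End k M)} {L : ℕ}

lemma mem_wordSpan_one {a : Module.End k M} (ha : a ∈ S) : a ∈ wordSpan S 1 :=
  Submodule.subset_span ⟨[a], by simpa using ha, le_rfl, by simp⟩

lemma mem_wordSpan_two {a b : Module.End k M} (ha : a ∈ S) (hb : b ∈ S) : a * b ∈ wordSpan S 2 :=
  Submodule.subset_span ⟨[a, b], by simp [ha, hb], le_rfl, by simp⟩

lemma wordSpan_anti {i j : ℕ} (h : i ≤ j) : wordSpan S j ≤ wordSpan S i :=
  Submodule.span_mono fun _ ⟨l, h1, h2, h3⟩ => ⟨l, h1, h.trans h2, h3⟩

lemma wordSpan_mul {i j : ℕ} {x y : Module.End k M} (hx : x ∈ wordSpan S i) (hy : y ∈ wordSpan S j) :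
    x * y ∈ wordSpan S (i + j) := by
  induction hx using Submodule.span_induction with
  | mem x hx =>
    induction hy using Submodule.span_induction with
    | mem y hy =>
      obtain ⟨l, l1, l2, rfl⟩ := hx
      obtain ⟨m, m1, m2, rfl⟩ := hy
      exact Submodule.subset_span ⟨l ++ m,
        fun a ha => (List.mem_append.1 ha).elim (l1 a) (m1 a), by simp; omega, by simp⟩
    | zero => simp
    | add y z _ _ hy hz => rw [mul_add]; exact Submodule.add_mem _ hy hz
    | smul c y _ hy => rw [mul_smul_comm]; exact Submodule.smul_mem _ c hy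
  | zero => simp
  | add x z _ _ hx hz => rw [add_mul]; exact Submodule.add_mem _ hx hz
  | smul c x _ hx => rw [smul_mul_assoc]; exact Submodule.smul_mem _ c hx

lemma wordSpan_eq_bot (hS : ∀ l : List (Module.End k M), (∀ a ∈ l, a ∈ S) → l.length = L → l.prod = 0)
    {i : ℕ} (h : L ≤ i) : wordSpan S i = ⊥ := by
  refine Submodule.span_eq_bot.2 ?_
  rintro x ⟨l, h1, h2, rfl⟩
  rw [← List.take_append_drop L l, List.prod_append,
    hS (l.take L) (fun a ha => h1 a (List.mem_of_mem_take ha)) (by simp; omega), zero_mul]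

lemma pow_mem_wordSpan {i : ℕ} {x : Module.End k M} (hx : x ∈ wordSpan S i) :
    ∀ n : ℕ, x ^ (n + 1) ∈ wordSpan S ((n + 1) * i)
  | 0 => by simpa using hx
  | n + 1 => by
    rw [pow_succ, add_mul _ 1 i, one_mul]
    exact wordSpan_mul (pow_mem_wordSpan hx n) hx

lemma isNilpotent_of_mem_wordSpan
    (hS : ∀ l : List (Module.End k M), (∀ a ∈ l, a ∈ S) → l.length = L → l.prod = 0)
    {x : Module.End k M} (hx : x ∈ wordSpan S 1) : IsNilpotent x := by
  refine ⟨L + 1, ?_⟩
  have := pow_mem_wordSpan hx L
  rw [mul_one, wordSpan_eq_bot hS (by omega)] at this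
  exact (Submodule.mem_bot k).1 this

variable {Q : Module.End k M}

lemma dev_mul (hQ : Q * Q = Q) {g h : (Module.End k M)ˣ} (hh : Commute (h : Module.End k M) Q) :
    ((g * h : (Module.End k M)ˣ) - 1 : Module.End k M) * Q
      = ((g : Module.End k M) - 1) * Q * (((h : Module.End k M) - 1) * Q)
        + ((g : Module.End k M) - 1) * Q + ((h : Module.End k M) - 1) * Q := by
  have hc : Q * (((h : Module.End k M) - 1) * Q) = ((h : Module.End k M) - 1) * Q := by
    rw [← mul_assoc, ← (hh.sub_left (Commute.one_left Q)).eq, mul_assoc, hQ]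
  rw [mul_assoc _ Q, hc, Units.val_mul]
  noncomm_ring

/-- If generators and their inverses are `1` modulo words, so is the whole closure. -/
theorem closure_dev (hQ : Q * Q = Q) {X : Set (Module.End k M)ˣ}
    (hX : ∀ x ∈ X, Commute (x : Module.End k M) Q ∧ ((x : Module.End k M) - 1) * Q ∈ wordSpan S 1 ∧
      ((x⁻¹ : (Module.End k M)ˣ) - 1 : Module.End k M) * Q ∈ wordSpan S 1)
    {g : (Module.End k M)ˣ} (hg : g ∈ Subgroup.closure X) :
    Commute (g : Module.End k M) Q ∧ ((g : Module.End k M) - 1) * Q ∈ wordSpan S 1 := by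
  induction hg using Subgroup.closure_induction_left with
  | one => simp
  | mul_left x hx y _ ih =>
    refine ⟨by rw [Units.val_mul]; exact (hX x hx).1.mul_left ih.1, ?_⟩
    rw [dev_mul hQ ih.1]
    exact Submodule.add_mem _ (Submodule.add_mem _
      (wordSpan_anti (by omega) (wordSpan_mul (hX x hx).2.1 ih.2)) (hX x hx).2.1) ih.2
  | inv_mul_cancel x hx y _ ih =>
    refine ⟨by rw [Units.val_mul]; exact ((hX x hx).1.units_inv_left).mul_left ih.1, ?_⟩
    rw [dev_mul hQ ih.1]
    exact Submodule.add_mem _ (Submodule.add_mem _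
      (wordSpan_anti (by omega) (wordSpan_mul (hX x hx).2.2 ih.2)) (hX x hx).2.2) ih.2

/-- A perfect quotient is covered by elements congruent to `1` modulo arbitrarily long words. -/
theorem exists_deep (hQ : Q * Q = Q)
    (hS : ∀ l : List (Module.End k M), (∀ a ∈ l, a ∈ S) → l.length = L → l.prod = 0)
    {P T : Type*} [Group P] [Group T] (φ : P →* (Module.End k M)ˣ) (ψ : P →* T)
    (hψ : Function.Surjective ψ) (hT : commutator T = ⊤)
    (hφ : ∀ p, Commute (φ p : Module.End k M) Q ∧ ((φ p : Module.End k M) - 1) * Q ∈ wordSpan S 1)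
    (γ : T) : ∃ p, ψ p = γ ∧ (φ p : Module.End k M) * Q = Q := by
  have key : ∀ n : ℕ, ∀ γ : T, ∃ p, ψ p = γ ∧ ((φ p : Module.End k M) - 1) * Q ∈ wordSpan S (n + 1) := by
    intro n
    induction n with
    | zero => exact fun γ => let ⟨p, hp⟩ := hψ γ; ⟨p, hp, (hφ p).2⟩
    | succ n ih =>
      let U : Subgroup T :=
        { carrier := {γ | ∃ p, ψ p = γ ∧ ((φ p : Module.End k M) - 1) * Q ∈ wordSpan S (n + 1 + 1)}
          one_mem' := ⟨1, map_one ψ, by simp⟩
          mul_mem' := by
            rintro _ _ ⟨p, rfl, hp⟩ ⟨q, rfl, hq⟩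
            refine ⟨p * q, map_mul ψ p q, ?_⟩
            rw [map_mul, dev_mul hQ (hφ q).1]
            exact Submodule.add_mem _ (Submodule.add_mem _
              (wordSpan_anti (by omega) (wordSpan_mul hp hq)) hp) hq
          inv_mem' := by
            rintro _ ⟨p, rfl, hp⟩
            refine ⟨p⁻¹, map_inv ψ p, ?_⟩
            have e := dev_mul hQ (g := φ p) (h := φ p⁻¹) (hφ p⁻¹).1
            rw [← map_mul, mul_inv_cancel, map_one, Units.val_one, sub_self, zero_mul] at e
            rw [eq_neg_of_add_eq_zero_right e.symm]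
            exact Submodule.neg_mem _ (Submodule.add_mem _
              (wordSpan_anti (by omega) (wordSpan_mul hp (hφ p⁻¹).2)) hp) }
      have hle : commutator T ≤ U := by
        rw [commutator_def, Subgroup.commutator_le]
        intro a _ b _
        obtain ⟨p, rfl, hp⟩ := ih a
        obtain ⟨q, rfl, hq⟩ := hψ b
        refine ⟨⁅p, q⁆, map_commutatorElement ψ p q, ?_⟩
        set X := ((φ p : Module.End k M) - 1) * Q with hX
        set Y := ((φ q : Module.End k M) - 1) * Q with hY
        set Z := ((φ (p⁻¹ * q⁻¹) : Module.End k M) - 1) * Q with hZ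
        have e1 := dev_mul hQ (g := φ p) (h := φ q) (hφ q).1
        have e2 := dev_mul hQ (g := φ q) (h := φ p) (hφ p).1
        have hd : ((φ (p * q) : Module.End k M) - φ (q * p)) * Q = X * Y - Y * X := by
          rw [map_mul, map_mul, show ((φ p * φ q : (Module.End k M)ˣ) : Module.End k M) - (φ q * φ p : (Module.End k M)ˣ)
            = ((φ p * φ q : (Module.End k M)ˣ) - 1 : Module.End k M) - ((φ q * φ p : (Module.End k M)ˣ) - 1 : Module.End k M) by abel,
            sub_mul _ _ Q, e1, e2]
          abel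
        have he : ((φ ⁅p, q⁆ : Module.End k M) - 1) * Q = (X * Y - Y * X) * Z + (X * Y - Y * X) := by
          have hc : Q * Z = Z := by
            rw [hZ, ← mul_assoc, ← ((hφ _).1.sub_left (Commute.one_left Q)).eq, mul_assoc, hQ]
          have h1 : (φ ⁅p, q⁆ : Module.End k M) - 1
              = ((φ (p * q) : Module.End k M) - φ (q * p)) * (φ (p⁻¹ * q⁻¹) : Module.End k M) := by
            rw [sub_mul, ← Units.val_mul, ← Units.val_mul, ← map_mul, ← map_mul,
              show q * p * (p⁻¹ * q⁻¹) = 1 by group, map_one, Units.val_one, commutatorElement_def]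
            simp [mul_assoc]
          rw [← hd, mul_assoc _ Q Z, hc, h1, hZ]
          noncomm_ring
        rw [he]
        have hd' : X * Y - Y * X ∈ wordSpan S (n + 1 + 1) :=
          Submodule.sub_mem _ (wordSpan_mul hp (hφ q).2)
            (by rw [add_comm (n + 1) 1]; exact wordSpan_mul (hφ q).2 hp)
        exact Submodule.add_mem _ (wordSpan_anti (by omega) (wordSpan_mul hd' (hφ _).2)) hd'
      intro γ
      exact hle (hT ▸ Subgroup.mem_top γ)
  obtain ⟨p, hp, h⟩ := key L γ
  refine ⟨p, hp, ?_⟩
  rw [wordSpan_eq_bot hS (by omega), Submodule.mem_bot, sub_mul, one_mul, sub_eq_zero] at h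
  exact h

/-- Unipotence from vanishing of long words. -/
theorem unipotent_of_words
    (hS : ∀ l : List (Module.End k M), (∀ a ∈ l, a ∈ S) → l.length = L → l.prod = 0)
    {X : Set (Module.End k M)ˣ}
    (hX : ∀ x ∈ X, ((x : Module.End k M) - 1) ∈ wordSpan S 1 ∧
      ((x⁻¹ : (Module.End k M)ˣ) - 1 : Module.End k M) ∈ wordSpan S 1)
    (l : List (Module.End k M)ˣ) (hl : ∀ g ∈ l, g ∈ Subgroup.closure X) (hlen : l.length = L + 1) :
    (l.map fun g : (Module.End k M)ˣ => (g : Module.End k M) - 1).prod = 0 := by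
  have key : ∀ l : List (Module.End k M)ˣ, (∀ g ∈ l, g ∈ Subgroup.closure X) → l ≠ [] →
      (l.map fun g : (Module.End k M)ˣ => (g : Module.End k M) - 1).prod ∈ wordSpan S l.length := by
    intro l
    induction l with
    | nil => simp
    | cons a t ih =>
      intro h _
      have ha := (closure_dev (Q := 1) (mul_one 1) (fun x hx => ⟨Commute.one_right _, by simpa using hX x hx⟩)
        (h a (by simp))).2
      rw [mul_one] at ha
      by_cases ht : t = []
      · simpa [ht] using ha
      · rw [List.map_cons, List.prod_cons, List.length_cons, add_comm]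
        exact wordSpan_mul ha (ih (fun g hg => h g (by simp [hg])) ht)
  have := key l hl (by intro e; simp [e] at hlen)
  rw [wordSpan_eq_bot hS (by omega)] at this
  exact (Submodule.mem_bot k).1 this

end Cfsg.Agent.H88
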