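/-
The group generated by the two scalar families of a pair, in coordinates.
-/
import Cfsg.Agent.H88.QCoords
import Cfsg.Agent.H88.QFiltration
set_option autoImplicit false

namespace Cfsg.Agent.H88

open Polynomial Matrix

universe u v

variable {k : Type u} [Field k] {M : Type v} [AddCommGroup M] [Module k M]

namespace Coords

variable {A B : Module.End k M} (c : Coords A B)

lemma ev_algebraMap (t : k) : c.ev (algebraMap k (AdjoinRoot c.g) t) = t • c.P := by
  rw [Algebra.algebraMap_eq_smul_one, map_smul, P]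

lemma C_mul_ev (r : AdjoinRoot c.g) :
    (A * B + B * A) * c.ev r = c.ev (AdjoinRoot.root c.g * r) := by
  conv_lhs => rw [← c.P_mul r, ← mul_assoc, P, ← c.ev_root, c.ev_mul]


lemma pow_mul_ev (j : ℕ) (r : AdjoinRoot c.g) :
    (A * B + B * A) ^ j * c.ev r = c.ev (AdjoinRoot.root c.g ^ j * r) := by
  induction j generalizing r with
  | zero => simp
  | succ j ih => rw [pow_succ, mul_assoc, c.C_mul_ev, ih, ← mul_assoc, ← pow_succ]

lemma pow_mul_xi (j : ℕ) : (A * B + B * A) ^ j * c.ev (c.xi ^ j) = c.P := by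
  rw [c.pow_mul_ev, ← mul_pow, c.root_mul, one_pow, P]

include c in
lemma comm_self_A : Commute A (A * B + B * A) := by
  rw [Commute, SemiconjBy, c.A_C, add_mul, mul_assoc B A A, c.sqA, mul_zero, add_zero]

include c in
lemma comm_self_B : Commute B (A * B + B * A) := by
  rw [Commute, SemiconjBy, c.B_C, add_mul, mul_assoc A B B, c.sqB, mul_zero, zero_add]

/-- Pairs of generators. -/
noncomputable def pairGens : Set ((Module.End k M)ˣ × Matrix.SpecialLinearGroup (Fin 2) (AdjoinRoot c.g)) :=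
  Set.range (fun t : k => (oneAdd (t • A) (smul_sq A c.sqA t), uu (algebraMap k (AdjoinRoot c.g) t))) ∪
  Set.range (fun t : k => (oneAdd (t • B) (smul_sq B c.sqB t),
    vv (algebraMap k (AdjoinRoot c.g) t * AdjoinRoot.root c.g)))

/-- The graph of the coordinate map. -/
noncomputable def pairGroup :
    Subgroup ((Module.End k M)ˣ × Matrix.SpecialLinearGroup (Fin 2) (AdjoinRoot c.g)) :=
  Subgroup.closure c.pairGens

lemma genA_mem (t : k) :
    (oneAdd (t • A) (smul_sq A c.sqA t), uu (algebraMap k (AdjoinRoot c.g) t)) ∈ c.pairGroup :=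
  Subgroup.subset_closure (Or.inl ⟨t, rfl⟩)

lemma genB_mem (t : k) : (oneAdd (t • B) (smul_sq B c.sqB t),
    vv (algebraMap k (AdjoinRoot c.g) t * AdjoinRoot.root c.g)) ∈ c.pairGroup :=
  Subgroup.subset_closure (Or.inr ⟨t, rfl⟩)

lemma Φ_uu (r : AdjoinRoot c.g) :
    c.Φ ((uu r : Matrix.SpecialLinearGroup (Fin 2) (AdjoinRoot c.g)) : Matrix _ _ _) = c.P + A * c.ev r := by
  rw [← c.Φ_upper, ← c.Φ_one, ← c.Φ_add, uu_coe]
  congr 1; ext i j; fin_cases i <;> fin_cases j <;> simp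

lemma Φ_vv (r : AdjoinRoot c.g) :
    c.Φ ((vv (r * AdjoinRoot.root c.g) : Matrix.SpecialLinearGroup (Fin 2) (AdjoinRoot c.g)) : Matrix _ _ _)
      = c.P + B * c.ev r := by
  rw [← c.Φ_lower, ← c.Φ_one, ← c.Φ_add, vv_coe]
  congr 1; ext i j; fin_cases i <;> fin_cases j <;> simp [mul_comm]

theorem pairGroup_spec {p : (Module.End k M)ˣ × Matrix.SpecialLinearGroup (Fin 2) (AdjoinRoot c.g)}
    (hp : p ∈ c.pairGroup) :
    Commute (p.1 : Module.End k M) (A * B + B * A) ∧
    (p.1 : Module.End k M) * c.P = c.Φ (p.2 : Matrix (Fin 2) (Fin 2) (AdjoinRoot c.g)) := by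
  induction hp using Subgroup.closure_induction with
  | mem p hp =>
    rcases hp with ⟨t, rfl⟩ | ⟨t, rfl⟩
    · refine ⟨(Commute.one_left _).add_left (c.comm_self_A.smul_left t), ?_⟩
      rw [c.Φ_uu, c.ev_algebraMap, oneAdd_val, add_mul, one_mul, smul_mul_assoc, mul_smul_comm]
    · refine ⟨(Commute.one_left _).add_left (c.comm_self_B.smul_left t), ?_⟩
      rw [c.Φ_vv, c.ev_algebraMap, oneAdd_val, add_mul, one_mul, smul_mul_assoc, mul_smul_comm]
  | one => simp [c.Φ_one]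
  | mul p q _ _ hp hq =>
    refine ⟨by rw [Prod.fst_mul, Units.val_mul]; exact hp.1.mul_left hq.1, ?_⟩
    rw [Prod.fst_mul, Units.val_mul, Prod.snd_mul,
      show c.Φ ((p.2 * q.2 : Matrix.SpecialLinearGroup (Fin 2) (AdjoinRoot c.g)) : Matrix (Fin 2) (Fin 2) (AdjoinRoot c.g))
        = c.Φ (p.2 : Matrix (Fin 2) (Fin 2) (AdjoinRoot c.g)) * c.Φ (q.2 : Matrix (Fin 2) (Fin 2) (AdjoinRoot c.g))
        from c.Φ_mul _ _, mul_assoc, hq.2,
      ← c.P_Φ (q.2 : Matrix (Fin 2) (Fin 2) (AdjoinRoot c.g)), ← mul_assoc, hp.2, c.P_Φ]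
  | inv p _ hp =>
    refine ⟨by rw [Prod.fst_inv]; exact hp.1.units_inv_left, ?_⟩
    rw [Prod.fst_inv, Prod.snd_inv, ← c.Φ_one,
      show (1 : Matrix (Fin 2) (Fin 2) (AdjoinRoot c.g))
        = (p.2 : Matrix (Fin 2) (Fin 2) (AdjoinRoot c.g)) * ((p.2⁻¹ : Matrix.SpecialLinearGroup (Fin 2) (AdjoinRoot c.g)) : Matrix (Fin 2) (Fin 2) (AdjoinRoot c.g)) by
          exact congrArg Subtype.val (mul_inv_cancel p.2).symm,
      c.Φ_mul, ← hp.2, mul_assoc, c.P_Φ, ← mul_assoc, Units.inv_mul, one_mul]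

lemma map_fst_pairGroup : c.pairGroup.map (MonoidHom.fst _ _) =
    Subgroup.closure (Set.range (fun t : k => oneAdd (t • A) (smul_sq A c.sqA t)) ∪
      Set.range (fun t : k => oneAdd (t • B) (smul_sq B c.sqB t))) := by
  rw [pairGroup, MonoidHom.map_closure, pairGens, Set.image_union, ← Set.range_comp, ← Set.range_comp]
  rfl

lemma pairGroup_le {G : Subgroup (LinearMap.GeneralLinearGroup k M)} (hA : Rt G A) (hB : Rt G B)
    {p : (Module.End k M)ˣ × Matrix.SpecialLinearGroup (Fin 2) (AdjoinRoot c.g)}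
    (hp : p ∈ c.pairGroup) : p.1 ∈ G := by
  have h : c.pairGroup ≤ G.comap (MonoidHom.fst _ _) := by
    rw [pairGroup, Subgroup.closure_le]
    rintro _ (⟨t, rfl⟩ | ⟨t, rfl⟩)
    · exact hA.mem t rfl
    · exact hB.mem t rfl
  exact h hp

/-- The two generators of the part where `A B + B A` is nilpotent. -/
def nilGens : Set (Module.End k M) := {A * (1 - c.P), B * (1 - c.P)}

lemma commA_Q : Commute A (1 - c.P) := (Commute.one_right A).sub_right (c.commA 1)

lemma commB_Q : Commute B (1 - c.P) := (Commute.one_right B).sub_right (c.commB 1)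

lemma nilGens_words : ∃ L, ∀ l : List (Module.End k M), (∀ a ∈ l, a ∈ c.nilGens) → l.length = L → l.prod = 0 := by
  obtain ⟨n, hn⟩ := c.nilC
  set Q := 1 - c.P with hQdef
  set Z := (A * B + B * A) * (1 - c.ev 1)
  have sq : ∀ x ∈ c.nilGens, x * x = 0 := by
    rintro x (rfl | rfl)
    · rw [← hQdef, mul_assoc, ← mul_assoc Q A, ← c.commA_Q.eq, mul_assoc A Q, ← mul_assoc A A, c.sqA, zero_mul]
    · rw [← hQdef, mul_assoc, ← mul_assoc Q B, ← c.commB_Q.eq, mul_assoc B Q, ← mul_assoc B B, c.sqB, zero_mul]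
  have qq : ∀ X Y W : Module.End k M, Commute Q Y → Commute Q W → X * Q * (Y * Q) * (W * Q) = X * Y * W * Q := by
    intro X Y W hY hW
    rw [mul_assoc X Q, ← mul_assoc Q Y Q, hY.eq, mul_assoc Y Q Q, c.Q_sq, ← mul_assoc X Y Q,
      mul_assoc (X * Y) Q, ← mul_assoc Q W Q, hW.eq, mul_assoc W Q Q, c.Q_sq]
    simp only [mul_assoc, ← hQdef]
  have zq : ∀ X : Module.End k M, Commute Q X → Z * (X * Q) = (A * B + B * A) * X * Q := fun X hX => by
    show (A * B + B * A) * Q * (X * Q) = _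
    rw [mul_assoc _ Q, ← mul_assoc Q X Q, hX.eq, mul_assoc X Q Q, c.Q_sq, ← mul_assoc]
  have alt : ∀ x ∈ c.nilGens, ∀ y ∈ c.nilGens, ∀ z ∈ c.nilGens, ∀ W : Module.End k M,
      x * (y * (z * W)) = Z * (z * W) ∨ x * (y * (z * W)) = 0 := by
    intro x hx y hy z hz W
    by_cases hxy : x = y
    · right; rw [hxy, ← mul_assoc, sq y hy, zero_mul]
    by_cases hyz : y = z
    · right; rw [hyz, ← mul_assoc z, sq z hz, zero_mul, mul_zero]
    left
    rw [← mul_assoc x, ← mul_assoc, ← mul_assoc Z]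
    congr 1
    rcases hx with rfl | rfl <;> rcases hy with rfl | rfl <;> rcases hz with rfl | rfl <;>
      (try exact absurd rfl hxy) <;> (try exact absurd rfl hyz)
    · rw [← hQdef, qq _ _ _ c.commB_Q.symm c.commA_Q.symm, zq _ c.commA_Q.symm, ← c.A_C, c.comm_self_A.eq]
    · rw [← hQdef, qq _ _ _ c.commA_Q.symm c.commB_Q.symm, zq _ c.commB_Q.symm, ← c.B_C, c.comm_self_B.eq]
  have key : ∀ j, ∀ l : List (Module.End k M), (∀ a ∈ l, a ∈ c.nilGens) → l.length = 2 * j + 1 →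
      ∃ Y, l.prod = Z ^ j * Y := by
    intro j
    induction j with
    | zero => intro l _ _; exact ⟨l.prod, by simp⟩
    | succ j ih =>
      intro l hl hlen
      match l, hlen with
      | x :: y :: z :: rest, hlen =>
        rcases alt x (hl x (by simp)) y (hl y (by simp)) z (hl z (by simp)) rest.prod with h | h
        · obtain ⟨Y, hY⟩ := ih (z :: rest) (fun a ha => hl a (by simp at ha ⊢; tauto))
            (by simp at hlen ⊢; omega)
          rw [List.prod_cons] at hY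
          exact ⟨Y, by simp only [List.prod_cons]; rw [h, hY, pow_succ', mul_assoc Z (Z ^ j) Y]⟩
        · exact ⟨0, by simp only [List.prod_cons]; rw [h, mul_zero]⟩
      | [], hlen => simp at hlen
      | [_], hlen => simp at hlen
      | [_, _], hlen => simp at hlen
  refine ⟨2 * n + 1, fun l hl hlen => ?_⟩
  obtain ⟨Y, hY⟩ := key n l hl hlen
  rw [hY, hn, zero_mul]

lemma pairGroup_dev {p : (Module.End k M)ˣ × Matrix.SpecialLinearGroup (Fin 2) (AdjoinRoot c.g)}
    (hp : p ∈ c.pairGroup) : Commute (p.1 : Module.End k M) (1 - c.P) ∧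
      ((p.1 : Module.End k M) - 1) * (1 - c.P) ∈ wordSpan c.nilGens 1 := by
  have hm : p.1 ∈ c.pairGroup.map (MonoidHom.fst _ _) := ⟨p, hp, rfl⟩
  rw [c.map_fst_pairGroup] at hm
  refine closure_dev c.Q_sq ?_ hm
  have hA : A * (1 - c.P) ∈ wordSpan c.nilGens 1 := mem_wordSpan_one (Or.inl rfl)
  have hB : B * (1 - c.P) ∈ wordSpan c.nilGens 1 := mem_wordSpan_one (Or.inr rfl)
  rintro _ (⟨t, rfl⟩ | ⟨t, rfl⟩)
  · refine ⟨(Commute.one_left _).add_left (c.commA_Q.smul_left t), ?_, ?_⟩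
    · rw [oneAdd_val, add_sub_cancel_left, smul_mul_assoc]; exact Submodule.smul_mem _ t hA
    · rw [oneAdd_inv_val, sub_sub_cancel_left, ← neg_smul, smul_mul_assoc]; exact Submodule.smul_mem _ _ hA
  · refine ⟨(Commute.one_left _).add_left (c.commB_Q.smul_left t), ?_, ?_⟩
    · rw [oneAdd_val, add_sub_cancel_left, smul_mul_assoc]; exact Submodule.smul_mem _ t hB
    · rw [oneAdd_inv_val, sub_sub_cancel_left, ← neg_smul, smul_mul_assoc]; exact Submodule.smul_mem _ _ hB

/-- The coordinates of a conjugate of `A`. -/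
lemma conj_coords {p : (Module.End k M)ˣ × Matrix.SpecialLinearGroup (Fin 2) (AdjoinRoot c.g)}
    (hp : p ∈ c.pairGroup) :
    conjE p.1 A * c.P = c.Φ !![-(p.2 0 0 * p.2 1 0), p.2 0 0 ^ 2; -(p.2 1 0 ^ 2), p.2 0 0 * p.2 1 0] := by
  obtain ⟨h1, h2⟩ := c.pairGroup_spec hp
  obtain ⟨-, h4⟩ := c.pairGroup_spec (c.pairGroup.inv_mem hp)
  have e : conjE p.1 A * c.P = (p.1 : Module.End k M) * c.P * (A * c.P) * ((p⁻¹).1 * c.P : Module.End k M) := by
    have hc := (c.commute_P (c.pairGroup_spec (c.pairGroup.inv_mem hp)).1).eq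
    rw [Prod.fst_inv] at hc ⊢
    have hcA : ∀ Z, c.P * (A * Z) = A * (c.P * Z) := fun Z => by
      rw [← mul_assoc, P, ← (c.commA 1).eq, mul_assoc]
    have hcP : ∀ Z, c.P * (((p.1⁻¹ : (Module.End k M)ˣ) : Module.End k M) * Z)
        = ((p.1⁻¹ : (Module.End k M)ˣ) : Module.End k M) * (c.P * Z) := fun Z => by
      rw [← mul_assoc, ← hc, mul_assoc]
    simp only [conjE, mul_assoc, hcA, hcP, c.P_sq]
  have eA : A * c.P = c.Φ !![0, 1; 0, 0] := (c.Φ_upper 1).symm
  rw [e, h2, h4, eA, ← c.Φ_mul, ← c.Φ_mul, Prod.snd_inv]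
  congr 1
  obtain ⟨i0, i1, i2, i3⟩ := sl2_inv p.2
  ext i j
  fin_cases i <;> fin_cases j <;> simp [Matrix.mul_apply, Fin.sum_univ_two, Matrix.adjugate_fin_two] <;> ring

end Coords

end Cfsg.Agent.H88
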