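/-
Counting the elements conjugate into a TI centralizer `C = C_G(g)` modulo a normal subgroup `Z`.
-/
import Mathlib
set_option autoImplicit false

namespace Cfsg.Agent.H88

variable {G : Type*} [Group G]

/-- `C` is the centralizer of each of its elements outside `Z`. -/
def CenTI (Z C : Subgroup G) : Prop :=
  Z ≤ C ∧ ∀ a ∈ C, a ∉ Z → Subgroup.centralizer ({a} : Set G) = C

/-- Elements outside `Z` conjugate into `C`. -/
def conjDomain (Z C : Subgroup G) : Set G := {g | g ∉ Z ∧ ∃ h : G, h * g * h⁻¹ ∈ C}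

lemma conjDomain_subset (Z C : Subgroup G) : conjDomain Z C ⊆ (Z : Set G)ᶜ := fun _ h => h.1

lemma mem_centralizer_conj {a x h : G} :
    h * x * h⁻¹ ∈ Subgroup.centralizer ({h * a * h⁻¹} : Set G) ↔
      x ∈ Subgroup.centralizer ({a} : Set G) := by
  simp only [Subgroup.mem_centralizer_singleton_iff]
  rw [show h * x * h⁻¹ * (h * a * h⁻¹) = h * (x * a) * h⁻¹ by group,
    show h * a * h⁻¹ * (h * x * h⁻¹) = h * (a * x) * h⁻¹ by group, mul_left_inj, mul_right_inj]

variable {Z : Subgroup G} [hZ : Z.Normal]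

include hZ in
lemma mem_conj_iff_not_mem {g h : G} : h * g * h⁻¹ ∈ Z ↔ g ∈ Z := by
  refine ⟨fun hh => ?_, fun hh => hZ.conj_mem g hh h⟩
  simpa [mul_assoc] using hZ.conj_mem _ hh h⁻¹

/-- Domains of two such subgroups are equal or disjoint. -/
lemma conjDomain_subset_compl {C C' : Subgroup G} (hC : CenTI Z C) (hC' : CenTI Z C') {g a : G}
    (hg : g ∈ conjDomain Z C) (hgn : g ∉ conjDomain Z C') (ha : a ∈ conjDomain Z C) :
    a ∉ conjDomain Z C' := by
  rintro ⟨haZ, h', hh'⟩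
  obtain ⟨hgZ, u, hu⟩ := hg
  obtain ⟨-, h, hh⟩ := ha
  refine hgn ⟨hgZ, h' * h⁻¹ * u, ?_⟩
  have e1 := hC.2 _ hh (by rwa [mem_conj_iff_not_mem])
  have e2 := hC'.2 _ hh' (by rwa [mem_conj_iff_not_mem])
  rw [← e2, show h' * h⁻¹ * u * g * (h' * h⁻¹ * u)⁻¹ = h' * (h⁻¹ * (u * g * u⁻¹) * h⁻¹⁻¹) * h'⁻¹ by group,
    mem_centralizer_conj, ← mem_centralizer_conj (h := h)]
  rw [e1]
  simpa [mul_assoc] using hu

variable [Finite G]

/-- The size of the domain. -/
lemma card_conjDomain {C : Subgroup G} (hC : CenTI Z C) :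
    Nat.card (conjDomain Z C) * Nat.card (Subgroup.normalizer (C : Set G))
      = Nat.card G * Nat.card ((C : Set G) \ (Z : Set G) : Set G) := by
  classical
  have key : ∀ g : conjDomain Z C,
      Nat.card {x : G × ((C : Set G) \ (Z : Set G) : Set G) // x.1⁻¹ * x.2.1 * x.1 = g.1}
        = Nat.card (Subgroup.normalizer (C : Set G)) := by
    rintro ⟨g, hgZ, u, hu⟩
    have hcg := hC.2 _ hu (by rwa [mem_conj_iff_not_mem])
    refine Nat.card_congr
      { toFun := fun x => ⟨x.1.1 * u⁻¹, ?_⟩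
        invFun := fun n => ⟨(n.1 * u, ⟨n.1 * u * g * (n.1 * u)⁻¹, ?_, ?_⟩), by group⟩
        left_inv := ?_
        right_inv := fun n => Subtype.ext (by simp) }
    · obtain ⟨⟨h, c, hc, hcZ⟩, hx⟩ := x
      have hce := hC.2 c hc hcZ
      rw [Subgroup.mem_normalizer_iff]
      intro y
      show y ∈ C ↔ h * u⁻¹ * y * (h * u⁻¹)⁻¹ ∈ C
      conv_rhs => rw [← hce]
      conv_lhs => rw [← hcg]
      have hx' : c = h * g * h⁻¹ := by
        have : h⁻¹ * c * h = g := hx
        rw [← this]; group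
      rw [hx', show h * u⁻¹ * y * (h * u⁻¹)⁻¹ = h * (u⁻¹ * y * u) * h⁻¹ by group,
        mem_centralizer_conj]
      have h2 := mem_centralizer_conj (a := g) (x := u⁻¹ * y * u) (h := u)
      rwa [show u * (u⁻¹ * y * u) * u⁻¹ = y by group] at h2
    · rw [show n.1 * u * g * (n.1 * u)⁻¹ = n.1 * (u * g * u⁻¹) * n.1⁻¹ by group]
      exact (Subgroup.mem_normalizer_iff.1 n.2 _).1 hu
    · intro hh; exact hgZ ((mem_conj_iff_not_mem).1 hh)
    · rintro ⟨⟨h, c, hc⟩, hx⟩
      simp only [Subtype.mk.injEq, Prod.mk.injEq, inv_mul_cancel_right]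
      refine ⟨trivial, ?_⟩
      change h⁻¹ * c * h = g at hx
      rw [← hx]; group
  haveI : Fintype (conjDomain Z C) := Fintype.ofFinite _
  have e : (Σ g : conjDomain Z C,
      {x : G × ((C : Set G) \ (Z : Set G) : Set G) // x.1⁻¹ * x.2.1 * x.1 = g.1})
        ≃ G × ((C : Set G) \ (Z : Set G) : Set G) :=
    { toFun := fun x => x.2.1
      invFun := fun x => ⟨⟨x.1⁻¹ * x.2.1 * x.1,
        fun hh => x.2.2.2 (by simpa [mul_assoc] using hZ.conj_mem _ hh x.1),
        x.1, by simpa [mul_assoc] using x.2.2.1⟩, x, rfl⟩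
      left_inv := by
        rintro ⟨⟨g, hg⟩, x, hx⟩
        change x.1⁻¹ * x.2.1 * x.1 = g at hx
        subst hx
        rfl
      right_inv := fun x => rfl }
  rw [← Nat.card_prod G ((C : Set G) \ (Z : Set G) : Set G), ← Nat.card_congr e, Nat.card_sigma,
    Finset.sum_congr rfl fun g _ => key g, Finset.sum_const, Finset.card_univ, smul_eq_mul,
    Nat.card_eq_fintype_card (α := conjDomain Z C)]

end Cfsg.Agent.H88
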