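/-
Arithmetic at the end of Dickson's counting.
-/
import Mathlib
set_option autoImplicit false

namespace Cfsg.Agent.H88

lemma dickson_arith {m s e n : ℕ} (hs : 5 ≤ s) (hm : s + 1 ≤ m) (he : e ∣ s - 1)
    (h : m * s * e = n * (m * (s - 2) + 2)) : m = s + 1 := by
  obtain ⟨t, ht⟩ := he
  obtain ⟨s', rfl⟩ : ∃ s', s = s' + 2 := ⟨s - 2, by omega⟩
  rw [show s' + 2 - 2 = s' by omega] at h
  rw [show s' + 2 - 1 = s' + 1 by omega] at ht
  have he1 : 1 ≤ e := by
    rcases Nat.eq_zero_or_pos e with rfl | h0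
    · simp at ht
    · exact h0
  have hne : e + 1 ≤ n := by
    by_contra hh
    have : n * (m * s' + 2) ≤ e * (m * s' + 2) := Nat.mul_le_mul_right _ (by omega)
    nlinarith
  have hlt : (e + 1) * (m * s' + 2) ≤ m * (s' + 2) * e := by
    rw [h]; exact Nat.mul_le_mul_right _ hne
  have hse : s' < 2 * e := by nlinarith
  have ht2 : t ≤ 2 := by
    by_contra hh
    have : e * 3 ≤ e * t := Nat.mul_le_mul_left _ (by omega)
    omega
  have ht0 : t = 1 ∨ t = 2 := by
    rcases Nat.eq_zero_or_pos t with rfl | h0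
    · simp at ht
    · omega
  rcases ht0 with rfl | rfl
  · -- `e = s - 1`
    obtain rfl : e = s' + 1 := by omega
    rcases Nat.lt_trichotomy n (s' + 3) with h1 | rfl | h1
    · obtain rfl : n = s' + 2 := by omega
      have h2 : m * (s' + 1) = m * s' + 2 := by
        have : (s' + 2) * (m * (s' + 1)) = (s' + 2) * (m * s' + 2) := by rw [← h]; ring
        exact Nat.eq_of_mul_eq_mul_left (by omega) this
      rw [mul_add, mul_one] at h2
      omega
    · nlinarith
    · have : (s' + 4) * (m * s' + 2) ≤ n * (m * s' + 2) := Nat.mul_le_mul_right _ (by omega)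
      nlinarith
  · -- `e = (s - 1) / 2`
    rcases eq_or_lt_of_le hne with h1 | h1
    · subst h1
      nlinarith
    · have : (e + 2) * (m * s' + 2) ≤ n * (m * s' + 2) := Nat.mul_le_mul_right _ (by omega)
      nlinarith

end Cfsg.Agent.H88
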