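/-
Dickson's counting for finite subgroups of SL₂ in odd characteristic.
-/
import Mathlib
import Cfsg.Agent.H88.SL2Basic
import Cfsg.Agent.H88.CenCount
import Cfsg.Agent.H88.SL2Arith
import Cfsg.Agent.Linear.TwoTorus
set_option autoImplicit false

namespace Cfsg.Agent.H88

open Matrix

variable {K : Type*} [Field K]

/-- The lower-left entry. -/
def cEnt (g : SpecialLinearGroup (Fin 2) K) : K := g 1 0

/-- Elements with lower-left entry zero. -/
def upperTri (Γ : Subgroup (SpecialLinearGroup (Fin 2) K)) : Subgroup Γ where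
  carrier := {g | g.1 1 0 = 0}
  one_mem' := by simp
  mul_mem' := by
    intro g h hg hh
    simp only [Set.mem_setOf_eq] at *
    rw [Subgroup.coe_mul, sl2_mul, hg, hh]; ring
  inv_mem' := by
    intro g hg
    simp only [Set.mem_setOf_eq] at *
    rw [Subgroup.coe_inv, (sl2_inv g.1).2.2.2, hg, neg_zero]

lemma mem_upperTri {Γ : Subgroup (SpecialLinearGroup (Fin 2) K)} {g : Γ} :
    g ∈ upperTri Γ ↔ g.1 1 0 = 0 := Iff.rfl

/-- The scalar elements. -/
def scalSL (Γ : Subgroup (SpecialLinearGroup (Fin 2) K)) : Subgroup Γ :=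
  (Subgroup.center (SpecialLinearGroup (Fin 2) K)).subgroupOf Γ

instance scalSL_normal (Γ : Subgroup (SpecialLinearGroup (Fin 2) K)) : (scalSL Γ).Normal := by
  unfold scalSL; infer_instance

lemma mem_scalSL {Γ : Subgroup (SpecialLinearGroup (Fin 2) K)} {g : Γ} :
    g ∈ scalSL Γ ↔ g.1 = 1 ∨ g.1 = -1 := by
  rw [scalSL, Subgroup.mem_subgroupOf, Linear.mem_center_SL_two]

lemma upper_det {g : SpecialLinearGroup (Fin 2) K} (hc : g 1 0 = 0) : g 0 0 * g 1 1 = 1 := by
  have := sl2_det g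
  rwa [hc, mul_zero, sub_zero] at this

variable {Γ : Subgroup (SpecialLinearGroup (Fin 2) K)}

/-- The upper-left entry on the triangular subgroup, as a unit. -/
noncomputable def topEntry (Γ : Subgroup (SpecialLinearGroup (Fin 2) K)) : upperTri Γ →* Kˣ where
  toFun g := Units.mkOfMulEqOne _ _ (upper_det g.2)
  map_one' := by ext; simp
  map_mul' := by
    intro g h
    ext
    have hh : h.1.1 1 0 = 0 := h.2
    simp [sl2_mul, hh]

lemma topEntry_val (g : upperTri Γ) : (topEntry Γ g : K) = g.1.1 0 0 := rfl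

lemma isScalarTwo_iff_scal {g : Γ} : Linear.IsScalarTwo (g.1 : Matrix (Fin 2) (Fin 2) K) ↔ g ∈ scalSL Γ := by
  rw [Linear.isScalarTwo_SL_iff, mem_scalSL]

lemma mem_centralizer_sub {g y : Γ} :
    y ∈ Subgroup.centralizer ({g} : Set Γ) ↔
      y.1 ∈ Subgroup.centralizer ({g.1} : Set (SpecialLinearGroup (Fin 2) K)) := by
  simp [Subgroup.mem_centralizer_singleton_iff, Subtype.ext_iff]

lemma cenTI_centralizer {g : Γ} (hg : g ∉ scalSL Γ) :
    CenTI (scalSL Γ) (Subgroup.centralizer ({g} : Set Γ)) := by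
  refine ⟨fun z hz => ?_, fun a ha haZ => ?_⟩
  · rw [mem_centralizer_sub]
    exact Subgroup.center_le_centralizer _ (Subgroup.mem_subgroupOf.1 hz)
  · ext y
    rw [mem_centralizer_sub, mem_centralizer_sub,
      Linear.centralizer_eq_of_mem (fun h => hg (isScalarTwo_iff_scal.1 h))
        (mem_centralizer_sub.1 ha) (fun h => haZ (isScalarTwo_iff_scal.1 h))]

/-- In an abelian centralizer of a semisimple element the normalizer has index at most two. -/
lemma card_normalizer_torus [Finite Γ] {g : Γ}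
    (ht : (g.1 : Matrix (Fin 2) (Fin 2) K).trace ^ 2 ≠ 4) :
    Nat.card (Subgroup.normalizer ((Subgroup.centralizer ({g} : Set Γ) : Subgroup Γ) : Set Γ))
      ≤ 2 * Nat.card (Subgroup.centralizer ({g} : Set Γ)) := by
  classical
  set C := Subgroup.centralizer ({g} : Set Γ)
  set N := Subgroup.normalizer (C : Set Γ)
  have hgC : g ∈ C := Subgroup.mem_centralizer_singleton_iff.2 rfl
  have key : ∀ n ∈ N, n * g * n⁻¹ = g ∨ n * g * n⁻¹ = g⁻¹ := by
    intro n hn
    have h := mem_centralizer_sub.1 ((Subgroup.mem_normalizer_iff.1 hn g).1 hgC)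
    rcases Linear.eq_or_eq_inv_of_trace ht h
      (by rw [Subgroup.coe_mul, Subgroup.coe_mul, Subgroup.coe_inv, Linear.trace_conj]) with e | e
    · exact Or.inl (Subtype.ext e)
    · exact Or.inr (Subtype.ext e)
  by_cases hall : ∀ n ∈ N, n * g * n⁻¹ = g
  · have hle : N ≤ C := fun n hn => Subgroup.mem_centralizer_singleton_iff.2 (by
      have e := hall n hn
      rwa [mul_inv_eq_iff_eq_mul] at e)
    have := Subgroup.card_le_of_le hle
    omega
  · push_neg at hall
    obtain ⟨w, hw, hwne⟩ := hall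
    have hwi := (key w hw).resolve_left hwne
    let f : N → C × Bool := fun n =>
      if h : n.1 ∈ C then (⟨n.1, h⟩, false) else
        (⟨w⁻¹ * n.1, Subgroup.mem_centralizer_singleton_iff.2 (by
          have hni := (key n.1 n.2).resolve_left (fun e => h
            (Subgroup.mem_centralizer_singleton_iff.2 (by rwa [mul_inv_eq_iff_eq_mul] at e)))
          have e : n.1 * g * n.1⁻¹ = w * g * w⁻¹ := hni.trans hwi.symm
          calc w⁻¹ * n.1 * g = w⁻¹ * (n.1 * g * n.1⁻¹) * n.1 := by group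
            _ = g * (w⁻¹ * n.1) := by rw [e]; group)⟩, true)
    have hf : Function.Injective f := by
      intro a b hab
      simp only [f] at hab
      split_ifs at hab with ha hb hb <;>
        simp only [Prod.mk.injEq, Subtype.mk.injEq, Bool.false_eq_true, Bool.true_eq_false, and_false, and_true,
          mul_right_inj] at hab
      · exact Subtype.ext hab
      · exact Subtype.ext hab
    have := Nat.card_le_card_of_injective f hf
    rw [Nat.card_prod, show Nat.card Bool = 2 by simp] at this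
    omega

lemma dvd_card_of_mul_stable {G : Type*} [CommGroup G] (H : Subgroup G) (S : Set G)
    (hS : ∀ h ∈ H, ∀ s ∈ S, s * h ∈ S) : Nat.card H ∣ Nat.card S := by
  have e : S = QuotientGroup.mk ⁻¹' ((QuotientGroup.mk : G → G ⧸ H) '' S) := by
    refine Set.Subset.antisymm (Set.subset_preimage_image _ _) ?_
    rintro x ⟨s, hs, he⟩
    have := hS _ (QuotientGroup.eq.1 he) s hs
    rwa [mul_inv_cancel_left] at this
  rw [e, Nat.card_congr (QuotientGroup.preimageMkEquivSubgroupProdSet H _), Nat.card_prod]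
  exact dvd_mul_right _ _

section Count

variable [Finite Γ] (h2 : (2 : K) ≠ 0) (hneg : -1 ∈ Γ) (h1 : uu 1 ∈ Γ) {x : K} (hx : x ≠ 0)
  (hv : vv x ∈ Γ)

include h2 hneg in
lemma card_scal : Nat.card (scalSL Γ) = 2 := by
  have hne : (⟨1, Γ.one_mem⟩ : Γ) ≠ ⟨-1, hneg⟩ := fun e => by
    have := congrArg (fun g : Γ => g.1 0 0) e
    simp [SpecialLinearGroup.coe_neg] at this
    exact h2 (by linear_combination this)
  rw [show ((scalSL Γ : Subgroup Γ)) = ((scalSL Γ : Subgroup Γ)) from rfl, ← SetLike.coe_sort_coe,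
    show (scalSL Γ : Set Γ) = {⟨1, Γ.one_mem⟩, ⟨-1, hneg⟩} by
      ext g
      rw [SetLike.mem_coe, mem_scalSL, Set.mem_insert_iff, Set.mem_singleton_iff]
      exact or_congr ⟨fun h => Subtype.ext h, fun h => by rw [h]⟩ ⟨fun h => Subtype.ext h, fun h => by rw [h]⟩,
    Nat.card_coe_set_eq, Set.ncard_pair hne]

include h2 hneg in
lemma card_diff_scal {C : Subgroup Γ} (hC : scalSL Γ ≤ C) :
    Nat.card ((C : Set Γ) \ (scalSL Γ : Set Γ) : Set Γ) = Nat.card C - 2 := by
  rw [Nat.card_coe_set_eq, Set.ncard_diff (by exact hC) (Set.toFinite _), ← Nat.card_coe_set_eq,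
    ← Nat.card_coe_set_eq, SetLike.coe_sort_coe, SetLike.coe_sort_coe, card_scal h2 hneg]

include h1 in
lemma mem_centralizer_uu {g : Γ} :
    g ∈ Subgroup.centralizer ({⟨uu 1, h1⟩} : Set Γ) ↔ g.1 1 0 = 0 ∧ g.1 0 0 = g.1 1 1 := by
  rw [mem_centralizer_sub, Subgroup.mem_centralizer_singleton_iff]
  refine ⟨fun e => ?_, fun ⟨hc, had⟩ => ?_⟩
  · have e0 := congrArg (fun g : SpecialLinearGroup (Fin 2) K => g 0 0) e
    have e1 := congrArg (fun g : SpecialLinearGroup (Fin 2) K => g 0 1) e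
    simp only [sl2_mul, uu_coe] at e0 e1
    simp at e0 e1
    exact ⟨e0, by linear_combination e1⟩
  · refine sl2_ext ?_ ?_ ?_ ?_ <;> simp only [sl2_mul, uu_coe] <;> simp [hc, had] <;> ring

include h1 in
lemma not_mem_scal_uu : (⟨uu 1, h1⟩ : Γ) ∉ scalSL Γ := by
  rw [mem_scalSL]
  rintro (e | e) <;> simpa using congrArg (fun g : SpecialLinearGroup (Fin 2) K => g 0 1) e

include h2 hneg h1 in
lemma card_centralizer_uu : Nat.card (Subgroup.centralizer ({⟨uu 1, h1⟩} : Set Γ))
    = 2 * Nat.card (upperParam Γ) := by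
  set C := Subgroup.centralizer ({⟨uu 1, h1⟩} : Set Γ)
  have hval : ∀ g : C, g.1.1 0 0 = 1 ∨ g.1.1 0 0 = -1 := fun g => by
    obtain ⟨hc, had⟩ := (mem_centralizer_uu h1).1 g.2
    have := upper_det hc
    rw [← had] at this
    exact mul_self_eq_one_iff.1 this
  classical
  let f : Bool × upperParam Γ → C := fun z =>
    ⟨(if z.1 then 1 else ⟨-1, hneg⟩) * ⟨uu z.2.1, z.2.2⟩, (mem_centralizer_uu h1).2 (by
      cases z.1 <;> simp [sl2_mul])⟩
  have hb : Function.Bijective f := by
    constructor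
    · rintro ⟨a, y⟩ ⟨b, y'⟩ e
      have e0 := congrArg (fun g : C => g.1.1 0 0) e
      have e1 := congrArg (fun g : C => g.1.1 0 1) e
      cases a <;> cases b <;> simp [f, sl2_mul] at e0 e1 <;>
        first
          | exact Prod.ext rfl (Subtype.ext e1)
          | exact Prod.ext rfl e1
          | exact absurd (show (2 : K) = 0 by linear_combination e0) h2
          | exact absurd (show (2 : K) = 0 by linear_combination -e0) h2
    · intro g
      obtain ⟨hc, had⟩ := (mem_centralizer_uu h1).1 g.2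
      rcases hval g with ha | ha
      · refine ⟨(true, ⟨g.1.1 0 1, ?_⟩), ?_⟩
        · rw [mem_upperParam, show uu (g.1.1 0 1) = g.1.1 from sl2_ext (by simp [ha]) (by simp)
            (by simp [hc]) (by simp [← had, ha])]
          exact g.1.2
        · refine Subtype.ext (Subtype.ext (sl2_ext ?_ ?_ ?_ ?_)) <;> simp [f, ha, hc, ← had]
      · refine ⟨(false, ⟨-g.1.1 0 1, ?_⟩), ?_⟩
        · rw [mem_upperParam, show uu (-g.1.1 0 1) = -1 * g.1.1 from sl2_ext (by simp [ha]) (by simp)
            (by simp [hc]) (by simp [← had, ha])]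
          exact Γ.mul_mem hneg g.1.2
        · refine Subtype.ext (Subtype.ext (sl2_ext ?_ ?_ ?_ ?_)) <;> simp [f, ha, hc, ← had]
  rw [← Nat.card_congr (Equiv.ofBijective f hb), Nat.card_prod]
  simp

include h1 in
lemma normalizer_centralizer_uu : Subgroup.normalizer
    ((Subgroup.centralizer ({⟨uu 1, h1⟩} : Set Γ) : Subgroup Γ) : Set Γ) = upperTri Γ := by
  ext h
  obtain ⟨i0, i1, i2, i3⟩ := sl2_inv h.1
  constructor
  · intro hh
    have := ((mem_centralizer_uu h1).1 ((Subgroup.mem_normalizer_iff.1 hh _).1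
      (Subgroup.mem_centralizer_singleton_iff.2 rfl))).1
    simp only [Subgroup.coe_mul, Subgroup.coe_inv, sl2_mul, i0, i1, i2, i3, uu_coe] at this
    simp at this
    rw [mem_upperTri]
    exact pow_eq_zero_iff (n := 2) two_ne_zero |>.1 (by linear_combination -this)
  · intro hh
    have hd := upper_det (g := h.1) hh
    rw [mem_upperTri] at hh
    rw [Subgroup.mem_normalizer_iff]
    intro y
    show y ∈ Subgroup.centralizer ({⟨uu 1, h1⟩} : Set Γ) ↔
      h * y * h⁻¹ ∈ Subgroup.centralizer ({⟨uu 1, h1⟩} : Set Γ)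
    simp only [mem_centralizer_uu h1, Subgroup.coe_mul, Subgroup.coe_inv, sl2_mul, i0, i1, i2, i3, hh,
      zero_mul, mul_zero, add_zero, zero_add, neg_zero]
    have hne : h.1 1 1 ≠ 0 := right_ne_zero_of_mul_eq_one hd
    constructor
    · rintro ⟨e1, e2⟩
      constructor
      · rw [e1]; ring
      · rw [e1, e2]; linear_combination (0 : K) * hd
    · rintro ⟨e1, e2⟩
      have hc' : y.1 1 0 = 0 := by
        rcases mul_eq_zero.1 e1 with e | e
        · exact (mul_eq_zero.1 e).resolve_left hne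
        · exact absurd e hne
      refine ⟨hc', ?_⟩
      rw [hc'] at e2
      linear_combination e2 - (y.1 0 0 - y.1 1 1) * hd

include h1 in
lemma card_upperTri : Nat.card (upperTri Γ)
    = Nat.card (upperParam Γ) * Nat.card (topEntry Γ).range := by
  rw [← Subgroup.card_mul_index (topEntry Γ).ker, Subgroup.index_ker]
  congr 1
  have hgen : ∀ g : (topEntry Γ).ker, uu (g.1.1.1 0 1) = g.1.1.1 := fun g => by
    have hc : g.1.1.1 1 0 = 0 := g.1.2
    have ha : g.1.1.1 0 0 = 1 := congrArg Units.val (MonoidHom.mem_ker.1 g.2)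
    have hd := upper_det hc
    rw [ha, one_mul] at hd
    exact sl2_ext (by simp [ha]) (by simp) (by simp [hc]) (by simp [hd])
  refine Nat.card_congr
    { toFun := fun g => ⟨g.1.1.1 0 1, ?_⟩
      invFun := fun y => ⟨⟨⟨uu y.1, y.2⟩, by simp [mem_upperTri]⟩,
        MonoidHom.mem_ker.2 (Units.ext (by simp [topEntry_val]))⟩
      left_inv := ?_
      right_inv := fun y => Subtype.ext (by simp) }
  · rw [mem_upperParam, hgen]; exact g.1.1.2
  · intro g; exact Subtype.ext (Subtype.ext (Subtype.ext (hgen g)))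

include h1 hx hv in
lemma card_upperParam_lt_index : Nat.card (upperParam Γ) + 1 ≤ (upperTri Γ).index := by
  classical
  haveI : Finite (upperParam Γ) :=
    Finite.of_injective (fun y : upperParam Γ => (⟨uu y.1, y.2⟩ : Γ))
      fun a b e => Subtype.ext (uu_injective (congrArg Subtype.val e))
  let f : Option (upperParam Γ) → Γ ⧸ upperTri Γ := fun o => match o with
    | none => ((1 : Γ) : Γ ⧸ upperTri Γ)
    | some y => ((⟨uu y.1, y.2⟩ * ⟨vv x, hv⟩ : Γ) : Γ ⧸ upperTri Γ)
  have hf : Function.Injective f := by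
    rintro (_ | y) (_ | y') e
    · rfl
    · have := QuotientGroup.eq.1 e
      simp [mem_upperTri, sl2_mul] at this
      exact absurd this hx
    · have := QuotientGroup.eq.1 e.symm
      simp [mem_upperTri, sl2_mul] at this
      exact absurd this hx
    · have := QuotientGroup.eq.1 e
      simp [mem_upperTri, sl2_mul, vv_inv, uu_inv] at this
      refine congrArg some (Subtype.ext ?_)
      have h' : x * x * (y.1 - y'.1) = 0 := by linear_combination this
      exact sub_eq_zero.1 ((mul_eq_zero.1 h').resolve_left (mul_ne_zero hx hx))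
  have := Nat.card_le_card_of_injective f hf
  rwa [Finite.card_option] at this

variable (p : ℕ) [Fact p.Prime] [CharP K p]

include h1 in
lemma index_upperTri_modEq : (upperTri Γ).index ≡ 1 [MOD p] := by
  let φ : Multiplicative (upperParam Γ) →* Γ :=
    { toFun := fun y => ⟨uu y.toAdd.1, y.toAdd.2⟩
      map_one' := Subtype.ext uu_zero
      map_mul' := fun a b => Subtype.ext (uu_add _ _) }
  have hP : IsPGroup p φ.range := by
    rintro ⟨_, y, rfl⟩
    refine ⟨1, Subtype.ext ?_⟩
    show φ y ^ p ^ 1 = 1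
    rw [← map_pow, pow_one]
    refine Subtype.ext ?_
    show uu ((y ^ p).toAdd.1) = 1
    rw [toAdd_pow]
    simp [nsmul_eq_mul, uu_zero]
  have := hP.card_modEq_card_fixedPoints (Γ ⧸ upperTri Γ)
  rw [← Subgroup.index_eq_card] at this
  have key : Nat.card (MulAction.fixedPoints φ.range (Γ ⧸ upperTri Γ)) = 1 := ?_
  · rwa [key] at this
  rw [Nat.card_coe_set_eq, Set.ncard_eq_one]
  refine ⟨((1 : Γ) : Γ ⧸ upperTri Γ), ?_⟩
  ext q
  induction q using QuotientGroup.induction_on with | _ h => ?_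
  rw [MulAction.mem_fixedPoints, Set.mem_singleton_iff, QuotientGroup.eq, mul_one]
  constructor
  · intro hfix
    have e := hfix ⟨⟨uu 1, h1⟩, ⟨Multiplicative.ofAdd ⟨1, h1⟩, rfl⟩⟩
    change (((⟨uu 1, h1⟩ * h : Γ)) : Γ ⧸ upperTri Γ) = (h : Γ ⧸ upperTri Γ) at e
    rw [QuotientGroup.eq] at e
    obtain ⟨i0, i1, i2, i3⟩ := sl2_inv h.1
    simp [mem_upperTri, sl2_mul, i0, i1, i2, i3, uu_inv] at e
    rw [inv_mem_iff, mem_upperTri]
    exact pow_eq_zero_iff (n := 2) two_ne_zero |>.1 (by linear_combination e)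
  · rintro hh ⟨_, y, rfl⟩
    show (((φ y * h : Γ)) : Γ ⧸ upperTri Γ) = (h : Γ ⧸ upperTri Γ)
    rw [QuotientGroup.eq]
    have hy : φ y ∈ upperTri Γ := by simp [φ, mem_upperTri]
    exact (upperTri Γ).mul_mem ((upperTri Γ).inv_mem ((upperTri Γ).mul_mem hy (inv_mem_iff.1 hh)))
      (inv_mem_iff.1 hh)

include h1 hneg p in
lemma unipotent_mem_conjDomain {g : Γ} (hg : g ∉ scalSL Γ)
    (ht : (g.1 : Matrix (Fin 2) (Fin 2) K).trace ^ 2 = 4) :
    g ∈ conjDomain (scalSL Γ) (Subgroup.centralizer ({⟨uu 1, h1⟩} : Set Γ)) := by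
  -- some `± g` has trace 2
  obtain ⟨z, hz, htz⟩ : ∃ z ∈ scalSL Γ, ((z * g : Γ).1 : Matrix (Fin 2) (Fin 2) K).trace = 2 := by
    have h4 : ((g.1 : Matrix (Fin 2) (Fin 2) K).trace - 2) *
        ((g.1 : Matrix (Fin 2) (Fin 2) K).trace + 2) = 0 := by linear_combination ht
    rcases mul_eq_zero.1 h4 with e | e
    · exact ⟨1, one_mem _, by rw [one_mul]; linear_combination e⟩
    · refine ⟨⟨-1, hneg⟩, mem_scalSL.2 (Or.inr rfl), ?_⟩
      simp [Matrix.trace_neg]
      linear_combination -e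
  have hpg : (z * g) ^ p = 1 := Subtype.ext ((Linear.pow_char_eq_one_iff p _).2 htz)
  have hP : IsPGroup p (Subgroup.zpowers (z * g)) := by
    rintro ⟨_, n, rfl⟩
    refine ⟨1, Subtype.ext ?_⟩
    show ((z * g) ^ n) ^ p ^ 1 = 1
    rw [pow_one, ← zpow_natCast, ← _root_.zpow_mul, mul_comm, _root_.zpow_mul, zpow_natCast, hpg, _root_.one_zpow]
  have hmod := index_upperTri_modEq h1 p (Γ := Γ)
  have hnd : ¬ p ∣ Nat.card (Γ ⧸ upperTri Γ) := by
    rw [← Subgroup.index_eq_card]
    intro hd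
    exact (Fact.out : p.Prime).one_lt.ne' (Nat.dvd_one.1 ((Nat.ModEq.dvd_iff hmod dvd_rfl).1 hd))
  obtain ⟨q, hq⟩ := hP.nonempty_fixed_point_of_prime_not_dvd_card (Γ ⧸ upperTri Γ) hnd
  induction q using QuotientGroup.induction_on with | _ h => ?_
  have e := MulAction.mem_fixedPoints.1 hq ⟨z * g, Subgroup.mem_zpowers _⟩
  change (((z * g * h : Γ)) : Γ ⧸ upperTri Γ) = (h : Γ ⧸ upperTri Γ) at e
  rw [QuotientGroup.eq, _root_.mul_inv_rev] at e
  have e' : h⁻¹ * (z * g) * h ∈ upperTri Γ := by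
    simpa [mul_assoc] using (upperTri Γ).inv_mem e
  set w := h⁻¹ * (z * g) * h with hw
  have htw : (w.1 : Matrix (Fin 2) (Fin 2) K).trace = 2 := by
    rw [hw]; simpa using (Linear.trace_conj (z * g).1 h⁻¹.1).trans htz
  have had : w.1 0 0 = w.1 1 1 := by
    have hd := upper_det (g := w.1) e'
    rw [Linear.trace_SL_two] at htw
    have : (w.1 0 0 - w.1 1 1) ^ 2 = 0 := by linear_combination (w.1 0 0 + w.1 1 1 + 2) * htw - 4 * hd
    exact sub_eq_zero.1 (pow_eq_zero_iff two_ne_zero |>.1 this)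
  refine ⟨hg, h⁻¹, ?_⟩
  have hwC : w ∈ Subgroup.centralizer ({⟨uu 1, h1⟩} : Set Γ) := (mem_centralizer_uu h1).2 ⟨e', had⟩
  have hzC : z⁻¹ ∈ Subgroup.centralizer ({⟨uu 1, h1⟩} : Set Γ) :=
    (cenTI_centralizer (not_mem_scal_uu h1)).1 (inv_mem hz)
  have hcomm : ∀ y : Γ, z⁻¹ * y = y * z⁻¹ := fun y => Subtype.ext
    ((Subgroup.mem_center_iff.1 (Subgroup.mem_subgroupOf.1 (inv_mem hz)) y.1).symm)
  rw [inv_inv, show h⁻¹ * g * h = z⁻¹ * w by
    rw [hw, ← mul_assoc, ← mul_assoc, hcomm h⁻¹]; group]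
  exact Subgroup.mul_mem _ hzC hwC

include h2 hneg h1 hx hv p in
set_option maxHeartbeats 1600000 in
/-- The coset space has `s + 1` elements. -/
theorem index_upperTri_eq (hs : 5 ≤ Nat.card (upperParam Γ)) :
    (upperTri Γ).index = Nat.card (upperParam Γ) + 1 := by
  classical
  set s := Nat.card (upperParam Γ) with hsdef
  set m := (upperTri Γ).index with hmdef
  set E := Nat.card (topEntry Γ).range with hEdef
  set N := Nat.card Γ with hNdef
  set Z := scalSL Γ with hZdef
  have hm : s + 1 ≤ m := card_upperParam_lt_index h1 hx hv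
  have hN : N = m * (s * E) := by
    rw [hNdef, ← Subgroup.card_mul_index (upperTri Γ), card_upperTri h1]; ring
  haveI : Finite (topEntry Γ).range := Finite.of_surjective _ (topEntry Γ).rangeRestrict_surjective
  set u1 : Γ := ⟨uu 1, h1⟩
  set D₁ := conjDomain Z (Subgroup.centralizer ({u1} : Set Γ)) with hD₁
  have hC₁ := cenTI_centralizer (not_mem_scal_uu h1)
  have hd₁ : Nat.card D₁ = m * (2 * s - 2) := by
    have e := card_conjDomain hC₁
    rw [card_diff_scal h2 hneg hC₁.1, card_centralizer_uu h2 hneg h1, normalizer_centralizer_uu h1,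
      card_upperTri h1] at e
    refine Nat.eq_of_mul_eq_mul_right (show 0 < s * E from Nat.mul_pos (by omega) Nat.card_pos) ?_
    rw [← hsdef, ← hEdef] at e
    rw [e, ← hNdef, hN]; ring
  -- facts on the other centralizers
  have semis : ∀ g : Γ, g ∉ Z → g ∉ D₁ → (g.1 : Matrix (Fin 2) (Fin 2) K).trace ^ 2 ≠ 4 :=
    fun g hg hg' ht => hg' (unipotent_mem_conjDomain hneg h1 p hg ht)
  have self_mem : ∀ g : Γ, g ∉ Z → g ∈ conjDomain Z (Subgroup.centralizer ({g} : Set Γ)) :=
    fun g hg => ⟨hg, 1, by simp [Subgroup.mem_centralizer_singleton_iff]⟩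
  have torus : ∀ g : Γ, g ∉ Z → (g.1 : Matrix (Fin 2) (Fin 2) K).trace ^ 2 ≠ 4 →
      ∃ n d j : ℕ, Nat.card (Subgroup.centralizer ({g} : Set Γ)) = 2 * n ∧ 2 ≤ n ∧
        Nat.card (conjDomain Z (Subgroup.centralizer ({g} : Set Γ))) = d ∧ (j = 1 ∨ j = 2) ∧
        d * j * n = N * (n - 1) := by
    intro g hg ht
    have hC := cenTI_centralizer hg
    have e := card_conjDomain hC
    rw [card_diff_scal h2 hneg hC.1] at e
    obtain ⟨n, hn⟩ : 2 ∣ Nat.card (Subgroup.centralizer ({g} : Set Γ)) := by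
      have := Subgroup.card_dvd_of_le hC.1
      rwa [card_scal h2 hneg] at this
    have hn2 : 2 ≤ n := by
      by_contra hh
      have h0 : 0 < Nat.card (Subgroup.centralizer ({g} : Set Γ)) := Nat.card_pos
      have hle : Nat.card (Subgroup.centralizer ({g} : Set Γ)) ≤ Nat.card Z := by
        rw [hZdef, card_scal h2 hneg]; omega
      have heq := Subgroup.eq_of_le_of_card_ge hC.1 hle
      refine hg ?_
      rw [← hZdef] at heq
      rw [heq]; exact Subgroup.mem_centralizer_singleton_iff.2 rfl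
    set C := Subgroup.centralizer ({g} : Set Γ)
    obtain ⟨j, hj⟩ : Nat.card C ∣ Nat.card (Subgroup.normalizer (C : Set Γ)) :=
      Subgroup.card_dvd_of_le Subgroup.le_normalizer
    have hle := card_normalizer_torus (g := g) ht
    rw [hj] at hle e
    have hj0 : 0 < Nat.card C * j := hj ▸ Nat.card_pos
    have hj12 : j = 1 ∨ j = 2 := by
      have : j ≤ 2 := Nat.le_of_mul_le_mul_left (by linarith) (Nat.card_pos (α := C))
      rcases Nat.eq_zero_or_pos j with rfl | h0
      · simp at hj0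
      · omega
    refine ⟨n, _, j, hn, hn2, rfl, hj12, ?_⟩
    rw [hn, show 2 * n - 2 = 2 * (n - 1) by omega] at e
    have : 2 * (Nat.card (conjDomain Z C) * j * n) = 2 * (N * (n - 1)) := by rw [← hNdef] at e; linarith
    omega
  have big : ∀ g : Γ, g ∉ Z → (g.1 : Matrix (Fin 2) (Fin 2) K).trace ^ 2 ≠ 4 →
      N ≤ 4 * Nat.card (conjDomain Z (Subgroup.centralizer ({g} : Set Γ))) := by
    intro g hg ht
    obtain ⟨n, d, j, -, hn, hd, hj, e⟩ := torus g hg ht
    rw [hd]
    have : N * n ≤ 4 * d * n := by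
      have h2n : N * n ≤ N * (2 * (n - 1)) := Nat.mul_le_mul_left _ (by omega)
      rcases hj with rfl | rfl <;> nlinarith
    exact Nat.le_of_mul_le_mul_right this (by omega)
  have nc : ∀ A : Set Γ, A ⊆ (Z : Set Γ)ᶜ → A.ncard + 2 ≤ N := fun A hA => by
    have h := Set.ncard_le_ncard hA (Set.toFinite _)
    have h' := Set.ncard_add_ncard_compl (Z : Set Γ)
    rw [← Nat.card_coe_set_eq, SetLike.coe_sort_coe, hZdef, card_scal h2 hneg] at h'
    rw [← hZdef, ← hNdef] at h'
    omega
  have hcompl : (Z : Set Γ)ᶜ.ncard + 2 = N := by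
    have h' := Set.ncard_add_ncard_compl (Z : Set Γ)
    rw [← Nat.card_coe_set_eq, SetLike.coe_sort_coe, hZdef, card_scal h2 hneg] at h'
    rw [← hZdef, ← hNdef] at h'
    omega
  have hD₁sub := conjDomain_subset Z (Subgroup.centralizer ({u1} : Set Γ))
  -- range parity
  obtain ⟨e, he⟩ : 2 ∣ E := by
    haveI : NeZero (2 : K) := ⟨h2⟩
    have hmem : (-1 : Kˣ) ∈ (topEntry Γ).range :=
      ⟨⟨⟨-1, hneg⟩, by simp [mem_upperTri]⟩, Units.ext (by simp [topEntry_val])⟩
    have hdvd : orderOf (⟨-1, hmem⟩ : (topEntry Γ).range) ∣ E := orderOf_dvd_natCard _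
    rwa [← Subgroup.orderOf_coe, orderOf_eq_prime (p := 2) (by simp)
      (fun h => h2 (by
        have hh : (-1 : K) = 1 := congrArg Units.val h
        linear_combination -hh))] at hdvd
  have he0 : 0 < e := by
    have : 0 < E := Nat.card_pos
    omega
  rw [he] at hN
  have hms : 5 * m ≤ m * s := by nlinarith
  rcases eq_or_lt_of_le (show 1 ≤ e from he0) with he1 | he1
  · -- no torus in the triangular subgroup
    exfalso
    subst he1
    obtain ⟨s'', hs''⟩ : ∃ s'', s = s'' + 1 := ⟨s - 1, by omega⟩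
    rw [hs''] at hN hms
    rw [hs'', show 2 * (s'' + 1) - 2 = 2 * s'' by omega] at hd₁
    have hX : (Z : Set Γ)ᶜ = D₁ := by
      refine Set.Subset.antisymm (fun g hg => ?_) hD₁sub
      by_contra hg'
      have hb := big g hg (semis g hg hg')
      have hdis : Disjoint D₁ (conjDomain Z (Subgroup.centralizer ({g} : Set Γ))) :=
        Set.disjoint_left.2 fun a ha => fun ha' =>
          conjDomain_subset_compl (cenTI_centralizer hg) hC₁ (self_mem g hg) hg' ha' ha
      have h := nc (D₁ ∪ conjDomain Z (Subgroup.centralizer ({g} : Set Γ)))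
        (Set.union_subset hD₁sub (conjDomain_subset _ _))
      rw [Set.ncard_union_eq hdis, ← Nat.card_coe_set_eq, ← Nat.card_coe_set_eq, hd₁] at h
      nlinarith
    rw [hX, ← Nat.card_coe_set_eq, hd₁] at hcompl
    nlinarith
  -- the torus
  haveI : IsCyclic (topEntry Γ).range := isCyclic_of_subgroup_isDomain ((Units.coeHom K).comp (topEntry Γ).range.subtype) (fun a b h => Subtype.ext (Units.ext h))
  obtain ⟨⟨a, ha⟩, hgen⟩ := IsCyclic.exists_generator (α := (topEntry Γ).range)
  have hord : orderOf a = E := by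
    rw [← Subgroup.orderOf_mk a ha, orderOf_eq_card_of_forall_mem_zpowers hgen]
  obtain ⟨t, rfl⟩ := ha
  have hat : t.1.1 0 0 ^ 2 ≠ 1 := fun h => by
    have : topEntry Γ t ^ 2 = 1 := Units.ext (by simp [topEntry_val, h])
    have := Nat.le_of_dvd two_pos (orderOf_dvd_of_pow_eq_one this)
    omega
  have htd := upper_det (g := t.1.1) t.2
  have htr : (t.1.1 : Matrix (Fin 2) (Fin 2) K).trace ^ 2 ≠ 4 := by
    rw [Linear.trace_SL_two]
    intro h
    have : (t.1.1 0 0 - t.1.1 1 1) ^ 2 = 0 := by linear_combination h - 4 * htd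
    rw [sub_eq_zero.1 (pow_eq_zero_iff two_ne_zero |>.1 this)] at hat
    apply hat
    rw [sub_eq_zero.1 (pow_eq_zero_iff two_ne_zero |>.1 this)] at htd
    linear_combination htd
  have htZ : t.1 ∉ Z := fun h => Linear.not_isScalarTwo_of_trace htr (isScalarTwo_iff_scal.2 h)
  set T := Subgroup.centralizer ({t.1} : Set Γ) with hT
  have hTB : ∀ y ∈ T, ∃ α β : K, (y.1 : Matrix (Fin 2) (Fin 2) K) = α • 1 + β • (t.1.1 : Matrix (Fin 2) (Fin 2) K) :=
    fun y hy => (Linear.mem_centralizer_SL_two (fun h => htZ (isScalarTwo_iff_scal.1 h))).1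
      (mem_centralizer_sub.1 hy)
  have hTc : ∀ y ∈ T, y ∈ upperTri Γ := fun y hy => by
    obtain ⟨α, β, h⟩ := hTB y hy
    rw [mem_upperTri, h]
    simp [mem_upperTri.1 t.2]
  have hTcard : Nat.card T = E := by
    let f : T → (topEntry Γ).range := fun y => ⟨_, ⟨⟨y.1, hTc _ y.2⟩, rfl⟩⟩
    refine Nat.card_congr (Equiv.ofBijective f ⟨?_, ?_⟩)
    · intro y y' hyy
      obtain ⟨α, β, hy⟩ := hTB _ y.2
      obtain ⟨α', β', hy'⟩ := hTB _ y'.2
      have e0 := congrArg (fun u : (topEntry Γ).range => (u.1 : K)) hyy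
      simp only [f, topEntry_val, hy, hy'] at e0
      have d0 := upper_det (g := y.1.1) (hTc _ y.2)
      have d1 := upper_det (g := y'.1.1) (hTc _ y'.2)
      simp at e0
      simp only [hy, hy'] at d0 d1
      simp at d0 d1
      rw [e0] at d0
      have hne : α' + β' * t.1.1 0 0 ≠ 0 := left_ne_zero_of_mul_eq_one d1
      have e1 : α + β * t.1.1 1 1 = α' + β' * t.1.1 1 1 := mul_left_cancel₀ hne (d0.trans d1.symm)
      have hne2 : t.1.1 0 0 - t.1.1 1 1 ≠ 0 := fun h => hat (by linear_combination htd + t.1.1 0 0 * h)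
      have hβ : β = β' := mul_right_cancel₀ hne2 (by linear_combination e0 - e1)
      subst hβ
      have hα : α = α' := by linear_combination e0
      subst hα
      exact Subtype.ext (Subtype.ext (Subtype.ext (hy.trans hy'.symm)))
    · rintro ⟨b, hb⟩
      obtain ⟨n, hn⟩ := hgen ⟨b, hb⟩
      refine ⟨⟨(t ^ n : upperTri Γ).1, ?_⟩, ?_⟩
      · rw [hT, Subgroup.mem_centralizer_singleton_iff, SubgroupClass.coe_zpow]
        exact ((Commute.refl t.1).zpow_left n).eq
      · refine Subtype.ext ?_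
        show topEntry Γ ⟨(t ^ n : upperTri Γ).1, _⟩ = b
        rw [show (⟨(t ^ n : upperTri Γ).1, _⟩ : upperTri Γ) = t ^ n from rfl, map_zpow]
        simpa using congrArg Subtype.val hn
  have hTn : ∀ g : Γ, g ∈ conjDomain Z T → g ∉ D₁ := by
    intro g hg hg'
    obtain ⟨-, h, hh⟩ := hg'
    obtain ⟨hgZ, k, hk⟩ := hg
    -- the trace is invariant
    have hh' := (mem_centralizer_uu h1).1 hh
    obtain ⟨α, β, hy⟩ := hTB _ hk
    have d0 := upper_det (g := (k * g * k⁻¹).1) (hTc _ hk)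
    have t1 : ((k * g * k⁻¹).1 : Matrix (Fin 2) (Fin 2) K).trace = (g.1 : Matrix (Fin 2) (Fin 2) K).trace := by
      rw [Subgroup.coe_mul, Subgroup.coe_mul, Subgroup.coe_inv, Linear.trace_conj]
    have t2 : ((h * g * h⁻¹).1 : Matrix (Fin 2) (Fin 2) K).trace = (g.1 : Matrix (Fin 2) (Fin 2) K).trace := by
      rw [Subgroup.coe_mul, Subgroup.coe_mul, Subgroup.coe_inv, Linear.trace_conj]
    have hd := upper_det hh'.1
    rw [Linear.trace_SL_two] at t1
    rw [← t1, Linear.trace_SL_two, ← hh'.2] at t2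
    rw [← hh'.2] at hd
    have hz : ((k * g * k⁻¹).1 0 0 - (k * g * k⁻¹).1 1 1) ^ 2 = 0 := by
      linear_combination (-(2 * (h * g * h⁻¹).1 0 0 + (k * g * k⁻¹).1 0 0 + (k * g * k⁻¹).1 1 1)) * t2
        + 4 * hd - 4 * d0
    have heq := sub_eq_zero.1 (pow_eq_zero_iff two_ne_zero |>.1 hz)
    simp only [hy] at heq
    simp at heq
    have hne2 : t.1.1 0 0 - t.1.1 1 1 ≠ 0 := fun h => hat (by linear_combination htd + t.1.1 0 0 * h)
    have hβ : β = 0 := heq.resolve_left (fun e => hne2 (sub_eq_zero.2 e))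
    rw [hβ, zero_smul, add_zero] at hy
    refine hgZ ((mem_conj_iff_not_mem (h := k)).1 (isScalarTwo_iff_scal.1 ?_))
    rw [hy]
    exact ⟨by simp, by simp, by simp⟩
  obtain ⟨n₂, d₂, j₂, hn₂, -, hd₂, hj₂, e₂⟩ := torus t.1 htZ htr
  rw [hTcard, he] at hn₂
  obtain rfl : n₂ = e := by omega
  set D₂ := conjDomain Z T with hD₂
  have hdis12 : Disjoint D₁ D₂ := Set.disjoint_right.2 fun a ha => hTn a ha
  have h12 : (D₁ ∪ D₂).ncard = m * (2 * s - 2) + d₂ := by
    rw [Set.ncard_union_eq hdis12, ← Nat.card_coe_set_eq, ← Nat.card_coe_set_eq, hd₁, hd₂]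
  have hsub12 : D₁ ∪ D₂ ⊆ (Z : Set Γ)ᶜ := Set.union_subset hD₁sub (conjDomain_subset _ _)
  obtain ⟨e', rfl⟩ : ∃ e', n₂ = e' + 1 := ⟨n₂ - 1, by omega⟩
  rw [show e' + 1 - 1 = e' by omega] at e₂
  have hC₂ := cenTI_centralizer htZ
  have hX : ∀ g : Γ, g ∉ Z → g ∉ D₁ → g ∉ D₂ →
      Disjoint (D₁ ∪ D₂) (conjDomain Z (Subgroup.centralizer ({g} : Set Γ))) := fun g hg hg1 hg2 =>
    Set.disjoint_right.2 fun a ha ha' => by
      rcases ha' with ha' | ha'
      · exact conjDomain_subset_compl (cenTI_centralizer hg) hC₁ (self_mem g hg) hg1 ha ha'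
      · exact conjDomain_subset_compl (cenTI_centralizer hg) hC₂ (self_mem g hg) hg2 ha ha'
  obtain ⟨s', hs'⟩ : ∃ s', s = s' + 1 := ⟨s - 1, by omega⟩
  rw [hs', show 2 * (s' + 1) - 2 = 2 * s' by omega] at h12
  rw [hs'] at hN hms
  rcases hj₂ with rfl | rfl
  · -- the normalizer of the torus is the torus
    exfalso
    have hd₂' : d₂ = 2 * (m * (s' + 1)) * e' := by
      refine Nat.eq_of_mul_eq_mul_right (show 0 < e' + 1 by omega) ?_
      rw [← mul_one d₂, e₂, hN]; ring
    have hall : (Z : Set Γ)ᶜ = D₁ ∪ D₂ := by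
      refine Set.Subset.antisymm (fun g hg => ?_) hsub12
      by_contra hg'
      rw [Set.mem_union, not_or] at hg'
      have hb := big g hg (semis g hg hg'.1)
      have h := nc _ (Set.union_subset hsub12 (conjDomain_subset Z (Subgroup.centralizer ({g} : Set Γ))))
      rw [Set.ncard_union_eq (hX g hg hg'.1 hg'.2), h12,
        ← Nat.card_coe_set_eq (conjDomain Z (Subgroup.centralizer ({g} : Set Γ)))] at h
      nlinarith
    rw [hall, h12] at hcompl
    nlinarith
  have hd₂' : d₂ = m * (s' + 1) * e' := by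
    refine Nat.eq_of_mul_eq_mul_right (show 0 < 2 * (e' + 1) by omega) ?_
    rw [← mul_assoc, e₂, hN]; ring
  obtain ⟨g, hgZ, hg'⟩ : ∃ g : Γ, g ∉ Z ∧ g ∉ D₁ ∪ D₂ := by
    by_contra hh
    push_neg at hh
    have hall : (Z : Set Γ)ᶜ = D₁ ∪ D₂ := Set.Subset.antisymm hh hsub12
    rw [hall, h12] at hcompl
    nlinarith
  rw [Set.mem_union, not_or] at hg'
  obtain ⟨n, d, j, -, hn, hd, hj, e₃⟩ := torus g hgZ (semis g hgZ hg'.1)
  have hb := big g hgZ (semis g hgZ hg'.1)
  rw [hd] at hb
  set D₃ := conjDomain Z (Subgroup.centralizer ({g} : Set Γ)) with hD₃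
  have hC₃ := cenTI_centralizer hgZ
  have hsub : D₁ ∪ D₂ ∪ D₃ ⊆ (Z : Set Γ)ᶜ := Set.union_subset hsub12 (conjDomain_subset _ _)
  have h123 : (D₁ ∪ D₂ ∪ D₃).ncard = m * (2 * s') + d₂ + d := by
    rw [Set.ncard_union_eq (hX g hgZ hg'.1 hg'.2), h12, ← Nat.card_coe_set_eq D₃, hd]
  have hall : (Z : Set Γ)ᶜ = D₁ ∪ D₂ ∪ D₃ := by
    refine Set.Subset.antisymm (fun g' hgZ' => ?_) hsub
    by_contra hh
    rw [Set.mem_union, Set.mem_union, not_or, not_or] at hh
    have hb' := big g' hgZ' (semis g' hgZ' hh.1.1)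
    have hd4 : Disjoint (D₁ ∪ D₂ ∪ D₃) (conjDomain Z (Subgroup.centralizer ({g'} : Set Γ))) :=
      Set.disjoint_right.2 fun a ha ha' => by
        rcases ha' with ha' | ha'
        · exact Set.disjoint_right.1 (hX g' hgZ' hh.1.1 hh.1.2) ha ha'
        · exact conjDomain_subset_compl (cenTI_centralizer hgZ') hC₃ (self_mem g' hgZ') hh.2 ha ha'
    have h := nc _ (Set.union_subset hsub (conjDomain_subset Z (Subgroup.centralizer ({g'} : Set Γ))))
    rw [Set.ncard_union_eq hd4, h123,
      ← Nat.card_coe_set_eq (conjDomain Z (Subgroup.centralizer ({g'} : Set Γ)))] at h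
    nlinarith
  rw [hall, h123] at hcompl
  obtain ⟨n', rfl⟩ : ∃ n', n = n' + 1 := ⟨n - 1, by omega⟩
  rw [show n' + 1 - 1 = n' by omega] at e₃
  rcases hj with rfl | rfl
  · exfalso
    have hd' : N ≤ 2 * d := by
      have : N * (n' + 1) ≤ 2 * d * (n' + 1) := by nlinarith
      exact Nat.le_of_mul_le_mul_right this (by omega)
    nlinarith
  -- now `m s e = n (m (s - 2) + 2)`
  have hkey : m * s * (e' + 1) = (n' + 1) * (m * (s - 2) + 2) := by
    obtain ⟨s'', hs''⟩ : ∃ s'', s' = s'' + 1 := ⟨s' - 1, by omega⟩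
    rw [hs', hs'', show s'' + 1 + 1 - 2 = s'' by omega]
    subst hs''
    subst hd₂'
    have e4 : d * 2 * (n' + 1) = m * ((s'' + 1 + 1) * (2 * (e' + 1))) * n' := by rw [e₃, hN]
    have e5 : m * (2 * (s'' + 1)) + m * (s'' + 1 + 1) * e' + d + 2
        = m * ((s'' + 1 + 1) * (2 * (e' + 1))) := by rw [hcompl, hN]
    nlinarith
  -- `e ∣ s - 1`
  have hdvd : e' + 1 ∣ s - 1 := by
    let H := Subgroup.zpowers (topEntry Γ t ^ 2)
    have hH : Nat.card H = e' + 1 := by
      rw [Nat.card_zpowers, orderOf_pow' _ two_ne_zero, hord, he]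
      simp [Nat.gcd_comm]
    let S : Set Kˣ := {y | (y : K) ∈ upperParam Γ}
    have hstab : ∀ h ∈ H, ∀ y ∈ S, y * h ∈ S := by
      rintro _ ⟨n, rfl⟩ y hy
      have := sq_mul_mem_upperParam (g := (t ^ n : upperTri Γ).1.1) (t ^ n : upperTri Γ).1.2
        (t ^ n : upperTri Γ).2 hy
      show ((y * (topEntry Γ t ^ 2) ^ n : Kˣ) : K) ∈ upperParam Γ
      rw [← zpow_natCast, ← _root_.zpow_mul, mul_comm _ n, _root_.zpow_mul, zpow_natCast, ← map_zpow,
        Units.val_mul, Units.val_pow_eq_pow_val, topEntry_val, mul_comm]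
      exact this
    have hSeq : Nat.card S = s - 1 := by
      have e1 : Nat.card S = Nat.card ((upperParam Γ : Set K) \ {0} : Set K) :=
        Nat.card_congr
          { toFun := fun y => ⟨y.1.1, y.2, y.1.ne_zero⟩
            invFun := fun y => ⟨Units.mk0 y.1 y.2.2, y.2.1⟩
            left_inv := fun y => Subtype.ext (Units.ext rfl)
            right_inv := fun y => rfl }
      rw [e1, Nat.card_coe_set_eq, Set.ncard_sdiff_singleton_of_mem (zero_mem _),
        ← Nat.card_coe_set_eq]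
      rfl
    have := dvd_card_of_mul_stable H S hstab
    rwa [hH, hSeq] at this
  exact dickson_arith hs hm hdvd hkey

include h2 hneg h1 hx hv p in
/-- The upper parameters form a subring containing `x`, `x⁻¹`, and stable under inversion. -/
theorem upperParam_mul_closed (hs : 5 ≤ Nat.card (upperParam Γ)) :
    x ∈ upperParam Γ ∧ ∀ a ∈ upperParam Γ, ∀ b ∈ upperParam Γ, a * b ∈ upperParam Γ := by
  classical
  set Λ := upperParam Γ with hΛ
  haveI : Finite Λ := Finite.of_injective (fun y : Λ => (⟨uu y.1, y.2⟩ : Γ))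
    fun a b e => Subtype.ext (uu_injective (congrArg Subtype.val e))
  have half : ∀ y, y + y ∈ Λ → y ∈ Λ := fun y hy => by
    have hinj : Function.Injective fun z : Λ => z + z := fun a b e => by
      have := congrArg Subtype.val e
      simp only [AddSubgroup.coe_add] at this
      exact Subtype.ext (mul_left_cancel₀ h2 (by linear_combination this))
    obtain ⟨z, hz⟩ := (Finite.injective_iff_surjective.1 hinj) ⟨_, hy⟩
    have := congrArg Subtype.val hz
    simp only [AddSubgroup.coe_add] at this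
    rw [show y = z.1 from mul_left_cancel₀ h2 (by linear_combination -this)]
    exact z.2
  let f : Option Λ → Γ ⧸ upperTri Γ := fun o => match o with
    | none => ((1 : Γ) : Γ ⧸ upperTri Γ)
    | some y => ((⟨uu y.1, y.2⟩ * ⟨vv x, hv⟩ : Γ) : Γ ⧸ upperTri Γ)
  have hf : Function.Injective f := by
    rintro (_ | y) (_ | y') e
    · rfl
    · have := QuotientGroup.eq.1 e
      simp [mem_upperTri, sl2_mul] at this
      exact absurd this hx
    · have := QuotientGroup.eq.1 e.symm
      simp [mem_upperTri, sl2_mul] at this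
      exact absurd this hx
    · have := QuotientGroup.eq.1 e
      simp [mem_upperTri, sl2_mul, vv_inv, uu_inv] at this
      refine congrArg some (Subtype.ext ?_)
      have h' : x * x * (y.1 - y'.1) = 0 := by linear_combination this
      exact sub_eq_zero.1 ((mul_eq_zero.1 h').resolve_left (mul_ne_zero hx hx))
  have hbij : Function.Bijective f := by
    refine (Nat.bijective_iff_injective_and_card f).2 ⟨hf, ?_⟩
    rw [Finite.card_option, ← Subgroup.index_eq_card, index_upperTri_eq h2 hneg h1 hx hv p hs]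
  -- every finite point of the orbit lies in `Λ + 1/x`
  have orbit : ∀ g : Γ, g.1 1 0 ≠ 0 → g.1 0 0 / g.1 1 0 - 1 / x ∈ Λ := by
    intro g hg
    obtain ⟨o, ho⟩ := hbij.2 (g : Γ ⧸ upperTri Γ)
    rcases o with _ | y
    · have := QuotientGroup.eq.1 ho
      simp [mem_upperTri] at this
      exact absurd this hg
    · have := QuotientGroup.eq.1 ho
      simp [mem_upperTri, sl2_mul, vv_inv, uu_inv] at this
      convert y.2 using 1
      field_simp
      linear_combination -this
  have hx' : 1 / x ∈ Λ := by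
    refine half _ ?_
    have := orbit ⟨vv (-x), by rw [← vv_inv]; exact Γ.inv_mem hv⟩ (by simp [hx])
    have e := Λ.neg_mem this
    convert e using 1
    simp
  set q := 1 / (x * x) with hq
  have hq0 : q ≠ 0 := by simp [hq, hx]
  set w : SpecialLinearGroup (Fin 2) K := uu (-(1 / x)) * vv x * uu (-(1 / x))
  have hw : w ∈ Γ := Γ.mul_mem (Γ.mul_mem (Λ.neg_mem hx') hv) (Λ.neg_mem hx')
  have inv_mem' : ∀ y ∈ Λ, q / y ∈ Λ := by
    intro y hy
    rcases eq_or_ne y 0 with rfl | hy0
    · simp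
    have hmem : w * uu y * w ∈ Γ := Γ.mul_mem (Γ.mul_mem hw hy) hw
    have := orbit ⟨_, hmem⟩ (by
      simp [w, sl2_mul, hx]
      exact hy0)
    have h' := Λ.neg_mem (Λ.add_mem this hx')
    convert h' using 1
    simp [w, sl2_mul, hq]
    field_simp
    ring
  have h1' : (1 : K) ∈ Λ := h1
  have hua : ∀ a ∈ Λ, ∀ b ∈ Λ, a * a * b / q ∈ Λ := by
    intro a ha b hb
    rcases eq_or_ne a 0 with rfl | ha0
    · simp
    rcases eq_or_ne b 0 with rfl | hb0
    · simp
    rcases eq_or_ne (q - a * b) 0 with hab | hab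
    · rw [show a * a * b / q = a by rw [sub_eq_zero] at hab; rw [hab]; field_simp]
      exact ha
    have := Λ.sub_mem ha (inv_mem' _ (Λ.add_mem (inv_mem' a ha)
      (inv_mem' _ (Λ.sub_mem (inv_mem' b hb) ha))))
    convert this using 1
    have e1 : q / b - a ≠ 0 := by
      rw [div_sub' hb0, div_ne_zero_iff]
      exact ⟨by rw [mul_comm b a]; exact hab, hb0⟩
    have e2 : q / a + q / (q / b - a) = q * q / (a * (q - a * b)) := by
      field_simp
      ring
    rw [e2]
    field_simp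
    ring
  have hdiv : ∀ b ∈ Λ, b / q ∈ Λ := fun b hb => by simpa using hua 1 h1' b hb
  have hmulq : ∀ b ∈ Λ, b * q ∈ Λ := fun b hb => by
    have hinj : Function.Injective (fun c : Λ => (⟨c.1 / q, hdiv _ c.2⟩ : Λ)) := fun c c' e =>
      Subtype.ext ((div_left_inj' hq0).1 (congrArg Subtype.val e))
    obtain ⟨c, hc⟩ := Finite.injective_iff_surjective.1 hinj ⟨b, hb⟩
    have := congrArg Subtype.val hc
    simp only at this
    rw [← this, div_mul_cancel₀ _ hq0]
    exact c.2
  have sq_mul : ∀ a ∈ Λ, ∀ b ∈ Λ, a * a * b ∈ Λ := fun a ha b hb => by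
    have := hua a ha _ (hmulq b hb)
    rwa [← mul_assoc, mul_div_assoc, div_self hq0, mul_one] at this
  refine ⟨?_, fun a ha b hb => half _ ?_⟩
  · have := hdiv _ hx'
    convert this using 1
    rw [hq]; field_simp
  · have := Λ.sub_mem (Λ.sub_mem (sq_mul _ (Λ.add_mem ha hb) 1 h1') (sq_mul a ha 1 h1'))
      (sq_mul b hb 1 h1')
    convert this using 1
    ring

end Count

end Cfsg.Agent.H88
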