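/-
Generation of SL₂(k(x)) by U(k) and V(k x) for an infinite field k (char ≠ 2).
An element with lower-left entry 0 is produced from orthogonal polynomials for a generic functional.
-/
import Mathlib
import Cfsg.Agent.H88.SL2Basic
set_option autoImplicit false

namespace Cfsg.Agent.H88

open Polynomial

section Orth

variable {k : Type*} [Field k]

/-- Hankel matrix. -/
noncomputable def hankel (Φ : k[X] →ₗ[k] k) (j : ℕ) : Matrix (Fin j) (Fin j) k :=
  Matrix.of fun i a => Φ (X ^ ((a : ℕ) + i))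

def Orth (Φ : k[X] →ₗ[k] k) (j : ℕ) (q : k[X]) : Prop := ∀ i < j, Φ (q * X ^ i) = 0

lemma phi_mul_pow {Φ : k[X] →ₗ[k] k} {j : ℕ} {q : k[X]} (hq : q.degree < (j : WithBot ℕ)) (i : ℕ) :
    Φ (q * X ^ i) = ∑ a : Fin j, q.coeff a * Φ (X ^ ((a : ℕ) + i)) := by
  rcases eq_or_ne q 0 with rfl | h0
  · simp
  have hn : q.natDegree < j := (natDegree_lt_iff_degree_lt h0).2 hq
  conv_lhs => rw [q.as_sum_range_C_mul_X_pow' hn]
  rw [Finset.sum_mul, map_sum, Finset.sum_range]
  refine Finset.sum_congr rfl fun a _ => ?_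
  rw [mul_assoc, ← pow_add, ← smul_eq_C_mul, map_smul, smul_eq_mul]

lemma eq_zero_of_orth {Φ : k[X] →ₗ[k] k} {j : ℕ} (hΦ : (hankel Φ j).det ≠ 0) {q : k[X]}
    (hq : q.degree < (j : WithBot ℕ)) (ho : Orth Φ j q) : q = 0 := by
  have hv : (fun a : Fin j => q.coeff a) = 0 := by
    by_contra hv
    refine hΦ (Matrix.exists_mulVec_eq_zero_iff.1 ⟨_, hv, ?_⟩)
    funext i
    rw [Pi.zero_apply, ← ho i i.2, phi_mul_pow hq]
    simp [Matrix.mulVec, dotProduct, hankel, mul_comm]
  rw [← degree_eq_bot]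
  by_contra h
  obtain ⟨m, hm⟩ := WithBot.ne_bot_iff_exists.1 h
  have hmj : m < j := WithBot.coe_lt_coe.1 (lt_of_eq_of_lt hm hq)
  have h0 : q ≠ 0 := fun e => h (by rw [e, degree_zero])
  have : q.leadingCoeff = 0 := by
    rw [leadingCoeff, natDegree_eq_of_degree_eq_some hm.symm]
    exact congrFun hv ⟨m, hmj⟩
  exact h0 (leadingCoeff_eq_zero.1 this)

lemma det_ne_zero_of_antidiagonal {Φ : k[X] →ₗ[k] k} {j : ℕ}
    (h1 : ∀ m, m + 1 < j → Φ (X ^ m) = 0) (h2 : 1 ≤ j → Φ (X ^ (j - 1)) ≠ 0) :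
    (hankel Φ j).det ≠ 0 := by
  rw [Ne, ← Matrix.exists_mulVec_eq_zero_iff]
  classical
  rintro ⟨v, hv, hmul⟩
  obtain ⟨a₀, ha₀⟩ := Function.ne_iff.1 hv
  obtain ⟨m, hm, hmax⟩ := Finset.exists_max_image (Finset.univ.filter fun a : Fin j => v a ≠ 0)
    (fun a => (a : ℕ)) ⟨a₀, by simpa using ha₀⟩
  have hm' : v m ≠ 0 := by simpa using hm
  have hmj := m.2
  have hi : j - 1 - m < j := by omega
  have e := congrFun hmul ⟨j - 1 - m, hi⟩
  simp only [Matrix.mulVec, dotProduct, hankel, Matrix.of_apply, Pi.zero_apply] at e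
  rw [Finset.sum_eq_single m] at e
  · rw [show (m : ℕ) + (j - 1 - m) = j - 1 by omega] at e
    exact mul_ne_zero (h2 (by omega)) hm' e
  · intro a _ ha
    by_cases hva : v a = 0
    · rw [hva, mul_zero]
    · have := hmax a (by simpa using hva)
      have hne : (a : ℕ) ≠ m := fun h => ha (Fin.ext h)
      rw [h1 _ (by omega), zero_mul]
  · simp

lemma exists_orth {Φ : k[X] →ₗ[k] k} {j : ℕ} (hΦ : (hankel Φ j).det ≠ 0) :
    ∃ p : k[X], p.Monic ∧ p.natDegree = j ∧ Orth Φ j p := by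
  obtain ⟨v, hv⟩ := (Matrix.mulVec_surjective_iff_isUnit.2
    ((hankel Φ j).isUnit_iff_isUnit_det.2 (isUnit_iff_ne_zero.2 hΦ))) (fun i => - Φ (X ^ (j + (i : ℕ))))
  have hdeg : (∑ a : Fin j, C (v a) * X ^ (a : ℕ)).degree < (j : WithBot ℕ) :=
    degree_sum_fin_lt v
  refine ⟨X ^ j + ∑ a : Fin j, C (v a) * X ^ (a : ℕ), monic_X_pow_add hdeg, ?_, fun i hi => ?_⟩
  · refine natDegree_eq_of_degree_eq_some ?_
    rw [degree_add_eq_left_of_degree_lt (by rw [degree_X_pow]; exact hdeg), degree_X_pow]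
  · have e := congrFun hv ⟨i, hi⟩
    simp only [Matrix.mulVec, dotProduct, hankel, Matrix.of_apply] at e
    rw [add_mul, map_add, ← pow_add, Finset.sum_mul, map_sum]
    rw [Finset.sum_congr rfl fun a _ => show Φ (C (v a) * X ^ (a : ℕ) * X ^ i)
        = Φ (X ^ ((a : ℕ) + i)) * v a by
      rw [mul_assoc, ← pow_add, ← smul_eq_C_mul, map_smul, smul_eq_mul, mul_comm], e]
    simp

lemma degree_sub_lt_of_monic {p q : k[X]} {j : ℕ} (hp : p.Monic) (hq : q.Monic)
    (hp' : p.natDegree = j) (hq' : q.natDegree = j) : (p - q).degree < (j : WithBot ℕ) := by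
  have := degree_sub_lt (p := p) (q := q)
    (by rw [degree_eq_natDegree hp.ne_zero, degree_eq_natDegree hq.ne_zero, hp', hq']) hp.ne_zero
    (by rw [hp.leadingCoeff, hq.leadingCoeff])
  rwa [degree_eq_natDegree hp.ne_zero, hp'] at this

lemma eq_of_orth {Φ : k[X] →ₗ[k] k} {j : ℕ} (hΦ : (hankel Φ j).det ≠ 0) {p q : k[X]}
    (hp : p.Monic) (hq : q.Monic) (hp' : p.natDegree = j) (hq' : q.natDegree = j)
    (hpo : Orth Φ j p) (hqo : Orth Φ j q) : p = q := by
  rw [← sub_eq_zero]
  refine eq_zero_of_orth hΦ (degree_sub_lt_of_monic hp hq hp' hq') fun i hi => ?_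
  rw [sub_mul, map_sub, hpo i hi, hqo i hi, sub_zero]

lemma eq_C_mul_of_orth {Φ : k[X] →ₗ[k] k} {j : ℕ} (hΦ : (hankel Φ j).det ≠ 0) {p q : k[X]}
    (hp : p.Monic) (hp' : p.natDegree = j) (hpo : Orth Φ j p)
    (hq : q.degree < ((j + 1 : ℕ) : WithBot ℕ)) (hqo : Orth Φ j q) : q = C (q.coeff j) * p := by
  rw [← sub_eq_zero]
  refine eq_zero_of_orth hΦ ?_ fun i hi => ?_
  · rw [degree_lt_iff_coeff_zero]
    intro m hm
    rw [coeff_sub, coeff_C_mul]
    rcases eq_or_lt_of_le hm with rfl | hlt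
    · rw [← hp', coeff_natDegree, hp.leadingCoeff, mul_one, sub_self]
    · rw [(degree_lt_iff_coeff_zero _ _).1 hq m (by omega),
        coeff_eq_zero_of_natDegree_lt (hp'.trans_lt hlt), mul_zero, sub_zero]
  · rw [sub_mul, map_sub, hqo i hi, mul_assoc, ← smul_eq_C_mul, map_smul, hpo i hi, smul_zero, sub_zero]

end Orth

section Main

variable {k K : Type*} [Field k] [Field K] [Algebra k K]

/-- `F` is polynomial on every line. -/
def PolyOnLines {V : Type*} [AddCommGroup V] [Module k V] (F : V → k) : Prop :=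
  ∀ z w : V, ∃ P : k[X], ∀ t : k, F (z + t • w) = P.eval t

lemma exists_common_ne_zero [Infinite k] {V : Type*} [AddCommGroup V] [Module k V] {ι : Type*}
    (s : Finset ι) (F : ι → V → k) (hp : ∀ i ∈ s, PolyOnLines (F i))
    (hne : ∀ i ∈ s, ∃ z, F i z ≠ 0) : ∃ z, ∀ i ∈ s, F i z ≠ 0 := by
  classical
  induction s using Finset.induction with
  | empty => exact ⟨0, by simp⟩
  | @insert i s _ ih =>
    obtain ⟨z, hz⟩ := ih (fun j hj => hp j (Finset.mem_insert_of_mem hj))
      (fun j hj => hne j (Finset.mem_insert_of_mem hj))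
    obtain ⟨z', hz'⟩ := hne i (Finset.mem_insert_self i s)
    choose P hP using fun (j : {x // x ∈ insert i s}) => hp j.1 j.2 z (z' - z)
    have hP0 : (∏ j, P j) ≠ 0 := by
      refine Finset.prod_ne_zero_iff.2 fun j _ h => ?_
      rcases Finset.mem_insert.1 j.2 with hj | hj
      · refine hz' ?_
        have := hP j 1
        rw [one_smul, add_sub_cancel, h, eval_zero, hj] at this
        exact this
      · refine hz j.1 hj ?_
        have := hP j 0
        rwa [zero_smul, add_zero, h, eval_zero] at this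
    obtain ⟨t, ht⟩ := exists_eval_ne_zero_of_natDegree_lt_card _ hP0
      ((Cardinal.nat_lt_aleph0 _).trans_le (Cardinal.aleph0_le_mk k))
    rw [eval_prod, Finset.prod_ne_zero_iff] at ht
    exact ⟨z + t • (z' - z), fun j hj => by rw [hP ⟨j, hj⟩ t]; exact ht _ (Finset.mem_univ _)⟩

variable (pb : PowerBasis k K)

/-- The coefficient of the top basis vector. -/
noncomputable def topCoeff : K →ₗ[k] k :=
  if h : 0 < pb.dim then pb.basis.coord ⟨pb.dim - 1, by omega⟩ else 0

lemma topCoeff_gen_pow (m : Fin pb.dim) :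
    topCoeff pb (pb.gen ^ (m : ℕ)) = if (m : ℕ) = pb.dim - 1 then 1 else 0 := by
  have h : 0 < pb.dim := m.pos
  rw [topCoeff, dif_pos h, ← pb.basis_eq_pow, Module.Basis.coord_apply, Module.Basis.repr_self,
    Finsupp.single_apply]
  simp [Fin.ext_iff]

lemma mem_range_of_topCoeff {y : K} (hy : ∀ i, i + 1 < pb.dim → topCoeff pb (y * pb.gen ^ i) = 0) :
    ∃ c : k, y = algebraMap k K c := by
  classical
  set v := pb.basis.repr y with hv
  by_contra hne
  have hy' : y = ∑ a, v a • pb.gen ^ (a : ℕ) := by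
    conv_lhs => rw [← pb.basis.sum_repr y]
    simp [hv]
  have hex : ∃ a : Fin pb.dim, (a : ℕ) ≠ 0 ∧ v a ≠ 0 := by
    by_contra hh
    push_neg at hh
    refine hne ⟨v ⟨0, pb.dim_pos⟩, ?_⟩
    rw [hy', Finset.sum_eq_single ⟨0, pb.dim_pos⟩]
    · simp [Algebra.algebraMap_eq_smul_one]
    · intro a _ ha
      rw [hh a (fun h => ha (Fin.ext h)), zero_smul]
    · simp
  obtain ⟨a₁, ha₁⟩ := hex
  obtain ⟨m, hm, hmax⟩ := Finset.exists_max_image
    (Finset.univ.filter fun a : Fin pb.dim => (a : ℕ) ≠ 0 ∧ v a ≠ 0) (fun a => (a : ℕ))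
    ⟨a₁, by simp [ha₁]⟩
  simp only [Finset.mem_filter, Finset.mem_univ, true_and] at hm hmax
  have hmd := m.2
  have e := hy (pb.dim - 1 - m) (by omega)
  rw [hy', Finset.sum_mul, map_sum, Finset.sum_eq_single m] at e
  · rw [smul_mul_assoc, ← pow_add, map_smul, show (m : ℕ) + (pb.dim - 1 - m) = pb.dim - 1 by omega,
      topCoeff_gen_pow pb ⟨pb.dim - 1, by omega⟩, if_pos rfl, smul_eq_mul, mul_one] at e
    exact hm.2 e
  · intro a _ ha
    by_cases hva : v a = 0
    · simp [hva]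
    · have hle : (a : ℕ) ≤ m := by
        by_cases h0 : (a : ℕ) = 0
        · omega
        · exact hmax a ⟨h0, hva⟩
      have hne' : (a : ℕ) ≠ m := fun h => ha (Fin.ext h)
      rw [smul_mul_assoc, ← pow_add, map_smul,
        topCoeff_gen_pow pb ⟨(a : ℕ) + (pb.dim - 1 - m), by omega⟩, if_neg (by simp; omega), smul_zero]
  · simp

/-- `p ↦ h₀ p(0) + τ(ψ (p(x) - p(0))/x)` as a linear function of `(h₀, ψ)` and of `p`. -/
noncomputable def lowFun (z : k × K) : k[X] →ₗ[k] k :=
  z.1 • lcoeff k 0 + ((topCoeff pb).comp (LinearMap.mulLeft k (z.2 * pb.gen⁻¹))).comp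
    ((aeval pb.gen).toLinearMap - (Algebra.linearMap k K).comp (lcoeff k 0))

/-- `p ↦ τ(ψ p(x))`. -/
noncomputable def highFun (z : k × K) : k[X] →ₗ[k] k :=
  ((topCoeff pb).comp (LinearMap.mulLeft k z.2)).comp (aeval pb.gen).toLinearMap

lemma lowFun_apply (z : k × K) (p : k[X]) : lowFun pb z p = z.1 * p.coeff 0 +
    topCoeff pb (z.2 * pb.gen⁻¹ * (aeval pb.gen p - algebraMap k K (p.coeff 0))) := by
  simp [lowFun, mul_assoc]

lemma highFun_apply (z : k × K) (p : k[X]) :
    highFun pb z p = topCoeff pb (z.2 * aeval pb.gen p) := by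
  simp [highFun]

lemma lowFun_mul_X (hx : pb.gen ≠ 0) (z : k × K) (p : k[X]) :
    lowFun pb z (X * p) = highFun pb z p := by
  rw [lowFun_apply, highFun_apply]
  simp only [mul_coeff_zero, coeff_X_zero, zero_mul, mul_zero, map_zero, sub_zero, zero_add, map_mul,
    aeval_X]
  congr 1
  field_simp

lemma lowFun_linear (p : k[X]) (z w : k × K) (t : k) :
    lowFun pb (z + t • w) p = lowFun pb z p + t * lowFun pb w p := by
  simp only [lowFun_apply, Prod.fst_add, Prod.smul_fst, Prod.snd_add, Prod.smul_snd, smul_eq_mul,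
    add_mul, map_add, smul_mul_assoc, map_smul, smul_eq_mul]
  ring

lemma highFun_linear (p : k[X]) (z w : k × K) (t : k) :
    highFun pb (z + t • w) p = highFun pb z p + t * highFun pb w p := by
  simp only [highFun_apply, Prod.snd_add, Prod.smul_snd, add_mul, map_add, smul_mul_assoc, map_smul,
    smul_eq_mul]

lemma polyOnLines_hankel {Φ : k × K → k[X] →ₗ[k] k}
    (hΦ : ∀ p z w (t : k), Φ (z + t • w) p = Φ z p + t * Φ w p) (j : ℕ) :
    PolyOnLines fun z => (hankel (Φ z) j).det := by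
  intro z w
  refine ⟨(Matrix.of fun a b => C (hankel (Φ z) j a b) + X * C (hankel (Φ w) j a b)).det, fun t => ?_⟩
  show (hankel (Φ (z + t • w)) j).det = _
  rw [← coe_evalRingHom, RingHom.map_det]
  congr 1
  ext a b
  simp only [hankel, RingHom.mapMatrix_apply, Matrix.map_apply, Matrix.of_apply, coe_evalRingHom, eval_add, eval_mul, eval_C, eval_X, hΦ]

/-- Every prescribed first `dim` moments are attained. -/
lemma exists_moments (c : Fin pb.dim → k) :
    ∃ ψ : K, ∀ i : Fin pb.dim, topCoeff pb (ψ * pb.gen ^ (i : ℕ)) = c i := by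
  classical
  let T : K →ₗ[k] (Fin pb.dim → k) :=
    LinearMap.pi fun i => (topCoeff pb).comp (LinearMap.mulRight k (pb.gen ^ (i : ℕ)))
  haveI : FiniteDimensional k K := Module.Finite.of_basis pb.basis
  have hd : Module.finrank k K = Module.finrank k (Fin pb.dim → k) := by
    rw [Module.finrank_fin_fun, pb.finrank]
  have hinj : Function.Injective T := by
    rw [← LinearMap.ker_eq_bot, LinearMap.ker_eq_bot']
    intro y hy
    have hy' : ∀ i : Fin pb.dim, topCoeff pb (y * pb.gen ^ (i : ℕ)) = 0 := fun i => congrFun hy i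
    obtain ⟨a, rfl⟩ := mem_range_of_topCoeff pb (y := y) fun i hi => hy' ⟨i, by omega⟩
    have h := hy' ⟨pb.dim - 1, by have := pb.dim_pos; omega⟩
    rw [← Algebra.smul_def, map_smul, topCoeff_gen_pow pb ⟨pb.dim - 1, by have := pb.dim_pos; omega⟩,
      if_pos rfl, smul_eq_mul, mul_one] at h
    rw [h, map_zero]
  obtain ⟨ψ, hψ⟩ := ((LinearMap.injective_iff_surjective_of_finrank_eq_finrank hd).1 hinj) c
  exact ⟨ψ, fun i => congrFun hψ i⟩

open Matrix in
/-- An element with lower-left entry zero and prescribed generic upper-left entry. -/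
lemma exists_borel (hx : pb.gen ≠ 0) (Γ : Subgroup (SpecialLinearGroup (Fin 2) K))
    (hu : ∀ c : k, uu (algebraMap k K c) ∈ Γ) (hv : ∀ c : k, vv (algebraMap k K c * pb.gen) ∈ Γ)
    (z : k × K) (hL : ∀ j ≤ pb.dim, (hankel (lowFun pb z) j).det ≠ 0)
    (hH : ∀ j ≤ pb.dim, (hankel (highFun pb z) j).det ≠ 0)
    (hg : lowFun pb z (minpoly k pb.gen) ≠ 0) :
    ∃ g ∈ Γ, g 1 0 = 0 ∧ ∃ s : k, g 0 0 * z.2 = algebraMap k K s := by
  classical
  set L := lowFun pb z with hLdef
  set H := highFun pb z with hHdef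
  have hX : ∀ p, L (X * p) = H p := lowFun_mul_X pb hx z
  choose p hp1 hp2 hp3 using fun j : {j // j ≤ pb.dim} => exists_orth (hL j.1 j.2)
  choose r hr1 hr2 hr3 using fun j : {j // j ≤ pb.dim} => exists_orth (hH j.1 j.2)
  have hint : IsIntegral k pb.gen := pb.isIntegral_gen
  have hdeg : (minpoly k pb.gen).natDegree = pb.dim := pb.natDegree_minpoly
  have hrn : r ⟨pb.dim, le_rfl⟩ = minpoly k pb.gen := by
    refine eq_of_orth (hH _ le_rfl) (hr1 _) (minpoly.monic hint) (hr2 _) hdeg (hr3 ⟨pb.dim, le_rfl⟩) fun i _ => ?_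
    rw [hHdef, highFun_apply, map_mul (aeval pb.gen), minpoly.aeval, zero_mul, mul_zero, map_zero]
  -- recurrences
  have hrec : ∀ j (hj : j + 1 ≤ pb.dim), ∃ c b : k, c ≠ 0 ∧ b ≠ 0 ∧
      p ⟨j + 1, hj⟩ = X * r ⟨j, by omega⟩ + C c * p ⟨j, by omega⟩ ∧
      r ⟨j + 1, hj⟩ = p ⟨j + 1, hj⟩ + C b * r ⟨j, by omega⟩ := by
    intro j hj
    set p0 := p ⟨j, by omega⟩
    set p1 := p ⟨j + 1, hj⟩ with hp1e
    set r0 := r ⟨j, by omega⟩
    set r1 := r ⟨j + 1, hj⟩ with hr1e
    have hXr : (X * r0).Monic ∧ (X * r0).natDegree = j + 1 := by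
      refine ⟨monic_X.mul (hr1 _), ?_⟩
      rw [Monic.natDegree_mul monic_X (hr1 _), natDegree_X, hr2]
      simp only; omega
    have e1 : p1 - X * r0 = C ((p1 - X * r0).coeff j) * p0 := by
      refine eq_C_mul_of_orth (hL j (by omega)) (hp1 _) (hp2 _) (hp3 ⟨j, by omega⟩)
        (degree_sub_lt_of_monic (hp1 _) hXr.1 (hp2 _) hXr.2) fun i hi => ?_
      rw [sub_mul, map_sub, hp3 _ i (by show i < j + 1; omega), mul_assoc, hX, hr3 _ i hi, sub_zero]
    have e2 : r1 - p1 = C ((r1 - p1).coeff j) * r0 := by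
      refine eq_C_mul_of_orth (hH j (by omega)) (hr1 _) (hr2 _) (hr3 ⟨j, by omega⟩)
        (degree_sub_lt_of_monic (hr1 _) (hp1 _) (hr2 _) (hp2 _)) fun i hi => ?_
      rw [sub_mul, map_sub, hr3 _ i (by show i < j + 1; omega), ← hX, ← mul_assoc, mul_comm X p1,
        mul_assoc, ← pow_succ', hp3 _ (i + 1) (by show i + 1 < j + 1; omega), sub_zero]
    refine ⟨(p1 - X * r0).coeff j, (r1 - p1).coeff j, fun h => ?_, fun h => ?_,
      by rw [← e1]; ring, by rw [← e2]; ring⟩
    · rw [h, C_0, zero_mul, sub_eq_zero] at e1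
      have := eq_zero_of_orth (hH (j + 1) hj) (q := r0) ?_ ?_
      · exact (hr1 ⟨j, by omega⟩).ne_zero this
      · rw [degree_eq_natDegree (hr1 _).ne_zero, hr2]
        exact_mod_cast Nat.lt_succ_self j
      · intro i hi
        rw [← hX, ← mul_assoc, ← e1]
        exact hp3 _ i hi
    · rw [h, C_0, zero_mul, sub_eq_zero] at e2
      rcases eq_or_lt_of_le hj with hjn | hjn
      · refine hg ?_
        have h0 := hp3 ⟨j + 1, hj⟩ 0 (Nat.succ_pos j)
        rw [pow_zero, mul_one, ← hp1e, ← e2] at h0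
        rw [← hrn]
        convert h0 using 3
        exact Subtype.ext hjn.symm
      · have := eq_zero_of_orth (hL (j + 2) hjn) (q := p1) ?_ ?_
        · exact (hp1 ⟨j + 1, hj⟩).ne_zero this
        · rw [degree_eq_natDegree (hp1 _).ne_zero, hp2]
          exact_mod_cast Nat.lt_succ_self (j + 1)
        · intro i hi
          rcases i with _ | i
          · exact hp3 _ 0 (Nat.succ_pos j)
          · rw [pow_succ', ← mul_assoc, mul_comm p1 X, mul_assoc, hX, ← e2]
            exact hr3 _ i (by show i < j + 1; omega)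
  -- the elements
  have key : ∀ j (hj : j ≤ pb.dim), ∃ g ∈ Γ, ∃ κ ν : k, κ ≠ 0 ∧ ν ≠ 0 ∧
      g 1 0 = algebraMap k K κ * (pb.gen * aeval pb.gen (r ⟨j, hj⟩)) ∧
      g 0 0 = algebraMap k K ν * aeval pb.gen (p ⟨j, hj⟩) := by
    intro j
    induction j with
    | zero =>
      intro hj
      have e1 : p ⟨0, hj⟩ = 1 := eq_one_of_monic_natDegree_zero (hp1 _) (hp2 _)
      have e2 : r ⟨0, hj⟩ = 1 := eq_one_of_monic_natDegree_zero (hr1 _) (hr2 _)
      refine ⟨_, hv 1, 1, 1, one_ne_zero, one_ne_zero, ?_, ?_⟩ <;> simp [e1, e2]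
    | succ j ih =>
      intro hj
      obtain ⟨g, hgΓ, κ, ν, hκ, hν, hc, ha⟩ := ih (by omega)
      obtain ⟨c, b, hc0, hb0, e1, e2⟩ := hrec j hj
      refine ⟨vv (algebraMap k K ((κ / b) / (ν / c)) * pb.gen) * (uu (algebraMap k K ((ν / c) / κ)) * g),
        Γ.mul_mem (hv _) (Γ.mul_mem (hu _) hgΓ), κ / b, ν / c, div_ne_zero hκ hb0,
        div_ne_zero hν hc0, ?_, ?_⟩
      · simp only [sl2_mul, uu_coe, vv_coe]
        simp [e1, e2, hc, ha]
        have hκ' : algebraMap k K κ ≠ 0 := by simpa using hκ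
        have hν' : algebraMap k K ν ≠ 0 := by simpa using hν
        have hc' : algebraMap k K c ≠ 0 := by simpa using hc0
        have hb' : algebraMap k K b ≠ 0 := by simpa using hb0
        field_simp
        ring
      · simp only [sl2_mul, uu_coe, vv_coe]
        simp [e1, hc, ha]
        have hκ' : algebraMap k K κ ≠ 0 := by simpa using hκ
        have hc' : algebraMap k K c ≠ 0 := by simpa using hc0
        field_simp
        ring
  obtain ⟨g, hgΓ, κ, ν, -, -, hc, ha⟩ := key pb.dim le_rfl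
  rw [hrn, minpoly.aeval, mul_zero, mul_zero] at hc
  refine ⟨g, hgΓ, hc, ?_⟩
  have hj : pb.dim - 1 + 1 ≤ pb.dim := by have := pb.dim_pos; omega
  obtain ⟨c, b, -, -, -, e2⟩ := hrec (pb.dim - 1) hj
  obtain ⟨y, hy⟩ := mem_range_of_topCoeff pb
    (y := z.2 * aeval pb.gen (r ⟨pb.dim - 1, by omega⟩)) (fun i hi => by
      have h := hr3 ⟨pb.dim - 1, by omega⟩ i (by show i < pb.dim - 1; omega)
      rw [hHdef, highFun_apply, map_mul (aeval pb.gen), map_pow, aeval_X] at h
      rwa [mul_assoc])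
  have hee : (⟨pb.dim - 1 + 1, hj⟩ : {j // j ≤ pb.dim}) = ⟨pb.dim, le_rfl⟩ :=
    Subtype.ext (by simp only; have := pb.dim_pos; omega)
  rw [hee, hrn] at e2
  have hpn : aeval pb.gen (p ⟨pb.dim, le_rfl⟩)
      = -(algebraMap k K b * aeval pb.gen (r ⟨pb.dim - 1, by omega⟩)) := by
    have := congrArg (aeval pb.gen) e2
    simp only [minpoly.aeval, map_add, map_mul, aeval_C] at this
    exact eq_neg_of_add_eq_zero_left this.symm
  refine ⟨-(ν * b * y), ?_⟩
  rw [ha, hpn, map_neg, map_mul, map_mul, ← hy]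
  ring

open Matrix in
/-- For infinite `k` the upper parameters form all of `K`. -/
theorem upperParam_eq_top_of_infinite [Infinite k] (h2 : (2 : k) ≠ 0) (hx : pb.gen ≠ 0)
    (Γ : Subgroup (SpecialLinearGroup (Fin 2) K))
    (hu : ∀ c : k, uu (algebraMap k K c) ∈ Γ) (hv : ∀ c : k, vv (algebraMap k K c * pb.gen) ∈ Γ) :
    ∀ y : K, uu y ∈ Γ := by
  classical
  let W : Submodule k K := Submodule.span k {y : K | ∀ c : k, uu (algebraMap k K c * y) ∈ Γ}
  have hW : ∀ y ∈ W, ∀ c : k, uu (algebraMap k K c * y) ∈ Γ := by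
    intro y hy
    refine Submodule.span_induction (p := fun y _ => ∀ c : k, uu (algebraMap k K c * y) ∈ Γ)
      (fun y hy => hy) (fun c => by simp [uu_zero]) (fun a b _ _ ha hb c => ?_) (fun a b _ hb c => ?_) hy
    · rw [mul_add, uu_add]; exact Γ.mul_mem (ha c) (hb c)
    · rw [Algebra.smul_def, ← mul_assoc, ← map_mul]; exact hb _
  suffices W = ⊤ by
    intro y
    simpa using hW y (this ▸ Submodule.mem_top) 1
  by_contra hne
  obtain ⟨f, hf0, hfW⟩ := W.exists_dual_map_eq_bot_of_lt_top (lt_top_iff_ne_top.2 hne) inferInstance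
  have hfW' : ∀ y ∈ W, f y = 0 := fun y hy => by
    have h : f y ∈ W.map f := ⟨y, hy, rfl⟩
    rwa [hfW, Submodule.mem_bot] at h
  -- the family of functions
  let Fam : Option (Option (Bool × Fin (pb.dim + 1))) → k × K → k := fun o z => match o with
    | none => lowFun pb z (minpoly k pb.gen)
    | some none => f (z.2 * z.2)
    | some (some (b, j)) => (hankel (if b then lowFun pb z else highFun pb z) j).det
  suffices h : ∃ z, ∀ i ∈ Finset.univ, Fam i z ≠ 0 by
    obtain ⟨z, hz⟩ := h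
    obtain ⟨g, hg, hc, s, hs⟩ := exists_borel pb hx Γ hu hv z
      (fun j hj => by simpa [Fam] using hz (some (some (true, ⟨j, by omega⟩))) (Finset.mem_univ _))
      (fun j hj => by simpa [Fam] using hz (some (some (false, ⟨j, by omega⟩))) (Finset.mem_univ _))
      (hz none (Finset.mem_univ _))
    have hd := sl2_det g
    rw [hc, mul_zero, sub_zero] at hd
    have hs0 : s ≠ 0 := by
      rintro rfl
      have hz2 : z.2 ≠ 0 := fun e => hz (some none) (Finset.mem_univ _) (by simp [Fam, e])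
      rw [map_zero] at hs
      rcases mul_eq_zero.1 hs with h | h
      · rw [h, zero_mul] at hd; exact zero_ne_one hd
      · exact hz2 h
    refine hz (some none) (Finset.mem_univ _) (hfW' _ (Submodule.subset_span fun c => ?_))
    obtain ⟨i0, -, -, i3⟩ := sl2_inv g
    have hmem := sq_mul_mem_upperParam (Γ.inv_mem hg) (by rw [i3, hc, neg_zero])
      (x := algebraMap k K (c * s * s)) (hu _)
    rw [mem_upperParam, i0] at hmem
    convert hmem using 2
    rw [map_mul, map_mul, ← hs]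
    linear_combination (-(algebraMap k K c) * z.2 * z.2 * (g 0 0 * g 1 1 + 1)) * hd
  refine exists_common_ne_zero (k := k) Finset.univ Fam ?_ ?_
  · rintro (_ | _ | ⟨b, j⟩) - z w
    · exact ⟨C (lowFun pb z (minpoly k pb.gen)) + X * C (lowFun pb w (minpoly k pb.gen)),
        fun t => by simp [Fam, lowFun_linear]; ring⟩
    · refine ⟨C (f (z.2 * z.2)) + X * C (f (z.2 * w.2) + f (w.2 * z.2)) + X ^ 2 * C (f (w.2 * w.2)),
        fun t => ?_⟩
      simp only [Fam, Prod.snd_add, Prod.smul_snd, add_mul, mul_add, smul_mul_assoc, mul_smul_comm,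
        map_add, map_smul, smul_eq_mul, eval_add, eval_mul, eval_C, eval_X, eval_pow]
      ring
    · cases b
      · exact polyOnLines_hankel (highFun_linear pb) j z w
      · exact polyOnLines_hankel (lowFun_linear pb) j z w
  · rintro (_ | _ | ⟨b, j⟩) -
    · refine ⟨(1, 0), ?_⟩
      simp only [Fam, lowFun_apply, one_mul, zero_mul, map_zero, add_zero]
      exact minpoly.coeff_zero_ne_zero pb.isIntegral_gen hx
    · by_contra hh
      push_neg at hh
      refine hf0 (LinearMap.ext fun y => ?_)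
      have h1 := hh (0, y + 1)
      have h2' := hh (0, y)
      have h3 := hh (0, 1)
      simp only [Fam] at h1 h2' h3
      rw [show (y + 1) * (y + 1) = y * y + (y + y) + 1 * 1 by ring, map_add, map_add, map_add, h2', h3,
        zero_add, add_zero, ← two_mul] at h1
      exact (mul_eq_zero.1 h1).resolve_left h2
    · have hj : (j : ℕ) ≤ pb.dim := Nat.lt_succ_iff.1 j.2
      cases b
      · obtain ⟨ψ, hψ⟩ := exists_moments pb (fun i => if (i : ℕ) + 1 = j then 1 else 0)
        refine ⟨(0, ψ), det_ne_zero_of_antidiagonal (fun m hm => ?_) fun h1 => ?_⟩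
        · simp only [Bool.false_eq_true, if_false, highFun_apply, map_pow, aeval_X]
          rw [hψ ⟨m, by omega⟩, if_neg (by simp; omega)]
        · simp only [Bool.false_eq_true, if_false, highFun_apply, map_pow, aeval_X]
          rw [hψ ⟨(j : ℕ) - 1, by omega⟩, if_pos (by simp; omega)]
          exact one_ne_zero
      · obtain ⟨ψ, hψ⟩ := exists_moments pb (fun i => if (i : ℕ) + 2 = j then 1 else 0)
        refine ⟨(if (j : ℕ) = 1 then 1 else 0, ψ), det_ne_zero_of_antidiagonal (fun m hm => ?_) fun h1 => ?_⟩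
        · simp only [if_true]
          rcases m with _ | m
          · rw [pow_zero, lowFun_apply, if_neg (by omega)]; simp
          · rw [pow_succ', lowFun_mul_X pb hx, highFun_apply, map_pow, aeval_X,
              hψ ⟨m, by omega⟩, if_neg (by simp; omega)]
        · simp only [if_true]
          rcases hj1 : (j : ℕ) - 1 with _ | m
          · rw [pow_zero, lowFun_apply, if_pos (by omega)]; simp
          · rw [pow_succ', lowFun_mul_X pb hx, highFun_apply, map_pow, aeval_X,
              hψ ⟨m, by omega⟩, if_pos (by simp; omega)]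
            exact one_ne_zero

end Main

end Cfsg.Agent.H88
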