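/-
`⟨U(k), V(k x)⟩ = SL₂(k(x))` for a field `k` of characteristic not 2 with at least five elements.
-/
import Cfsg.Agent.H88.SL2Finite
import Cfsg.Agent.H88.SL2Infinite
set_option autoImplicit false

namespace Cfsg.Agent.H88

open Matrix

lemma five_le_card {k : Type*} [Field k] [Finite k] (h2 : (2 : k) ≠ 0) (h3 : Nat.card k ≠ 3) :
    5 ≤ Nat.card k := by
  obtain ⟨p, hp⟩ := CharP.exists k
  haveI : Fintype k := Fintype.ofFinite k
  obtain ⟨n, hp', hn⟩ := FiniteField.card k p
  have hodd : p ≠ 2 := fun e => h2 (by subst e; exact_mod_cast CharP.cast_eq_zero k 2)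
  rw [Nat.card_eq_fintype_card] at h3 ⊢
  rw [hn] at h3 ⊢
  have hp3 : 3 ≤ p := by have := hp'.two_le; omega
  rcases eq_or_lt_of_le hp3 with rfl | h
  · rcases eq_or_lt_of_le (show 1 ≤ (n : ℕ) from n.pos) with h1 | h1
    · rw [← h1] at h3; simp at h3
    · calc 5 ≤ 3 ^ 2 := by norm_num
        _ ≤ _ := Nat.pow_le_pow_right (by norm_num) h1
  · have hp4 : p ≠ 4 := fun e => by subst e; norm_num at hp'
    exact le_trans (by omega) (Nat.le_self_pow n.pos.ne' p)

variable {k K : Type*} [Field k] [Field K] [Algebra k K]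

theorem sl2_gen_eq_top (pb : PowerBasis k K) (h2 : (2 : k) ≠ 0) (h3 : Nat.card k ≠ 3) (hx : pb.gen ≠ 0)
    (Γ : Subgroup (SpecialLinearGroup (Fin 2) K))
    (hu : ∀ c : k, uu (algebraMap k K c) ∈ Γ) (hv : ∀ c : k, vv (algebraMap k K c * pb.gen) ∈ Γ) :
    Γ = ⊤ := by
  have hv1 : vv pb.gen ∈ Γ := by simpa using hv 1
  rcases finite_or_infinite k with hk | hk
  swap
  · exact eq_top_of_uu (upperParam_eq_top_of_infinite pb h2 hx Γ hu hv) hx hv1
  haveI : Module.Finite k K := Module.Finite.of_basis pb.basis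
  haveI : Finite K := Module.finite_of_finite k
  obtain ⟨p, hp⟩ := CharP.exists K
  haveI : Fintype K := Fintype.ofFinite K
  haveI : Fact p.Prime := ⟨CharP.char_is_prime K p⟩
  have h2K : (2 : K) ≠ 0 := by
    rw [← map_ofNat (algebraMap k K) 2]
    simpa using h2
  set Γ' := Γ ⊔ Subgroup.center (SpecialLinearGroup (Fin 2) K) with hΓ'
  have hneg : -1 ∈ Γ' := Subgroup.mem_sup_right (Linear.mem_center_SL_two.2 (Or.inr rfl))
  have hu' : ∀ c : k, uu (algebraMap k K c) ∈ Γ' := fun c => Subgroup.mem_sup_left (hu c)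
  have h1 : uu 1 ∈ Γ' := by simpa using hu' 1
  have hcard : 5 ≤ Nat.card (upperParam Γ') :=
    (five_le_card h2 h3).trans (Nat.card_le_card_of_injective
      (fun c : k => (⟨algebraMap k K c, hu' c⟩ : upperParam Γ'))
      (fun a b e => (algebraMap k K).injective (congrArg Subtype.val e)))
  obtain ⟨hxm, hmul⟩ := upperParam_mul_closed (Γ := Γ') h2K hneg h1 hx (Subgroup.mem_sup_left hv1) p hcard
  let S : Subalgebra k K :=
    { carrier := {y | y ∈ upperParam Γ'}
      mul_mem' := fun {a b} ha hb => hmul a ha b hb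
      one_mem' := h1
      add_mem' := fun {a b} ha hb => (upperParam Γ').add_mem ha hb
      zero_mem' := (upperParam Γ').zero_mem
      algebraMap_mem' := hu' }
  have hS : S = ⊤ := by
    rw [eq_top_iff, ← pb.adjoin_gen_eq_top]
    exact Algebra.adjoin_le (by simpa [S] using hxm)
  refine eq_top_of_uu (fun y => ?_) hx hv1
  have hy : uu y ∈ Γ' := show y ∈ S by rw [hS]; trivial
  obtain ⟨g, hg, z, hz, e⟩ := Subgroup.mem_sup_of_normal_right.1 hy
  rcases Linear.mem_center_SL_two.1 hz with rfl | rfl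
  · rw [mul_one] at e; rwa [← e]
  · have hg' : g = -uu y := by rw [← e, mul_neg, mul_one, neg_neg]
    have hodd : Odd p := by
      refine (Fact.out : p.Prime).odd_of_ne_two fun e2 => h2K ?_
      subst e2
      exact_mod_cast CharP.cast_eq_zero K 2
    obtain ⟨m, hm⟩ := hodd.add_odd odd_one
    have hpow : ∀ n : ℕ, uu y ^ n = uu ((n : K) * y) := by
      intro n
      induction n with
      | zero => simp [uu_zero]
      | succ n ih => rw [pow_succ, ih, ← uu_add]; push_cast; ring_nf
    have := Γ.pow_mem hg (p + 1)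
    rw [hg', Even.neg_pow ⟨m, hm⟩, hpow] at this
    simpa using this

end Cfsg.Agent.H88
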