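/-
A subgroup of `SL₂` over a ring that covers `SL₂` of a residue field and in which the lower left entry
vanishes as soon as its residue does gives a ring homomorphism splitting the residue map on the generators.
-/
import Cfsg.Agent.H88.SL2Basic
set_option autoImplicit false

namespace Cfsg.Agent.H88

open Matrix

variable {R K : Type*} [CommRing R] [Field K]

local macro "entries" : tactic =>
  `(tactic| simp [sl2_mul, uu, vv, SpecialLinearGroup.coe_inv, Matrix.adjugate_fin_two])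

lemma map_uu (π : R →+* K) (t : R) : SpecialLinearGroup.map π (uu t) = uu (π t) := by
  refine sl2_ext ?_ ?_ ?_ ?_ <;> simp [SpecialLinearGroup.map_apply_coe]

theorem exists_section (π : R →+* K) (h2 : IsUnit (2 : R)) {x : R} (hx : IsUnit x)
    (Γ : Subgroup (SpecialLinearGroup (Fin 2) R)) (h1 : uu 1 ∈ Γ) (hv : vv x ∈ Γ)
    (hsurj : Γ.map (SpecialLinearGroup.map π) = ⊤)
    (hker : ∀ g ∈ Γ, π (g 1 0) = 0 → g 1 0 = 0) :
    ∃ f : K →+* R, f (π x) = x ∧ ∀ t, uu t ∈ Γ → f (π t) = t := by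
  have hw : ∀ y, vv y ∈ Γ → vv (-y) ∈ Γ := fun y hy => by rw [← vv_inv]; exact Γ.inv_mem hy
  -- the congruence kernel is scalar
  have hN : ∀ n ∈ Γ, π (n 1 0) = 0 → π (n 0 0) = 1 → π (n 0 1) = 0 → π (n 1 1) = 1 →
      n 0 0 ^ 2 = 1 ∧ n 0 1 = 0 ∧ n 1 0 = 0 ∧ n 1 1 = n 0 0 := by
    intro n hn e10 e00 e01 e11
    have hc : n 1 0 = 0 := hker n hn e10
    have key : ∀ y, vv y ∈ Γ → y * (n 0 0 - n 1 1) - y ^ 2 * n 0 1 = 0 := by
      intro y hy
      have e : (vv y * n * (vv y)⁻¹) 1 0 = y * (n 0 0 - n 1 1) - y ^ 2 * n 0 1 := by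
        rw [vv_inv]; simp [sl2_mul, hc]; ring
      rw [← e]
      refine hker _ (Γ.mul_mem (Γ.mul_mem hy hn) (Γ.inv_mem hy)) ?_
      rw [e]; simp [e00, e01, e11]
    have k1 := key x hv
    have k2 := key (-x) (hw x hv)
    have hb : n 0 1 = 0 := by
      have : 2 * x ^ 2 * n 0 1 = 0 := by linear_combination -k1 - k2
      exact (IsUnit.mul_right_eq_zero (h2.mul (hx.pow 2))).1 this
    have hd : n 1 1 = n 0 0 := by
      have : 2 * x * (n 0 0 - n 1 1) = 0 := by linear_combination k1 - k2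
      exact (sub_eq_zero.1 ((IsUnit.mul_right_eq_zero (h2.mul hx)).1 this)).symm
    refine ⟨?_, hb, hc, hd⟩
    have := sl2_det n
    rw [hd, hb] at this
    linear_combination this
  have ex : ∀ m, ∃ g ∈ Γ, SpecialLinearGroup.map π g = m := fun m =>
    Subgroup.mem_map.1 (hsurj ▸ Subgroup.mem_top m)
  have ent : ∀ {g : SpecialLinearGroup (Fin 2) R} {m} (i j), SpecialLinearGroup.map π g = m →
      π (g i j) = m i j := fun i j e => by rw [← e]; rfl
  -- preimages of `uu y`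
  have hU : ∀ g ∈ Γ, ∀ y, SpecialLinearGroup.map π g = uu y →
      g 1 0 = 0 ∧ g 1 1 = g 0 0 ∧ g 0 0 ^ 2 = 1 := by
    intro g hg y e
    have hc : g 1 0 = 0 := hker g hg (by simp [ent 1 0 e, uu])
    have e2 : g * uu 1 * g⁻¹ * (uu 1)⁻¹ = uu (g 0 0 ^ 2 - 1) := by
      rw [conj_uu_of_c_eq_zero hc, uu_inv, ← uu_add, mul_one, sub_eq_add_neg]
    have hm : uu (g 0 0 ^ 2 - 1) ∈ Γ :=
      e2 ▸ Γ.mul_mem (Γ.mul_mem (Γ.mul_mem hg h1) (Γ.inv_mem hg)) (Γ.inv_mem h1)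
    obtain ⟨-, hb, -⟩ := hN _ hm (by simp [uu]) (by simp [uu])
      (by simp [uu, ent 0 0 e]) (by simp [uu])
    have ha : g 0 0 ^ 2 = 1 := by simpa [uu, sub_eq_zero] using hb
    have hd := sl2_det g
    rw [hc] at hd
    exact ⟨hc, by linear_combination g 0 0 * hd - g 1 1 * ha, ha⟩
  choose γ hγ eγ using fun y => ex (uu y)
  let f0 : K → R := fun y => γ y 0 0 * γ y 0 1
  have hf0 : ∀ g ∈ Γ, ∀ y, SpecialLinearGroup.map π g = uu y → f0 y = g 0 0 * g 0 1 := by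
    intro g hg y e
    obtain ⟨c1, d1, a1⟩ := hU _ (hγ y) y (eγ y)
    have em : SpecialLinearGroup.map π ((γ y)⁻¹ * g) = 1 := by
      rw [map_mul, map_inv, eγ, e, inv_mul_cancel]
    obtain ⟨na, nb, nc, nd⟩ := hN _ (Γ.mul_mem (Γ.inv_mem (hγ y)) hg)
      ((ent 1 0 em).trans (by simp)) ((ent 0 0 em).trans (by simp)) ((ent 0 1 em).trans (by simp))
      ((ent 1 1 em).trans (by simp))
    have eg : g = γ y * ((γ y)⁻¹ * g) := by group
    rw [eg, sl2_mul _ ((γ y)⁻¹ * g) 0 0, sl2_mul _ ((γ y)⁻¹ * g) 0 1, nb, nc, nd]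
    show γ y 0 0 * γ y 0 1 = _
    linear_combination (- γ y 0 0 * γ y 0 1) * na
  have fadd : ∀ y z, f0 (y + z) = f0 y + f0 z := by
    intro y z
    obtain ⟨c1, d1, a1⟩ := hU _ (hγ y) y (eγ y)
    obtain ⟨c2, d2, a2⟩ := hU _ (hγ z) z (eγ z)
    rw [hf0 _ (Γ.mul_mem (hγ y) (hγ z)) (y + z) (by rw [map_mul, eγ, eγ, uu_add])]
    simp only [sl2_mul, c2, d2, f0]
    linear_combination (γ z 0 0 * γ z 0 1) * a1 + (γ y 0 0 * γ y 0 1) * a2
  have ft : ∀ t, uu t ∈ Γ → f0 (π t) = t := by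
    intro t ht
    rw [hf0 _ ht (π t) (map_uu π t)]
    simp [uu]
  have fone : f0 1 = 1 := by simpa using ft 1 h1
  have fzero : f0 0 = 0 := by simpa using fadd 0 0
  have fsq : ∀ z y, f0 (z ^ 2 * y) = f0 (z ^ 2) * f0 y := by
    intro z y
    rcases eq_or_ne z 0 with rfl | hz
    · simp [fzero]
    obtain ⟨g, hg, eg⟩ := ex ⟨!![z, 0; 0, z⁻¹], by simp [Matrix.det_fin_two, hz]⟩
    have hc : g 1 0 = 0 := hker g hg (by simp [ent 1 0 eg])
    have hd := sl2_det g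
    rw [hc] at hd
    have key : ∀ y, f0 (z ^ 2 * y) = g 0 0 ^ 2 * f0 y := by
      intro y
      obtain ⟨c1, d1, a1⟩ := hU _ (hγ y) y (eγ y)
      have em : SpecialLinearGroup.map π (g * γ y * g⁻¹) = uu (z ^ 2 * y) := by
        rw [map_mul, map_mul, map_inv, eγ, conj_uu_of_c_eq_zero (by rw [eg]; simp)]
        congr 2
        rw [eg]; simp
      obtain ⟨i0, i1, i2, i3⟩ := sl2_inv g
      rw [hf0 _ (Γ.mul_mem (Γ.mul_mem hg (hγ y)) (Γ.inv_mem hg)) _ em]
      simp only [sl2_mul, i0, i1, i2, i3, hc, c1, d1, f0]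
      linear_combination (g 0 0 ^ 2 * γ y 0 0 * γ y 0 1) * hd
    have hz2 := key 1
    rw [mul_one, fone, mul_one] at hz2
    rw [key, hz2]
  have h4 : IsUnit (4 : R) := by rw [show (4 : R) = 2 * 2 by norm_num]; exact h2.mul h2
  have f4 : ∀ w, f0 (4 * w) = 4 * f0 w := by
    intro w
    rw [show (4 : K) * w = (w + w) + (w + w) by ring, fadd, fadd]; ring
  have fmul : ∀ z y, f0 (z * y) = f0 z * f0 y := by
    intro z y
    refine (h4.mul_right_inj).1 ?_
    show (4 : R) * f0 (z * y) = 4 * (f0 z * f0 y)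
    rw [← f4 (z * y), show 4 * (f0 z * f0 y) = 4 * f0 z * f0 y by ring, ← f4 z]
    have s : ∀ v : K, f0 (v + (z - 1) ^ 2 * y) - f0 ((z - 1) ^ 2 * y) = f0 v := fun v => by
      rw [fadd]; ring
    have s' : ∀ v : K, f0 (v + (z - 1) ^ 2) - f0 ((z - 1) ^ 2) = f0 v := fun v => by
      rw [fadd]; ring
    rw [← s (4 * (z * y)), ← s' (4 * z), show 4 * (z * y) + (z - 1) ^ 2 * y = (z + 1) ^ 2 * y by ring,
      show 4 * z + (z - 1) ^ 2 = (z + 1) ^ 2 by ring, fsq, fsq, sub_mul]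
  let f : K →+* R :=
    { toFun := f0, map_zero' := fzero, map_one' := fone, map_add' := fadd, map_mul' := fmul }
  refine ⟨f, ?_, ft⟩
  -- elements moving `∞` to `0`
  have hzero : ∀ g ∈ Γ, π (g 0 0) = 0 → g 0 0 = 0 := by
    intro g hg e
    obtain ⟨i0, i1, i2, i3⟩ := sl2_inv g
    have e1 : (g⁻¹ * vv x * g) 1 0 = x * g 0 0 ^ 2 := by
      simp only [sl2_mul, i0, i1, i2, i3]; simp [vv]; ring
    have ha : g 0 0 ^ 2 = 0 := by
      have := hker _ (Γ.mul_mem (Γ.mul_mem (Γ.inv_mem hg) hv) hg) (by rw [e1]; simp [e])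
      rw [e1] at this
      exact hx.mul_right_eq_zero.1 this
    set d := g * uu 1 * g⁻¹ with hd
    have d00 : d 0 0 = 1 - g 0 0 * g 1 0 := by
      simp only [hd, sl2_mul, i0, i1, i2, i3]; simp [uu]; linear_combination sl2_det g
    have d01 : d 0 1 = 0 := by
      simp only [hd, sl2_mul, i0, i1, i2, i3]; simp [uu]; linear_combination ha
    have d11 : d 1 1 = 1 + g 0 0 * g 1 0 := by
      simp only [hd, sl2_mul, i0, i1, i2, i3]; simp [uu]; linear_combination sl2_det g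
    obtain ⟨j0, j1, j2, j3⟩ := sl2_inv d
    have dd := sl2_det d
    rw [d01] at dd
    have e2 : (d * vv x * d⁻¹ * vv (-x)) 1 0 = x * (d 1 1 ^ 2 - 1) := by
      simp only [sl2_mul, j0, j1, j2, j3, d01]; simp [vv]; linear_combination (-x) * dd
    have hΓd : d ∈ Γ := Γ.mul_mem (Γ.mul_mem hg h1) (Γ.inv_mem hg)
    have := hker _ (Γ.mul_mem (Γ.mul_mem (Γ.mul_mem hΓd hv) (Γ.inv_mem hΓd)) (hw x hv))
      (by rw [e2, d11]; simp [e])
    rw [e2, d11, hx.mul_right_eq_zero] at this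
    have hac : g 0 0 * g 1 0 = 0 := by
      refine h2.mul_right_eq_zero.1 ?_
      linear_combination this - g 1 0 ^ 2 * ha
    linear_combination g 1 1 * ha - g 0 1 * hac - g 0 0 * sl2_det g
  have hlam : π x ≠ 0 := (hx.map π).ne_zero
  set g := γ (-(π x)⁻¹) with hg
  obtain ⟨c1, d1, a1⟩ := hU g (hγ _) _ (eγ _)
  have e3 : (vv x * g * vv x) 0 0 = g 0 0 + g 0 1 * x := by
    simp only [sl2_mul, vv_coe]; simp
  have h0 := hzero _ (Γ.mul_mem (Γ.mul_mem hv (hγ _)) hv) (by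
    rw [e3, map_add, map_mul, ent 0 0 (eγ _), ent 0 1 (eγ _)]; simp [uu, hlam])
  rw [e3] at h0
  have h5 : f (π x)⁻¹ * x = 1 := by
    have hneg : f (-(π x)⁻¹) = g 0 0 * g 0 1 := hf0 g (hγ _) _ (eγ _)
    rw [map_neg] at hneg
    linear_combination (-x) * hneg - g 0 0 * h0 + a1
  have h6 : f (π x)⁻¹ * f (π x) = 1 := by rw [← map_mul, inv_mul_cancel₀ hlam, map_one]
  linear_combination f (π x) * (-h5) + x * h6

end Cfsg.Agent.H88
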