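/-
A pair of minimal elements `A`, `B` with `A B + B A` not nilpotent: the part where it is invertible
carries a field, and it contains the images of `A` and `B`.
-/
import Cfsg.Agent.H88.QNilpotent
import Cfsg.Agent.H88.QPairGroup
import Cfsg.Agent.H88.SL2Gen
import Cfsg.Agent.H88.SL2Lift
set_option autoImplicit false
set_option maxHeartbeats 1000000

namespace Cfsg.Agent.H88

open Polynomial Matrix

universe u v

variable {k : Type u} [Field k] {M : Type v} [AddCommGroup M] [Module k M]

lemma range_mul_le (X Y : Module.End k M) : LinearMap.range (X * Y) ≤ LinearMap.range X :=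
  LinearMap.range_comp_le_range _ _

lemma rk_mul_lt [FiniteDimensional k M] {X Y : Module.End k M} {v : M} (hv : v ∈ LinearMap.range X)
    (hv0 : v ≠ 0) (hY : Y v = 0) : rk (Y * X) < rk X := by
  set f := Y.domRestrict (LinearMap.range X) with hf
  have e : LinearMap.range f = LinearMap.range (Y * X) := by
    rw [hf, LinearMap.domRestrict, LinearMap.range_comp, Submodule.range_subtype, Module.End.mul_eq_comp,
      LinearMap.range_comp]
  have hk : 0 < Module.finrank k (LinearMap.ker f) := by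
    rw [Nat.pos_iff_ne_zero, Ne, Submodule.finrank_eq_zero]
    intro hb
    have : (⟨v, hv⟩ : LinearMap.range X) ∈ LinearMap.ker f := hY
    rw [hb, Submodule.mem_bot] at this
    exact hv0 (congrArg Subtype.val this)
  have := LinearMap.finrank_range_add_finrank_ker f
  rw [e] at this
  simp only [rk]
  omega

lemma surjective_reduction {K : Type u} [Field K] [Algebra k K] (pb : PowerBasis k K) (h2 : (2 : k) ≠ 0)
    (h3 : Nat.card k ≠ 3) (hx : pb.gen ≠ 0) {R : Type u} [CommRing R] [Algebra k R] (π : R →+* K)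
    (hπ : ∀ t, π (algebraMap k R t) = algebraMap k K t) {x : R} (hπx : π x = pb.gen)
    (Γ : Subgroup (SpecialLinearGroup (Fin 2) R)) (hu : ∀ t, uu (algebraMap k R t) ∈ Γ)
    (hv : ∀ t, vv (algebraMap k R t * x) ∈ Γ) : Γ.map (SpecialLinearGroup.map π) = ⊤ := by
  refine sl2_gen_eq_top pb h2 h3 hx _ (fun t => ⟨_, hu t, ?_⟩) (fun t => ⟨_, hv t, ?_⟩)
  · refine sl2_ext ?_ ?_ ?_ ?_ <;> simp [SpecialLinearGroup.map_apply_coe, hπ]
  · refine sl2_ext ?_ ?_ ?_ ?_ <;> simp [SpecialLinearGroup.map_apply_coe, hπ, hπx]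

lemma exists_sq_ne_one (h2 : (2 : k) ≠ 0) (h3 : Nat.card k ≠ 3) : ∃ a : k, a ≠ 0 ∧ a ^ 2 ≠ 1 := by
  classical
  by_contra h
  push Not at h
  have hs : ∀ a : k, a ∈ ({0, 1, -1} : Finset k) := by
    intro a
    rcases eq_or_ne a 0 with rfl | ha
    · simp
    · rcases sq_eq_one_iff.1 (h a ha) with rfl | rfl <;> simp
  haveI : Finite k := Finite.of_injective (fun a : k => (⟨a, hs a⟩ : ({0, 1, -1} : Finset k)))
    (fun a b e => congrArg Subtype.val e)
  have h5 := five_le_card h2 h3
  haveI := Fintype.ofFinite k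
  rw [Nat.card_eq_fintype_card, ← Finset.card_univ] at h5
  have := Finset.card_le_card (fun a _ => hs a : (Finset.univ : Finset k) ⊆ {0, 1, -1})
  have := (this.trans Finset.card_le_three)
  omega

variable [FiniteDimensional k M] {G : Subgroup (LinearMap.GeneralLinearGroup k M)}

namespace Coords

variable {A B : Module.End k M} (c : Coords A B)

lemma upperP : A * c.P = c.Φ !![0, 1; 0, 0] := (c.Φ_upper 1).symm

lemma A_P_ne_zero : A * c.P ≠ 0 := by
  intro h
  have h' : c.Φ !![0, 1; 0, 0] = 0 := by rw [c.Φ_upper]; exact h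
  have h01 := congrFun (congrFun (c.Φ_inj h') 0) 1
  haveI : Nontrivial (AdjoinRoot c.g) := AdjoinRoot.nontrivial c.g
    (fun hd => c.not_unit (isUnit_iff_degree_eq_zero.2 hd))
  exact one_ne_zero (α := AdjoinRoot c.g) (by simpa using h01)

end Coords

theorem pair_main (h2 : (2 : k) ≠ 0) (h3 : Nat.card k ≠ 3) :
    ∀ (n : ℕ) (A B : Module.End k M), IsMin G A → Rt G B → ∀ c : Coords A B, rk (A * c.P) ≤ n →
      Irreducible c.g ∧ A * c.P = A := by
  intro n
  induction n using Nat.strong_induction_on with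
  | _ n ih =>
  intro A B hA hB c hn
  set R := AdjoinRoot c.g
  set x : R := AdjoinRoot.root c.g with hx
  set Γ := c.pairGroup.map (MonoidHom.snd _ _) with hΓ
  have hu : ∀ t : k, uu (algebraMap k R t) ∈ Γ := fun t => ⟨_, c.genA_mem t, rfl⟩
  have hv : ∀ t : k, vv (algebraMap k R t * x) ∈ Γ := fun t => ⟨_, c.genB_mem t, rfl⟩
  have hxu : IsUnit x := IsUnit.of_mul_eq_one c.xi c.root_mul
  by_cases hirr : Irreducible c.g
  · refine ⟨hirr, ?_⟩
    haveI : Fact (Irreducible c.g) := ⟨hirr⟩
    have pbg : (AdjoinRoot.powerBasis c.monic.ne_zero).gen = x := AdjoinRoot.powerBasis_gen _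
    have htop : Γ = ⊤ := by
      have := surjective_reduction (AdjoinRoot.powerBasis c.monic.ne_zero) h2 h3
        (by rw [pbg]; exact hxu.ne_zero) (RingHom.id R) (fun t => rfl) (x := x) pbg.symm Γ hu hv
      rwa [show SpecialLinearGroup.map (n := Fin 2) (RingHom.id R) = MonoidHom.id _ by
        ext g i j; rfl, Subgroup.map_id] at this
    obtain ⟨a, ha0, ha1⟩ := exists_sq_ne_one h2 h3
    have hperf : commutator (SpecialLinearGroup (Fin 2) R) = ⊤ :=
      SL2.commutator_eq_top (a := algebraMap k R a) (by simpa using ha0)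
        (by rw [← map_pow, ← map_one (algebraMap k R)]; exact fun e => ha1 ((algebraMap k R).injective e))
    obtain ⟨L, hL⟩ := c.nilGens_words
    have hsurj : Function.Surjective ((MonoidHom.snd _ _).comp c.pairGroup.subtype) := fun γ => by
      obtain ⟨p, hp, e⟩ := (htop ▸ Subgroup.mem_top γ : γ ∈ Γ)
      exact ⟨⟨p, hp⟩, e⟩
    have hrt : Rt G (A * c.P) := by
      refine ⟨?_, fun t => ?_⟩
      · rw [c.upperP, ← c.Φ_mul]
        convert c.Φ_zero
        ext i j; fin_cases i <;> fin_cases j <;> simp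
      obtain ⟨p, hp, e⟩ := exists_deep c.Q_sq hL ((MonoidHom.fst _ _).comp c.pairGroup.subtype)
        ((MonoidHom.snd _ _).comp c.pairGroup.subtype) hsurj hperf
        (fun p => c.pairGroup_dev p.2) (uu (algebraMap k R t))
      refine ⟨(p : (Module.End k M)ˣ × SpecialLinearGroup (Fin 2) R).1, c.pairGroup_le hA.rt hB p.2, ?_⟩
      obtain ⟨-, e2⟩ := c.pairGroup_spec p.2
      change ((p : (Module.End k M)ˣ × SpecialLinearGroup (Fin 2) R).1 : Module.End k M) * (1 - c.P) = 1 - c.P at e
      rw [show (p : (Module.End k M)ˣ × SpecialLinearGroup (Fin 2) R).2 = uu (algebraMap k R t) from hp,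
        c.Φ_uu, c.ev_algebraMap, mul_smul_comm] at e2
      calc ((p : (Module.End k M)ˣ × SpecialLinearGroup (Fin 2) R).1 : Module.End k M)
          = ((p : (Module.End k M)ˣ × SpecialLinearGroup (Fin 2) R).1 : Module.End k M) * (1 - c.P) +
            ((p : (Module.End k M)ˣ × SpecialLinearGroup (Fin 2) R).1 : Module.End k M) * c.P := by
              rw [← mul_add, sub_add_cancel, mul_one]
        _ = _ := by rw [e, e2]; abel
    have hle : LinearMap.range (A * c.P) ≤ LinearMap.range A := range_mul_le _ _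
    have heq : LinearMap.range (A * c.P) = LinearMap.range A :=
      Submodule.eq_of_le_of_finrank_le hle (hA.2.2 _ hrt c.A_P_ne_zero)
    refine LinearMap.ext fun m => ?_
    obtain ⟨m', hm'⟩ : A m ∈ LinearMap.range (A * c.P) := heq ▸ LinearMap.mem_range_self A m
    have : c.P (A m) = A m := by
      rw [← hm', ← Module.End.mul_apply c.P, ← mul_assoc, show c.P * A = A * c.P from (c.commA 1).symm.eq,
        mul_assoc, c.P_sq]
    rw [show A * c.P = c.P * A from (c.commA 1).eq]
    exact this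
  · exfalso
    have hg0 : c.g ≠ 0 := c.monic.ne_zero
    obtain ⟨q, hq, g1, hg1⟩ := WfDvdMonoid.exists_irreducible_factor c.not_unit hg0
    have hgq : ¬ c.g ∣ q := fun h =>
      hirr ((associated_of_dvd_dvd h ⟨g1, hg1⟩).irreducible_iff.2 hq)
    haveI : Fact (Irreducible q) := ⟨hq⟩
    let π : R →+* AdjoinRoot q := AdjoinRoot.lift (AdjoinRoot.of q) (AdjoinRoot.root q) (by
      conv_lhs => rw [hg1]
      rw [eval₂_mul, AdjoinRoot.eval₂_root, zero_mul])
    have hπt : ∀ t, π (algebraMap k R t) = algebraMap k (AdjoinRoot q) t := fun t => AdjoinRoot.lift_of _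
    have hπx : π x = AdjoinRoot.root q := AdjoinRoot.lift_root _
    have pbg : (AdjoinRoot.powerBasis hq.ne_zero).gen = AdjoinRoot.root q := AdjoinRoot.powerBasis_gen _
    have hsurj : Γ.map (SpecialLinearGroup.map π) = ⊤ :=
      surjective_reduction (AdjoinRoot.powerBasis hq.ne_zero) h2 h3
        (by rw [pbg, ← hπx]; exact (hxu.map π).ne_zero) π hπt (hπx.trans pbg.symm) Γ hu hv
    have h2R : IsUnit (2 : R) := by
      rw [← map_ofNat (algebraMap k R) 2]; exact (Ne.isUnit h2).map _
    obtain ⟨γ, hγ, hγπ, hγ0⟩ : ∃ γ ∈ Γ, π (γ 1 0) = 0 ∧ γ 1 0 ≠ 0 := by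
      by_contra hno
      push Not at hno
      obtain ⟨f, fx, ft⟩ := exists_section π h2R hxu Γ (by simpa using hu 1) (by simpa using hv 1) hsurj hno
      apply hgq
      have hid : f.comp (π.comp (AdjoinRoot.mk c.g)) = AdjoinRoot.mk c.g := by
        refine Polynomial.ringHom_ext (fun t => ?_) ?_
        · simp only [RingHom.comp_apply, AdjoinRoot.mk_C]
          exact ft _ (hu t)
        · simp only [RingHom.comp_apply, AdjoinRoot.mk_X]
          exact fx
      rw [← AdjoinRoot.mk_eq_zero, ← hid]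
      simp only [RingHom.comp_apply]
      rw [show π (AdjoinRoot.mk c.g q) = 0 from ?_, map_zero]
      rw [AdjoinRoot.lift_mk, AdjoinRoot.eval₂_root]
    obtain ⟨p, hp, rfl⟩ := hγ
    change π (p.2 1 0) = 0 at hγπ
    change p.2 1 0 ≠ 0 at hγ0
    obtain ⟨r0, hr00, hr0⟩ : ∃ r0 : R, r0 ≠ 0 ∧ p.2 1 0 * r0 = 0 := by
      obtain ⟨f, hf⟩ := AdjoinRoot.mk_surjective (p.2 1 0)
      refine ⟨AdjoinRoot.mk c.g g1, ?_, ?_⟩
      · rw [Ne, AdjoinRoot.mk_eq_zero]
        intro hd
        obtain ⟨w, hw⟩ := hd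
        refine hq.not_isUnit (IsUnit.of_mul_eq_one w ?_)
        have hg10 : g1 ≠ 0 := fun e => hg0 (by rw [hg1, e, mul_zero])
        refine mul_left_cancel₀ hg10 ?_
        linear_combination (-1 : k[X]) * hw - w * hg1
      · rw [← hf, ← map_mul, AdjoinRoot.mk_eq_zero]
        rw [← hf, AdjoinRoot.lift_mk] at hγπ
        obtain ⟨w, rfl⟩ : q ∣ f := by
          rwa [← AdjoinRoot.mk_eq_zero, ← AdjoinRoot.aeval_eq, aeval_def]
        exact ⟨w, by rw [hg1]; ring⟩
    obtain ⟨v, hvA, hvP, hv0, hvc⟩ : ∃ v, v ∈ LinearMap.range (A * c.P) ∧ c.P v = v ∧ v ≠ 0 ∧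
        c.ev (-(p.2 1 0 ^ 2)) v = 0 := by
      have hne : A * c.ev r0 ≠ 0 := fun h => by
        rw [← c.Φ_upper] at h
        exact hr00 (by simpa using congrFun (congrFun (c.Φ_inj h) 0) 1)
      obtain ⟨m, hm⟩ : ∃ m, (A * c.ev r0) m ≠ 0 := by
        by_contra hh
        push Not at hh
        exact hne (LinearMap.ext hh)
      refine ⟨(A * c.ev r0) m, ⟨c.ev r0 m, ?_⟩, ?_, hm, ?_⟩
      · simp only [← Module.End.mul_apply]
        rw [mul_assoc, c.P_mul]
      · rw [← Module.End.mul_apply, ← mul_assoc, show c.P * A = A * c.P from (c.commA 1).symm.eq, mul_assoc,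
          c.P_mul]
      · rw [← Module.End.mul_apply, ← mul_assoc, show c.ev _ * A = A * c.ev _ from (c.commA _).symm.eq,
          mul_assoc, c.ev_mul, show -(p.2 1 0 ^ 2) * r0 = 0 by linear_combination (-(p.2 1 0)) * hr0,
          map_zero, mul_zero]
        simp
    set A'' := conjE p.1 A with hA''
    have hG : p.1 ∈ G := c.pairGroup_le hA.rt hB hp
    have hA''min : IsMin G A'' := hA.conj hG
    obtain ⟨hc1, -⟩ := c.pairGroup_spec hp
    have hA''P : Commute A'' c.P := by
      have h1 := c.commute_P hc1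
      exact (h1.mul_left (c.commA 1)).mul_left h1.units_inv_left
    set C'' := A * A'' + A'' * A with hC''
    have hAP : Commute A c.P := c.commA 1
    have hC''c : Commute C'' c.P := (hAP.mul_left hA''P).add_left (hA''P.mul_left hAP)
    have cc := c.conj_coords hp
    rw [← hA''] at cc
    have eAA'' : A * A'' * c.P
        = c.Φ !![-(p.2 1 0 ^ 2), p.2 0 0 * p.2 1 0; 0, 0] := by
      rw [mul_assoc, cc, ← c.P_Φ !![-(p.2 0 0 * p.2 1 0), _; _, _], ← mul_assoc, c.upperP, ← c.Φ_mul]
      congr 1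
      ext i j; fin_cases i <;> fin_cases j <;> simp [Matrix.mul_apply, Fin.sum_univ_two]
    have eA''A : A'' * A * c.P
        = c.Φ !![0, -(p.2 0 0 * p.2 1 0); 0, -(p.2 1 0 ^ 2)] := by
      rw [mul_assoc, hAP.eq, ← mul_assoc, cc, ← c.Φ_P !![-(p.2 0 0 * p.2 1 0), _; _, _], mul_assoc, ← hAP.eq, c.upperP, ← c.Φ_mul]
      congr 1
      ext i j; fin_cases i <;> fin_cases j <;> simp [Matrix.mul_apply, Fin.sum_univ_two]
    have eC'' : C'' * c.P = c.ev (-(p.2 1 0 ^ 2)) := by
      rw [hC'', add_mul, eAA'', eA''A, ← c.Φ_add, ← c.Φ_scalar]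
      congr 1; ext i j; fin_cases i <;> fin_cases j <;> simp
    by_cases hnil : IsNilpotent C''
    · have h1 := classTwo h2 hA hA''min.rt hnil
      have hc2 : p.2 1 0 ^ 2 = 0 := by
        have e : A * A'' * A * c.P = c.Φ !![0, -(p.2 1 0 ^ 2); 0, 0] := by
          rw [mul_assoc (A * A''), ← c.Φ_one]
          rw [show A * A'' * (A * c.Φ 1) = A * A'' * c.P * (A * c.P) by
              rw [c.Φ_one, mul_assoc (A * A'') c.P, ← mul_assoc c.P A, ← hAP.eq, mul_assoc A c.P, c.P_sq],
            eAA'', c.upperP, ← c.Φ_mul]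
          congr 1
          ext i j; fin_cases i <;> fin_cases j <;> simp [Matrix.mul_apply, Fin.sum_univ_two]
        rw [h1, zero_mul] at e
        simpa using congrFun (congrFun (c.Φ_inj e.symm) 0) 1
      have hac : p.2 0 0 * p.2 1 0 ≠ 0 := fun h => hγ0 (by
        linear_combination p.2 1 1 * h - p.2 0 1 * hc2 - p.2 1 0 * sl2_det p.2)
      have h2ac : (2 : R) * (p.2 0 0 * p.2 1 0) ≠ 0 := fun h => hac (h2R.mul_right_eq_zero.1 h)
      have hne : A * A'' ≠ A'' * A := fun h => h2ac (by
        have h' := congrArg (· * c.P) h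
        simp only [eAA'', eA''A] at h'
        have h'' := congrFun (congrFun (c.Φ_inj (m := !![-(p.2 1 0 ^ 2), p.2 0 0 * p.2 1 0; 0, 0]
          - !![0, -(p.2 0 0 * p.2 1 0); 0, -(p.2 1 0 ^ 2)]) ?_) 0) 1
        · simp at h''; linear_combination h''
        · rw [sub_eq_add_neg, c.Φ_add, h', ← c.Φ_add, add_neg_cancel, c.Φ_zero])
      obtain ⟨-, -, -, hd, -⟩ := nilpotentPair_data h2 hA hA''min hnil hne
      obtain ⟨m, hm⟩ : ∃ m, c.Φ !![0, p.2 0 0 * p.2 1 0; 0, 0] m ≠ 0 := by
        by_contra hh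
        push Not at hh
        exact hac (by simpa using congrFun (congrFun (c.Φ_inj (LinearMap.ext hh)) 0) 1)
      apply hm
      have e1 : A * A'' * c.P = c.Φ !![0, p.2 0 0 * p.2 1 0; 0, 0] := by rw [eAA'', hc2, neg_zero]
      have e2 : A'' * A * c.P = -c.Φ !![0, p.2 0 0 * p.2 1 0; 0, 0] := by
        rw [eA''A, hc2, neg_zero, eq_neg_iff_add_eq_zero, ← c.Φ_add]
        convert c.Φ_zero
        ext i j; fin_cases i <;> fin_cases j <;> simp
      refine (Submodule.mem_bot k).1 (disjoint_iff.1 hd ▸ ⟨?_, ?_⟩)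
      · exact ⟨A'' (c.P m), ⟨_, rfl⟩, congrArg (fun f : Module.End k M => f m) e1⟩
      · rw [← neg_neg (c.Φ !![0, p.2 0 0 * p.2 1 0; 0, 0]), ← e2]
        exact Submodule.neg_mem _ ⟨A (c.P m), ⟨_, rfl⟩, rfl⟩
    · obtain ⟨c''⟩ := exists_coords hA.sq hA''min.sq hnil
      have hQnil : IsNilpotent (C'' * (1 - c.P)) := by
        obtain ⟨L, hL⟩ := c.nilGens_words
        obtain ⟨q1, q2⟩ := c.pairGroup_dev hp
        obtain ⟨-, q3⟩ := c.pairGroup_dev (c.pairGroup.inv_mem hp)
        rw [Prod.fst_inv] at q3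
        set Q := 1 - c.P with hQ
        have hAQ : A * Q ∈ wordSpan c.nilGens 1 := mem_wordSpan_one (Or.inl rfl)
        have e : A'' * Q = ((p.1 : Module.End k M) - 1) * Q * (A * Q) * (((p.1⁻¹ : (Module.End k M)ˣ) : Module.End k M) - 1) * Q
            + ((p.1 : Module.End k M) - 1) * Q * (A * Q) + (A * Q) * ((((p.1⁻¹ : (Module.End k M)ˣ) : Module.End k M) - 1) * Q) + A * Q := by
          have hQQ : ∀ Z, Q * (Q * Z) = Q * Z := fun Z => by rw [← mul_assoc, hQ, c.Q_sq]
          have hQA : ∀ Z, Q * (A * Z) = A * (Q * Z) := fun Z => by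
            rw [← mul_assoc, ← c.commA_Q.eq, mul_assoc]
          have hQh : ∀ Z, Q * (((p.1⁻¹ : (Module.End k M)ˣ) : Module.End k M) * Z)
              = ((p.1⁻¹ : (Module.End k M)ˣ) : Module.End k M) * (Q * Z) := fun Z => by
            rw [← mul_assoc, ← q1.units_inv_left.eq, mul_assoc]
          have hQQ1 : Q * Q = Q := c.Q_sq
          simp only [hA'', conjE, mul_sub, sub_mul, mul_one, one_mul, mul_assoc, hQA, hQh, hQQ, hQQ1]
          abel
        have hA''Q : A'' * Q ∈ wordSpan c.nilGens 1 := by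
          rw [e]
          refine Submodule.add_mem _ (Submodule.add_mem _ (Submodule.add_mem _ ?_ ?_) ?_) hAQ
          · rw [mul_assoc]; exact wordSpan_anti (by omega) (wordSpan_mul (wordSpan_mul q2 hAQ) q3)
          · exact wordSpan_anti (by omega) (wordSpan_mul q2 hAQ)
          · exact wordSpan_anti (by omega) (wordSpan_mul hAQ q3)
        refine isNilpotent_of_mem_wordSpan hL ?_
        have : C'' * Q = A * Q * (A'' * Q) + A'' * Q * (A * Q) := by
          have hQA : Commute A Q := c.commA_Q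
          have hQA'' : Commute A'' Q := (Commute.one_right A'').sub_right hA''P
          rw [mul_assoc A Q, ← mul_assoc Q, ← hQA''.eq, mul_assoc A'' Q Q, mul_assoc A'' Q (A * Q),
            ← mul_assoc Q A, ← hQA.eq, mul_assoc A Q Q, c.Q_sq, hC'', add_mul, mul_assoc, mul_assoc]
        rw [this]
        exact wordSpan_anti (by omega) (Submodule.add_mem _ (wordSpan_mul hAQ hA''Q) (wordSpan_mul hA''Q hAQ))
      obtain ⟨j, hj⟩ := hQnil
      have hpow : C'' ^ (j + 1) = c.ev ((-(p.2 1 0 ^ 2)) ^ (j + 1)) := by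
        have h1 : C'' ^ (j + 1) * c.P = c.ev ((-(p.2 1 0 ^ 2)) ^ (j + 1)) := by
          induction j + 1 with
          | zero => simp [Coords.P]
          | succ i hi =>
            rw [pow_succ, mul_assoc, eC'', ← c.P_mul, ← mul_assoc, hi, c.ev_mul, ← pow_succ]
        have h0 : C'' ^ (j + 1) * (1 - c.P) = 0 := by
          have hcQ : Commute C'' (1 - c.P) := (Commute.one_right C'').sub_right hC''c
          have hid : IsIdempotentElem (1 - c.P) := c.Q_sq
          rw [← hid.pow_succ_eq j, ← hcQ.mul_pow, pow_succ, hj, zero_mul]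
        rwa [mul_sub, mul_one, h1, sub_eq_zero] at h0
      have hrk : rk (A * c''.P) < rk (A * c.P) := by
        have h1 : LinearMap.range (A * c''.P)
            ≤ LinearMap.range (c.ev ((-(p.2 1 0 ^ 2)) ^ (j + 1)) * (A * c.P)) := by
          rw [← c''.pow_mul_xi (j + 1), ← hC'', ← mul_assoc A]
          refine (range_mul_le _ _).trans (le_of_eq (congrArg _ ?_))
          rw [hpow, ← mul_assoc, show c.ev _ * A = A * c.ev _ from (c.commA _).symm.eq, mul_assoc, c.mul_P]
        refine lt_of_le_of_lt (rk_le_of_range_le h1) (rk_mul_lt hvA hv0 ?_)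
        rw [pow_succ, ← c.ev_mul, Module.End.mul_apply, hvc, map_zero]
      obtain ⟨-, hfin⟩ := ih _ (lt_of_lt_of_le hrk hn) A A'' hA hA''min.rt c'' le_rfl
      apply hv0
      obtain ⟨m, hm⟩ := range_mul_le _ _ hvA
      have hPv : c''.P v = v := by
        rw [← hm, ← Module.End.mul_apply, show c''.P * A = A * c''.P from (c''.commA 1).symm.eq, hfin]
      have hC0 : C'' v = 0 := by
        rw [← hvP, ← Module.End.mul_apply, eC'', hvc]
      rw [← hPv, ← c''.pow_mul_xi 1, pow_one, pow_one]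
      have hcomm : Commute C'' (c''.ev c''.xi) := c''.comm _ C'' (Commute.refl C'')
      rw [← hC'', hcomm.eq, Module.End.mul_apply, hC0, map_zero]

/-- For a pair of minimal elements with `A B + B A` not nilpotent `g` is irreducible, and `A`, `B` live on the invertible part. -/
theorem pair_structure (h2 : (2 : k) ≠ 0) (h3 : Nat.card k ≠ 3) {A B : Module.End k M} (hA : IsMin G A)
    (hB : IsMin G B) (c : Coords A B) : Irreducible c.g ∧ A * c.P = A ∧ B * c.P = B := by
  obtain ⟨h1, e1⟩ := pair_main h2 h3 _ A B hA hB.rt c le_rfl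
  refine ⟨h1, e1, ?_⟩
  have hcomm : B * A + A * B = A * B + B * A := add_comm _ _
  let c' : Coords B A :=
    { g := c.g, monic := c.monic, not_unit := c.not_unit, ev := c.ev, ev_mul := c.ev_mul,
      ev_inj := c.ev_inj, xi := c.xi, root_mul := c.root_mul
      ev_root := by rw [hcomm]; exact c.ev_root
      comm := fun r Y hY => c.comm r Y (hcomm ▸ hY)
      nilC := by rw [hcomm]; exact c.nilC
      sqA := c.sqB, sqB := c.sqA }
  exact (pair_main h2 h3 _ B A hB hA.rt c' le_rfl).2

end Cfsg.Agent.H88
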