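/-
Consequences of the pair theorem: unipotent pairs, `SL₂`, and rank one pairs of root groups.
-/
import Cfsg.Agent.H88.QPair
set_option autoImplicit false
set_option maxHeartbeats 1000000

namespace Cfsg.Agent.H88

open Matrix

universe u v

variable {k : Type u} [Field k] {M : Type v} [AddCommGroup M] [Module k M]

lemma scalarFamily_eq_range (σ : LinearMap.GeneralLinearGroup k M)
    (h : ((σ : Module.End k M) - 1) * ((σ : Module.End k M) - 1) = 0) :
    Cfsg.scalarFamily σ = Set.range (fun t : k => oneAdd (t • ((σ : Module.End k M) - 1)) (smul_sq _ h t)) := by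
  ext τ
  constructor
  · rintro ⟨t, ht⟩
    exact ⟨t, Units.ext ht.symm⟩
  · rintro ⟨t, rfl⟩
    exact ⟨t, rfl⟩

/-- Unipotence when all alternating products of three members vanish. -/
theorem isUnipotentOn_closure {X : Set (LinearMap.GeneralLinearGroup k M)} (SA SB : Set (Module.End k M))
    (hA : ∀ a ∈ SA, ∀ a' ∈ SA, a * a' = 0) (hB : ∀ b ∈ SB, ∀ b' ∈ SB, b * b' = 0)
    (hABA : ∀ a ∈ SA, ∀ b ∈ SB, ∀ a' ∈ SA, a * b * a' = 0)
    (hBAB : ∀ b ∈ SB, ∀ a ∈ SA, ∀ b' ∈ SB, b * a * b' = 0)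
    (hX : ∀ x ∈ X, (((x : Module.End k M) - 1) ∈ wordSpan (SA ∪ SB) 1) ∧
      (((x⁻¹ : LinearMap.GeneralLinearGroup k M) : Module.End k M) - 1) ∈ wordSpan (SA ∪ SB) 1) :
    Cfsg.IsUnipotentOn (Subgroup.closure X) := by
  refine ⟨3 + 1, fun l hl hlen => ?_⟩
  suffices h : ∀ l : List (Module.End k M), (∀ a ∈ l, a ∈ SA ∪ SB) → l.length = 3 → l.prod = 0 by
    have := unipotent_of_words h hX l hl hlen
    simpa [List.map_map, Function.comp_def, List.map_flatMap, ← List.map_eq_flatMap] using this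
  intro l hl hlen
  obtain ⟨x, y, z, rfl⟩ := List.length_eq_three.1 hlen
  simp only [List.prod_cons, List.prod_nil, mul_one, ← mul_assoc]
  rcases hl x (by simp) with hx | hx <;> rcases hl y (by simp) with hy | hy <;>
    rcases hl z (by simp) with hz | hz
  · rw [hA x hx y hy, zero_mul]
  · rw [hA x hx y hy, zero_mul]
  · exact hABA x hx y hy z hz
  · rw [mul_assoc, hB y hy z hz, mul_zero]
  · rw [mul_assoc, hA y hy z hz, mul_zero]
  · exact hBAB x hx y hy z hz
  · rw [hB x hx y hy, zero_mul]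
  · rw [hB x hx y hy, zero_mul]

variable [FiniteDimensional k M] {G : Subgroup (LinearMap.GeneralLinearGroup k M)}

/-- Two families with `AB + BA` nilpotent generate a unipotent group. -/
theorem unipotent_families (h2 : (2 : k) ≠ 0) {A B : Module.End k M} (hA : IsMin G A) (hB : IsMin G B)
    (hn : IsNilpotent (A * B + B * A)) :
    Cfsg.IsUnipotentOn (Subgroup.closure (Set.range (fun t : k => oneAdd (t • A) (smul_sq A hA.sq t)) ∪
      Set.range (fun t : k => oneAdd (t • B) (smul_sq B hB.sq t)))) := by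
  refine isUnipotentOn_closure {A} {B} (by simpa using hA.sq) (by simpa using hB.sq)
    (by simpa using classTwo h2 hA hB.rt hn) (by simpa using classTwo h2 hB hA.rt (by rwa [add_comm])) ?_
  rintro _ (⟨t, rfl⟩ | ⟨t, rfl⟩)
  all_goals rw [oneAdd_val, oneAdd_inv_val, add_sub_cancel_left, sub_sub_cancel_left]
  · exact ⟨Submodule.smul_mem _ t (mem_wordSpan_one (Or.inl rfl)),
      Submodule.neg_mem _ (Submodule.smul_mem _ t (mem_wordSpan_one (Or.inl rfl)))⟩
  · exact ⟨Submodule.smul_mem _ t (mem_wordSpan_one (Or.inr rfl)),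
      Submodule.neg_mem _ (Submodule.smul_mem _ t (mem_wordSpan_one (Or.inr rfl)))⟩

lemma rootGroup_congr {A A' : Module.End k M} {hA : A * A = 0} {hA' : A' * A' = 0}
    (hk : LinearMap.ker A = LinearMap.ker A') (hr : LinearMap.range A = LinearMap.range A') :
    rootGroup G A hA = rootGroup G A' hA' := by
  ext g
  simp only [mem_rootGroup, mem_rootSpace, hk, hr]

lemma rootSpace_conj {A X : Module.End k M} {hA : A * A = 0} (hX : X ∈ rootSpace G A hA)
    {g : LinearMap.GeneralLinearGroup k M} (hg : g ∈ G) {hA' : conjE g A * conjE g A = 0} :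
    conjE g X ∈ rootSpace G (conjE g A) hA' := by
  refine ⟨hX.1.conj hg, ?_, ?_⟩
  · rw [ker_conjE, ker_conjE]; exact Submodule.map_mono hX.2.1
  · rw [range_conjE, range_conjE]; exact Submodule.map_mono hX.2.2

/-- Conjugating a root group. -/
lemma conjBy_rootGroup {A : Module.End k M} (hA : IsMin G A) {g : LinearMap.GeneralLinearGroup k M}
    (hg : g ∈ G) : Cfsg.conjBy (rootGroup G A hA.sq) g = rootGroup G (conjE g A) (hA.conj hg).sq := by
  ext h
  constructor
  · rintro ⟨a, ha, rfl⟩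
    refine mem_rootGroup.2 ?_
    have e : (((MulAut.conj g).toMonoidHom a : LinearMap.GeneralLinearGroup k M) : Module.End k M) - 1
        = conjE g ((a : Module.End k M) - 1) := by
      simp [conjE, mul_sub, sub_mul]
    rw [e]
    exact rootSpace_conj (mem_rootGroup.1 ha) hg
  · intro hh
    refine ⟨g⁻¹ * h * g, mem_rootGroup.2 ?_, by simp [mul_assoc]⟩
    have h1 := rootSpace_conj (hA' := by rw [conjE_mul, (hA.conj hg).sq, conjE_zero]) (mem_rootGroup.1 hh)
      (G.inv_mem hg)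
    have e : ((g⁻¹ * h * g : LinearMap.GeneralLinearGroup k M) : Module.End k M) - 1
        = conjE g⁻¹ ((h : Module.End k M) - 1) := by
      simp [conjE, mul_sub, sub_mul]
    have e' : conjE g⁻¹ (conjE g A) = A := by rw [conjE_conjE, inv_mul_cancel, conjE_one]
    rw [e]
    simp only [mem_rootSpace, e'] at h1 ⊢
    exact h1

namespace Coords

variable {A B : Module.End k M} (c : Coords A B)

lemma Φ_sub (m n : Matrix (Fin 2) (Fin 2) (AdjoinRoot c.g)) : c.Φ (m - n) = c.Φ m - c.Φ n := by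
  rw [eq_sub_iff_add_eq, ← c.Φ_add, sub_add_cancel]

lemma Q_Φ (m : Matrix (Fin 2) (Fin 2) (AdjoinRoot c.g)) : (1 - c.P) * c.Φ m = 0 := by
  rw [sub_mul, one_mul, c.P_Φ, sub_self]

lemma Φ_Q (m : Matrix (Fin 2) (Fin 2) (AdjoinRoot c.g)) : c.Φ m * (1 - c.P) = 0 := by
  rw [mul_sub, mul_one, c.Φ_P, sub_self]

/-- The action of `SL₂` on `M`, trivial outside the invertible part. -/
noncomputable def ψ : Matrix.SpecialLinearGroup (Fin 2) (AdjoinRoot c.g) →* LinearMap.GeneralLinearGroup k M :=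
  MonoidHom.toHomUnits
    { toFun := fun γ => c.Φ (γ : Matrix (Fin 2) (Fin 2) (AdjoinRoot c.g)) + (1 - c.P)
      map_one' := by
        show c.Φ (1 : Matrix (Fin 2) (Fin 2) (AdjoinRoot c.g)) + (1 - c.P) = 1
        rw [c.Φ_one, add_sub_cancel]
      map_mul' := fun γ δ => by
        show c.Φ ((γ : Matrix (Fin 2) (Fin 2) (AdjoinRoot c.g)) * (δ : Matrix (Fin 2) (Fin 2) (AdjoinRoot c.g))) + (1 - c.P) = _
        rw [c.Φ_mul, add_mul, mul_add, mul_add, c.Φ_Q, c.Q_Φ, c.Q_sq, add_zero, zero_add] }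

lemma ψ_val (γ : Matrix.SpecialLinearGroup (Fin 2) (AdjoinRoot c.g)) :
    ((c.ψ γ : LinearMap.GeneralLinearGroup k M) : Module.End k M)
      = c.Φ (γ : Matrix (Fin 2) (Fin 2) (AdjoinRoot c.g)) + (1 - c.P) := rfl

lemma ψ_injective : Function.Injective c.ψ := by
  intro γ δ h
  have h' : c.Φ (γ : Matrix (Fin 2) (Fin 2) (AdjoinRoot c.g)) = c.Φ (δ : Matrix (Fin 2) (Fin 2) (AdjoinRoot c.g)) :=
    add_right_cancel (congrArg Units.val h)
  exact Subtype.ext (sub_eq_zero.1 (c.Φ_inj (by rw [c.Φ_sub, h', sub_self])))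

lemma conjE_ψ (γ : Matrix.SpecialLinearGroup (Fin 2) (AdjoinRoot c.g)) (m : Matrix (Fin 2) (Fin 2) (AdjoinRoot c.g)) :
    conjE (c.ψ γ) (c.Φ m) = c.Φ ((γ : Matrix (Fin 2) (Fin 2) (AdjoinRoot c.g)) * m *
      ((γ⁻¹ : Matrix.SpecialLinearGroup (Fin 2) (AdjoinRoot c.g)) : Matrix (Fin 2) (Fin 2) (AdjoinRoot c.g))) := by
  rw [conjE, ← map_inv, c.ψ_val, c.ψ_val, add_mul, c.Q_Φ, add_zero, mul_add, mul_assoc _ (c.Φ m) (1 - c.P),
    c.Φ_Q, mul_zero, add_zero, ← c.Φ_mul, ← c.Φ_mul]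

lemma ψ_uu (r : AdjoinRoot c.g) :
    ((c.ψ (uu r) : LinearMap.GeneralLinearGroup k M) : Module.End k M) = 1 + A * c.ev r := by
  rw [c.ψ_val, c.Φ_uu]; abel

lemma ψ_vv (r : AdjoinRoot c.g) :
    ((c.ψ (vv (r * AdjoinRoot.root c.g)) : LinearMap.GeneralLinearGroup k M) : Module.End k M) = 1 + B * c.ev r := by
  rw [c.ψ_val, c.Φ_vv]; abel

lemma root_ne_zero : AdjoinRoot.root c.g ≠ 0 := by
  haveI : Nontrivial (AdjoinRoot c.g) := AdjoinRoot.nontrivial c.g
    (fun hd => c.not_unit (Polynomial.isUnit_iff_degree_eq_zero.2 hd))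
  exact (IsUnit.of_mul_eq_one c.xi c.root_mul).ne_zero

theorem range_ψ (h2 : (2 : k) ≠ 0) (h3 : Nat.card k ≠ 3) (hirr : Irreducible c.g) (hA : A * c.P = A)
    (hB : B * c.P = B) : c.ψ.range =
    Subgroup.closure (Set.range (fun t : k => oneAdd (t • A) (smul_sq A c.sqA t)) ∪
      Set.range (fun t : k => oneAdd (t • B) (smul_sq B c.sqB t))) := by
  haveI : Fact (Irreducible c.g) := ⟨hirr⟩
  let R := AdjoinRoot c.g
  set Γ : Subgroup (Matrix.SpecialLinearGroup (Fin 2) R) :=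
    Subgroup.closure (Set.range (fun t : k => uu (algebraMap k R t)) ∪
      Set.range (fun t : k => vv (algebraMap k R t * AdjoinRoot.root c.g))) with hΓ
  have hgen : (AdjoinRoot.powerBasis c.monic.ne_zero).gen = AdjoinRoot.root c.g :=
    AdjoinRoot.powerBasis_gen _
  have hu : ∀ t : k, uu (algebraMap k R t) ∈ Γ := fun t => Subgroup.subset_closure (Or.inl ⟨t, rfl⟩)
  have hv : ∀ t : k, vv (algebraMap k R t * AdjoinRoot.root c.g) ∈ Γ :=
    fun t => Subgroup.subset_closure (Or.inr ⟨t, rfl⟩)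
  have htop : Γ = ⊤ := sl2_gen_eq_top (AdjoinRoot.powerBasis c.monic.ne_zero) h2 h3
    (by rw [hgen]; exact c.root_ne_zero) Γ hu (by rw [hgen]; exact hv)
  rw [MonoidHom.range_eq_map, ← htop, hΓ, MonoidHom.map_closure, Set.image_union, ← Set.range_comp,
    ← Set.range_comp]
  congr 2 <;> (congr 1; funext t; refine Units.ext ?_)
  · rw [Function.comp_apply, c.ψ_uu, c.ev_algebraMap, mul_smul_comm, hA]; rfl
  · rw [Function.comp_apply, c.ψ_vv, c.ev_algebraMap, mul_smul_comm, hB]; rfl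

theorem range_inf_ker (hA : A * c.P = A) : LinearMap.range A ⊓ LinearMap.ker B = ⊥ := by
  rw [Submodule.eq_bot_iff]
  rintro v ⟨⟨m, rfl⟩, hv⟩
  have h1 : c.P (A m) = A m := by
    rw [← Module.End.mul_apply, show c.P * A = A * c.P from (c.commA 1).symm.eq, hA]
  have h0 : (A * B + B * A) (A m) = 0 := by
    rw [LinearMap.add_apply, Module.End.mul_apply, LinearMap.mem_ker.1 hv, map_zero, zero_add,
      Module.End.mul_apply, ← Module.End.mul_apply A A, c.sqA]
    simp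
  rw [← h1, ← c.C_mul_D, show (A * B + B * A) * c.ev c.xi = c.ev c.xi * (A * B + B * A) from
    (c.comm c.xi _ (Commute.refl _)).eq, Module.End.mul_apply, h0, map_zero]

end Coords

/-- If one pair of non-zero members is not nilpotent then none is. -/
theorem not_nilpotent_all (h2 : (2 : k) ≠ 0) (h3 : Nat.card k ≠ 3) {A B : Module.End k M} (hA : IsMin G A)
    (hB : IsMin G B) {X₀ Y₀ : Module.End k M} (hX₀ : X₀ ∈ rootSpace G A hA.sq) (hY₀ : Y₀ ∈ rootSpace G B hB.sq)
    (hn : ¬ IsNilpotent (X₀ * Y₀ + Y₀ * X₀)) {X Y : Module.End k M} (hX : X ∈ rootSpace G A hA.sq) (hX0 : X ≠ 0)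
    (hY : Y ∈ rootSpace G B hB.sq) (hY0 : Y ≠ 0) : ¬ IsNilpotent (X * Y + Y * X) := by
  intro hnil
  have hX₀0 : X₀ ≠ 0 := by rintro rfl; simp at hn
  have hY₀0 : Y₀ ≠ 0 := by rintro rfl; simp at hn
  have mX₀ := hA.of_mem_rootSpace hX₀ hX₀0
  have mY₀ := hB.of_mem_rootSpace hY₀ hY₀0
  obtain ⟨c⟩ := exists_coords hY₀.1.sq hX₀.1.sq (by rwa [add_comm])
  have hb := c.range_inf_ker (pair_structure h2 h3 mY₀ mX₀ c).2.1
  rw [hB.range_eq hY₀ hY₀0, hA.ker_eq hX₀ hX₀0] at hb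
  have h1 := classTwo h2 (hA.of_mem_rootSpace hX hX0) hY.1 hnil
  have h0 : Y * X = 0 := LinearMap.ext fun m => by
    have hm : (Y * X) m ∈ LinearMap.range B ⊓ LinearMap.ker A := by
      refine ⟨hY.2.2 ⟨X m, rfl⟩, ?_⟩
      show (Y * X) m ∈ LinearMap.ker A
      rw [← hA.ker_eq hX hX0, LinearMap.mem_ker, ← Module.End.mul_apply, ← mul_assoc, h1]; rfl
    rw [hb] at hm
    exact (Submodule.mem_bot k).1 hm
  refine hn (isNilpotent_of_mul_mul X₀ Y₀ hX₀.1.sq hY₀.1.sq ?_)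
  have : Y₀ * X₀ = 0 := by
    refine apply_eq_zero_of_range_le_ker ?_
    rw [hA.range_eq hX₀ hX₀0, hB.ker_eq hY₀ hY₀0, ← hA.range_eq hX hX0, ← hB.ker_eq hY hY0]
    rintro _ ⟨m, rfl⟩
    exact congrArg (fun f : Module.End k M => f m) h0
  rw [mul_assoc, this, mul_zero]

/-- The conjugation condition, and its special form, for two root groups with no nilpotent pair. -/
theorem rankOne_cond (h2 : (2 : k) ≠ 0) (h3 : Nat.card k ≠ 3) {A B : Module.End k M} (hA : IsMin G A)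
    (hB : IsMin G B) (hgood : ∀ X ∈ rootSpace G A hA.sq, X ≠ 0 → ∀ Y ∈ rootSpace G B hB.sq, Y ≠ 0 →
      ¬ IsNilpotent (X * Y + Y * X)) :
    Cfsg.RankOneCondition (rootGroup G A hA.sq) (rootGroup G B hB.sq) ∧
    ∀ a ∈ rootGroup G A hA.sq, a ≠ 1 → ∀ b ∈ rootGroup G B hB.sq, b ≠ 1 →
      Cfsg.conjBy (rootGroup G A hA.sq) b⁻¹ = Cfsg.conjBy (rootGroup G B hB.sq) a⁻¹ →
      b⁻¹ * a * b = a⁻¹ * b⁻¹ * a := by
  constructor
  · intro a ha ha1
    set X := (a : Module.End k M) - 1 with hXdef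
    have hX : X ∈ rootSpace G A hA.sq := mem_rootGroup.1 ha
    have hX0 : X ≠ 0 := fun e => ha1 (Units.ext (by simpa [hXdef, sub_eq_zero] using e))
    have mX := hA.of_mem_rootSpace hX hX0
    obtain ⟨c⟩ := exists_coords mX.sq hB.sq (hgood X hX hX0 B (self_mem_rootSpace hB.rt) hB.2.1)
    obtain ⟨hirr, eX, eB⟩ := pair_structure h2 h3 mX hB c
    haveI : Fact (Irreducible c.g) := ⟨hirr⟩
    have hrange := c.range_ψ h2 h3 hirr eX eB
    have hG : ∀ γ, c.ψ γ ∈ G := by
      intro γ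
      have h : c.ψ γ ∈ c.ψ.range := ⟨γ, rfl⟩
      rw [hrange] at h
      refine (Subgroup.closure_le G).2 ?_ h
      rintro _ (⟨t, rfl⟩ | ⟨t, rfl⟩)
      · exact mX.rt.mem t rfl
      · exact hB.rt.mem t rfl
    set Y := B * c.ev c.xi with hYdef
    have hY2 : Y = c.Φ !![0, 0; 1, 0] := by
      rw [hYdef, ← c.Φ_lower, c.root_mul]
    have hYsq : Y * Y = 0 := by
      rw [hY2, ← c.Φ_mul]
      convert c.Φ_zero
      ext i j; fin_cases i <;> fin_cases j <;> simp
    have hYrt : Rt G Y := by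
      refine ⟨hYsq, fun t => ⟨c.ψ (vv (t • c.xi * AdjoinRoot.root c.g)), hG _, ?_⟩⟩
      rw [c.ψ_vv, map_smul, mul_smul_comm]
    have hYmem : Y ∈ rootSpace G B hB.sq := by
      refine ⟨hYrt, fun m hm => ?_, range_mul_le _ _⟩
      rw [LinearMap.mem_ker, hYdef, (c.commB c.xi).eq, Module.End.mul_apply, LinearMap.mem_ker.1 hm, map_zero]
    have hY0 : Y ≠ 0 := fun e => by
      have := congrFun (congrFun (c.Φ_inj (hY2.symm.trans e)) 1) 0
      simp at this
    have eb : oneAdd Y hYsq = c.ψ (vv 1) := by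
      refine Units.ext ?_
      rw [oneAdd_val, show (1 : AdjoinRoot c.g) = c.xi * AdjoinRoot.root c.g by rw [mul_comm, c.root_mul], c.ψ_vv]
    have ea : a = c.ψ (uu 1) := Units.ext (by rw [c.ψ_uu, ← Coords.P, eX, hXdef]; abel)
    have hb1 : oneAdd Y hYsq ≠ 1 := fun e => hY0 (by simpa using congrArg Units.val e)
    refine ⟨oneAdd Y hYsq, oneAdd_mem_rootGroup hYmem, hb1, ?_⟩
    have mY := hB.of_mem_rootSpace hYmem hY0
    rw [rootGroup_congr (G := G) (hA := hA.sq) (hA' := mX.sq) (hA.ker_eq hX hX0).symm (hA.range_eq hX hX0).symm,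
      rootGroup_congr (G := G) (hA := hB.sq) (hA' := mY.sq) (hB.ker_eq hYmem hY0).symm (hB.range_eq hYmem hY0).symm,
      conjBy_rootGroup mX (G.inv_mem hYrt.oneAdd_mem),
      conjBy_rootGroup mY (G.inv_mem (rootGroup_le hA.sq ha))]
    have e : conjE (oneAdd Y hYsq)⁻¹ X = -conjE a⁻¹ Y := by
      have eX' : X = c.Φ !![0, 1; 0, 0] := by rw [← c.upperP, eX]
      rw [eb, ea, ← map_inv, ← map_inv, congrArg (conjE (c.ψ (vv 1)⁻¹)) eX', congrArg (conjE (c.ψ (uu 1)⁻¹)) hY2,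
        c.conjE_ψ, c.conjE_ψ, eq_neg_iff_add_eq_zero, ← c.Φ_add]
      convert c.Φ_zero
      ext i j; fin_cases i <;> fin_cases j <;>
        simp [Matrix.mul_apply, Fin.sum_univ_two, uu_inv, vv_inv]
    refine rootGroup_congr ?_ ?_
    · rw [e, LinearMap.ker_neg]
    · rw [e, LinearMap.range_neg]
  · intro a ha ha1 b hb hb1 hconj
    set X := (a : Module.End k M) - 1 with hXdef
    have hX : X ∈ rootSpace G A hA.sq := mem_rootGroup.1 ha
    have hX0 : X ≠ 0 := fun e => ha1 (Units.ext (by simpa [hXdef, sub_eq_zero] using e))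
    set Y := (b : Module.End k M) - 1 with hYdef
    have hY : Y ∈ rootSpace G B hB.sq := mem_rootGroup.1 hb
    have hY0 : Y ≠ 0 := fun e => hb1 (Units.ext (by simpa [hYdef, sub_eq_zero] using e))
    have mX := hA.of_mem_rootSpace hX hX0
    have mY := hB.of_mem_rootSpace hY hY0
    obtain ⟨c⟩ := exists_coords mX.sq mY.sq (hgood X hX hX0 Y hY hY0)
    obtain ⟨hirr, eX, eY⟩ := pair_structure h2 h3 mX mY c
    haveI : Fact (Irreducible c.g) := ⟨hirr⟩
    have ea : a = c.ψ (uu 1) := Units.ext (by rw [c.ψ_uu, ← Coords.P, eX, hXdef]; abel)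
    have eb : b = c.ψ (vv (AdjoinRoot.root c.g)) := by
      refine Units.ext ?_
      rw [← one_mul (AdjoinRoot.root c.g), c.ψ_vv, ← Coords.P, eY, hYdef]; abel
    rw [rootGroup_congr (G := G) (hA := hA.sq) (hA' := mX.sq) (hA.ker_eq hX hX0).symm (hA.range_eq hX hX0).symm,
      rootGroup_congr (G := G) (hA := hB.sq) (hA' := mY.sq) (hB.ker_eq hY hY0).symm (hB.range_eq hY hY0).symm,
      conjBy_rootGroup mX (G.inv_mem (rootGroup_le hB.sq hb)),
      conjBy_rootGroup mY (G.inv_mem (rootGroup_le hA.sq ha))] at hconj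
    have h1 := mY.conj (G.inv_mem (rootGroup_le hA.sq ha))
    have hmem := oneAdd_mem_rootGroup (G := G) (self_mem_rootSpace h1.rt)
    rw [← hconj, mem_rootGroup] at hmem
    have hprod := rootSpace_mul (self_mem_rootSpace (mX.conj (G.inv_mem (rootGroup_le hB.sq hb))).rt) hmem
    rw [oneAdd_val, add_sub_cancel_left] at hprod
    have eX' : X = c.Φ !![0, 1; 0, 0] := by rw [← c.upperP, eX]
    have eY' : Y = c.Φ !![0, 0; AdjoinRoot.root c.g, 0] := by
      rw [← mul_one (AdjoinRoot.root c.g), c.Φ_lower, ← Coords.P, eY]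
    rw [ea, eb, ← map_inv, ← map_inv, congrArg (conjE (c.ψ (vv (AdjoinRoot.root c.g))⁻¹)) eX',
      congrArg (conjE (c.ψ (uu 1)⁻¹)) eY', c.conjE_ψ, c.conjE_ψ, ← c.Φ_mul] at hprod
    have hentry := congrFun (congrFun (c.Φ_inj hprod) 0) 0
    simp [Matrix.mul_apply, Fin.sum_univ_two, uu_inv, vv_inv] at hentry
    have hroot : AdjoinRoot.root c.g = 1 := by
      refine mul_left_cancel₀ c.root_ne_zero ?_
      linear_combination -hentry
    rw [ea, eb, hroot, ← map_inv, ← map_inv, ← map_mul, ← map_mul, ← map_mul, ← map_mul]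
    refine congrArg c.ψ ?_
    refine sl2_ext ?_ ?_ ?_ ?_ <;> simp [sl2_mul, uu_inv, vv_inv] <;> ring

end Cfsg.Agent.H88
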