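/-
Two root groups generate a unipotent group or form a special rank one pair.
-/
import Cfsg.Agent.H88.QPairCor
set_option autoImplicit false
set_option maxHeartbeats 1000000

namespace Cfsg.Agent.H88

open Matrix

universe u v

variable {k : Type u} [Field k] {M : Type v} [AddCommGroup M] [Module k M] [FiniteDimensional k M]
  {G : Subgroup (LinearMap.GeneralLinearGroup k M)}

lemma rootGroup_sup_eq_closure {A B : Module.End k M} {hA : A * A = 0} {hB : B * B = 0} :
    rootGroup G A hA ⊔ rootGroup G B hB =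
      Subgroup.closure ((rootGroup G A hA : Set (LinearMap.GeneralLinearGroup k M)) ∪ rootGroup G B hB) := by
  rw [Subgroup.closure_union, Subgroup.closure_eq, Subgroup.closure_eq]

/-- If every pair of non-zero members is nilpotent, the join of the root groups is unipotent. -/
theorem unipotent_rootGroups (h2 : (2 : k) ≠ 0) {A B : Module.End k M} (hA : IsMin G A) (hB : IsMin G B)
    (hnil : ∀ X ∈ rootSpace G A hA.sq, X ≠ 0 → ∀ Y ∈ rootSpace G B hB.sq, Y ≠ 0 → IsNilpotent (X * Y + Y * X)) :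
    Cfsg.IsUnipotentOn (rootGroup G A hA.sq ⊔ rootGroup G B hB.sq) := by
  have key : ∀ {A B : Module.End k M} (hA : IsMin G A) (hB : IsMin G B),
      (∀ X ∈ rootSpace G A hA.sq, X ≠ 0 → ∀ Y ∈ rootSpace G B hB.sq, Y ≠ 0 → IsNilpotent (X * Y + Y * X)) →
      ∀ X ∈ rootSpace G A hA.sq, ∀ Y ∈ rootSpace G B hB.sq, ∀ X' ∈ rootSpace G A hA.sq, X * Y * X' = 0 := by
    intro A B hA hB hnil X hX Y hY X' hX'
    rcases eq_or_ne X 0 with rfl | hX0
    · simp
    rcases eq_or_ne Y 0 with rfl | hY0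
    · simp
    have h := classTwo h2 (hA.of_mem_rootSpace hX hX0) hY.1 (hnil X hX hX0 Y hY hY0)
    refine LinearMap.ext fun m => ?_
    obtain ⟨m', hm'⟩ : X' m ∈ LinearMap.range X := by
      rw [hA.range_eq hX hX0]; exact hX'.2.2 ⟨m, rfl⟩
    rw [Module.End.mul_apply, ← hm', ← Module.End.mul_apply, h]; simp
  rw [rootGroup_sup_eq_closure]
  refine isUnipotentOn_closure (rootSpace G A hA.sq : Set (Module.End k M)) (rootSpace G B hB.sq)
    (fun a ha a' ha' => rootSpace_mul ha ha') (fun b hb b' hb' => rootSpace_mul hb hb')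
    (key hA hB hnil) (key hB hA (fun X hX hX0 Y hY hY0 => by rw [add_comm]; exact hnil Y hY hY0 X hX hX0)) ?_
  intro x hx
  rcases hx with hx | hx
  · exact ⟨mem_wordSpan_one (Or.inl (mem_rootGroup.1 hx)),
      mem_wordSpan_one (Or.inl (mem_rootGroup.1 ((rootGroup G A hA.sq).inv_mem hx)))⟩
  · exact ⟨mem_wordSpan_one (Or.inr (mem_rootGroup.1 hx)),
      mem_wordSpan_one (Or.inr (mem_rootGroup.1 ((rootGroup G B hB.sq).inv_mem hx)))⟩

/-- Root groups without a nilpotent pair form a special rank one pair. -/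
theorem special_pair (h2 : (2 : k) ≠ 0) (h3 : Nat.card k ≠ 3) {A B : Module.End k M} (hA : IsMin G A)
    (hB : IsMin G B)
    (hgood : ∀ X ∈ rootSpace G A hA.sq, X ≠ 0 → ∀ Y ∈ rootSpace G B hB.sq, Y ≠ 0 → ¬ IsNilpotent (X * Y + Y * X)) :
    Cfsg.IsSpecialRankOnePair (rootGroup G A hA.sq) (rootGroup G B hB.sq) := by
  obtain ⟨h, hs⟩ := rankOne_cond h2 h3 hA hB hgood
  obtain ⟨h', -⟩ := rankOne_cond h2 h3 hB hA
    (fun X hX hX0 Y hY hY0 => by rw [add_comm]; exact hgood Y hY hY0 X hX hX0)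
  have hcomm : ∀ {A : Module.End k M} (hA : IsMin G A), Group.IsNilpotent (rootGroup G A hA.sq) := by
    intro A hA
    letI : CommGroup (rootGroup G A hA.sq) :=
      { (inferInstance : Group (rootGroup G A hA.sq)) with
        mul_comm := fun a b => Subtype.ext (rootGroup_commute a.2 b.2) }
    exact CommGroup.isNilpotent
  refine ⟨⟨?_, hcomm hA, hcomm hB, h, h'⟩, hs⟩
  intro e
  have h1 := oneAdd_mem_rootGroup (G := G) (self_mem_rootSpace hA.rt)
  rw [e, mem_rootGroup, oneAdd_val, add_sub_cancel_left] at h1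
  refine hgood A (self_mem_rootSpace hA.rt) hA.2.1 B (self_mem_rootSpace hB.rt) hB.2.1 ⟨1, ?_⟩
  rw [pow_one, rootSpace_mul h1 (self_mem_rootSpace hB.rt), rootSpace_mul (self_mem_rootSpace hB.rt) h1, add_zero]

theorem unipotent_or_special (h2 : (2 : k) ≠ 0) (h3 : Nat.card k ≠ 3) {A B : Module.End k M}
    (hA : IsMin G A) (hB : IsMin G B) :
    let X := rootGroup G A hA.sq ⊔ rootGroup G B hB.sq
    Cfsg.IsUnipotentOn X ∨
    (Cfsg.IsSpecialRankOnePair (rootGroup G A hA.sq) (rootGroup G B hB.sq) ∧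
      (∃! i : LinearMap.GeneralLinearGroup k M, i ∈ X ∧ i ≠ 1 ∧ i * i = 1 ∧
        (∀ x ∈ X, i * x = x * i) ∧
        (∀ m ∈ Cfsg.commutatorSubmodule X, (i : M →ₗ[k] M) m = -m) ∧
        (∀ m ∈ Cfsg.fixedSubmodule X, (i : M →ₗ[k] M) m = m)) ∧
      IsCompl (Cfsg.fixedSubmodule X) (Cfsg.commutatorSubmodule X)) := by
  intro X
  by_cases hex : ∃ X₀ ∈ rootSpace G A hA.sq, ∃ Y₀ ∈ rootSpace G B hB.sq, ¬ IsNilpotent (X₀ * Y₀ + Y₀ * X₀)
  swap
  · push Not at hex
    exact Or.inl (unipotent_rootGroups h2 hA hB fun X hX _ Y hY _ => hex X hX Y hY)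
  obtain ⟨X₀, hX₀, Y₀, hY₀, hn⟩ := hex
  have hgood : ∀ X ∈ rootSpace G A hA.sq, X ≠ 0 → ∀ Y ∈ rootSpace G B hB.sq, Y ≠ 0 →
      ¬ IsNilpotent (X * Y + Y * X) :=
    fun X hX hX0 Y hY hY0 => not_nilpotent_all h2 h3 hA hB hX₀ hY₀ hn hX hX0 hY hY0
  refine Or.inr ⟨special_pair h2 h3 hA hB hgood, ?_⟩
  obtain ⟨c⟩ := exists_coords hA.sq hB.sq (hgood A (self_mem_rootSpace hA.rt) hA.2.1 B (self_mem_rootSpace hB.rt) hB.2.1)
  obtain ⟨hirr, eA, eB⟩ := pair_structure h2 h3 hA hB c
  -- members of `X` are `1` on the complement and respect the decomposition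
  have hQ : ∀ {A : Module.End k M} {hA : A * A = 0}, A * c.P = A → c.P * A = A →
      ∀ x ∈ rootGroup G A hA, (x : Module.End k M) * (1 - c.P) = 1 - c.P ∧ (1 - c.P) * (x : Module.End k M) = 1 - c.P := by
    intro A hA e1 e2 x hx
    have hz := mem_rootGroup.1 hx
    have a1 : ((x : Module.End k M) - 1) * (1 - c.P) = 0 := by
      refine apply_eq_zero_of_range_le_ker (le_trans ?_ hz.2.1)
      rintro _ ⟨m, rfl⟩
      rw [LinearMap.mem_ker, ← Module.End.mul_apply, mul_sub, mul_one, e1, sub_self]; rfl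
    have a2 : (1 - c.P) * ((x : Module.End k M) - 1) = 0 := by
      refine apply_eq_zero_of_range_le_ker (le_trans hz.2.2 ?_)
      rintro _ ⟨m, rfl⟩
      rw [LinearMap.mem_ker, ← Module.End.mul_apply, sub_mul, one_mul, e2, sub_self]; rfl
    rw [sub_mul, one_mul, sub_eq_zero] at a1
    rw [mul_sub, mul_one, sub_eq_zero] at a2
    exact ⟨a1, a2⟩
  have eA' : c.P * A = A := by rw [show c.P * A = A * c.P from (c.commA 1).symm.eq, eA]
  have eB' : c.P * B = B := by rw [show c.P * B = B * c.P from (c.commB 1).symm.eq, eB]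
  have hX : ∀ x ∈ X, (x : Module.End k M) * (1 - c.P) = 1 - c.P ∧ (1 - c.P) * (x : Module.End k M) = 1 - c.P := by
    intro x hx
    simp only [X, rootGroup_sup_eq_closure] at hx
    induction hx using Subgroup.closure_induction with
    | mem x hx =>
      rcases hx with hx | hx
      · exact hQ eA eA' x hx
      · exact hQ eB eB' x hx
    | one => simp
    | mul x y _ _ hx hy =>
      exact ⟨by rw [Units.val_mul, mul_assoc, hy.1, hx.1], by rw [Units.val_mul, ← mul_assoc, hx.2, hy.2]⟩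
    | inv x _ hx =>
      constructor
      · conv_lhs => rw [← hx.1, ← mul_assoc, Units.inv_mul, one_mul]
      · conv_lhs => rw [← hx.2, mul_assoc, Units.mul_inv, mul_one]
  set i := c.ψ (-1) with hi
  have hiv : (i : Module.End k M) = (1 - c.P) - c.P := by
    rw [hi, c.ψ_val]
    have : c.Φ ((-1 : Matrix.SpecialLinearGroup (Fin 2) (AdjoinRoot c.g)) : Matrix (Fin 2) (Fin 2) (AdjoinRoot c.g))
        = -c.P := by
      rw [eq_neg_iff_add_eq_zero, ← c.Φ_one, ← c.Φ_add]
      convert c.Φ_zero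
      simp
    rw [this]; abel
  have hiX : i ∈ X := by
    have h : i ∈ c.ψ.range := ⟨_, rfl⟩
    rw [c.range_ψ h2 h3 hirr eA eB] at h
    refine (Subgroup.closure_le X).2 ?_ h
    rintro _ (⟨t, rfl⟩ | ⟨t, rfl⟩)
    · exact Subgroup.mem_sup_left (oneAdd_mem_rootGroup (Submodule.smul_mem _ t (self_mem_rootSpace hA.rt)))
    · exact Subgroup.mem_sup_right (oneAdd_mem_rootGroup (Submodule.smul_mem _ t (self_mem_rootSpace hB.rt)))
  have hcomm : Cfsg.commutatorSubmodule X = LinearMap.range c.P := by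
    refine le_antisymm (iSup₂_le fun x hx => ?_) ?_
    · rintro _ ⟨m, rfl⟩
      refine ⟨((x : Module.End k M) - 1) m, ?_⟩
      have h0 : (1 - c.P) * ((x : Module.End k M) - 1) = 0 := by rw [mul_sub, (hX x hx).2, mul_one, sub_self]
      rw [sub_mul, one_mul, sub_eq_zero] at h0
      exact (congrArg (fun f : Module.End k M => f m) h0).symm
    · rintro _ ⟨m, rfl⟩
      rw [← c.C_mul_D, Module.End.mul_apply, LinearMap.add_apply]
      refine Submodule.add_mem _ ?_ ?_
      · refine Submodule.mem_iSup_of_mem (oneAdd A hA.sq) (Submodule.mem_iSup_of_mem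
          (Subgroup.mem_sup_left (oneAdd_mem_rootGroup (self_mem_rootSpace hA.rt))) ⟨B (c.ev c.xi m), ?_⟩)
        simp
      · refine Submodule.mem_iSup_of_mem (oneAdd B hB.sq) (Submodule.mem_iSup_of_mem
          (Subgroup.mem_sup_right (oneAdd_mem_rootGroup (self_mem_rootSpace hB.rt))) ⟨A (c.ev c.xi m), ?_⟩)
        simp
  have hfix : Cfsg.fixedSubmodule X = LinearMap.range (1 - c.P) := by
    refine le_antisymm (fun m hm => ?_) (le_iInf₂ fun x hx => ?_)
    · simp only [Cfsg.fixedSubmodule, Submodule.mem_iInf] at hm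
      have hAm := hm (oneAdd A hA.sq) (Subgroup.mem_sup_left (oneAdd_mem_rootGroup (self_mem_rootSpace hA.rt)))
      have hBm := hm (oneAdd B hB.sq) (Subgroup.mem_sup_right (oneAdd_mem_rootGroup (self_mem_rootSpace hB.rt)))
      simp only [oneAdd_val, add_sub_cancel_left, LinearMap.mem_ker] at hAm hBm
      refine ⟨m, ?_⟩
      have hP : c.P m = 0 := by
        rw [← c.C_mul_D, show (A * B + B * A) * c.ev c.xi = c.ev c.xi * (A * B + B * A) from
          (c.comm c.xi _ (Commute.refl _)).eq, Module.End.mul_apply, LinearMap.add_apply]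
        simp [hAm, hBm]
      simp [hP]
    · rintro _ ⟨m, rfl⟩
      rw [LinearMap.mem_ker, ← Module.End.mul_apply, sub_mul, (hX x hx).1, one_mul, sub_self]; rfl
  have hPid : ∀ m, c.P (c.P m) = c.P m := fun m => congrArg (fun f : Module.End k M => f m) c.P_sq
  refine ⟨⟨i, ⟨hiX, ?_, ?_, ?_, ?_, ?_⟩, ?_⟩, ?_⟩
  · intro e
    have h := congrArg (fun u : LinearMap.GeneralLinearGroup k M => (u : Module.End k M)) e
    simp only [hiv, Units.val_one] at h
    have h' : (2 : k) • c.P = 0 := by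
      calc (2 : k) • c.P = c.P + c.P := two_smul k _
        _ = 1 - (1 - c.P - c.P) := by abel
        _ = 0 := by rw [h, sub_self]
    rw [smul_eq_zero] at h'
    exact hA.2.1 (by rw [← eA, h'.resolve_left h2, mul_zero])
  · refine Units.ext ?_
    rw [Units.val_mul, hiv, Units.val_one]
    simp only [sub_mul, mul_sub, one_mul, mul_one, c.P_sq]
    abel
  · intro x hx
    refine Units.ext ?_
    obtain ⟨h1, h1'⟩ := hX x hx
    have hc : Commute (x : Module.End k M) (1 - c.P) := h1.trans h1'.symm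
    rw [Units.val_mul, Units.val_mul, hiv, show (1 - c.P) - c.P = (1 - c.P) + ((1 - c.P) - 1) by abel]
    exact (hc.add_right (hc.sub_right (Commute.one_right _))).eq.symm
  · intro m hm
    rw [hcomm] at hm
    obtain ⟨y, rfl⟩ := hm
    rw [hiv]
    simp [hPid]
  · intro m hm
    rw [hfix] at hm
    obtain ⟨y, rfl⟩ := hm
    rw [hiv]
    simp [hPid]
  · rintro j ⟨-, -, -, -, hj1, hj2⟩
    refine Units.ext (LinearMap.ext fun m => ?_)
    have e : m = (1 - c.P) m + c.P m := by simp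
    rw [hcomm] at hj1
    rw [hfix] at hj2
    rw [e, map_add, hj1 (c.P m) ⟨m, rfl⟩, hj2 ((1 - c.P) m) ⟨m, rfl⟩, hiv]
    simp [hPid]
    abel
  · rw [hcomm, hfix]
    refine IsCompl.of_eq ?_ ?_
    · rw [Submodule.eq_bot_iff]
      rintro v ⟨⟨a, rfl⟩, ⟨b, hb⟩⟩
      have := congrArg c.P hb
      rw [hPid, hb] at this
      rw [this]
      simp [hPid]
    · rw [eq_top_iff]
      intro m _
      refine Submodule.mem_sup.2 ⟨_, ⟨m, rfl⟩, _, ⟨m, rfl⟩, ?_⟩
      simp

end Cfsg.Agent.H88
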