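/-
Completely reducible groups of linear maps, Clifford's argument, and absence of invariant nilpotent sets.
-/
import Cfsg.Agent.H88.QBasic
import Cfsg.Agent.H88.QFiltration
set_option autoImplicit false

namespace Cfsg.Agent.H88

universe u v

variable {k : Type u} [Field k] {M : Type v} [AddCommGroup M] [Module k M] [FiniteDimensional k M]

/-- `W` is invariant under `G`. -/
def Invar (G : Subgroup (LinearMap.GeneralLinearGroup k M)) (W : Submodule k M) : Prop :=
  ∀ g ∈ G, ∀ w ∈ W, (g : Module.End k M) w ∈ W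

/-- `W` is a minimal non-zero invariant subspace. -/
def IrrSub (G : Subgroup (LinearMap.GeneralLinearGroup k M)) (W : Submodule k M) : Prop :=
  Invar G W ∧ W ≠ ⊥ ∧ ∀ W' ≤ W, Invar G W' → W' ≠ ⊥ → W' = W

/-- `M` is the sum of its minimal invariant subspaces. -/
def Semi (G : Subgroup (LinearMap.GeneralLinearGroup k M)) : Prop :=
  (⨆ W ∈ {W : Submodule k M | IrrSub G W}, W) = ⊤

/-- No non-zero invariant nilpotent set of elements `g - 1`, `g ∈ G`. -/
def NoUnip (G : Subgroup (LinearMap.GeneralLinearGroup k M)) : Prop :=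
  ∀ S : Set (Module.End k M), (∀ X ∈ S, ∃ g ∈ G, (g : Module.End k M) = 1 + X) →
    (∀ g ∈ G, ∀ X ∈ S, conjE g X ∈ S) →
    (∃ L, ∀ l : List (Module.End k M), (∀ a ∈ l, a ∈ S) → l.length = L → l.prod = 0) → ∀ X ∈ S, X = 0

variable {G : Subgroup (LinearMap.GeneralLinearGroup k M)}

omit [FiniteDimensional k M] in
lemma semi_of_irreducible (hG : Cfsg.IsIrreducibleFor G) : Semi G := by
  refine le_antisymm le_top (le_biSup (fun W => W) (show IrrSub G (⊤ : Submodule k M) from ?_))
  obtain ⟨⟨m, hm⟩, h⟩ := hG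
  refine ⟨fun _ _ _ _ => trivial, ?_, fun W' _ hW' hne => (h W' hW').resolve_left hne⟩
  intro e
  exact hm ((Submodule.mem_bot k).1 (e ▸ Submodule.mem_top))

lemma exists_irrSub_le {W : Submodule k M} (hW : Invar G W) (hne : W ≠ ⊥) : ∃ W' ≤ W, IrrSub G W' := by
  generalize hn : Module.finrank k W = n
  induction n using Nat.strong_induction_on generalizing W with
  | _ n ih =>
    by_cases h : ∀ W' ≤ W, Invar G W' → W' ≠ ⊥ → W' = W
    · exact ⟨W, le_rfl, hW, hne, h⟩
    · push Not at h
      obtain ⟨W', hle, hinv, hne', hneq⟩ := h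
      obtain ⟨W'', h1, h2⟩ := ih _ (hn ▸ Submodule.finrank_lt_finrank_of_lt (lt_of_le_of_ne hle hneq)) hinv hne' rfl
      exact ⟨W'', h1.trans hle, h2⟩

omit [FiniteDimensional k M] in
lemma Invar.map {K : Subgroup (LinearMap.GeneralLinearGroup k M)} {W : Submodule k M} (hW : Invar K W)
    {h : LinearMap.GeneralLinearGroup k M} (hh : ∀ g ∈ K, h⁻¹ * g * h ∈ K) :
    Invar K (W.map (h : Module.End k M)) := by
  rintro g hg _ ⟨w, hw, rfl⟩
  refine ⟨_, hW _ (hh g hg) w hw, ?_⟩
  simp only [← Module.End.mul_apply, ← Units.val_mul]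
  rw [show h * (h⁻¹ * g * h) = g * h by group]

omit [FiniteDimensional k M] in
lemma IrrSub.map {K : Subgroup (LinearMap.GeneralLinearGroup k M)} {W : Submodule k M} (hW : IrrSub K W)
    {h : LinearMap.GeneralLinearGroup k M} (hh : ∀ g ∈ K, h⁻¹ * g * h ∈ K) (hh' : ∀ g ∈ K, h * g * h⁻¹ ∈ K) :
    IrrSub K (W.map (h : Module.End k M)) := by
  have hl : ∀ m : M, ((h⁻¹ : LinearMap.GeneralLinearGroup k M) : Module.End k M) ((h : Module.End k M) m) = m :=
    fun m => by rw [← Module.End.mul_apply, Units.inv_mul]; rfl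
  have hr : ∀ m : M, (h : Module.End k M) (((h⁻¹ : LinearMap.GeneralLinearGroup k M) : Module.End k M) m) = m :=
    fun m => by rw [← Module.End.mul_apply, Units.mul_inv]; rfl
  refine ⟨hW.1.map hh, ?_, fun W' hle hinv hne => ?_⟩
  · intro e
    refine hW.2.1 ((Submodule.eq_bot_iff W).2 fun w hw => ?_)
    have : (h : Module.End k M) w = 0 := (Submodule.mem_bot k).1 (e ▸ ⟨w, hw, rfl⟩)
    rw [← hl w, this, map_zero]
  · have h1 := hW.2.2 (W'.map ((h⁻¹ : LinearMap.GeneralLinearGroup k M) : Module.End k M))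
      (by rintro _ ⟨w, hw, rfl⟩; obtain ⟨w0, hw0, rfl⟩ := hle hw; rw [hl]; exact hw0)
      (hinv.map (fun g hg => by simpa using hh' g hg))
      (fun e => hne ((Submodule.eq_bot_iff W').2 fun w hw => by
        have : ((h⁻¹ : LinearMap.GeneralLinearGroup k M) : Module.End k M) w = 0 :=
          (Submodule.mem_bot k).1 (e ▸ ⟨w, hw, rfl⟩)
        rw [← hr w, this, map_zero]))
    refine le_antisymm hle ?_
    rintro _ ⟨w, hw, rfl⟩
    obtain ⟨w', hw', rfl⟩ : w ∈ W'.map ((h⁻¹ : LinearMap.GeneralLinearGroup k M) : Module.End k M) := h1 ▸ hw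
    rw [hr]; exact hw'

/-- Clifford: a normal subgroup of a completely reducible group is completely reducible. -/
theorem Semi.normal {H K : Subgroup (LinearMap.GeneralLinearGroup k M)} (hH : Semi H) (hKH : K ≤ H)
    (hn : ∀ h ∈ H, ∀ g ∈ K, h * g * h⁻¹ ∈ K) : Semi K := by
  rw [Semi, eq_top_iff, ← hH]
  refine iSup₂_le fun W hW => ?_
  obtain ⟨W₀, hle, hW₀⟩ := exists_irrSub_le (G := K) (fun g hg w hw => hW.1 g (hKH hg) w hw) hW.2.1
  set V : Submodule k M := ⨆ W' ∈ {W' : Submodule k M | IrrSub K W' ∧ W' ≤ W}, W' with hV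
  have hVW : V ≤ W := iSup₂_le fun W' h => h.2
  have hVinv : Invar H V := by
    intro h hh
    have hmap : V.map (h : Module.End k M) ≤ V := by
      rw [hV, Submodule.map_iSup]
      refine iSup_le fun W' => ?_
      rw [Submodule.map_iSup]
      refine iSup_le fun hW' => le_biSup (fun W' => W') (show W'.map (h : Module.End k M) ∈ _ from ⟨?_, ?_⟩)
      · exact hW'.1.map (fun g hg => by simpa using hn h⁻¹ (H.inv_mem hh) g hg) (fun g hg => hn h hh g hg)
      · rintro _ ⟨w, hw, rfl⟩; exact hW.1 h hh w (hW'.2 hw)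
    exact fun w hw => hmap ⟨w, hw, rfl⟩
  have hne : V ≠ ⊥ := fun e => hW₀.2.1 (le_bot_iff.1 (e ▸ le_biSup (fun W' => W')
    (show W₀ ∈ {W' : Submodule k M | IrrSub K W' ∧ W' ≤ W} from ⟨hW₀, hle⟩)))
  rw [← hW.2.2 V hVW hVinv hne]
  exact biSup_mono fun W' h => h.1

omit [FiniteDimensional k M] in
/-- A completely reducible group has no invariant nilpotent set. -/
theorem Semi.noUnip (hG : Semi G) : NoUnip G := by
  intro S hSG hconj ⟨L, hL⟩ X hX
  refine LinearMap.ext fun m => ?_
  have hm : m ∈ (⊤ : Submodule k M) := trivial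
  rw [← hG] at hm
  have key : ∀ W, IrrSub G W → W ≤ ⨅ Y ∈ S, LinearMap.ker Y := by
    intro W hW
    set V := W ⊓ ⨅ Y ∈ S, LinearMap.ker Y with hV
    have hinv : Invar G V := by
      intro g hg w hw
      refine ⟨hW.1 g hg w hw.1, ?_⟩
      have h0 := hw.2
      simp only [SetLike.mem_coe, Submodule.mem_iInf, LinearMap.mem_ker] at h0 ⊢
      intro Y hY
      have := h0 _ (hconj g⁻¹ (G.inv_mem hg) Y hY)
      simp only [conjE, inv_inv, Module.End.mul_apply] at this
      have h' := congrArg (g : Module.End k M) this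
      rwa [← Module.End.mul_apply, Units.mul_inv, Module.End.one_apply, map_zero] at h'
    by_cases hVb : V = ⊥
    · exfalso
      obtain ⟨w, hw, hw0⟩ := Submodule.exists_mem_ne_zero_of_ne_bot hW.2.1
      have step : ∀ n : ℕ, ∃ l : List (Module.End k M), (∀ a ∈ l, a ∈ S) ∧ l.length = n ∧
          l.prod w ≠ 0 ∧ l.prod w ∈ W := by
        intro n
        induction n with
        | zero => exact ⟨[], by simp, rfl, by simpa using hw0, by simpa using hw⟩
        | succ n ih =>
          obtain ⟨l, h1, h2, h3, h4⟩ := ih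
          have hnot : l.prod w ∉ ⨅ Y ∈ S, LinearMap.ker Y := fun hh =>
            h3 ((Submodule.mem_bot k).1 (hVb ▸ ⟨h4, hh⟩))
          simp only [Submodule.mem_iInf, LinearMap.mem_ker, not_forall] at hnot
          obtain ⟨Y, hY, hY'⟩ := hnot
          refine ⟨Y :: l, by simp [hY]; exact h1, by simp [h2], by simpa using hY', ?_⟩
          obtain ⟨g, hg, e⟩ := hSG Y hY
          rw [List.prod_cons, Module.End.mul_apply, show Y = (g : Module.End k M) - 1 by rw [e]; abel,
            LinearMap.sub_apply, Module.End.one_apply]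
          exact Submodule.sub_mem _ (hW.1 g hg _ h4) h4
      obtain ⟨l, h1, h2, h3, -⟩ := step L
      exact h3 (by rw [hL l h1 h2]; simp)
    · exact (hW.2.2 V inf_le_left hinv hVb).ge.trans inf_le_right
  have := (iSup₂_le key : (⨆ W ∈ {W : Submodule k M | IrrSub G W}, W) ≤ _) hm
  simp only [Submodule.mem_iInf] at this
  exact this X hX

end Cfsg.Agent.H88
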