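/-
A set of square zero endomorphisms closed under commutators generates a nilpotent algebra.
-/
import Cfsg.Agent.H88.QFiltration
set_option autoImplicit false

namespace Cfsg.Agent.H88

variable {k : Type*} [Field k] {M : Type*} [AddCommGroup M] [Module k M]

lemma wordSpan_mono_set {S : Set (Module.End k M)} {T : Set (Module.End k M)}
    (h : ∀ a ∈ T, a ∈ Submodule.span k S) (l : List (Module.End k M)) (hl : ∀ a ∈ l, a ∈ T) :
    l.prod ∈ wordSpan S l.length := by
  induction l with
  | nil => exact Submodule.subset_span ⟨[], by simp, le_rfl, rfl⟩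
  | cons a t ih =>
    rw [List.prod_cons, List.length_cons, add_comm]
    refine wordSpan_mul ?_ (ih fun b hb => hl b (by simp [hb]))
    exact Submodule.span_le.2 (fun x hx => mem_wordSpan_one hx) (h a (hl a (by simp)))

lemma bracket_wordSpan {S : Set (Module.End k M)} {x : Module.End k M}
    (hx : ∀ w ∈ S, x * w - w * x ∈ Submodule.span k S) {n : ℕ} {a : Module.End k M}
    (ha : a ∈ wordSpan S n) : x * a - a * x ∈ wordSpan S n := by
  have key : ∀ l : List (Module.End k M), (∀ a ∈ l, a ∈ S) →
      x * l.prod - l.prod * x ∈ wordSpan S l.length := by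
    intro l
    induction l with
    | nil => simp
    | cons a t ih =>
      intro hl
      rw [List.prod_cons, List.length_cons, add_comm,
        show x * (a * t.prod) - a * t.prod * x = (x * a - a * x) * t.prod + a * (x * t.prod - t.prod * x) by
          noncomm_ring]
      refine Submodule.add_mem _ (wordSpan_mul ?_ ?_) (wordSpan_mul (mem_wordSpan_one (hl a (by simp)))
        (ih fun b hb => hl b (by simp [hb])))
      · exact Submodule.span_le.2 (fun y hy => mem_wordSpan_one hy) (hx a (hl a (by simp)))
      · exact Submodule.subset_span ⟨t, fun b hb => hl b (by simp [hb]), le_rfl, rfl⟩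
  induction ha using Submodule.span_induction with
  | mem a ha =>
    obtain ⟨l, h1, h2, rfl⟩ := ha
    exact wordSpan_anti h2 (key l h1)
  | zero => simp
  | add a b _ _ ha hb =>
    rw [mul_add, add_mul, add_sub_add_comm]
    exact Submodule.add_mem _ ha hb
  | smul c a _ ha =>
    rw [mul_smul_comm, smul_mul_assoc, ← smul_sub]
    exact Submodule.smul_mem _ c ha

/-- The span of the products `a y b` with `a`, `b` long words. -/
def sandwich (S : Set (Module.End k M)) (y : Module.End k M) (n : ℕ) : Submodule k (Module.End k M) :=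
  Submodule.span k {z | ∃ (i j : ℕ) (a b : Module.End k M), n ≤ i + j ∧ a ∈ wordSpan S i ∧ b ∈ wordSpan S j ∧
    z = a * y * b}

variable [FiniteDimensional k M]

theorem words_vanish_of_weaklyClosed {T : Set (Module.End k M)} (hsq : ∀ x ∈ T, x * x = 0)
    (hcl : ∀ x ∈ T, ∀ y ∈ T, x * y - y * x ∈ T) :
    ∃ L : ℕ, ∀ l : List (Module.End k M), (∀ a ∈ l, a ∈ T) → l.length = L → l.prod = 0 := by
  let P : ℕ → Prop := fun d => ∃ W ⊆ T,
    (∃ L : ℕ, ∀ l : List (Module.End k M), (∀ a ∈ l, a ∈ W) → l.length = L → l.prod = 0) ∧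
      Module.finrank k (Submodule.span k W) = d
  have hP0 : P 0 := ⟨∅, Set.empty_subset _,
    ⟨1, fun l hl hlen => by
      obtain ⟨a, rfl⟩ := List.length_eq_one_iff.1 hlen
      exact absurd (hl a (by simp)) (by simp)⟩,
    by simp⟩
  classical
  set d := Nat.findGreatest P (Module.finrank k (Module.End k M)) with hd
  obtain ⟨W, hWT, ⟨L, hL⟩, hWd⟩ : P d := Nat.findGreatest_spec (P := P) (Nat.zero_le _) hP0
  by_cases hall : ∀ y ∈ T, y ∈ Submodule.span k W
  · refine ⟨L, fun l hl hlen => ?_⟩
    have := wordSpan_mono_set hall l hl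
    rw [hlen, wordSpan_eq_bot hL le_rfl] at this
    exact (Submodule.mem_bot k).1 this
  push Not at hall
  obtain ⟨y, hyT, hy⟩ := hall
  exfalso
  obtain ⟨x, hxT, hx, hxW⟩ : ∃ x ∈ T, x ∉ Submodule.span k W ∧ ∀ w ∈ W, x * w - w * x ∈ Submodule.span k W := by
    by_contra hno
    push Not at hno
    have step : ∀ n, ∃ z ∈ T, z ∉ Submodule.span k W ∧ z ∈ sandwich W y n := by
      intro n
      induction n with
      | zero => exact ⟨y, hyT, hy, Submodule.subset_span ⟨0, 0, 1, 1, le_rfl,
          Submodule.subset_span ⟨[], by simp, le_rfl, rfl⟩, Submodule.subset_span ⟨[], by simp, le_rfl, rfl⟩,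
          by simp⟩⟩
      | succ n ih =>
        obtain ⟨z, hzT, hz, hzs⟩ := ih
        obtain ⟨w, hw, hw'⟩ := hno z hzT hz
        refine ⟨_, hcl z hzT w (hWT hw), hw', ?_⟩
        clear hz hzT hw'
        induction hzs using Submodule.span_induction with
        | mem z hz =>
          obtain ⟨i, j, a, b, hn, ha, hb, rfl⟩ := hz
          refine Submodule.sub_mem _ (Submodule.subset_span ⟨i, j + 1, a, b * w, by omega, ha,
            wordSpan_mul hb (mem_wordSpan_one hw), by simp [mul_assoc]⟩) ?_
          exact Submodule.subset_span ⟨1 + i, j, w * a, b, by omega,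
            wordSpan_mul (mem_wordSpan_one hw) ha, hb, by simp [mul_assoc]⟩
        | zero => simp
        | add a b _ _ ha hb =>
          rw [add_mul, mul_add, add_sub_add_comm]
          exact Submodule.add_mem _ ha hb
        | smul c a _ ha =>
          rw [smul_mul_assoc, mul_smul_comm, ← smul_sub]
          exact Submodule.smul_mem _ c ha
    obtain ⟨z, -, hz, hzs⟩ := step (2 * L)
    have hbot : sandwich W y (2 * L) = ⊥ := by
      refine Submodule.span_eq_bot.2 ?_
      rintro _ ⟨i, j, a, b, hn, ha, hb, rfl⟩
      rcases le_or_gt L i with h | h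
      · rw [wordSpan_eq_bot hL h, Submodule.mem_bot] at ha
        simp [ha]
      · rw [wordSpan_eq_bot hL (show L ≤ j by omega), Submodule.mem_bot] at hb
        simp [hb]
    rw [hbot, Submodule.mem_bot] at hzs
    exact hz (hzs ▸ Submodule.zero_mem _)
  have hxx := hsq x hxT
  have e1 : ∀ (n : ℕ) (l : List (Module.End k M)), (∀ a ∈ l, a ∈ insert x W) → 2 * n ≤ l.length →
      ∃ a ∈ wordSpan W n, ∃ b ∈ wordSpan W n, l.prod = a + b * x := by
    have hone : (1 : Module.End k M) ∈ wordSpan W 0 := Submodule.subset_span ⟨[], by simp, le_rfl, rfl⟩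
    have mulx : ∀ {n a b}, a ∈ wordSpan W n → b ∈ wordSpan W n →
        ∃ a' ∈ wordSpan W n, ∃ b' ∈ wordSpan W n, x * (a + b * x) = a' + b' * x := by
      intro n a b ha hb
      refine ⟨x * a - a * x, bracket_wordSpan hxW ha, a + (x * b - b * x),
        Submodule.add_mem _ ha (bracket_wordSpan hxW hb), ?_⟩
      rw [mul_add, add_mul, sub_mul, mul_assoc b x x, hxx, mul_zero, sub_zero, mul_assoc]
      abel
    have mulw : ∀ {n a b w}, a ∈ wordSpan W n → b ∈ wordSpan W n → w ∈ W →
        ∃ a' ∈ wordSpan W (n + 1), ∃ b' ∈ wordSpan W (n + 1), w * (a + b * x) = a' + b' * x := by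
      intro n a b w ha hb hw
      refine ⟨w * a, ?_, w * b, ?_, by rw [mul_add, mul_assoc]⟩
      all_goals rw [add_comm n 1]
      · exact wordSpan_mul (mem_wordSpan_one hw) ha
      · exact wordSpan_mul (mem_wordSpan_one hw) hb
    intro n
    induction n with
    | zero =>
      intro l hl _
      induction l with
      | nil => exact ⟨1, hone, 0, Submodule.zero_mem _, by simp⟩
      | cons c t ih =>
        obtain ⟨a, ha, b, hb, e⟩ := ih (fun d hd => hl d (by simp [hd])) (by simp)
        rw [List.prod_cons, e]
        rcases hl c (by simp) with rfl | hc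
        · exact mulx ha hb
        · obtain ⟨a', ha', b', hb', e'⟩ := mulw ha hb hc
          exact ⟨a', wordSpan_anti (by omega) ha', b', wordSpan_anti (by omega) hb', e'⟩
    | succ n ih =>
      intro l hl hlen
      match l, hlen with
      | c :: c' :: t, hlen =>
        obtain ⟨a, ha, b, hb, e⟩ := ih t (fun d hd => hl d (by simp [hd])) (by simp at hlen ⊢; omega)
        rw [List.prod_cons, List.prod_cons, e]
        rcases hl c (by simp) with rfl | hc <;> rcases hl c' (by simp) with h | hc'
        · exact ⟨0, Submodule.zero_mem _, 0, Submodule.zero_mem _, by rw [h, ← mul_assoc, hxx]; simp⟩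
        · obtain ⟨a', ha', b', hb', e'⟩ := mulw ha hb hc'
          rw [e']
          exact mulx ha' hb'
        · obtain ⟨a', ha', b', hb', e'⟩ := mulx ha hb
          rw [h, e']
          exact mulw ha' hb' hc
        · obtain ⟨a', ha', b', hb', e'⟩ := mulw ha hb hc'
          obtain ⟨a'', ha'', b'', hb'', e''⟩ := mulw ha' hb' hc
          rw [e', e'']
          exact ⟨a'', wordSpan_anti (by omega) ha'', b'', wordSpan_anti (by omega) hb'', rfl⟩
      | [], hlen => simp at hlen
      | [_], hlen => simp only [List.length_singleton] at hlen; omega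
  have hmax : Module.finrank k (Submodule.span k (insert x W)) ≤ d := by
    refine Nat.le_findGreatest (Submodule.finrank_le _) ⟨insert x W, Set.insert_subset hxT hWT,
      ⟨2 * L, fun l hl hlen => ?_⟩, rfl⟩
    obtain ⟨a, ha, b, hb, e⟩ := e1 L l hl hlen.ge
    rw [wordSpan_eq_bot hL le_rfl, Submodule.mem_bot] at ha hb
    rw [e, ha, hb]; simp
  refine hx ?_
  have := Submodule.eq_of_le_of_finrank_le (Submodule.span_mono (Set.subset_insert x W)) (hWd ▸ hmax)
  rw [this]
  exact Submodule.subset_span (Set.mem_insert x W)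

end Cfsg.Agent.H88
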