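/-
Every minimal element of an irreducible group has an opposite; root spaces in a nilpotent pair.
-/
import Cfsg.Agent.H88.QRankOne
import Cfsg.Agent.H88.QWeaklyClosed
import Cfsg.Agent.H88.QSemisimple
set_option autoImplicit false
set_option maxHeartbeats 1000000

namespace Cfsg.Agent.H88

open Module

universe u v

variable {k : Type u} [Field k] {M : Type v} [AddCommGroup M] [Module k M] [FiniteDimensional k M]
  {G : Subgroup (LinearMap.GeneralLinearGroup k M)}

theorem exists_opposite (h2 : (2 : k) ≠ 0) (hG : NoUnip G) {N : Module.End k M}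
    (hN : IsMin G N) : ∃ Z, IsMin G Z ∧ ¬ IsNilpotent (N * Z + Z * N) := by
  by_contra hno
  push Not at hno
  set S : Set (Module.End k M) := (fun g => conjE g N) '' (G : Set (LinearMap.GeneralLinearGroup k M)) with hS
  have hSmin : ∀ X ∈ S, IsMin G X := by rintro _ ⟨g, hg, rfl⟩; exact hN.conj hg
  have hSS : ∀ X ∈ S, ∀ Y ∈ S, X * Y * X = 0 := by
    rintro _ ⟨g, hg, rfl⟩ _ ⟨h, hh, rfl⟩
    have h1 := classTwo h2 hN ((hN.conj (G.mul_mem (G.inv_mem hg) hh))).rt
      (hno _ (hN.conj (G.mul_mem (G.inv_mem hg) hh)))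
    dsimp only
    rw [show conjE h N = conjE g (conjE (g⁻¹ * h) N) by rw [conjE_conjE, mul_inv_cancel_left],
      conjE_mul, conjE_mul, h1, conjE_zero]
  have hbr : ∀ X ∈ S, ∀ Y ∈ S, X * Y - Y * X ∈ Submodule.span k S := by
    rintro X hX Y hY
    have e : (1 + X) * Y * (1 - X) = Y + (X * Y - Y * X) - X * Y * X := by noncomm_ring
    rw [hSS X hX Y hY, sub_zero] at e
    have hmem : (1 + X) * Y * (1 - X) ∈ S := by
      obtain ⟨g, hg, rfl⟩ := hY
      exact ⟨oneAdd X (hSmin X hX).sq * g, G.mul_mem (hSmin X hX).rt.oneAdd_mem hg, by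
        show conjE _ N = _
        rw [← conjE_conjE, conjE_oneAdd]⟩
    rw [show X * Y - Y * X = (1 + X) * Y * (1 - X) - Y by rw [e]; abel]
    exact Submodule.sub_mem _ (Submodule.subset_span hmem) (Submodule.subset_span hY)
  set T : Set (Module.End k M) := {Z | Rt G Z ∧ (Z ≠ 0 → IsMin G Z) ∧ Z ∈ Submodule.span k S} with hT
  have hlin : ∀ X : Module.End k M, (∀ Y ∈ S, X * Y * X = 0) → ∀ Y ∈ Submodule.span k S, X * Y * X = 0 := by
    intro X h Y hY
    induction hY using Submodule.span_induction with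
    | mem Y hY => exact h Y hY
    | zero => simp
    | add a b _ _ ha hb => rw [mul_add, add_mul, ha, hb, add_zero]
    | smul c a _ ha => rw [mul_smul_comm, smul_mul_assoc, ha, smul_zero]
  have hTT : ∀ X ∈ T, ∀ Y ∈ T, X * Y * X = 0 := by
    intro X hX Y hY
    rcases eq_or_ne X 0 with rfl | hX0
    · simp
    refine hlin X (fun W hW => ?_) Y hY.2.2
    refine classTwo h2 (hX.2.1 hX0) (hSmin W hW).rt ?_
    rw [add_comm]
    exact isNilpotent_of_mul_mul W X (hSmin W hW).sq hX.1.sq (hlin W (hSS W hW) X hX.2.2)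
  have hcl : ∀ X ∈ T, ∀ Y ∈ T, X * Y - Y * X ∈ T := by
    intro X hX Y hY
    refine ⟨hX.1.commutator hY.1 (hTT X hX Y hY) (hTT Y hY X hX), fun hne => ?_, ?_⟩
    · have hX0 : X ≠ 0 := by rintro rfl; simp at hne
      have hY0 : Y ≠ 0 := by rintro rfl; simp at hne
      exact (nilpotentPair_data h2 (hX.2.1 hX0) (hY.2.1 hY0)
        (isNilpotent_of_mul_mul X Y hX.1.sq hY.1.sq (hTT X hX Y hY)) (sub_ne_zero.1 hne)).1
    · have : ∀ X ∈ Submodule.span k S, ∀ Y ∈ Submodule.span k S, X * Y - Y * X ∈ Submodule.span k S := by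
        intro X hX Y hY
        induction hX using Submodule.span_induction with
        | mem X hX =>
          induction hY using Submodule.span_induction with
          | mem Y hY => exact hbr X hX Y hY
          | zero => simp
          | add a b _ _ ha hb => rw [mul_add, add_mul, add_sub_add_comm]; exact Submodule.add_mem _ ha hb
          | smul c a _ ha =>
            rw [mul_smul_comm, smul_mul_assoc, ← smul_sub]; exact Submodule.smul_mem _ c ha
        | zero => simp
        | add a b _ _ ha hb => rw [add_mul, mul_add, add_sub_add_comm]; exact Submodule.add_mem _ ha hb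
        | smul c a _ ha =>
          rw [smul_mul_assoc, mul_smul_comm, ← smul_sub]; exact Submodule.smul_mem _ c ha
      exact this X hX.2.2 Y hY.2.2
  obtain ⟨L, hL⟩ := words_vanish_of_weaklyClosed (fun X hX => hX.1.sq) hcl
  have hST : ∀ X ∈ S, X ∈ T := fun X hX => ⟨(hSmin X hX).rt, fun _ => hSmin X hX, Submodule.subset_span hX⟩
  refine hN.2.1 (hG S (fun X hX => ⟨_, (hSmin X hX).rt.oneAdd_mem, rfl⟩) ?_
    ⟨L, fun l hl hlen => hL l (fun a ha => hST a (hl a ha)) hlen⟩ N ⟨1, G.one_mem, conjE_one N⟩)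
  rintro g hg _ ⟨h, hh, rfl⟩
  exact ⟨g * h, G.mul_mem hg hh, (conjE_conjE g h N).symm⟩

lemma finrank_rootSpace_conj_le {A : Module.End k M} (hA : IsMin G A) {g : LinearMap.GeneralLinearGroup k M}
    (hg : g ∈ G) :
    finrank k (rootSpace G A hA.sq) ≤ finrank k (rootSpace G (conjE g A) (hA.conj hg).sq) := by
  let f : Module.End k M →ₗ[k] Module.End k M :=
    { toFun := conjE g, map_add' := conjE_add g, map_smul' := conjE_smul g }
  have hinj : Function.Injective f := fun X Y h => by
    have := congrArg (conjE g⁻¹) (show conjE g X = conjE g Y from h)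
    simpa [conjE_conjE, conjE_one] using this
  rw [(Submodule.equivMapOfInjective f hinj _).finrank_eq]
  refine Submodule.finrank_mono ?_
  rintro _ ⟨X, hX, rfl⟩
  exact rootSpace_conj hX hg

lemma finrank_rootSpace_congr {A A' : Module.End k M} {hA : A * A = 0} {hA' : A' * A' = 0}
    (hk : LinearMap.ker A = LinearMap.ker A') (hr : LinearMap.range A = LinearMap.range A') :
    finrank k (rootSpace G A hA) = finrank k (rootSpace G A' hA') := by
  have : rootSpace G A hA = rootSpace G A' hA' := by ext X; simp only [mem_rootSpace, hk, hr]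
  rw [this]

lemma finrank_rootSpace_conj {A : Module.End k M} (hA : IsMin G A) {g : LinearMap.GeneralLinearGroup k M}
    (hg : g ∈ G) :
    finrank k (rootSpace G A hA.sq) = finrank k (rootSpace G (conjE g A) (hA.conj hg).sq) := by
  refine le_antisymm (finrank_rootSpace_conj_le hA hg) ?_
  have h := finrank_rootSpace_conj_le (hA.conj hg) (G.inv_mem hg)
  have e : conjE g⁻¹ (conjE g A) = A := by rw [conjE_conjE, inv_mul_cancel, conjE_one]
  exact h.trans_eq (finrank_rootSpace_congr (by rw [e]) (by rw [e]))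

lemma rootSpace_eq_of_rootGroup_eq {A A' : Module.End k M} {hA : A * A = 0} {hA' : A' * A' = 0}
    (h : rootGroup G A hA = rootGroup G A' hA') : rootSpace G A hA = rootSpace G A' hA' := by
  ext X
  constructor <;> intro hX
  · simpa [h, mem_rootGroup] using oneAdd_mem_rootGroup hX
  · simpa [← h, mem_rootGroup] using oneAdd_mem_rootGroup hX

lemma finrank_rootSpace_opposite (h2 : (2 : k) ≠ 0) (h3 : Nat.card k ≠ 3) {A B : Module.End k M}
    (hA : IsMin G A) (hB : IsMin G B) (hn : ¬ IsNilpotent (A * B + B * A)) :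
    finrank k (rootSpace G A hA.sq) = finrank k (rootSpace G B hB.sq) := by
  have hgood := fun X hX hX0 Y hY hY0 => not_nilpotent_all h2 h3 hA hB (X := X) (Y := Y)
    (self_mem_rootSpace hA.rt) (self_mem_rootSpace hB.rt) hn hX hX0 hY hY0
  obtain ⟨b, hb, -, e⟩ := (rankOne_cond h2 h3 hA hB hgood).1 (oneAdd A hA.sq)
    (oneAdd_mem_rootGroup (self_mem_rootSpace hA.rt))
    (fun e => hA.2.1 (by simpa using congrArg Units.val e))
  rw [conjBy_rootGroup hA (G.inv_mem (rootGroup_le hB.sq hb)),
    conjBy_rootGroup hB (G.inv_mem hA.rt.oneAdd_mem)] at e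
  rw [finrank_rootSpace_conj hA (G.inv_mem (rootGroup_le hB.sq hb)), rootSpace_eq_of_rootGroup_eq e,
    ← finrank_rootSpace_conj hB (G.inv_mem hA.rt.oneAdd_mem)]

theorem finrank_rootSpace_commutator (h2 : (2 : k) ≠ 0) (h3 : Nat.card k ≠ 3) (hG : NoUnip G)
    {A B : Module.End k M} (hA : IsMin G A) (hB : IsMin G B) (hn : IsNilpotent (A * B + B * A))
    (hne : A * B ≠ B * A) {hN : (A * B - B * A) * (A * B - B * A) = 0} :
    finrank k (rootSpace G A hA.sq) = finrank k (rootSpace G (A * B - B * A) hN) := by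
  obtain ⟨hNmin, -⟩ := nilpotentPair_data h2 hA hB hn hne
  obtain ⟨Z, hZ, hZn⟩ := exists_opposite h2 hG hNmin
  have hBAB : B * A * B = 0 := classTwo h2 hB hA.rt (by rwa [add_comm])
  have hc : ∀ s : k, conjE (oneAdd (s • B) (smul_sq B hB.sq s)) A = A - s • (A * B - B * A) := by
    intro s
    rw [conjE_oneAdd]
    have : (1 + s • B) * A * (1 - s • B)
        = A - s • (A * B - B * A) - (s * s) • (B * A * B) := by
      simp only [add_mul, mul_sub, one_mul, mul_one, smul_mul_assoc, mul_smul_comm, smul_sub, smul_add, smul_smul, mul_assoc]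
      noncomm_ring
    rw [this, hBAB, smul_zero, sub_zero]
  have hmem : ∀ s : k, oneAdd (s • B) (smul_sq B hB.sq s) ∈ G := fun s => hB.rt.mem s rfl
  by_cases h : ∀ s : k, IsNilpotent (Z * conjE (oneAdd (s • B) (smul_sq B hB.sq s)) A +
      conjE (oneAdd (s • B) (smul_sq B hB.sq s)) A * Z)
  · exfalso
    have z : ∀ s : k, Z * (A - s • (A * B - B * A)) * Z = 0 := fun s => by
      rw [← hc]; exact classTwo h2 hZ (hA.conj (hmem s)).rt (h s)
    have z1 := z 1
    have z2 := z (-1)
    rw [one_smul, mul_sub, sub_mul] at z1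
    rw [neg_smul, one_smul, sub_neg_eq_add, mul_add, add_mul] at z2
    refine hZn ?_
    rw [add_comm]
    refine isNilpotent_of_mul_mul Z _ hZ.sq hNmin.sq ?_
    have : (2 : k) • (Z * (A * B - B * A) * Z) = 0 := by
      rw [two_smul]
      calc _ = (Z * A * Z + Z * (A * B - B * A) * Z) - (Z * A * Z - Z * (A * B - B * A) * Z) := by abel
        _ = 0 := by rw [z1, z2, sub_zero]
    exact (smul_eq_zero.1 this).resolve_left h2
  · push Not at h
    obtain ⟨s, hs⟩ := h
    rw [finrank_rootSpace_conj hA (hmem s), ← finrank_rootSpace_opposite h2 h3 hZ (hA.conj (hmem s)) hs,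
      finrank_rootSpace_opposite h2 h3 hZ hNmin (by rwa [add_comm])]

/-- In a nilpotent pair `[A, Y]` has the spaces of `[A, B]` for every member `Y` of the root space of `B`. -/
theorem bracket_mem_rootSpace (h2 : (2 : k) ≠ 0) (h3 : Nat.card k ≠ 3) {A B Y : Module.End k M} (hA : IsMin G A)
    (hB : IsMin G B) (hn : IsNilpotent (A * B + B * A)) (hne : A * B ≠ B * A)
    (hY : Y ∈ rootSpace G B hB.sq) {hN : (A * B - B * A) * (A * B - B * A) = 0} :
    A * Y - Y * A ∈ rootSpace G (A * B - B * A) hN := by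
  rcases eq_or_ne Y 0 with rfl | hY0
  · simp
  have mY := hB.of_mem_rootSpace hY hY0
  have hnY : IsNilpotent (A * Y + Y * A) := by
    by_contra h
    exact not_nilpotent_all h2 h3 hA hB (self_mem_rootSpace hA.rt) hY h (self_mem_rootSpace hA.rt) hA.2.1
      (self_mem_rootSpace hB.rt) hB.2.1 hn
  have hneY : A * Y ≠ Y * A := fun e =>
    hne (rootSpace_commute h2 hA hB (self_mem_rootSpace hA.rt) hA.2.1 hY hY0 e)
  obtain ⟨-, e1, e2, hd, e3⟩ := nilpotentPair_data h2 hA hB hn hne
  obtain ⟨hmin', f1, f2, -, f3⟩ := nilpotentPair_data h2 hA mY hnY hneY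
  refine ⟨hmin'.rt, fun m hm => ?_, ?_⟩
  · rw [LinearMap.mem_ker, LinearMap.sub_apply, sub_eq_zero, Module.End.mul_apply, Module.End.mul_apply] at hm
    have hz : A (B m) = 0 := (Submodule.mem_bot k).1
      (disjoint_iff.1 hd ▸ ⟨⟨B m, ⟨m, rfl⟩, rfl⟩, hm ▸ ⟨A m, ⟨m, rfl⟩, rfl⟩⟩)
    have h1 : A (Y m) = 0 := by
      have : B m ∈ (LinearMap.range A).map B := by rw [e2]; exact ⟨⟨m, rfl⟩, hz⟩
      obtain ⟨_, ⟨w, rfl⟩, hw⟩ := this
      have hker : m - A w ∈ LinearMap.ker B := by rw [LinearMap.mem_ker, map_sub, hw, sub_self]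
      have hYm := LinearMap.mem_ker.1 (hY.2.1 hker)
      rw [map_sub, sub_eq_zero] at hYm
      rw [hYm]
      exact congrArg (fun f : Module.End k M => f w) (classTwo h2 hA hY.1 hnY)
    have h2' : Y (A m) = 0 := hY.2.1 (show A m ∈ LinearMap.ker B from hm.symm.trans hz)
    rw [LinearMap.mem_ker, LinearMap.sub_apply, Module.End.mul_apply, Module.End.mul_apply, h1, h2', sub_self]
  · rw [f3, e3, f1, f2, e1, e2, hB.range_eq hY hY0, hB.ker_eq hY hY0]

/-- In a nilpotent pair `[A, ·]` maps the root space of `B` onto that of `[A, B]`. -/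
theorem bracket_surjective (h2 : (2 : k) ≠ 0) (h3 : Nat.card k ≠ 3) (hG : NoUnip G)
    {A B : Module.End k M} (hA : IsMin G A) (hB : IsMin G B) (hn : IsNilpotent (A * B + B * A))
    (hne : A * B ≠ B * A) {hN : (A * B - B * A) * (A * B - B * A) = 0} {Z : Module.End k M}
    (hZ : Z ∈ rootSpace G (A * B - B * A) hN) : ∃ Y ∈ rootSpace G B hB.sq, A * Y - Y * A = Z := by
  let f : rootSpace G B hB.sq →ₗ[k] rootSpace G (A * B - B * A) hN :=
    { toFun := fun Y => ⟨A * (Y : Module.End k M) - (Y : Module.End k M) * A,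
        bracket_mem_rootSpace h2 h3 hA hB hn hne Y.2⟩
      map_add' := fun Y Y' => by ext1; simp only [Submodule.coe_add, mul_add, add_mul]; abel
      map_smul' := fun c Y => by ext1; simp [smul_sub] }
  have hinj : Function.Injective f := by
    rw [← LinearMap.ker_eq_bot, Submodule.eq_bot_iff]
    rintro ⟨Y, hY⟩ h
    by_contra hY0
    have hY0' : Y ≠ 0 := fun e => hY0 (Subtype.ext e)
    exact hne (rootSpace_commute h2 hA hB (self_mem_rootSpace hA.rt) hA.2.1 hY hY0'
      (sub_eq_zero.1 (congrArg Subtype.val (LinearMap.mem_ker.1 h))))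
  have hn' : IsNilpotent (B * A + A * B) := by rwa [add_comm]
  have hN' : (B * A - A * B) * (B * A - A * B) = 0 := by rw [← neg_sub, neg_mul_neg, hN]
  have hd : finrank k (rootSpace G B hB.sq) = finrank k (rootSpace G (A * B - B * A) hN) := by
    rw [finrank_rootSpace_commutator h2 h3 hG hB hA hn' hne.symm (hN := hN')]
    refine finrank_rootSpace_congr ?_ ?_
    · rw [← neg_sub (A * B), LinearMap.ker_neg]
    · rw [← neg_sub (A * B), LinearMap.range_neg]
  obtain ⟨Y, hY⟩ := (LinearMap.injective_iff_surjective_of_finrank_eq_finrank hd).1 hinj ⟨Z, hZ⟩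
  exact ⟨Y, Y.2, congrArg Subtype.val hY⟩

end Cfsg.Agent.H88
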