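/-
Two root groups in a nilpotent pair: they commute or their commutator is a root group.
-/
import Cfsg.Agent.H88.QOpposite
set_option autoImplicit false
set_option maxHeartbeats 1000000

namespace Cfsg.Agent.H88

open Module
open scoped commutatorElement

universe u v

variable {k : Type u} [Field k] {M : Type v} [AddCommGroup M] [Module k M] [FiniteDimensional k M]
  {G : Subgroup (LinearMap.GeneralLinearGroup k M)}

lemma sub_one_ne_zero {g : LinearMap.GeneralLinearGroup k M} (h : g ≠ 1) : (g : Module.End k M) - 1 ≠ 0 :=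
  fun e => h (Units.ext (by simpa [sub_eq_zero] using e))

lemma commutator_val {g h : LinearMap.GeneralLinearGroup k M} {X Y : Module.End k M}
    (hg : (g : Module.End k M) = 1 + X) (hh : (h : Module.End k M) = 1 + Y) (hX : X * X = 0) (hY : Y * Y = 0)
    (h₁ : X * Y * X = 0) (h₂ : Y * X * Y = 0) :
    ((g * h * g⁻¹ * h⁻¹ : LinearMap.GeneralLinearGroup k M) : Module.End k M) = 1 + (X * Y - Y * X) := by
  have eg : g = oneAdd X hX := Units.ext hg
  have eh : h = oneAdd Y hY := Units.ext hh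
  subst eg eh
  simp only [Units.val_mul, oneAdd_val, oneAdd_inv_val]
  have hx : ∀ a : Module.End k M, (1 + a) * (1 + Y) * (1 - a) * (1 - Y)
      = 1 + (a * Y - Y * a) - Y * Y - a * a - a * (Y * Y) + (a * a) * Y - a * Y * a
        + Y * a * Y + (a * Y * a) * Y := fun a => by noncomm_ring
  rw [hx, h₁, h₂, hX, hY]
  simp

lemma nilpotent_all (h2 : (2 : k) ≠ 0) (h3 : Nat.card k ≠ 3) {A B : Module.End k M} (hA : IsMin G A)
    (hB : IsMin G B) (hn : IsNilpotent (A * B + B * A)) {X Y : Module.End k M}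
    (hX : X ∈ rootSpace G A hA.sq) (hY : Y ∈ rootSpace G B hB.sq) : IsNilpotent (X * Y + Y * X) := by
  by_contra h
  exact not_nilpotent_all h2 h3 hA hB hX hY h (self_mem_rootSpace hA.rt) hA.2.1 (self_mem_rootSpace hB.rt) hB.2.1 hn

lemma classTwo_all (h2 : (2 : k) ≠ 0) (h3 : Nat.card k ≠ 3) {A B : Module.End k M} (hA : IsMin G A)
    (hB : IsMin G B) (hn : IsNilpotent (A * B + B * A)) {X Y : Module.End k M}
    (hX : X ∈ rootSpace G A hA.sq) (hY : Y ∈ rootSpace G B hB.sq) : X * Y * X = 0 := by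
  rcases eq_or_ne X 0 with rfl | hX0
  · simp
  exact classTwo h2 (hA.of_mem_rootSpace hX hX0) hY.1 (nilpotent_all h2 h3 hA hB hn hX hY)

lemma rootSpace_eq_of_mem {A X : Module.End k M} (hA : IsMin G A) (hX : X ∈ rootSpace G A hA.sq) (hX0 : X ≠ 0)
    {hX' : X * X = 0} : rootSpace G X hX' = rootSpace G A hA.sq := by
  ext Z; simp only [mem_rootSpace, hA.ker_eq hX hX0, hA.range_eq hX hX0]

lemma bracket_ne_zero (h2 : (2 : k) ≠ 0) {A B : Module.End k M} (hA : IsMin G A) (hB : IsMin G B)
    (hne : A * B ≠ B * A) {X Y : Module.End k M} (hX : X ∈ rootSpace G A hA.sq) (hX0 : X ≠ 0)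
    (hY : Y ∈ rootSpace G B hB.sq) (hY0 : Y ≠ 0) : X * Y ≠ Y * X :=
  fun e => hne (rootSpace_commute h2 hA hB hX hX0 hY hY0 e)

/-- The root space of `[X, Y]` does not depend on the members `X`, `Y`. -/
theorem rootSpace_bracket_eq (h2 : (2 : k) ≠ 0) (h3 : Nat.card k ≠ 3) {A B : Module.End k M} (hA : IsMin G A)
    (hB : IsMin G B) (hn : IsNilpotent (A * B + B * A)) (hne : A * B ≠ B * A) {X Y : Module.End k M}
    (hX : X ∈ rootSpace G A hA.sq) (hX0 : X ≠ 0) (hY : Y ∈ rootSpace G B hB.sq) (hY0 : Y ≠ 0)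
    {hN : (A * B - B * A) * (A * B - B * A) = 0} {hN' : (X * Y - Y * X) * (X * Y - Y * X) = 0} :
    rootSpace G (X * Y - Y * X) hN' = rootSpace G (A * B - B * A) hN := by
  have mY := hB.of_mem_rootSpace hY hY0
  have hN1 := (nilpotentPair_data h2 hA hB hn hne).1
  have hnY : IsNilpotent (A * Y + Y * A) := nilpotent_all h2 h3 hA hB hn (self_mem_rootSpace hA.rt) hY
  have hneY := bracket_ne_zero h2 hA hB hne (self_mem_rootSpace hA.rt) hA.2.1 hY hY0
  have hb1 := bracket_mem_rootSpace h2 h3 hA hB hn hne hY (hN := hN1.sq)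
  have e1 : rootSpace G (A * Y - Y * A) hb1.1.sq = rootSpace G (A * B - B * A) hN1.sq :=
    rootSpace_eq_of_mem hN1 hb1 (sub_ne_zero.2 hneY)
  have hN2 := (nilpotentPair_data h2 hA mY hnY hneY).1
  have hnY' : IsNilpotent (Y * A + A * Y) := by rwa [add_comm]
  have hN3 : IsMin G (Y * A - A * Y) := (nilpotentPair_data h2 mY hA hnY' hneY.symm).1
  have hb2 := bracket_mem_rootSpace h2 h3 mY hA hnY' hneY.symm hX (hN := hN3.sq)
  have hb2' : X * Y - Y * X ∈ rootSpace G (A * Y - Y * A) hN2.sq := by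
    have h' := Submodule.neg_mem _ hb2
    rw [neg_sub] at h'
    have e : rootSpace G (Y * A - A * Y) hN3.sq = rootSpace G (A * Y - Y * A) hN2.sq := by
      ext Z; simp only [mem_rootSpace]; rw [← neg_sub (A * Y), LinearMap.ker_neg, LinearMap.range_neg]
    rwa [e] at h'
  rw [rootSpace_eq_of_mem hN2 hb2' (sub_ne_zero.2 (bracket_ne_zero h2 hA hB hne hX hX0 hY hY0)) (hX' := hN')]
  exact e1

theorem bracket_mem (h2 : (2 : k) ≠ 0) (h3 : Nat.card k ≠ 3) {A B : Module.End k M} (hA : IsMin G A)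
    (hB : IsMin G B) (hn : IsNilpotent (A * B + B * A)) (hne : A * B ≠ B * A) {X Y : Module.End k M}
    (hX : X ∈ rootSpace G A hA.sq) (hY : Y ∈ rootSpace G B hB.sq)
    {hN : (A * B - B * A) * (A * B - B * A) = 0} : X * Y - Y * X ∈ rootSpace G (A * B - B * A) hN := by
  rcases eq_or_ne X 0 with rfl | hX0
  · simp
  rcases eq_or_ne Y 0 with rfl | hY0
  · simp
  have hN' := (nilpotentPair_data h2 (hA.of_mem_rootSpace hX hX0) (hB.of_mem_rootSpace hY hY0)
    (nilpotent_all h2 h3 hA hB hn hX hY) (bracket_ne_zero h2 hA hB hne hX hX0 hY hY0)).1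
  rw [← rootSpace_bracket_eq h2 h3 hA hB hn hne hX hX0 hY hY0 (hN' := hN'.sq)]
  exact self_mem_rootSpace hN'.rt

lemma closure_commutators_eq (h2 : (2 : k) ≠ 0) (h3 : Nat.card k ≠ 3) (hG : NoUnip G)
    {A B : Module.End k M} (hA : IsMin G A) (hB : IsMin G B) (hn : IsNilpotent (A * B + B * A))
    (hne : A * B ≠ B * A) {hN : (A * B - B * A) * (A * B - B * A) = 0}
    {e : LinearMap.GeneralLinearGroup k M} (he : e ∈ rootGroup G A hA.sq) (he1 : e ≠ 1) :
    Subgroup.closure ((fun f : LinearMap.GeneralLinearGroup k M => e * f * e⁻¹ * f⁻¹) ''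
      (rootGroup G B hB.sq : Set (LinearMap.GeneralLinearGroup k M))) = rootGroup G (A * B - B * A) hN := by
  have hX := mem_rootGroup.1 he
  have hX0 := sub_one_ne_zero he1
  set X := (e : Module.End k M) - 1 with hXdef
  have he' : (e : Module.End k M) = 1 + X := by rw [hXdef]; abel
  refine le_antisymm ((Subgroup.closure_le _).2 ?_) ?_
  · rintro _ ⟨f, hf, rfl⟩
    have hY := mem_rootGroup.1 hf
    show e * f * e⁻¹ * f⁻¹ ∈ rootGroup G _ hN
    rw [mem_rootGroup, commutator_val he' (show (f : Module.End k M) = 1 + ((f : Module.End k M) - 1) by abel)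
      hX.1.sq hY.1.sq (classTwo_all h2 h3 hA hB hn hX hY)
      (classTwo_all h2 h3 hB hA (by rwa [add_comm]) hY hX), add_sub_cancel_left]
    exact bracket_mem h2 h3 hA hB hn hne hX hY
  · intro z hz
    have hXB := bracket_ne_zero h2 hA hB hne hX hX0 (self_mem_rootSpace hB.rt) hB.2.1
    have mX := hA.of_mem_rootSpace hX hX0
    have hnX := nilpotent_all h2 h3 hA hB hn hX (self_mem_rootSpace hB.rt)
    have hN' := (nilpotentPair_data h2 mX hB hnX hXB).1
    have hz' := mem_rootGroup.1 hz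
    rw [← rootSpace_bracket_eq h2 h3 hA hB hn hne hX hX0 (self_mem_rootSpace hB.rt) hB.2.1 (hN' := hN'.sq)] at hz'
    obtain ⟨Y, hY, hYZ⟩ := bracket_surjective h2 h3 hG mX hB hnX hXB hz'
    refine Subgroup.subset_closure ⟨oneAdd Y hY.1.sq, oneAdd_mem_rootGroup hY, Units.ext ?_⟩
    rw [commutator_val he' (oneAdd_val Y hY.1.sq) hX.1.sq hY.1.sq (classTwo_all h2 h3 hA hB hn hX hY)
      (classTwo_all h2 h3 hB hA (by rwa [add_comm]) hY hX), hYZ]
    abel

/-- A member of the root space of `A` against the spaces of `A B - B A`. -/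
theorem member_facts (h2 : (2 : k) ≠ 0) (h3 : Nat.card k ≠ 3) {A B : Module.End k M} (hA : IsMin G A)
    (hB : IsMin G B) (hn : IsNilpotent (A * B + B * A)) (hne : A * B ≠ B * A) {X : Module.End k M}
    (hX : X ∈ rootSpace G A hA.sq) :
    X * (A * B - B * A) = 0 ∧ LinearMap.range X ≤ LinearMap.ker (A * B - B * A) ∧
      ∀ m ∈ LinearMap.ker (A * B - B * A), X m ∈ LinearMap.range (A * B - B * A) := by
  rcases eq_or_ne X 0 with rfl | hX0
  · simp
  have mX := hA.of_mem_rootSpace hX hX0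
  have hXB := bracket_ne_zero h2 hA hB hne hX hX0 (self_mem_rootSpace hB.rt) hB.2.1
  have hnX := nilpotent_all h2 h3 hA hB hn hX (self_mem_rootSpace hB.rt)
  have hN := (nilpotentPair_data h2 hA hB hn hne).1
  have hmem := bracket_mem h2 h3 hA hB hn hne hX (self_mem_rootSpace hB.rt) (hN := hN.sq)
  have hk := hN.ker_eq hmem (sub_ne_zero.2 hXB)
  have hr := hN.range_eq hmem (sub_ne_zero.2 hXB)
  obtain ⟨-, e1, e2, hd, e3⟩ := nilpotentPair_data h2 mX hB hnX hXB
  have hXBX := classTwo h2 mX hB.rt hnX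
  rw [← hk, ← hr]
  refine ⟨apply_eq_zero_of_range_le_ker ?_, ?_, ?_⟩
  · rw [← hr, e3, sup_le_iff, e1, e2]
    exact ⟨inf_le_left.trans (range_le_ker mX.sq), inf_le_right⟩
  · rintro _ ⟨m, rfl⟩
    rw [LinearMap.mem_ker, LinearMap.sub_apply, Module.End.mul_apply, Module.End.mul_apply,
      ← Module.End.mul_apply X X, mX.sq, LinearMap.zero_apply, map_zero, sub_zero]
    exact congrArg (fun f : Module.End k M => f m) hXBX
  · intro m hm
    rw [LinearMap.mem_ker, LinearMap.sub_apply, sub_eq_zero, Module.End.mul_apply, Module.End.mul_apply] at hm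
    have hz : X (B m) = 0 := (Submodule.mem_bot k).1
      (disjoint_iff.1 hd ▸ ⟨⟨B m, ⟨m, rfl⟩, rfl⟩, hm ▸ ⟨X m, ⟨m, rfl⟩, rfl⟩⟩)
    rw [e3]
    refine Submodule.mem_sup_left ?_
    rw [e1]
    exact ⟨⟨m, rfl⟩, hm.symm.trans hz⟩

/-- The join of the two root groups is of class two and lies in the core of the commutator root group. -/
theorem derived_facts (h2 : (2 : k) ≠ 0) (h3 : Nat.card k ≠ 3) {A B : Module.End k M} (hA : IsMin G A)
    (hB : IsMin G B) (hn : IsNilpotent (A * B + B * A)) (hne : A * B ≠ B * A) {hN : (A * B - B * A) * (A * B - B * A) = 0}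
    (hEF : ⁅rootGroup G A hA.sq, rootGroup G B hB.sq⁆ = rootGroup G (A * B - B * A) hN) :
    let X := rootGroup G A hA.sq ⊔ rootGroup G B hB.sq
    (⁅X, X⁆ ≠ ⊥) ∧ ⁅⁅X, X⁆, X⁆ = ⊥ ∧
      (X : Set (LinearMap.GeneralLinearGroup k M)) ⊆ Cfsg.quadraticUnipotentCore G (rootGroup G (A * B - B * A) hN) := by
  intro X
  set N := A * B - B * A with hNdef
  set Z := rootGroup G N hN with hZdef
  have hNmin : IsMin G N := (nilpotentPair_data h2 hA hB hn hne).1
  have hn' : IsNilpotent (B * A + A * B) := by rwa [add_comm]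
  have fA := fun {Y} (hY : Y ∈ rootSpace G A hA.sq) => member_facts h2 h3 hA hB hn hne hY
  have fB : ∀ {Y}, Y ∈ rootSpace G B hB.sq →
      Y * N = 0 ∧ LinearMap.range Y ≤ LinearMap.ker N ∧ ∀ m ∈ LinearMap.ker N, Y m ∈ LinearMap.range N := by
    intro Y hY
    have h := member_facts h2 h3 hB hA hn' hne.symm hY
    rwa [← neg_sub (A * B), LinearMap.ker_neg, LinearMap.range_neg, mul_neg, neg_eq_zero] at h
  let J : Submodule k (Module.End k M) :=
    { carrier := {T | T * N = 0 ∧ LinearMap.range T ≤ LinearMap.ker N ∧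
        ∀ m ∈ LinearMap.ker N, T m ∈ LinearMap.range N}
      zero_mem' := ⟨zero_mul _, by simp, by simp⟩
      add_mem' := fun {a b} ha hb => ⟨by rw [add_mul, ha.1, hb.1, add_zero],
        by rintro _ ⟨m, rfl⟩; exact Submodule.add_mem _ (ha.2.1 ⟨m, rfl⟩) (hb.2.1 ⟨m, rfl⟩),
        fun m hm => Submodule.add_mem _ (ha.2.2 m hm) (hb.2.2 m hm)⟩
      smul_mem' := fun c a ha => ⟨by rw [smul_mul_assoc, ha.1, smul_zero],
        by rintro _ ⟨m, rfl⟩; exact Submodule.smul_mem _ c (ha.2.1 ⟨m, rfl⟩),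
        fun m hm => Submodule.smul_mem _ c (ha.2.2 m hm)⟩ }
  have hJmul : ∀ a ∈ J, ∀ b ∈ J, a * b ∈ J := by
    intro a ha b hb
    refine ⟨by rw [mul_assoc, hb.1, mul_zero], (range_mul_le _ _).trans ha.2.1, fun m hm => ?_⟩
    obtain ⟨y, hy⟩ := hb.2.2 m hm
    rw [Module.End.mul_apply, ← hy, ← Module.End.mul_apply, ha.1]
    exact Submodule.zero_mem _
  have hgen : ∀ x ∈ X, (x : Module.End k M) - 1 ∈ J := by
    intro x hx
    simp only [X, rootGroup_sup_eq_closure] at hx
    induction hx using Subgroup.closure_induction_left with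
    | one => simp
    | mul_left g hg y _ ih =>
      have hgJ : (g : Module.End k M) - 1 ∈ J := by
        rcases hg with hg | hg
        · exact fA (mem_rootGroup.1 hg)
        · exact fB (mem_rootGroup.1 hg)
      rw [Units.val_mul, show (g : Module.End k M) * (y : Module.End k M) - 1
        = ((g : Module.End k M) - 1) * ((y : Module.End k M) - 1) + ((g : Module.End k M) - 1)
          + ((y : Module.End k M) - 1) by noncomm_ring]
      exact J.add_mem (J.add_mem (hJmul _ hgJ _ ih) hgJ) ih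
    | inv_mul_cancel g hg y _ ih =>
      have hgJ : ((g⁻¹ : LinearMap.GeneralLinearGroup k M) : Module.End k M) - 1 ∈ J := by
        rcases hg with hg | hg
        · exact fA (mem_rootGroup.1 ((rootGroup G A hA.sq).inv_mem hg))
        · exact fB (mem_rootGroup.1 ((rootGroup G B hB.sq).inv_mem hg))
      rw [Units.val_mul, show ((g⁻¹ : LinearMap.GeneralLinearGroup k M) : Module.End k M) * (y : Module.End k M) - 1
        = (((g⁻¹ : LinearMap.GeneralLinearGroup k M) : Module.End k M) - 1) * ((y : Module.End k M) - 1)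
          + (((g⁻¹ : LinearMap.GeneralLinearGroup k M) : Module.End k M) - 1)
          + ((y : Module.End k M) - 1) by noncomm_ring]
      exact J.add_mem (J.add_mem (hJmul _ hgJ _ ih) hgJ) ih
  have hcent : ∀ x ∈ X, ∀ z ∈ Z, z * x = x * z := by
    intro x hx z hz
    obtain ⟨j1, j2, -⟩ := hgen x hx
    have hz' := mem_rootGroup.1 hz
    have a1 : ((x : Module.End k M) - 1) * ((z : Module.End k M) - 1) = 0 := by
      refine apply_eq_zero_of_range_le_ker (hz'.2.2.trans ?_)
      rintro _ ⟨m, rfl⟩; exact congrArg (fun f : Module.End k M => f m) j1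
    have a2 : ((z : Module.End k M) - 1) * ((x : Module.End k M) - 1) = 0 :=
      apply_eq_zero_of_range_le_ker (j2.trans hz'.2.1)
    refine Units.ext ?_
    rw [Units.val_mul, Units.val_mul]
    linear_combination (norm := noncomm_ring) a2 - a1
  have hder : ⁅X, X⁆ ≤ Z := by
    have hgens : ∀ g ∈ (rootGroup G A hA.sq : Set (LinearMap.GeneralLinearGroup k M)) ∪ rootGroup G B hB.sq,
        ∀ h ∈ (rootGroup G A hA.sq : Set (LinearMap.GeneralLinearGroup k M)) ∪ rootGroup G B hB.sq, ⁅g, h⁆ ∈ Z := by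
      rintro g (hg | hg) h (hh | hh)
      · rw [commutatorElement_eq_one_iff_mul_comm.2 (rootGroup_commute hg hh)]; exact Z.one_mem
      · exact hEF ▸ Subgroup.commutator_mem_commutator hg hh
      · rw [← commutatorElement_inv]; exact Z.inv_mem (hEF ▸ Subgroup.commutator_mem_commutator hh hg)
      · rw [commutatorElement_eq_one_iff_mul_comm.2 (rootGroup_commute hg hh)]; exact Z.one_mem
    rw [Subgroup.commutator_le]
    have key : ∀ g ∈ X, (∀ h ∈ (rootGroup G A hA.sq : Set (LinearMap.GeneralLinearGroup k M)) ∪ rootGroup G B hB.sq,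
        ⁅g, h⁆ ∈ Z) := by
      intro g hg h hh
      have hhX : h ∈ X := by simp only [X, rootGroup_sup_eq_closure]; exact Subgroup.subset_closure hh
      simp only [X, rootGroup_sup_eq_closure] at hg
      induction hg using Subgroup.closure_induction with
      | mem g hg => exact hgens g hg h hh
      | one => simp
      | mul a b ha hb iha ihb =>
        rw [show ⁅a * b, h⁆ = a * ⁅b, h⁆ * a⁻¹ * ⁅a, h⁆ by simp only [commutatorElement_def]; group]
        have haX : a ∈ X := by simp only [X, rootGroup_sup_eq_closure]; exact ha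
        rw [← hcent a haX _ ihb]
        simpa using Z.mul_mem ihb iha
      | inv a ha iha =>
        have haX : a ∈ X := by simp only [X, rootGroup_sup_eq_closure]; exact ha
        rw [show ⁅a⁻¹, h⁆ = a⁻¹ * ⁅a, h⁆⁻¹ * a by simp only [commutatorElement_def]; group,
          ← hcent _ (X.inv_mem haX) _ (Z.inv_mem iha)]
        simpa using Z.inv_mem iha
    intro g hg h hh
    simp only [X, rootGroup_sup_eq_closure] at hh
    induction hh using Subgroup.closure_induction with
    | mem h hh => exact key g hg h hh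
    | one => simp
    | mul a b ha hb iha ihb =>
      rw [show ⁅g, a * b⁆ = ⁅g, a⁆ * (a * ⁅g, b⁆ * a⁻¹) by simp only [commutatorElement_def]; group]
      have haX : a ∈ X := by simp only [X, rootGroup_sup_eq_closure]; exact ha
      rw [← hcent a haX _ ihb]
      simpa using Z.mul_mem iha ihb
    | inv a ha iha =>
      have haX : a ∈ X := by simp only [X, rootGroup_sup_eq_closure]; exact ha
      rw [show ⁅g, a⁻¹⁆ = a⁻¹ * ⁅g, a⁆⁻¹ * a by simp only [commutatorElement_def]; group,
        ← hcent _ (X.inv_mem haX) _ (Z.inv_mem iha)]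
      simpa using Z.inv_mem iha
  refine ⟨?_, ?_, fun g hg => ?_⟩
  · intro hbot
    have h1 := Subgroup.commutator_mem_commutator
      (Subgroup.mem_sup_left (T := rootGroup G B hB.sq) (oneAdd_mem_rootGroup (self_mem_rootSpace hA.rt)))
      (Subgroup.mem_sup_right (S := rootGroup G A hA.sq) (oneAdd_mem_rootGroup (self_mem_rootSpace hB.rt)))
    rw [hbot, Subgroup.mem_bot, commutatorElement_def] at h1
    have h := commutator_val (oneAdd_val A hA.sq) (oneAdd_val B hB.sq) hA.sq hB.sq
      (classTwo h2 hA hB.rt hn) (classTwo h2 hB hA.rt hn')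
    rw [h1, Units.val_one, left_eq_add, sub_eq_zero] at h
    exact hne h
  · refine le_bot_iff.1 (Subgroup.commutator_le.2 fun z hz x hx => ?_)
    rw [Subgroup.mem_bot, commutatorElement_eq_one_iff_mul_comm]
    exact hcent x hx z (hder hz)
  · have hgG : g ∈ G := (sup_le (rootGroup_le hA.sq) (rootGroup_le hB.sq) : X ≤ G) hg
    obtain ⟨j1, j2, j3⟩ := hgen g hg
    have hfixed : Cfsg.fixedSubmodule Z = LinearMap.ker N := by
      refine le_antisymm (fun m hm => ?_) (le_iInf₂ fun z hz => (mem_rootGroup.1 hz).2.1)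
      simp only [Cfsg.fixedSubmodule, Submodule.mem_iInf] at hm
      simpa using hm (oneAdd N hN) (oneAdd_mem_rootGroup (self_mem_rootSpace hNmin.rt))
    have hcomm : Cfsg.commutatorSubmodule Z = LinearMap.range N := by
      refine le_antisymm (iSup₂_le fun z hz => (mem_rootGroup.1 hz).2.2) ?_
      rintro _ ⟨m, rfl⟩
      exact Submodule.mem_iSup_of_mem (oneAdd N hN)
        (Submodule.mem_iSup_of_mem (oneAdd_mem_rootGroup (self_mem_rootSpace hNmin.rt)) ⟨m, by simp⟩)
    refine ⟨hgG, ?_, ?_, ?_, ?_⟩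
    · rw [Subgroup.mem_normalizer_iff]
      intro z
      constructor
      · intro hz
        rw [← hcent g hg z hz, mul_inv_cancel_right]; exact hz
      · intro hz
        have e := hcent g hg _ hz
        rw [show z = g * z * g⁻¹ by
          calc z = g⁻¹ * (g * z * g⁻¹ * g) := by group
            _ = g⁻¹ * (g * (g * z * g⁻¹)) := by rw [e]
            _ = g * z * g⁻¹ := by group]
        exact hz
    · intro m
      rw [hfixed]
      exact j2 ⟨m, by simp⟩
    · intro m hm
      rw [hfixed] at hm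
      rw [hcomm]
      simpa using j3 m hm
    · intro m hm
      rw [hcomm] at hm
      obtain ⟨y, rfl⟩ := hm
      have := congrArg (fun f : Module.End k M => f y) j1
      simpa [sub_eq_zero] using this

/-- The full statement for a non-commuting nilpotent pair. -/
theorem classTwo_pair (h2 : (2 : k) ≠ 0) (h3 : Nat.card k ≠ 3) (hG : NoUnip G)
    {A B : Module.End k M} (hA : IsMin G A) (hB : IsMin G B) (hn : IsNilpotent (A * B + B * A))
    (hne : A * B ≠ B * A) :
    let E := rootGroup G A hA.sq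
    let F := rootGroup G B hB.sq
    ⁅E, F⁆ ∈ Cfsg.quadraticRootSubgroups G ∧
    (∀ e ∈ E, e ≠ 1 → Subgroup.closure ((fun f : LinearMap.GeneralLinearGroup k M => e * f * e⁻¹ * f⁻¹) '' (F : Set (LinearMap.GeneralLinearGroup k M))) = ⁅E, F⁆) ∧
    (∀ f ∈ F, f ≠ 1 → Subgroup.closure ((fun e : LinearMap.GeneralLinearGroup k M => e * f * e⁻¹ * f⁻¹) '' (E : Set (LinearMap.GeneralLinearGroup k M))) = ⁅E, F⁆) ∧
    ⁅E ⊔ F, E ⊔ F⁆ ≠ ⊥ ∧ ⁅⁅E ⊔ F, E ⊔ F⁆, E ⊔ F⁆ = ⊥ ∧
    ((E ⊔ F : Subgroup (LinearMap.GeneralLinearGroup k M)) : Set (LinearMap.GeneralLinearGroup k M)) ⊆ Cfsg.quadraticUnipotentCore G ⁅E, F⁆ := by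
  intro E F
  obtain ⟨hN, e1, e2, hd, e3⟩ := nilpotentPair_data h2 hA hB hn hne
  set Z := rootGroup G (A * B - B * A) hN.sq with hZdef
  have hn' : IsNilpotent (B * A + A * B) := by rwa [add_comm]
  have hZ' : rootGroup G (B * A - A * B) (nilpotentPair_data h2 hB hA hn' hne.symm).1.sq = Z := by
    refine rootGroup_congr ?_ ?_
    · rw [← neg_sub (A * B), LinearMap.ker_neg]
    · rw [← neg_sub (A * B), LinearMap.range_neg]
  have hcA : ∀ e ∈ E, e ≠ 1 →
      Subgroup.closure ((fun f => e * f * e⁻¹ * f⁻¹) '' (F : Set (LinearMap.GeneralLinearGroup k M))) = Z :=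
    fun e he he1 => closure_commutators_eq h2 h3 hG hA hB hn hne he he1
  have hcB : ∀ f ∈ F, f ≠ 1 →
      Subgroup.closure ((fun e => e * f * e⁻¹ * f⁻¹) '' (E : Set (LinearMap.GeneralLinearGroup k M))) = Z := by
    intro f hf hf1
    rw [← hZ', ← closure_commutators_eq h2 h3 hG hB hA hn' hne.symm hf hf1
      (hN := (nilpotentPair_data h2 hB hA hn' hne.symm).1.sq)]
    rw [← Subgroup.closure_inv ((fun e => f * e * f⁻¹ * e⁻¹) '' (E : Set (LinearMap.GeneralLinearGroup k M)))]
    congr 1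
    ext x
    simp only [Set.mem_inv, Set.mem_image]
    constructor
    · rintro ⟨e, he, rfl⟩; exact ⟨e, he, by group⟩
    · rintro ⟨e, he, h⟩; exact ⟨e, he, by rw [← inv_inv x, ← h]; group⟩
  have heA : oneAdd A hA.sq ∈ E := oneAdd_mem_rootGroup (self_mem_rootSpace hA.rt)
  have hEF : ⁅E, F⁆ = Z := by
    refine le_antisymm (Subgroup.commutator_le.2 fun e he f hf => ?_) ?_
    · by_cases he1 : e = 1
      · subst he1; simp
      · rw [← hcA e he he1, commutatorElement_def]
        exact Subgroup.subset_closure ⟨f, hf, rfl⟩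
    · rw [← hcA _ heA (fun h => hA.2.1 (by simpa using congrArg Units.val h))]
      refine (Subgroup.closure_le _).2 ?_
      rintro _ ⟨f, hf, rfl⟩
      exact Subgroup.commutator_mem_commutator heA hf
  have hZmem : Z ∈ Cfsg.quadraticRootSubgroups G := mem_quadraticRootSubgroups_iff.2 ⟨_, hN, rfl⟩
  rw [hEF]
  refine ⟨hZmem, hcA, hcB, ?_⟩
  exact derived_facts h2 h3 hA hB hn hne hEF

end Cfsg.Agent.H88
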