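/-
How the hypotheses on a pair of root groups give a nilpotent pair.
-/
import Cfsg.Agent.H88.QClassTwo
set_option autoImplicit false
set_option maxHeartbeats 1000000

namespace Cfsg.Agent.H88

open Module Matrix
open scoped commutatorElement

universe u v

variable {k : Type u} [Field k] {M : Type v} [AddCommGroup M] [Module k M] [FiniteDimensional k M]
  {G : Subgroup (LinearMap.GeneralLinearGroup k M)}

lemma commutator_eq_bot (h2 : (2 : k) ≠ 0) {A B : Module.End k M} (hA : IsMin G A) (hB : IsMin G B)
    (hc : A * B = B * A) : ⁅rootGroup G A hA.sq, rootGroup G B hB.sq⁆ = ⊥ := by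
  refine le_bot_iff.1 (Subgroup.commutator_le.2 fun g hg h hh => ?_)
  rw [Subgroup.mem_bot, commutatorElement_eq_one_iff_mul_comm]
  have hX := mem_rootGroup.1 hg
  have hY := mem_rootGroup.1 hh
  have key : ((g : Module.End k M) - 1) * ((h : Module.End k M) - 1) = ((h : Module.End k M) - 1) * ((g : Module.End k M) - 1) := by
    set X := (g : Module.End k M) - 1
    set Y := (h : Module.End k M) - 1
    rcases eq_or_ne X 0 with hX0 | hX0
    · simp [hX0]
    rcases eq_or_ne Y 0 with hY0 | hY0
    · simp [hY0]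
    have mX := hA.of_mem_rootSpace hX hX0
    have mY := hB.of_mem_rootSpace hY hY0
    refine rootSpace_commute h2 mX mY ?_ hA.2.1 ?_ hB.2.1 hc
    · rw [rootSpace_eq_of_mem hA hX hX0]; exact self_mem_rootSpace hA.rt
    · rw [rootSpace_eq_of_mem hB hY hY0]; exact self_mem_rootSpace hB.rt
  refine Units.ext ?_
  rw [Units.val_mul, Units.val_mul]
  linear_combination (norm := noncomm_ring) key

lemma not_commute_of_derived (h2 : (2 : k) ≠ 0) {A B : Module.End k M} (hA : IsMin G A) (hB : IsMin G B)
    (hd : ⁅rootGroup G A hA.sq ⊔ rootGroup G B hB.sq, rootGroup G A hA.sq ⊔ rootGroup G B hB.sq⁆ ≠ ⊥) :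
    A * B ≠ B * A := by
  intro hc
  apply hd
  have hEF := commutator_eq_bot h2 hA hB hc
  refine Subgroup.commutator_eq_bot_iff_le_centralizer.2 ?_
  have hFE : rootGroup G A hA.sq ≤ Subgroup.centralizer (rootGroup G B hB.sq : Set (LinearMap.GeneralLinearGroup k M)) :=
    Subgroup.commutator_eq_bot_iff_le_centralizer.1 hEF
  refine sup_le ?_ ?_ <;> rw [Subgroup.le_centralizer_iff] <;> refine sup_le ?_ ?_
  · exact fun g hg h hh => rootGroup_commute hh hg
  · exact Subgroup.le_centralizer_iff.1 hFE
  · exact hFE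
  · exact fun g hg h hh => rootGroup_commute hh hg

lemma nilpotent_of_classTwo (h2 : (2 : k) ≠ 0) (h3 : Nat.card k ≠ 3) {A B : Module.End k M} (hA : IsMin G A)
    (hB : IsMin G B)
    (hc : ⁅⁅rootGroup G A hA.sq ⊔ rootGroup G B hB.sq, rootGroup G A hA.sq ⊔ rootGroup G B hB.sq⁆,
      rootGroup G A hA.sq ⊔ rootGroup G B hB.sq⁆ = ⊥) : IsNilpotent (A * B + B * A) := by
  by_contra hn
  obtain ⟨c⟩ := exists_coords hA.sq hB.sq hn
  obtain ⟨-, eA, eB⟩ := pair_structure h2 h3 hA hB c
  have hu : c.ψ (uu 1) = oneAdd A hA.sq := Units.ext (by rw [c.ψ_uu, ← Coords.P, eA, oneAdd_val])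
  have hv : c.ψ (vv (AdjoinRoot.root c.g)) = oneAdd B hB.sq := by
    refine Units.ext ?_
    rw [← one_mul (AdjoinRoot.root c.g), c.ψ_vv, ← Coords.P, eB, oneAdd_val]
  have ha : oneAdd A hA.sq ∈ rootGroup G A hA.sq ⊔ rootGroup G B hB.sq :=
    Subgroup.mem_sup_left (oneAdd_mem_rootGroup (self_mem_rootSpace hA.rt))
  have hb : oneAdd B hB.sq ∈ rootGroup G A hA.sq ⊔ rootGroup G B hB.sq :=
    Subgroup.mem_sup_right (oneAdd_mem_rootGroup (self_mem_rootSpace hB.rt))
  have h := Subgroup.commutator_mem_commutator (Subgroup.commutator_mem_commutator ha hb) ha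
  rw [hc, Subgroup.mem_bot, ← hu, ← hv, ← map_commutatorElement, ← map_commutatorElement, ← map_one c.ψ] at h
  have h' := c.ψ_injective h
  rw [commutatorElement_eq_one_iff_mul_comm] at h'
  have h00 := congrArg (fun g : Matrix.SpecialLinearGroup (Fin 2) (AdjoinRoot c.g) => g 0 0) h'
  simp only [commutatorElement_def, uu_inv, vv_inv, sl2_mul] at h00
  simp at h00
  haveI : Nontrivial (AdjoinRoot c.g) := AdjoinRoot.nontrivial c.g
    (fun hd => c.not_unit (Polynomial.isUnit_iff_degree_eq_zero.2 hd))
  have hu2 : IsUnit (AdjoinRoot.root c.g) := IsUnit.of_mul_eq_one c.xi c.root_mul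
  have : AdjoinRoot.root c.g * AdjoinRoot.root c.g = 0 := by
    first | linear_combination h00 | linear_combination -h00
  exact (hu2.mul hu2).ne_zero this

lemma nilpotent_of_unipotent {A B : Module.End k M} (hA : IsMin G A) (hB : IsMin G B)
    (hu : Cfsg.IsUnipotentOn (rootGroup G A hA.sq ⊔ rootGroup G B hB.sq)) : IsNilpotent (A * B + B * A) := by
  obtain ⟨n, hn⟩ := hu
  have hS : ∀ l : List (Module.End k M), (∀ a ∈ l, a ∈ ({A, B} : Set (Module.End k M))) → l.length = n →
      l.prod = 0 := by
    intro l hl hlen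
    classical
    let toG : Module.End k M → LinearMap.GeneralLinearGroup k M :=
      fun a => if a = A then oneAdd A hA.sq else oneAdd B hB.sq
    have hval : ∀ a ∈ l, ((toG a : LinearMap.GeneralLinearGroup k M) : Module.End k M) - 1 = a := by
      intro a ha
      by_cases h : a = A
      · simp [toG, h]
      · rcases hl a ha with rfl | rfl
        · exact absurd rfl h
        · simp [toG, h]
    have := hn (l.map toG) (fun g hg => by
      obtain ⟨a, ha, rfl⟩ := List.mem_map.1 hg
      by_cases h : a = A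
      · simp only [toG, if_pos h]
        exact Subgroup.mem_sup_left (oneAdd_mem_rootGroup (self_mem_rootSpace hA.rt))
      · simp only [toG, if_neg h]
        exact Subgroup.mem_sup_right (oneAdd_mem_rootGroup (self_mem_rootSpace hB.rt))) (by simpa using hlen)
    simp [List.map_map, Function.comp_def, List.map_flatMap, ← List.map_eq_flatMap] at this
    rwa [List.map_congr_left (g := id) (fun a ha => by simpa using hval a ha), List.map_id] at this
  exact isNilpotent_of_mem_wordSpan hS (Submodule.add_mem _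
    (wordSpan_anti (by omega) (mem_wordSpan_two (Or.inl rfl) (Or.inr rfl)))
    (wordSpan_anti (by omega) (mem_wordSpan_two (Or.inr rfl) (Or.inl rfl))))

end Cfsg.Agent.H88
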