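/-
The graph of opposite minimal elements, its components and the subgroups they generate.
-/
import Cfsg.Agent.H88.QClassTwoCor
set_option autoImplicit false
set_option maxHeartbeats 1000000

namespace Cfsg.Agent.H88

open Module
open scoped commutatorElement

universe u v

variable {k : Type u} [Field k] {M : Type v} [AddCommGroup M] [Module k M] [FiniteDimensional k M]
  {G : Subgroup (LinearMap.GeneralLinearGroup k M)}

/-- Opposite minimal elements. -/
def Opp (G : Subgroup (LinearMap.GeneralLinearGroup k M)) (A B : Module.End k M) : Prop :=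
  IsMin G A ∧ IsMin G B ∧ ¬ IsNilpotent (A * B + B * A)

/-- Same component of the graph of opposites. -/
def Linked (G : Subgroup (LinearMap.GeneralLinearGroup k M)) : Module.End k M → Module.End k M → Prop :=
  Relation.ReflTransGen (Opp G)

/-- The subgroup generated by the component of `A`. -/
def grp (G : Subgroup (LinearMap.GeneralLinearGroup k M)) (A : Module.End k M) :
    Subgroup (LinearMap.GeneralLinearGroup k M) :=
  Subgroup.closure {g : LinearMap.GeneralLinearGroup k M |
    IsMin G ((g : Module.End k M) - 1) ∧ Linked G A ((g : Module.End k M) - 1)}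

/-- The subgroup generated by all minimal elements. -/
def minGroup (G : Subgroup (LinearMap.GeneralLinearGroup k M)) : Subgroup (LinearMap.GeneralLinearGroup k M) :=
  Subgroup.closure {g : LinearMap.GeneralLinearGroup k M | IsMin G ((g : Module.End k M) - 1)}

omit [FiniteDimensional k M] in
lemma Opp.symm {A B : Module.End k M} (h : Opp G A B) : Opp G B A :=
  ⟨h.2.1, h.1, by rw [add_comm]; exact h.2.2⟩

omit [FiniteDimensional k M] in
lemma Linked.symm {A B : Module.End k M} (h : Linked G A B) : Linked G B A := by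
  induction h with
  | refl => exact Relation.ReflTransGen.refl
  | tail _ h ih => exact Relation.ReflTransGen.head h.symm ih

omit [FiniteDimensional k M] in
lemma Linked.trans {A B C : Module.End k M} (h : Linked G A B) (h' : Linked G B C) : Linked G A C :=
  Relation.ReflTransGen.trans h h'

lemma Opp.conj {A B : Module.End k M} (h : Opp G A B) {g : LinearMap.GeneralLinearGroup k M} (hg : g ∈ G) :
    Opp G (conjE g A) (conjE g B) := by
  refine ⟨h.1.conj hg, h.2.1.conj hg, ?_⟩
  rintro ⟨n, hn⟩
  refine h.2.2 ⟨n, ?_⟩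
  rw [conjE_mul, conjE_mul, ← conjE_add] at hn
  have hp : ∀ (X : Module.End k M) (i : ℕ), conjE g X ^ i = conjE g (X ^ i) := by
    intro X i
    induction i with
    | zero => simp [conjE]
    | succ i ih => rw [pow_succ, ih, conjE_mul, pow_succ]
  rwa [hp, conjE_eq_zero_iff] at hn

lemma Linked.conj {A B : Module.End k M} (h : Linked G A B) {g : LinearMap.GeneralLinearGroup k M}
    (hg : g ∈ G) : Linked G (conjE g A) (conjE g B) := by
  induction h with
  | refl => exact Relation.ReflTransGen.refl
  | tail _ h ih => exact Relation.ReflTransGen.tail ih (h.conj hg)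

omit [FiniteDimensional k M] in
lemma Linked.isMin {A B : Module.End k M} (hA : IsMin G A) (h : Linked G A B) : IsMin G B := by
  induction h with
  | refl => exact hA
  | tail _ h _ => exact h.2.1

section

variable (h2 : (2 : k) ≠ 0) (h3 : Nat.card k ≠ 3) (hG : NoUnip G)
include h2 h3 hG

lemma linked_of_mem {A X : Module.End k M} (hA : IsMin G A) (hX : X ∈ rootSpace G A hA.sq) (hX0 : X ≠ 0) :
    Linked G A X := by
  obtain ⟨Z, hZ, hn⟩ := exists_opposite h2 hG hA
  refine Relation.ReflTransGen.trans (Relation.ReflTransGen.single ⟨hA, hZ, hn⟩)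
    (Relation.ReflTransGen.single ⟨hZ, hA.of_mem_rootSpace hX hX0, ?_⟩)
  rw [add_comm]
  exact not_nilpotent_all h2 h3 hA hZ (self_mem_rootSpace hA.rt) (self_mem_rootSpace hZ.rt) hn hX hX0
    (self_mem_rootSpace hZ.rt) hZ.2.1

lemma linked_bracket {A B : Module.End k M} (hA : IsMin G A) (hB : IsMin G B)
    (hn : IsNilpotent (A * B + B * A)) (hne : A * B ≠ B * A) : Linked G A (A * B - B * A) := by
  set N := A * B - B * A with hNdef
  have hN : IsMin G N := (nilpotentPair_data h2 hA hB hn hne).1
  obtain ⟨Z, hZ, hZn⟩ := exists_opposite h2 hG hN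
  have hBAB : B * A * B = 0 := classTwo h2 hB hA.rt (by rwa [add_comm])
  have hmem : ∀ s : k, oneAdd (s • B) (smul_sq B hB.sq s) ∈ G := fun s => hB.rt.mem s rfl
  have hBN : B * N = 0 := by rw [hNdef, mul_sub, ← mul_assoc, ← mul_assoc, hB.sq, hBAB]; simp
  have hNB : N * B = 0 := by rw [hNdef, sub_mul, mul_assoc A B B, hB.sq, hBAB]; simp
  have hc : ∀ s : k, conjE (oneAdd (s • B) (smul_sq B hB.sq s)) A = A - s • N := by
    intro s
    rw [conjE_oneAdd]
    have : (1 + s • B) * A * (1 - s • B)
        = A - s • (A * B - B * A) - (s * s) • (B * A * B) := by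
      simp only [add_mul, mul_sub, one_mul, mul_one, smul_mul_assoc, mul_smul_comm, smul_sub, smul_add, smul_smul, mul_assoc]
      noncomm_ring
    rw [this, hBAB, smul_zero, sub_zero]
  have hfix : ∀ s : k, conjE (oneAdd (s • B) (smul_sq B hB.sq s)) N = N := by
    intro s
    rw [conjE_oneAdd]
    simp [add_mul, mul_sub, smul_mul_assoc, mul_smul_comm, hBN, hNB]
  obtain ⟨s, hs⟩ : ∃ s : k, ¬ IsNilpotent (Z * (A - s • N) + (A - s • N) * Z) := by
    by_contra hall
    push Not at hall
    have z : ∀ s : k, Z * (A - s • N) * Z = 0 := fun s =>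
      classTwo h2 hZ (hc s ▸ (hA.conj (hmem s)).rt) (hall s)
    have z1 := z 1
    have z2 := z (-1)
    rw [one_smul, mul_sub, sub_mul] at z1
    rw [neg_smul, one_smul, sub_neg_eq_add, mul_add, add_mul] at z2
    refine hZn ?_
    rw [add_comm]
    refine isNilpotent_of_mul_mul Z N hZ.sq hN.sq ?_
    have : (2 : k) • (Z * N * Z) = 0 := by
      rw [two_smul]
      calc _ = (Z * A * Z + Z * N * Z) - (Z * A * Z - Z * N * Z) := by abel
        _ = 0 := by rw [z1, z2, sub_zero]
    exact (smul_eq_zero.1 this).resolve_left h2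
  have hAs : IsMin G (A - s • N) := hc s ▸ hA.conj (hmem s)
  have hl : Linked G (A - s • N) N :=
    (Relation.ReflTransGen.single (r := Opp G) (⟨hAs, hZ, by rw [add_comm]; exact hs⟩ : Opp G (A - s • N) Z)).trans
      (Relation.ReflTransGen.single (r := Opp G) (⟨hZ, hN, by rw [add_comm]; exact hZn⟩ : Opp G Z N))
  have h := hl.conj (hmem (-s))
  rw [hfix, sub_eq_add_neg A (s • N), conjE_add, hc, ← neg_smul, conjE_smul, hfix, neg_smul, sub_neg_eq_add,
    add_neg_cancel_right] at h
  exact h

lemma linked_of_not_commute {A B : Module.End k M} (hA : IsMin G A) (hB : IsMin G B)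
    (hne : A * B ≠ B * A) : Linked G A B := by
  by_cases hn : IsNilpotent (A * B + B * A)
  · have hn' : IsNilpotent (B * A + A * B) := by rwa [add_comm]
    have hN := (nilpotentPair_data h2 hA hB hn hne).1
    have e : B * A - A * B = (-1 : k) • (A * B - B * A) := by rw [neg_one_smul, neg_sub]
    refine (linked_bracket h2 h3 hG hA hB hn hne).trans (Linked.symm ?_)
    refine (linked_bracket h2 h3 hG hB hA hn' hne.symm).trans (Linked.symm ?_)
    rw [e]
    exact linked_of_mem h2 h3 hG hN (Submodule.smul_mem _ _ (self_mem_rootSpace hN.rt))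
      (smul_ne_zero (neg_ne_zero.2 one_ne_zero) hN.2.1)
  · exact Relation.ReflTransGen.single ⟨hA, hB, hn⟩

lemma commute_of_not_linked {A B : Module.End k M} (hA : IsMin G A) (hB : IsMin G B) (h : ¬ Linked G A B) :
    A * B = B * A := by
  by_contra hne
  exact h (linked_of_not_commute h2 h3 hG hA hB hne)

lemma linked_conj_of_mem {g : LinearMap.GeneralLinearGroup k M} (hg : g ∈ minGroup G) {X : Module.End k M}
    (hX : IsMin G X) : Linked G X (conjE g X) := by
  have gen : ∀ C : Module.End k M, ∀ hC : IsMin G C, ∀ X, IsMin G X →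
      Linked G X (conjE (oneAdd C hC.sq) X) := by
    intro C hC X hX
    by_cases hl : Linked G X C
    · have hfix : conjE (oneAdd C hC.sq) C = C := by
        rw [conjE_oneAdd, mul_sub, mul_one, add_mul, one_mul, hC.sq, add_zero, hC.sq, sub_zero]
      have h := (hl.conj hC.rt.oneAdd_mem).symm
      rw [hfix] at h
      exact hl.trans h
    · have hc := commute_of_not_linked h2 h3 hG hX hC hl
      have : conjE (oneAdd C hC.sq) X = X := by
        rw [conjE_oneAdd]
        calc (1 + C) * X * (1 - C) = X + (C * X - X * C) - C * X * C := by noncomm_ring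
          _ = X := by rw [mul_assoc, hc, ← mul_assoc, hC.sq, zero_mul, sub_self, add_zero, sub_zero]
      rw [this]
      exact Relation.ReflTransGen.refl
  have hmin : ∀ g ∈ minGroup G, g ∈ G := (Subgroup.closure_le G).2 fun g hg => hg.rt.mem 1 (by simp)
  induction hg using Subgroup.closure_induction generalizing X with
  | mem g hg =>
    rw [show g = oneAdd _ hg.sq from Units.ext (by simp)]
    exact gen _ hg X hX
  | one => rw [conjE_one]; exact Relation.ReflTransGen.refl
  | mul a b ha hb iha ihb =>
    rw [← conjE_conjE]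
    exact (ihb hX).trans (iha (hX.conj (hmin b hb)))
  | inv a ha iha =>
    have h := iha (hX.conj (G.inv_mem (hmin a ha)))
    rw [conjE_conjE, mul_inv_cancel, conjE_one] at h
    exact h.symm

lemma rootGroup_le_grp {A X : Module.End k M} (hA : IsMin G A) (hX : Linked G A X) :
    rootGroup G X (hX.isMin hA).sq ≤ grp G A := by
  intro g hg
  have hm := hX.isMin hA
  rcases eq_or_ne g 1 with rfl | hg1
  · exact Subgroup.one_mem _
  · exact Subgroup.subset_closure ⟨hm.of_mem_rootSpace (mem_rootGroup.1 hg) (sub_one_ne_zero hg1),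
      hX.trans (linked_of_mem h2 h3 hG hm (mem_rootGroup.1 hg) (sub_one_ne_zero hg1))⟩

lemma commutator_grp {A B : Module.End k M} (h : ¬ Linked G A B) : ⁅grp G A, grp G B⁆ = ⊥ := by
  refine Subgroup.commutator_eq_bot_iff_le_centralizer.2 ?_
  rw [grp, Subgroup.closure_le]
  intro x hx
  rw [SetLike.mem_coe, grp, Subgroup.centralizer_closure, Subgroup.mem_centralizer_iff]
  intro y hy
  have hc := commute_of_not_linked h2 h3 hG hx.1 hy.1 (fun hl => h ((hx.2.trans hl).trans hy.2.symm))
  refine Units.ext ?_
  rw [Units.val_mul, Units.val_mul]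
  linear_combination (norm := noncomm_ring) -hc

lemma exists_not_commute {A : Module.End k M} (hA : IsMin G A) :
    ∃ B, Opp G A B ∧ A * B ≠ B * A := by
  obtain ⟨B, hB, hn⟩ := exists_opposite h2 hG hA
  refine ⟨B, ⟨hA, hB, hn⟩, fun e => hn (isNilpotent_of_mul_mul A B hA.sq hB.sq ?_)⟩
  rw [mul_assoc, ← e, ← mul_assoc, hA.sq, zero_mul]

lemma unlinked_card_le {r : ℕ} (f : Fin r → Module.End k M) (hf : ∀ i, IsMin G (f i))
    (hu : ∀ i j, i ≠ j → ¬ Linked G (f i) (f j)) : r ≤ finrank k (Module.End k M) := by
  have hli : LinearIndependent k f := by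
    rw [Fintype.linearIndependent_iff]
    intro c hc j
    obtain ⟨B, hB, hne⟩ := exists_not_commute h2 h3 hG (hf j)
    have h : (∑ i, c i • f i) * B - B * (∑ i, c i • f i) = 0 := by rw [hc]; simp
    rw [Finset.sum_mul, Finset.mul_sum, ← Finset.sum_sub_distrib, Finset.sum_eq_single j] at h
    · rw [smul_mul_assoc, mul_smul_comm, ← smul_sub, smul_eq_zero] at h
      exact h.resolve_right (sub_ne_zero.2 hne)
    · intro i _ hij
      have := commute_of_not_linked h2 h3 hG (hf i) hB.2.1
        (fun hl => hu i j hij (hl.trans (Linked.symm (Relation.ReflTransGen.single hB))))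
      rw [smul_mul_assoc, mul_smul_comm, this, sub_self]
    · simp
  simpa using hli.fintype_card_le_finrank

theorem exists_components : ∃ (r : ℕ) (f : Fin r → Module.End k M), (∀ i, IsMin G (f i)) ∧
    (∀ i j, i ≠ j → ¬ Linked G (f i) (f j)) ∧ ∀ X, IsMin G X → ∃ i, Linked G (f i) X := by
  classical
  let P : ℕ → Prop := fun r => ∃ f : Fin r → Module.End k M,
    (∀ i, IsMin G (f i)) ∧ ∀ i j, i ≠ j → ¬ Linked G (f i) (f j)
  have hb : ∀ r, P r → r ≤ finrank k (Module.End k M) := fun r ⟨f, h1, h2'⟩ => unlinked_card_le h2 h3 hG f h1 h2'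
  obtain ⟨f, hf, hu⟩ : P (Nat.findGreatest P (finrank k (Module.End k M))) :=
    Nat.findGreatest_spec (P := P) (Nat.zero_le _) ⟨Fin.elim0, fun i => i.elim0, fun i => i.elim0⟩
  refine ⟨_, f, hf, hu, fun X hX => ?_⟩
  by_contra hno
  push Not at hno
  have hP : P (Nat.findGreatest P (finrank k (Module.End k M)) + 1) := by
    refine ⟨Fin.cons X f, Fin.cases (by simpa using hX) (fun i => by simpa using hf i), ?_⟩
    intro i j hij
    induction i using Fin.cases with
    | zero =>
      induction j using Fin.cases with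
      | zero => exact absurd rfl hij
      | succ j => simp only [Fin.cons_zero, Fin.cons_succ]; exact fun h => hno j h.symm
    | succ i =>
      induction j using Fin.cases with
      | zero => simp only [Fin.cons_zero, Fin.cons_succ]; exact hno i
      | succ j =>
        simp only [Fin.cons_succ]
        exact hu i j (fun e => hij (congrArg Fin.succ e))
  have := Nat.le_findGreatest (hb _ hP) hP
  omega

end

end Cfsg.Agent.H88
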