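/-
A quadratic element splits into minimal pieces and a piece centralising all minimal elements.
-/
import Cfsg.Agent.H88.QGraph
set_option autoImplicit false
set_option maxHeartbeats 1000000

namespace Cfsg.Agent.H88

open Module Matrix

universe u v

variable {k : Type u} [Field k] {M : Type v} [AddCommGroup M] [Module k M] [FiniteDimensional k M]
  {G : Subgroup (LinearMap.GeneralLinearGroup k M)}

/-- `A X A = 0` for all minimal `A`. -/
def MinNull (G : Subgroup (LinearMap.GeneralLinearGroup k M)) (X : Module.End k M) : Prop :=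
  ∀ A : Module.End k M, IsMin G A → A * X * A = 0

/-- The span of the minimal elements. -/
def minSpan (G : Subgroup (LinearMap.GeneralLinearGroup k M)) : Submodule k (Module.End k M) :=
  Submodule.span k {A | IsMin G A}

omit [FiniteDimensional k M] in
lemma sub_of_lin {a : k} (h2 : (2 : k) ≠ 0) (ha : a ≠ 0) (ha1 : a ^ 2 ≠ 1) {V : Type*} [AddCommGroup V] [Module k V]
    {P₁ P₂ P₃ P₄ : V} (h : ∀ s : k, s • P₁ + s ^ 2 • P₂ + s ^ 3 • P₃ + s ^ 4 • P₄ = 0) : P₁ = 0 := by
  have h1 := h 1
  have hm := h (-1)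
  have hap := h a
  have ham := h (-a)
  have key : (2 : k) • ((a ^ 3 - a) • P₁) = 0 := by
    linear_combination (norm := module) (a ^ 3) • h1 - (a ^ 3) • hm - hap + ham
  rw [smul_eq_zero, smul_eq_zero] at key
  rcases key with h' | h' | h'
  · exact absurd h' h2
  · exact absurd (mul_left_cancel₀ ha (show a * a ^ 2 = a * 1 by linear_combination h')) ha1
  · exact h'

omit [FiniteDimensional k M] in
lemma conjE_expand (X A : Module.End k M) :
    (1 + X) * A * (1 - X) = A + (X * A - A * X) - X * A * X := by noncomm_ring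

lemma MinNull.conj {X : Module.End k M} (hX : MinNull G X) {g : LinearMap.GeneralLinearGroup k M} (hg : g ∈ G) :
    MinNull G (conjE g X) := by
  intro A hA
  have h := hX _ (hA.conj (G.inv_mem hg))
  have h' := congrArg (conjE g) h
  rw [← conjE_mul, ← conjE_mul, conjE_conjE, mul_inv_cancel, conjE_one, conjE_zero] at h'
  exact h'

section

variable (h2 : (2 : k) ≠ 0) (h3 : Nat.card k ≠ 3) (hG : NoUnip G)
include h2 h3 hG

theorem mul_mul_eq_zero_of_minNull {X : Module.End k M} (hX : Rt G X) (hn : MinNull G X) {A : Module.End k M}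
    (hA : IsMin G A) : X * A * X = 0 := by
  by_contra hW0
  set V := X * A - A * X with hV
  set W := X * A * X with hW
  have hAXA := hn A hA
  have k1 : ∀ Z : Module.End k M, A * (X * (A * Z)) = 0 := fun Z => by
    simpa [mul_assoc] using congrArg (· * Z) hAXA
  have k1' : A * (X * A) = 0 := by simpa [mul_assoc] using hAXA
  have k2 : ∀ Z : Module.End k M, A * (A * Z) = 0 := fun Z => by rw [← mul_assoc, hA.sq, zero_mul]
  have k3 : ∀ Z : Module.End k M, X * (X * Z) = 0 := fun Z => by rw [← mul_assoc, hX.sq, zero_mul]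
  -- the conjugates of `A`
  have hAs : ∀ s : k, IsMin G (A + s • V - (s * s) • W) := by
    intro s
    have h := hA.conj (hX.smul s).oneAdd_mem
    rw [conjE_oneAdd, conjE_expand] at h
    convert h using 1
    simp only [hV, hW, smul_sub, smul_mul_assoc, mul_smul_comm, smul_smul]
  have hY : ∀ s : k, Rt G (s • V - (s * s) • W) := by
    intro s
    have h := (hAs s).rt.add hA.rt.neg ?_ ?_
    · convert h using 1; abel
    all_goals
      simp only [hV, hW, add_mul, mul_add, sub_mul, mul_sub, mul_neg, neg_mul, smul_mul_assoc, mul_smul_comm,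
        mul_assoc, k1, k1', k2, k3, hA.sq, hX.sq, mul_zero, smul_zero, sub_zero, add_zero, neg_zero]
  have hWrt : Rt G W := by
    have ha := hY 1
    have hb := hY (-1)
    rw [one_mul, one_smul, one_smul] at ha
    rw [neg_mul_neg, one_mul, neg_smul, one_smul, one_smul] at hb
    have h := (ha.add hb ?_ ?_).smul (-(2 : k)⁻¹)
    · convert h using 1
      rw [show V - W + (-V - W) = (-(2 : k)) • W by rw [neg_smul, two_smul]; abel, smul_smul, neg_mul_neg,
        inv_mul_cancel₀ h2, one_smul]
    all_goals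
      simp only [hV, hW, add_mul, mul_add, sub_mul, mul_sub, mul_neg, neg_mul, mul_assoc, k1, k1', k2, k3,
        hA.sq, hX.sq, mul_zero, sub_zero, add_zero, neg_zero]
  have hWmin : IsMin G W := by
    refine hA.of_rk_le hWrt hW0 ?_
    have hle : LinearMap.range W ≤ (LinearMap.range A).map X := by
      rintro _ ⟨m, rfl⟩; exact ⟨A (X m), ⟨X m, rfl⟩, rfl⟩
    exact (Submodule.finrank_mono hle).trans (Submodule.finrank_map_le X _)
  obtain ⟨D, hD, hDn⟩ := exists_opposite h2 hG hWmin
  -- the derivative of `D X D = 0` along a family of minimal elements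
  have lin : ∀ (B : Module.End k M), IsMin G B → D * X * (B * D) = D * B * (X * D) := by
    intro B hB
    obtain ⟨a, ha, ha1⟩ := exists_sq_ne_one h2 h3
    set Q := B * D - D * B with hQ
    set R := B * D * B with hR
    have hDXD := hn D hD
    have h : ∀ s : k, s • (D * X * Q + Q * X * D) + s ^ 2 • (Q * X * Q - D * X * R - R * X * D)
        + s ^ 3 • (-(Q * X * R) - R * X * Q) + s ^ 4 • (R * X * R) = 0 := by
      intro s
      have h := hn _ (hD.conj (hB.rt.smul s).oneAdd_mem)
      rw [conjE_oneAdd, conjE_expand] at h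
      simp only [smul_mul_assoc, mul_smul_comm, ← smul_sub, smul_smul, ← hQ, ← hR] at h
      simp only [add_mul, mul_add, sub_mul, mul_sub, smul_mul_assoc, mul_smul_comm, smul_add, smul_sub,
        smul_smul, hDXD] at h
      rw [← h]
      module
    have h1 := sub_of_lin h2 ha ha1 h
    rw [hQ, mul_sub, sub_mul, sub_mul, show D * X * (D * B) = (D * X * D) * B by noncomm_ring,
      show B * D * X * D = B * (D * X * D) by noncomm_ring, hDXD] at h1
    rw [zero_mul, mul_zero, sub_zero, zero_sub, mul_assoc (D * B) X D, add_neg_eq_zero] at h1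
    exact h1
  have l1 := lin _ (hAs 1)
  have l2 := lin _ (hAs (-1))
  rw [one_mul, one_smul, one_smul] at l1
  rw [neg_mul_neg, one_mul, neg_smul, one_smul, one_smul] at l2
  have l3 : (2 : k) • (D * X * (V * D)) = (2 : k) • (D * V * (X * D)) := by
    simp only [add_mul, sub_mul, mul_add, mul_sub, neg_mul, mul_neg] at l1 l2
    rw [two_smul, two_smul]
    linear_combination (norm := abel) l1 - l2
  have l4 := smul_right_injective (Module.End k M) h2 l3
  have e1 : D * X * (V * D) = -(D * W * D) := by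
    simp only [hV, hW, sub_mul, mul_sub, mul_assoc, k3, mul_zero]; abel
  have e2 : D * V * (X * D) = D * W * D := by
    simp only [hV, hW, sub_mul, mul_sub, mul_assoc, k3, mul_zero, sub_zero]
  simp only [e1, e2] at l4
  refine hDn ?_
  rw [add_comm]
  refine isNilpotent_of_mul_mul D W hD.sq hWmin.sq ?_
  have : (2 : k) • (D * W * D) = 0 := by
    rw [two_smul]; nth_rewrite 1 [← l4]; rw [neg_add_cancel]
  exact (smul_eq_zero.1 this).resolve_left h2

lemma MinNull.bracket {X : Module.End k M} (hX : MinNull G X) (hXr : Rt G X) {B : Module.End k M}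
    (hB : B ∈ minSpan G) : MinNull G (B * X - X * B) := by
  induction hB using Submodule.span_induction with
  | mem B hB =>
    intro A hA
    have h := hX.conj hB.rt.oneAdd_mem A hA
    rw [conjE_oneAdd, conjE_expand, show B * X * B = 0 from hX B hB, sub_zero, mul_add, add_mul, hX A hA,
      zero_add] at h
    exact h
  | zero => intro A _; simp
  | add a b _ _ ha hb =>
    intro A hA
    have e : A * ((a + b) * X - X * (a + b)) * A = A * (a * X - X * a) * A + A * (b * X - X * b) * A := by
      noncomm_ring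
    rw [e, ha A hA, hb A hA, add_zero]
  | smul c a _ ha =>
    intro A hA
    rw [smul_mul_assoc, mul_smul_comm, ← smul_sub, mul_smul_comm, smul_mul_assoc, ha A hA, smul_zero]

lemma minSpan_bracket {A B : Module.End k M} (hA : A ∈ minSpan G) (hB : B ∈ minSpan G) :
    A * B - B * A ∈ minSpan G := by
  induction hA using Submodule.span_induction with
  | mem A hA =>
    induction hB using Submodule.span_induction with
    | mem B hB =>
      have h1 : conjE (oneAdd A hA.sq) B ∈ minSpan G := Submodule.subset_span (hB.conj hA.rt.oneAdd_mem)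
      have h1' : conjE (oneAdd (-A) hA.rt.neg.sq) B ∈ minSpan G :=
        Submodule.subset_span (hB.conj hA.rt.neg.oneAdd_mem)
      have h := Submodule.sub_mem _ h1 h1'
      rw [conjE_oneAdd, conjE_oneAdd, conjE_expand, conjE_expand] at h
      have e : A * B - B * A = (2 : k)⁻¹ • (B + (A * B - B * A) - A * B * A
          - (B + (-A * B - B * -A) - -A * B * -A)) := by
        rw [eq_inv_smul_iff₀ h2, two_smul]; noncomm_ring
      rw [e]
      exact Submodule.smul_mem _ _ h
    | zero => simp
    | add a b _ _ ha hb => rw [mul_add, add_mul, add_sub_add_comm]; exact Submodule.add_mem _ ha hb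
    | smul c a _ ha => rw [mul_smul_comm, smul_mul_assoc, ← smul_sub]; exact Submodule.smul_mem _ c ha
  | zero => simp
  | add a b _ _ ha hb => rw [add_mul, mul_add, add_sub_add_comm]; exact Submodule.add_mem _ ha hb
  | smul c a _ ha => rw [smul_mul_assoc, mul_smul_comm, ← smul_sub]; exact Submodule.smul_mem _ c ha

lemma minNull_span_eq_zero {Z : Module.End k M} (hZ : Rt G Z) (hZs : Z ∈ minSpan G) (hn : MinNull G Z) : Z = 0 := by
  set T : Set (Module.End k M) := {Z | Rt G Z ∧ Z ∈ minSpan G ∧ MinNull G Z} with hT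
  have hmid : ∀ Z ∈ T, ∀ W ∈ minSpan G, Z * W * Z = 0 := by
    intro Z hZ W hW
    induction hW using Submodule.span_induction with
    | mem A hA => exact mul_mul_eq_zero_of_minNull h2 h3 hG hZ.1 hZ.2.2 hA
    | zero => simp
    | add a b _ _ ha hb => rw [mul_add, add_mul, ha, hb, add_zero]
    | smul c a _ ha => rw [mul_smul_comm, smul_mul_assoc, ha, smul_zero]
  obtain ⟨L, hL⟩ := words_vanish_of_weaklyClosed (T := T) (fun Z hZ => hZ.1.sq) (fun X hX Y hY =>
    ⟨hX.1.commutator hY.1 (hmid X hX Y hY.2.1) (hmid Y hY X hX.2.1), minSpan_bracket h2 h3 hG hX.2.1 hY.2.1,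
      MinNull.bracket h2 h3 hG hY.2.2 hY.1 hX.2.1⟩)
  refine hG T (fun X hX => ⟨_, hX.1.oneAdd_mem, rfl⟩) ?_ ⟨L, hL⟩ Z ⟨hZ, hZs, hn⟩
  rintro g hg X ⟨h1, h2', h3'⟩
  refine ⟨h1.conj hg, ?_, h3'.conj hg⟩
  clear h1 h3'
  induction h2' using Submodule.span_induction with
  | mem A hA => exact Submodule.subset_span (hA.conj hg)
  | zero => simp
  | add a b _ _ ha hb => rw [conjE_add]; exact Submodule.add_mem _ ha hb
  | smul c a _ ha => rw [conjE_smul]; exact Submodule.smul_mem _ c ha

/-- A quadratic element with `A X A = 0` for all minimal `A` commutes with all of them. -/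
theorem commute_of_minNull {X : Module.End k M} (hX : Rt G X) (hn : MinNull G X) {A : Module.End k M}
    (hA : IsMin G A) : X * A = A * X := by
  have hW := mul_mul_eq_zero_of_minNull h2 h3 hG hX hn hA
  have hconj : ∀ s : k, IsMin G (A + s • (X * A - A * X)) := by
    intro s
    have h := hA.conj (hX.smul s).oneAdd_mem
    rw [conjE_oneAdd, conjE_expand] at h
    simp only [smul_mul_assoc, mul_smul_comm, ← smul_sub, smul_smul, hW, smul_zero, sub_zero] at h
    exact h
  have hV : Rt G (X * A - A * X) := by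
    have h := (hconj 1).rt.add hA.rt.neg ?_ ?_
    · convert h using 1; rw [one_smul]; abel
    all_goals
      have h0 : A * X * A = 0 := hn A hA
      simp only [one_smul, add_mul, mul_add, sub_mul, mul_sub, mul_neg, neg_mul, ← mul_assoc, h0, hA.sq,
        zero_mul, sub_zero, add_zero, neg_zero, mul_assoc X A A, mul_zero]
  have hVn : MinNull G (X * A - A * X) := by
    intro B hB
    have h := MinNull.bracket h2 h3 hG hn hX (Submodule.subset_span hA) B hB
    rw [← neg_sub (A * X), mul_neg, neg_mul, h, neg_zero]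
  have hVs : X * A - A * X ∈ minSpan G := by
    have h := Submodule.sub_mem _ (Submodule.subset_span (hconj 1) : _ ∈ minSpan G) (Submodule.subset_span hA)
    rwa [one_smul, add_sub_cancel_left] at h
  exact sub_eq_zero.1 (minNull_span_eq_zero h2 h3 hG hV hVs hVn)

end

namespace Coords

variable {A B : Module.End k M} (c : Coords A B)

theorem ψ_mem (h2 : (2 : k) ≠ 0) (h3 : Nat.card k ≠ 3) (hirr : Irreducible c.g) (hA : Rt G A) (hB : Rt G B)
    (γ : Matrix.SpecialLinearGroup (Fin 2) (AdjoinRoot c.g)) : c.ψ γ ∈ G := by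
  haveI : Fact (Irreducible c.g) := ⟨hirr⟩
  let R := AdjoinRoot c.g
  set Γ := c.pairGroup.map (MonoidHom.snd _ _) with hΓ
  have hu : ∀ t : k, uu (algebraMap k R t) ∈ Γ := fun t => ⟨_, c.genA_mem t, rfl⟩
  have hv : ∀ t : k, vv (algebraMap k R t * AdjoinRoot.root c.g) ∈ Γ := fun t => ⟨_, c.genB_mem t, rfl⟩
  have pbg : (AdjoinRoot.powerBasis c.monic.ne_zero).gen = AdjoinRoot.root c.g := AdjoinRoot.powerBasis_gen _
  have htop : Γ = ⊤ := sl2_gen_eq_top (AdjoinRoot.powerBasis c.monic.ne_zero) h2 h3
    (by rw [pbg]; exact c.root_ne_zero) Γ hu (by rw [pbg]; exact hv)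
  obtain ⟨a, ha0, ha1⟩ := exists_sq_ne_one h2 h3
  have hperf : commutator (Matrix.SpecialLinearGroup (Fin 2) R) = ⊤ :=
    SL2.commutator_eq_top (a := algebraMap k R a) (by simpa using ha0)
      (by rw [← map_pow, ← map_one (algebraMap k R)]; exact fun e => ha1 ((algebraMap k R).injective e))
  obtain ⟨L, hL⟩ := c.nilGens_words
  have hsurj : Function.Surjective ((MonoidHom.snd _ _).comp c.pairGroup.subtype) := fun γ => by
    obtain ⟨p, hp, e⟩ := (htop ▸ Subgroup.mem_top γ : γ ∈ Γ)
    exact ⟨⟨p, hp⟩, e⟩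
  obtain ⟨p, hp, e⟩ := exists_deep c.Q_sq hL ((MonoidHom.fst _ _).comp c.pairGroup.subtype)
    ((MonoidHom.snd _ _).comp c.pairGroup.subtype) hsurj hperf (fun p => c.pairGroup_dev p.2) γ
  obtain ⟨-, e2⟩ := c.pairGroup_spec p.2
  change ((p : (Module.End k M)ˣ × Matrix.SpecialLinearGroup (Fin 2) R).1 : Module.End k M) * (1 - c.P) = 1 - c.P at e
  rw [show (p : (Module.End k M)ˣ × Matrix.SpecialLinearGroup (Fin 2) R).2 = γ from hp] at e2
  have : c.ψ γ = (p : (Module.End k M)ˣ × Matrix.SpecialLinearGroup (Fin 2) R).1 := by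
    refine Units.ext ?_
    rw [c.ψ_val, ← e2, ← e, ← mul_add, add_sub_cancel, mul_one]
  rw [this]
  exact c.pairGroup_le hA hB p.2

end Coords

/-- A quadratic element that does not null some minimal element splits off a minimal piece. -/
theorem split_quadratic (h2 : (2 : k) ≠ 0) (h3 : Nat.card k ≠ 3) {X A : Module.End k M} (hX : Rt G X)
    (hA : IsMin G A) (hne : A * X * A ≠ 0) :
    ∃ X₁ X₂ : Module.End k M, IsMin G X₁ ∧ Rt G X₂ ∧ X = X₁ + X₂ ∧ X₁ * X₂ = 0 ∧ X₂ * X₁ = 0 ∧ rk X₂ < rk X := by
  obtain ⟨c⟩ := exists_coords hA.sq hX.sq (fun h => hne (classTwo h2 hA hX h))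
  obtain ⟨hirr, eA⟩ := pair_main h2 h3 _ A X hA hX c le_rfl
  have hXP : Commute X c.P := c.commB 1
  have hP1 : Rt G (X * c.P) := by
    refine ⟨?_, fun t => ⟨_, c.ψ_mem h2 h3 hirr hA.rt hX (vv (algebraMap k _ t * AdjoinRoot.root c.g)), ?_⟩⟩
    · rw [mul_assoc, ← mul_assoc c.P, ← hXP.eq, mul_assoc X c.P, c.P_sq, ← mul_assoc, hX.sq, zero_mul]
    · rw [c.ψ_vv, c.ev_algebraMap, mul_smul_comm]
  have h0 : X * c.P ≠ 0 := by
    intro e
    have h : c.Φ !![0, 0; AdjoinRoot.root c.g * 1, 0] = 0 := by rw [c.Φ_lower]; exact e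
    have := congrFun (congrFun (c.Φ_inj h) 1) 0
    simp at this
    exact c.root_ne_zero this
  have hmin : IsMin G (X * c.P) := by
    refine hA.of_rk_le hP1 h0 ?_
    have e : X * c.P = (c.ev c.xi * X) * (A * X) := by
      rw [← c.C_mul_D, show (A * X + X * A) * c.ev c.xi = c.ev c.xi * (A * X + X * A) from
        (c.comm c.xi _ (Commute.refl _)).eq, ← mul_assoc, (c.commB c.xi).eq, mul_assoc, mul_add,
        ← mul_assoc X X A, hX.sq, zero_mul, add_zero, ← mul_assoc]
    have hle : LinearMap.range (X * c.P) ≤ (LinearMap.range A).map (c.ev c.xi * X) := by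
      rintro _ ⟨m, rfl⟩
      rw [e]
      exact ⟨A (X m), ⟨X m, rfl⟩, rfl⟩
    exact (Submodule.finrank_mono hle).trans (Submodule.finrank_map_le _ _)
  have hXX : ∀ Z, X * (X * Z) = 0 := fun Z => by rw [← mul_assoc, hX.sq, zero_mul]
  have hPX : ∀ Z, c.P * (X * Z) = X * (c.P * Z) := fun Z => by rw [← mul_assoc, ← hXP.eq, mul_assoc]
  refine ⟨X * c.P, X * (1 - c.P), hmin, ?_, ?_, ?_, ?_, ?_⟩
  · rw [mul_sub, mul_one, sub_eq_add_neg]
    refine hX.add hP1.neg ?_ ?_
    · rw [mul_neg, ← mul_assoc, hX.sq, zero_mul, neg_zero]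
    · rw [neg_mul, mul_assoc, ← hXP.eq, ← mul_assoc, hX.sq, zero_mul, neg_zero]
  · rw [← mul_add, add_sub_cancel, mul_one]
  · simp only [mul_assoc, hPX, hXX]
  · simp only [mul_assoc, sub_mul, one_mul, hPX, mul_sub, hXX, sub_zero]
  · have d1 : LinearMap.range (X * c.P) ⊓ LinearMap.range (X * (1 - c.P)) = ⊥ := by
      rw [Submodule.eq_bot_iff]
      rintro v ⟨⟨a, ha⟩, ⟨b, hb⟩⟩
      have e1 : c.P v = v := by
        rw [← ha, ← Module.End.mul_apply, hPX, c.P_sq]
      have e2 : c.P v = 0 := by
        rw [← hb, ← Module.End.mul_apply, hPX, mul_sub, mul_one, c.P_sq, sub_self, mul_zero]; rfl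
      rw [← e1, e2]
    have hs : LinearMap.range (X * c.P) ⊔ LinearMap.range (X * (1 - c.P)) ≤ LinearMap.range X :=
      sup_le (range_mul_le _ _) (range_mul_le _ _)
    have h4 := Submodule.finrank_sup_add_finrank_inf_eq (LinearMap.range (X * c.P)) (LinearMap.range (X * (1 - c.P)))
    rw [d1, finrank_bot, add_zero] at h4
    have h5 := Submodule.finrank_mono hs
    have h6 : 0 < rk (X * c.P) := rk_pos h0
    simp only [rk] at h6 ⊢
    omega

end Cfsg.Agent.H88
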