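/-
The subgroup generated by a component is quasisimple.
-/
import Cfsg.Agent.H88.QGraph
import Cfsg.Agent.Linear.Simple
set_option autoImplicit false
set_option maxHeartbeats 1000000

namespace Cfsg.Agent.H88

open Matrix
open scoped commutatorElement

universe u v

variable {k : Type u} [Field k] {M : Type v} [AddCommGroup M] [Module k M] [FiniteDimensional k M]
  {G : Subgroup (LinearMap.GeneralLinearGroup k M)}

lemma sl2_normal_eq_top {F : Type*} [Field F] (hF : ∃ a : F, a ≠ 0 ∧ a ^ 2 ≠ 1)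
    (D : Subgroup (Matrix.SpecialLinearGroup (Fin 2) F)) [D.Normal] {g h : Matrix.SpecialLinearGroup (Fin 2) F}
    (hg : g ∈ D) (hne : g * h ≠ h * g) : D = ⊤ := by
  haveI := Linear.isSimpleGroup_PSL (ι := Fin 2) (F := F) (Or.inr hF)
  let Z := Subgroup.center (Matrix.SpecialLinearGroup (Fin 2) F)
  haveI : (D.map (QuotientGroup.mk' Z)).Normal := Subgroup.Normal.map ‹_› _ (QuotientGroup.mk'_surjective _)
  rcases IsSimpleGroup.eq_bot_or_eq_top_of_normal (D.map (QuotientGroup.mk' Z)) ‹_› with hb | ht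
  · exfalso
    have : QuotientGroup.mk' Z g = 1 := Subgroup.mem_bot.1 (hb ▸ ⟨g, hg, rfl⟩)
    rw [QuotientGroup.mk'_apply, QuotientGroup.eq_one_iff] at this
    exact hne (Subgroup.mem_center_iff.1 this h).symm
  · have hsup : D ⊔ Z = ⊤ := by
      have := congrArg (Subgroup.comap (QuotientGroup.mk' Z)) ht
      rwa [Subgroup.comap_map_eq, QuotientGroup.ker_mk', Subgroup.comap_top] at this
    obtain ⟨a, ha0, ha1⟩ := hF
    rw [eq_top_iff, ← Linear.commutator_SL_eq_top (ι := Fin 2) (F := F) (Or.inr ⟨a, ha0, ha1⟩),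
      commutator_def, Subgroup.commutator_le]
    intro x _ y _
    obtain ⟨x1, hx1, x2, hx2, rfl⟩ := Subgroup.mem_sup_of_normal_right.1 (hsup ▸ Subgroup.mem_top x)
    obtain ⟨y1, hy1, y2, hy2, rfl⟩ := Subgroup.mem_sup_of_normal_right.1 (hsup ▸ Subgroup.mem_top y)
    have e : ⁅x1 * x2, y1 * y2⁆ = ⁅x1, y1⁆ := by
      have a1 := Subgroup.mem_center_iff.1 hx2
      have a2 := Subgroup.mem_center_iff.1 hy2
      calc ⁅x1 * x2, y1 * y2⁆ = x1 * x2 * (y1 * y2) * x2⁻¹ * x1⁻¹ * y2⁻¹ * y1⁻¹ := by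
            simp only [commutatorElement_def, _root_.mul_inv_rev, mul_assoc]
        _ = x1 * (y1 * y2 * x2) * x2⁻¹ * x1⁻¹ * y2⁻¹ * y1⁻¹ := by rw [a1 (y1 * y2), mul_assoc x1]
        _ = x1 * y1 * (y2 * x1⁻¹) * y2⁻¹ * y1⁻¹ := by group
        _ = x1 * y1 * (x1⁻¹ * y2) * y2⁻¹ * y1⁻¹ := by rw [a2 x1⁻¹]
        _ = ⁅x1, y1⁆ := by simp only [commutatorElement_def]; group
    rw [e, commutatorElement_def]
    have := D.mul_mem hx1 (Subgroup.Normal.conj_mem ‹D.Normal› x1⁻¹ (D.inv_mem hx1) y1)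
    simpa [mul_assoc] using this

lemma range_le_commutator {S T : Type*} [Group S] [Group T] (f : S →* T) (hS : commutator S = ⊤)
    {H : Subgroup T} (h : f.range ≤ H) : f.range ≤ ⁅H, H⁆ := by
  rw [MonoidHom.range_eq_map, ← hS, commutator_def, Subgroup.map_commutator, ← MonoidHom.range_eq_map]
  exact Subgroup.commutator_mono h h

lemma exists_sq_ne_one' (h2 : (2 : k) ≠ 0) (h3 : Nat.card k ≠ 3) (F : Type*) [Field F] [Algebra k F] :
    ∃ a : F, a ≠ 0 ∧ a ^ 2 ≠ 1 := by
  obtain ⟨a, ha0, ha1⟩ := exists_sq_ne_one h2 h3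
  refine ⟨algebraMap k F a, by simpa using ha0, fun e => ha1 ((algebraMap k F).injective ?_)⟩
  rw [map_pow, e, map_one]

section

variable (h2 : (2 : k) ≠ 0) (h3 : Nat.card k ≠ 3)
include h2 h3

/-- The `SL₂` of an opposite pair, as a subgroup of the two families. -/
theorem opp_coords {A B : Module.End k M} (h : Opp G A B) :
    ∃ c : Coords A B, Irreducible c.g ∧ c.ψ (uu 1) = oneAdd A h.1.sq ∧
      c.ψ (vv (AdjoinRoot.root c.g)) = oneAdd B h.2.1.sq ∧
      c.ψ.range ≤ rootGroup G A h.1.sq ⊔ rootGroup G B h.2.1.sq := by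
  obtain ⟨c⟩ := exists_coords h.1.sq h.2.1.sq h.2.2
  obtain ⟨hirr, eA, eB⟩ := pair_structure h2 h3 h.1 h.2.1 c
  refine ⟨c, hirr, Units.ext (by rw [c.ψ_uu, ← Coords.P, eA, oneAdd_val]), ?_, ?_⟩
  · refine Units.ext ?_
    rw [← one_mul (AdjoinRoot.root c.g), c.ψ_vv, ← Coords.P, eB, oneAdd_val]
  · rw [c.range_ψ h2 h3 hirr eA eB, Subgroup.closure_le]
    rintro _ (⟨t, rfl⟩ | ⟨t, rfl⟩)
    · exact Subgroup.mem_sup_left (oneAdd_mem_rootGroup (Submodule.smul_mem _ t (self_mem_rootSpace h.1.rt)))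
    · exact Subgroup.mem_sup_right (oneAdd_mem_rootGroup (Submodule.smul_mem _ t (self_mem_rootSpace h.2.1.rt)))

/-- A subgroup normalised by an `SL₂` and meeting it non-centrally contains both generators. -/
theorem mem_of_opp {A B : Module.End k M} (h : Opp G A B) {N : Subgroup (LinearMap.GeneralLinearGroup k M)}
    (hnA : ∀ x ∈ rootGroup G A h.1.sq, ∀ n ∈ N, x * n * x⁻¹ ∈ N)
    (hnB : ∀ x ∈ rootGroup G B h.2.1.sq, ∀ n ∈ N, x * n * x⁻¹ ∈ N)
    (hmem : oneAdd A h.1.sq ∈ N ∨ oneAdd B h.2.1.sq * (oneAdd A h.1.sq)⁻¹ ∈ N) :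
    oneAdd A h.1.sq ∈ N ∧ oneAdd B h.2.1.sq ∈ N := by
  obtain ⟨c, hirr, hu, hv, hle⟩ := opp_coords h2 h3 h
  haveI : Fact (Irreducible c.g) := ⟨hirr⟩
  have hnorm : rootGroup G A h.1.sq ⊔ rootGroup G B h.2.1.sq ≤ Subgroup.normalizer (N : Set (LinearMap.GeneralLinearGroup k M)) := by
    refine sup_le ?_ ?_ <;> intro x hx <;> rw [Subgroup.mem_normalizer_iff] <;> intro n <;> constructor
    · exact hnA x hx n
    · intro hn; simpa [mul_assoc] using hnA x⁻¹ (Subgroup.inv_mem _ hx) _ hn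
    · exact hnB x hx n
    · intro hn; simpa [mul_assoc] using hnB x⁻¹ (Subgroup.inv_mem _ hx) _ hn
  haveI : (N.comap c.ψ).Normal := ⟨fun n hn g => by
    rw [Subgroup.mem_comap, map_mul, map_mul, map_inv]
    exact (Subgroup.mem_normalizer_iff.1 (hnorm (hle ⟨g, rfl⟩)) _).1 hn⟩
  have hroot := c.root_ne_zero
  have htop : N.comap c.ψ = ⊤ := by
    rcases hmem with hm | hm
    · refine sl2_normal_eq_top (exists_sq_ne_one' h2 h3 _) _ (g := uu 1) (h := vv 1) ?_ ?_
      · rw [Subgroup.mem_comap, hu]; exact hm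
      · intro e
        have := congrArg (fun g : Matrix.SpecialLinearGroup (Fin 2) (AdjoinRoot c.g) => g 0 0) e
        simp [sl2_mul] at this
    · refine sl2_normal_eq_top (exists_sq_ne_one' h2 h3 _) _ (g := vv (AdjoinRoot.root c.g) * (uu 1)⁻¹) (h := uu 1) ?_ ?_
      · rw [Subgroup.mem_comap, map_mul, map_inv, hu, hv]; exact hm
      · intro e
        rw [inv_mul_cancel_right] at e
        have := congrArg (fun g : Matrix.SpecialLinearGroup (Fin 2) (AdjoinRoot c.g) => g 0 0) e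
        simp [uu_inv, sl2_mul] at this
        exact hroot this
  have hall : ∀ γ, c.ψ γ ∈ N := fun γ => (htop ▸ Subgroup.mem_top γ : γ ∈ N.comap c.ψ)
  exact ⟨hu ▸ hall _, hv ▸ hall _⟩

theorem perfect_grp (hG : NoUnip G) {A : Module.End k M} (hA : IsMin G A) :
    grp G A ≤ ⁅grp G A, grp G A⁆ := by
  refine (Subgroup.closure_le _).2 fun x hx => ?_
  obtain ⟨Z, hZ, hn⟩ := exists_opposite h2 hG hx.1
  obtain ⟨c, hirr, hu, -, hle⟩ := opp_coords h2 h3 (⟨hx.1, hZ, hn⟩ : Opp G _ Z)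
  haveI : Fact (Irreducible c.g) := ⟨hirr⟩
  have hle' : c.ψ.range ≤ grp G A := hle.trans (sup_le (rootGroup_le_grp h2 h3 hG hA hx.2)
    (rootGroup_le_grp h2 h3 hG hA (hx.2.trans (Relation.ReflTransGen.single ⟨hx.1, hZ, hn⟩))))
  have hxe : x = c.ψ (uu 1) := by rw [hu]; exact Units.ext (by simp)
  have := range_le_commutator c.ψ
    (Linear.commutator_SL_eq_top (ι := Fin 2) (F := AdjoinRoot c.g) (Or.inr (exists_sq_ne_one' h2 h3 _))) hle'
  rw [hxe]
  exact this ⟨_, rfl⟩

variable (hG : Semi G)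
include hG

lemma semi_grp {A : Module.End k M} (hA : IsMin G A) : Semi (grp G A) := by
  have hmin : minGroup G ≤ G := (Subgroup.closure_le G).2 fun g hg => hg.rt.mem 1 (by simp)
  have h0 : Semi (minGroup G) := by
    refine hG.normal hmin fun h hh g hg => ?_
    induction hg using Subgroup.closure_induction with
    | mem g hg =>
      refine Subgroup.subset_closure ?_
      show IsMin G _
      rw [show ((h * g * h⁻¹ : LinearMap.GeneralLinearGroup k M) : Module.End k M) - 1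
        = conjE h ((g : Module.End k M) - 1) by simp [conjE, mul_sub, sub_mul]]
      exact hg.conj hh
    | one => simp
    | mul a b _ _ iha ihb => simpa [mul_assoc] using Subgroup.mul_mem _ iha ihb
    | inv a _ iha => simpa [mul_assoc] using Subgroup.inv_mem _ iha
  refine h0.normal ((Subgroup.closure_le _).2 fun g hg => Subgroup.subset_closure hg.1) fun h hh g hg => ?_
  induction hg using Subgroup.closure_induction with
  | mem g hg =>
    refine Subgroup.subset_closure ?_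
    show IsMin G _ ∧ _
    rw [show ((h * g * h⁻¹ : LinearMap.GeneralLinearGroup k M) : Module.End k M) - 1
      = conjE h ((g : Module.End k M) - 1) by simp [conjE, mul_sub, sub_mul]]
    exact ⟨hg.1.conj (hmin hh), hg.2.trans (linked_conj_of_mem h2 h3 hG.noUnip hh hg.1)⟩
  | one => simp
  | mul a b _ _ iha ihb => simpa [mul_assoc] using Subgroup.mul_mem _ iha ihb
  | inv a _ iha => simpa [mul_assoc] using Subgroup.inv_mem _ iha

/-- A normal subgroup of a component group is central or everything. -/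
theorem normal_grp {A : Module.End k M} (hA : IsMin G A) {N : Subgroup (LinearMap.GeneralLinearGroup k M)}
    (hNle : N ≤ grp G A) (hN : ∀ h ∈ grp G A, ∀ n ∈ N, h * n * h⁻¹ ∈ N) :
    (∀ n ∈ N, ∀ h ∈ grp G A, n * h = h * n) ∨ N = grp G A := by
  by_cases hc : ∀ n ∈ N, ∀ x : LinearMap.GeneralLinearGroup k M,
      IsMin G ((x : Module.End k M) - 1) → Linked G A ((x : Module.End k M) - 1) → n * x = x * n
  · refine Or.inl fun n hn h hh => ?_
    induction hh using Subgroup.closure_induction with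
    | mem x hx => exact hc n hn x hx.1 hx.2
    | one => simp
    | mul a b _ _ iha ihb => rw [← mul_assoc, iha, mul_assoc, ihb, mul_assoc]
    | inv a _ iha => exact (Commute.inv_right iha : Commute n a⁻¹)
  push Not at hc
  obtain ⟨n, hn, x, hx, hxl, hnx⟩ := hc
  refine Or.inr (le_antisymm hNle ?_)
  have hGg : ∀ g ∈ grp G A, g ∈ G := (Subgroup.closure_le G).2 fun g hg => hg.1.rt.mem 1 (by simp)
  have hmin : grp G A ≤ minGroup G := (Subgroup.closure_le _).2 fun g hg => Subgroup.subset_closure hg.1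
  have hconj : ∀ m ∈ N, IsMin G (conjE m ((x : Module.End k M) - 1)) ∧
      Linked G A (conjE m ((x : Module.End k M) - 1)) := fun m hm =>
    ⟨hx.conj (hGg m (hNle hm)), hxl.trans (linked_conj_of_mem h2 h3 hG.noUnip (hmin (hNle hm)) hx)⟩
  -- two non-commuting conjugates of `x`
  obtain ⟨n₁, hn₁, n₂, hn₂, hne⟩ : ∃ n₁ ∈ N, ∃ n₂ ∈ N,
      conjE n₁ ((x : Module.End k M) - 1) * conjE n₂ ((x : Module.End k M) - 1)
        ≠ conjE n₂ ((x : Module.End k M) - 1) * conjE n₁ ((x : Module.End k M) - 1) := by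
    by_contra hall
    push Not at hall
    set S : Set (Module.End k M) := (fun m => conjE m ((x : Module.End k M) - 1)) '' (N : Set (LinearMap.GeneralLinearGroup k M)) with hS
    obtain ⟨L, hL⟩ := words_vanish_of_weaklyClosed (T := insert 0 S) (by
      rintro y (rfl | ⟨m, hm, rfl⟩)
      · simp
      · exact (hconj m hm).1.sq) (by
      rintro y (rfl | ⟨m, hm, rfl⟩) z (rfl | ⟨m', hm', rfl⟩) <;> refine Or.inl ?_ <;> first
        | exact sub_eq_zero.2 (hall m hm m' hm')
        | simp)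
    set X0 : Set (LinearMap.GeneralLinearGroup k M) := (fun m => m * x * m⁻¹) '' (N : Set (LinearMap.GeneralLinearGroup k M)) with hX0
    have hX0S : ∀ m ∈ N, ((m * x * m⁻¹ : LinearMap.GeneralLinearGroup k M) : Module.End k M) - 1 = conjE m ((x : Module.End k M) - 1) :=
      fun m _ => by simp [conjE, mul_sub, sub_mul]
    have hdev : ∀ u ∈ Subgroup.closure X0, (u : Module.End k M) - 1 ∈ wordSpan (insert 0 S) 1 := by
      intro u hu
      have := (closure_dev (S := insert 0 S) (Q := 1) (mul_one 1) ?_ hu).2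
      · rwa [mul_one] at this
      rintro _ ⟨m, hm, rfl⟩
      have hs : conjE m ((x : Module.End k M) - 1) ∈ wordSpan (insert 0 S) 1 :=
        mem_wordSpan_one (Or.inr ⟨m, hm, rfl⟩)
      refine ⟨Commute.one_right _, ?_, ?_⟩
      · rw [mul_one, hX0S m hm]; exact hs
      · have e : (m * x * m⁻¹)⁻¹ = (oneAdd _ (hconj m hm).1.sq)⁻¹ := by
          congr 1; exact Units.ext (by rw [oneAdd_val, ← hX0S m hm]; abel)
        rw [mul_one, e, oneAdd_inv_val, sub_sub_cancel_left]
        exact Submodule.neg_mem _ hs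
    have hU : ∀ g ∈ N, ∀ u ∈ Subgroup.closure X0, g * u * g⁻¹ ∈ Subgroup.closure X0 := by
      intro g hg u hu
      induction hu using Subgroup.closure_induction with
      | mem u hu =>
        obtain ⟨m, hm, rfl⟩ := hu
        exact Subgroup.subset_closure ⟨g * m, N.mul_mem hg hm, by simp [mul_assoc]⟩
      | one => simp
      | mul a b _ _ iha ihb => simpa [mul_assoc] using Subgroup.mul_mem _ iha ihb
      | inv a _ iha => simpa [mul_assoc] using Subgroup.inv_mem _ iha
    have hNU : NoUnip N := ((semi_grp h2 h3 hG hA).normal hNle hN).noUnip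
    have hg : n * x * n⁻¹ * x⁻¹ ∈ N := by
      have h := N.mul_mem hn (hN x (Subgroup.subset_closure ⟨hx, hxl⟩) n⁻¹ (N.inv_mem hn))
      simpa [mul_assoc] using h
    have hg' : n * x * n⁻¹ * x⁻¹ ∈ Subgroup.closure X0 :=
      Subgroup.mul_mem _ (Subgroup.subset_closure ⟨n, hn, rfl⟩)
        (Subgroup.inv_mem _ (Subgroup.subset_closure ⟨1, N.one_mem, by simp⟩))
    have h0 := hNU ((fun u : LinearMap.GeneralLinearGroup k M => (u : Module.End k M) - 1) ''
        ((N ⊓ Subgroup.closure X0 : Subgroup (LinearMap.GeneralLinearGroup k M)) : Set (LinearMap.GeneralLinearGroup k M)))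
      (by rintro _ ⟨u, hu, rfl⟩; exact ⟨u, hu.1, by simp⟩)
      (by
        rintro g hgN _ ⟨u, hu, rfl⟩
        exact ⟨g * u * g⁻¹, ⟨N.mul_mem (N.mul_mem hgN hu.1) (N.inv_mem hgN), hU g hgN u hu.2⟩,
          by simp [conjE, mul_sub, sub_mul]⟩)
      ⟨L, fun l hl hlen => by
        have : l.prod ∈ wordSpan (insert 0 S) l.length := by
          clear hlen
          induction l with
          | nil => exact Submodule.subset_span ⟨[], by simp, le_rfl, rfl⟩
          | cons a t ih =>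
            rw [List.prod_cons, List.length_cons, add_comm]
            obtain ⟨u, hu, rfl⟩ := hl a (by simp)
            exact wordSpan_mul (hdev u hu.2) (ih fun b hb => hl b (by simp [hb]))
        rw [hlen, wordSpan_eq_bot hL le_rfl] at this
        exact (Submodule.mem_bot k).1 this⟩ _ ⟨_, ⟨hg, hg'⟩, rfl⟩
    refine hnx ?_
    have e : n * x * n⁻¹ * x⁻¹ = 1 := Units.ext (by simpa [sub_eq_zero] using h0)
    rw [mul_inv_eq_one, mul_inv_eq_iff_eq_mul] at e
    exact e
  -- a root element in `N`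
  obtain ⟨h1min, h1l⟩ := hconj n₁ hn₁
  obtain ⟨h2min, h2l⟩ := hconj n₂ hn₂
  set X₁ := conjE n₁ ((x : Module.End k M) - 1) with hX₁
  set X₂ := conjE n₂ ((x : Module.End k M) - 1) with hX₂
  have hgenN : ∀ {Y : Module.End k M} (hY : Linked G A Y), ∀ z ∈ rootGroup G Y (hY.isMin hA).sq,
      ∀ m ∈ N, z * m * z⁻¹ ∈ N := fun hY z hz => hN z (rootGroup_le_grp h2 h3 hG.noUnip hA hY hz)
  have hq : oneAdd X₂ h2min.sq * (oneAdd X₁ h1min.sq)⁻¹ ∈ N := by
    have hxg : x ∈ grp G A := Subgroup.subset_closure ⟨hx, hxl⟩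
    have e1 : oneAdd X₁ h1min.sq = n₁ * x * n₁⁻¹ := Units.ext (by simp [hX₁, conjE, mul_sub, sub_mul])
    have e2 : oneAdd X₂ h2min.sq = n₂ * x * n₂⁻¹ := Units.ext (by simp [hX₂, conjE, mul_sub, sub_mul])
    have h := N.mul_mem hn₂ (hN x hxg _ (N.mul_mem (N.inv_mem hn₂) hn₁))
    rw [e1, e2]
    simpa [mul_assoc] using N.mul_mem h (N.inv_mem hn₁)
  obtain ⟨Y, hY, hYl, hYN⟩ : ∃ (Y : Module.End k M) (hY : IsMin G Y), Linked G A Y ∧ oneAdd Y hY.sq ∈ N := by
    by_cases hnil : IsNilpotent (X₁ * X₂ + X₂ * X₁)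
    · have hnil' : IsNilpotent (X₂ * X₁ + X₁ * X₂) := by rwa [add_comm]
      obtain ⟨hN', -⟩ := nilpotentPair_data h2 h2min h1min hnil' (Ne.symm hne)
      refine ⟨_, hN', h2l.trans (linked_bracket h2 h3 hG.noUnip h2min h1min hnil' (Ne.symm hne)), ?_⟩
      set q := oneAdd X₂ h2min.sq * (oneAdd X₁ h1min.sq)⁻¹ with hqdef
      have hin : q * (oneAdd X₁ h1min.sq * q⁻¹ * (oneAdd X₁ h1min.sq)⁻¹) ∈ N :=
        N.mul_mem hq (hgenN h1l _ (oneAdd_mem_rootGroup (self_mem_rootSpace h1min.rt)) _ (N.inv_mem hq))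
      have e : oneAdd (X₂ * X₁ - X₁ * X₂) hN'.sq = q * (oneAdd X₁ h1min.sq * q⁻¹ * (oneAdd X₁ h1min.sq)⁻¹) := by
        rw [show q * (oneAdd X₁ h1min.sq * q⁻¹ * (oneAdd X₁ h1min.sq)⁻¹)
          = oneAdd X₂ h2min.sq * oneAdd X₁ h1min.sq * (oneAdd X₂ h2min.sq)⁻¹ * (oneAdd X₁ h1min.sq)⁻¹ by
            rw [hqdef]; group]
        refine Units.ext ?_
        rw [commutator_val (oneAdd_val X₂ h2min.sq) (oneAdd_val X₁ h1min.sq) h2min.sq h1min.sq
          (classTwo h2 h2min h1min.rt hnil') (classTwo h2 h1min h2min.rt hnil), oneAdd_val]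
      rw [e]; exact hin
    · exact ⟨X₁, h1min, h1l, (mem_of_opp h2 h3 (⟨h1min, h2min, hnil⟩ : Opp G X₁ X₂) (hgenN h1l) (hgenN h2l)
        (Or.inr hq)).1⟩
  have hprop : ∀ Z : Module.End k M, Linked G Y Z → ∀ hZ : IsMin G Z, oneAdd Z hZ.sq ∈ N := by
    intro Z hl
    induction hl with
    | refl => exact fun _ => hYN
    | @tail B C hB hBC ih =>
      intro hC
      exact (mem_of_opp h2 h3 hBC (hgenN (hYl.trans hB)) (hgenN (hYl.trans (hB.tail hBC)))
        (Or.inl (ih hBC.1))).2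
  refine (Subgroup.closure_le N).2 fun z hz => ?_
  rw [show z = oneAdd _ hz.1.sq from Units.ext (by simp)]
  exact hprop _ (hYl.symm.trans hz.2) hz.1

theorem quasisimple_grp {A : Module.End k M} (hA : IsMin G A) : Cfsg.IsQuasisimple ↥(grp G A) := by
  set H := grp G A with hH
  have hperf : Group.IsPerfect H := by
    refine ⟨Subgroup.map_injective (Subgroup.subtype_injective H) ?_⟩
    rw [commutator_def, Subgroup.map_commutator, ← MonoidHom.range_eq_map, Subgroup.range_subtype]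
    exact le_antisymm (Subgroup.commutator_le.2 fun a ha b hb => by
      rw [commutatorElement_def]; exact H.mul_mem (H.mul_mem (H.mul_mem ha hb) (H.inv_mem ha)) (H.inv_mem hb))
      (perfect_grp h2 h3 hG.noUnip hA)
  obtain ⟨Z, hZ, hne⟩ := exists_not_commute h2 h3 hG.noUnip hA
  have hne' : Subgroup.center H ≠ ⊤ := by
    intro htop
    have ha : oneAdd A hA.sq ∈ H := Subgroup.subset_closure ⟨by simpa using hA, by rw [oneAdd_val, add_sub_cancel_left]; exact Relation.ReflTransGen.refl⟩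
    have hb : oneAdd Z hZ.2.1.sq ∈ H :=
      Subgroup.subset_closure ⟨by simpa using hZ.2.1, by rw [oneAdd_val, add_sub_cancel_left]; exact Relation.ReflTransGen.single hZ⟩
    have := Subgroup.mem_center_iff.1 (htop ▸ Subgroup.mem_top (⟨_, ha⟩ : H)) ⟨_, hb⟩
    have h' := congrArg (fun g : H => ((g : LinearMap.GeneralLinearGroup k M) : Module.End k M)) this
    simp only [Subgroup.coe_mul, Units.val_mul, oneAdd_val] at h'
    apply hne
    linear_combination (norm := noncomm_ring) -h'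
  refine ⟨hperf, ?_⟩
  haveI : Nontrivial (H ⧸ Subgroup.center H) := QuotientGroup.nontrivial_iff.2 hne'
  refine { eq_bot_or_eq_top_of_normal := fun K hK => ?_ }
  set N := (K.comap (QuotientGroup.mk' (Subgroup.center H))).map H.subtype with hN
  have hcomap := Subgroup.map_comap_eq_self_of_surjective (QuotientGroup.mk'_surjective (Subgroup.center H)) K
  have hnorm : ∀ h ∈ H, ∀ n ∈ N, h * n * h⁻¹ ∈ N := by
    rintro h hh _ ⟨m, hm, rfl⟩
    exact ⟨⟨h, hh⟩ * m * ⟨h, hh⟩⁻¹, (hK.comap _).conj_mem m hm ⟨h, hh⟩, rfl⟩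
  rcases normal_grp h2 h3 hG hA (N := N) (Subgroup.map_subtype_le _) hnorm with hc | htop
  · left
    rw [← hcomap, Subgroup.map_eq_bot_iff, QuotientGroup.ker_mk']
    intro m hm
    refine Subgroup.mem_center_iff.2 fun h => Subtype.ext ?_
    exact (hc m ⟨m, hm, rfl⟩ h h.2).symm
  · right
    rw [← hcomap]
    have : K.comap (QuotientGroup.mk' (Subgroup.center H)) = ⊤ := by
      refine Subgroup.map_injective (Subgroup.subtype_injective H) ?_
      rw [← hN, htop, ← MonoidHom.range_eq_map, Subgroup.range_subtype]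
    rw [this, Subgroup.map_top_of_surjective _ (QuotientGroup.mk'_surjective _)]

end

end Cfsg.Agent.H88
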