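/-
The group generated by quadratic elements is a central product of quasisimple factors.
-/
import Cfsg.Agent.H88.QDecomp
import Cfsg.Agent.H88.QQuasisimple
set_option autoImplicit false
set_option maxHeartbeats 1000000

namespace Cfsg.Agent.H88

open Module
open scoped commutatorElement

universe u v

variable {k : Type u} [Field k] {M : Type v} [AddCommGroup M] [Module k M] [FiniteDimensional k M]
  {G : Subgroup (LinearMap.GeneralLinearGroup k M)}

/-- `G` together with its centralizer acts irreducibly. -/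
def Iso (G : Subgroup (LinearMap.GeneralLinearGroup k M)) : Prop :=
  Cfsg.IsIrreducibleFor (G ⊔ Subgroup.centralizer (G : Set (LinearMap.GeneralLinearGroup k M)))

/-- Generated by its quadratic elements. -/
def RtGen (G : Subgroup (LinearMap.GeneralLinearGroup k M)) : Prop :=
  Subgroup.closure {g : LinearMap.GeneralLinearGroup k M | Rt G ((g : Module.End k M) - 1)} = G

/-- Quadratic elements commuting with all minimal ones. -/
def restGroup (G : Subgroup (LinearMap.GeneralLinearGroup k M)) : Subgroup (LinearMap.GeneralLinearGroup k M) :=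
  Subgroup.closure {g : LinearMap.GeneralLinearGroup k M | Rt G ((g : Module.End k M) - 1) ∧
    ∀ A : Module.End k M, IsMin G A → ((g : Module.End k M) - 1) * A = A * ((g : Module.End k M) - 1)}

omit [FiniteDimensional k M] in
lemma val_conj_sub (h g : LinearMap.GeneralLinearGroup k M) :
    ((h * g * h⁻¹ : LinearMap.GeneralLinearGroup k M) : Module.End k M) - 1 = conjE h ((g : Module.End k M) - 1) := by
  simp [conjE, mul_sub, sub_mul]

omit [FiniteDimensional k M] in
lemma conj_mem_closure {h : LinearMap.GeneralLinearGroup k M} {X : Set (LinearMap.GeneralLinearGroup k M)}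
    (hX : ∀ g ∈ X, h * g * h⁻¹ ∈ Subgroup.closure X) {g : LinearMap.GeneralLinearGroup k M}
    (hg : g ∈ Subgroup.closure X) : h * g * h⁻¹ ∈ Subgroup.closure X := by
  induction hg using Subgroup.closure_induction with
  | mem g hg => exact hX g hg
  | one => simp
  | mul a b _ _ iha ihb => simpa [mul_assoc] using Subgroup.mul_mem _ iha ihb
  | inv a _ iha => simpa [mul_assoc] using Subgroup.inv_mem _ iha

omit [FiniteDimensional k M] in
lemma commute_units {g h : LinearMap.GeneralLinearGroup k M}
    (e : ((g : Module.End k M) - 1) * ((h : Module.End k M) - 1) = ((h : Module.End k M) - 1) * ((g : Module.End k M) - 1)) :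
    g * h = h * g := by
  refine Units.ext ?_
  rw [Units.val_mul, Units.val_mul]
  linear_combination (norm := noncomm_ring) e

omit [FiniteDimensional k M] in
lemma minGroup_le : minGroup G ≤ G := (Subgroup.closure_le G).2 fun g hg => hg.rt.mem 1 (by simp)

omit [FiniteDimensional k M] in
lemma restGroup_le : restGroup G ≤ G := (Subgroup.closure_le G).2 fun g hg => hg.1.mem 1 (by simp)

omit [FiniteDimensional k M] in
lemma restGroup_normal {h : LinearMap.GeneralLinearGroup k M} (hh : h ∈ G) {g : LinearMap.GeneralLinearGroup k M}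
    (hg : g ∈ restGroup G) [FiniteDimensional k M] : h * g * h⁻¹ ∈ restGroup G := by
  refine conj_mem_closure (X := {g : LinearMap.GeneralLinearGroup k M | Rt G ((g : Module.End k M) - 1) ∧
    ∀ A : Module.End k M, IsMin G A → ((g : Module.End k M) - 1) * A = A * ((g : Module.End k M) - 1)})
    (fun g hg => Subgroup.subset_closure ⟨?_, fun A hA => ?_⟩) hg
  · rw [val_conj_sub]; exact hg.1.conj hh
  · rw [val_conj_sub]
    have h1 := congrArg (conjE h) (hg.2 _ (hA.conj (G.inv_mem hh)))
    rwa [← conjE_mul, ← conjE_mul, conjE_conjE, mul_inv_cancel, conjE_one] at h1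

omit [FiniteDimensional k M] in
lemma restGroup_commute : ⁅minGroup G, restGroup G⁆ = ⊥ := by
  refine Subgroup.commutator_eq_bot_iff_le_centralizer.2 ((Subgroup.closure_le _).2 fun x hx => ?_)
  rw [SetLike.mem_coe, restGroup, Subgroup.centralizer_closure, Subgroup.mem_centralizer_iff]
  intro y hy
  exact commute_units (hy.2 _ hx)

omit [FiniteDimensional k M] in
lemma Rt.mono {K : Subgroup (LinearMap.GeneralLinearGroup k M)} (hK : K ≤ G) {X : Module.End k M} (h : Rt K X) :
    Rt G X := ⟨h.1, fun c => let ⟨g, hg, e⟩ := h.2 c; ⟨g, hK hg, e⟩⟩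

omit [FiniteDimensional k M] in
lemma rt_restGroup {X : Module.End k M} (hX : Rt G X) (hc : ∀ A : Module.End k M, IsMin G A → X * A = A * X) :
    Rt (restGroup G) X := by
  refine ⟨hX.1, fun c => ⟨oneAdd (c • X) (smul_sq X hX.1 c), Subgroup.subset_closure ⟨?_, fun A hA => ?_⟩, rfl⟩⟩
  · simpa using hX.smul c
  · simp [hc A hA]

omit [FiniteDimensional k M] in
lemma rtGen_restGroup : RtGen (restGroup G) := by
  refine le_antisymm ((Subgroup.closure_le _).2 fun g hg => hg.mem 1 (by simp)) ?_
  exact Subgroup.closure_mono fun g hg => rt_restGroup hg.1 hg.2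

omit [FiniteDimensional k M] in
lemma Iso.semi [FiniteDimensional k M] (hG : Iso G) : Semi G := by
  refine (semi_of_irreducible hG).normal le_sup_left ?_
  intro h hh g hg
  have : G ⊔ Subgroup.centralizer (G : Set (LinearMap.GeneralLinearGroup k M)) ≤
      Subgroup.normalizer (G : Set (LinearMap.GeneralLinearGroup k M)) :=
    sup_le Subgroup.le_normalizer (fun z hz => by
      rw [Subgroup.mem_normalizer_iff]
      intro n
      constructor
      · intro hn
        rw [← Subgroup.mem_centralizer_iff.1 hz n hn, mul_inv_cancel_right]; exact hn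
      · intro hn
        have e := Subgroup.mem_centralizer_iff.1 hz _ hn
        rw [show z * n * z⁻¹ * z = z * n by group] at e
        rw [mul_left_cancel e]; exact hn)
  exact (Subgroup.mem_normalizer_iff.1 (this hh) g).1 hg

lemma rootGroup_le_minGroup {A : Module.End k M} (hA : IsMin G A) : oneAdd A hA.sq ∈ minGroup G :=
  Subgroup.subset_closure (by simpa using hA)

theorem quadratic_mem_sup (h2 : (2 : k) ≠ 0) (h3 : Nat.card k ≠ 3) (hG : NoUnip G) {X : Module.End k M}
    (hX : Rt G X) : oneAdd X hX.sq ∈ minGroup G ⊔ restGroup G := by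
  generalize hn : rk X = n
  induction n using Nat.strong_induction_on generalizing X with
  | _ n ih =>
    by_cases hnull : MinNull G X
    · refine Subgroup.mem_sup_right ?_
      exact (rt_restGroup hX (fun A hA => commute_of_minNull h2 h3 hG hX hnull hA)).oneAdd_mem
    · unfold MinNull at hnull
      push Not at hnull
      obtain ⟨A, hA, hne⟩ := hnull
      obtain ⟨X₁, X₂, h₁, h₂, rfl, hp, -, hlt⟩ := split_quadratic h2 h3 hX hA hne
      have e : oneAdd (X₁ + X₂) hX.sq = oneAdd X₁ h₁.sq * oneAdd X₂ h₂.sq := by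
        refine Units.ext ?_
        simp only [Units.val_mul, oneAdd_val, add_mul, mul_add, one_mul, mul_one, hp]
        abel
      rw [e]
      exact Subgroup.mul_mem _ (Subgroup.mem_sup_left (rootGroup_le_minGroup h₁)) (ih _ (hn ▸ hlt) h₂ rfl)

theorem le_minGroup_sup_restGroup (h2 : (2 : k) ≠ 0) (h3 : Nat.card k ≠ 3) (hG : NoUnip G) (hgen : RtGen G) :
    G ≤ minGroup G ⊔ restGroup G := by
  conv_lhs => rw [← hgen]
  refine (Subgroup.closure_le _).2 fun g hg => ?_
  have := quadratic_mem_sup h2 h3 hG hg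
  rwa [show oneAdd _ hg.sq = g from Units.ext (by simp)] at this

lemma Iso.restGroup (h2 : (2 : k) ≠ 0) (h3 : Nat.card k ≠ 3) (hG : Iso G) (hgen : RtGen G) :
    Iso (Cfsg.Agent.H88.restGroup G) := by
  have hG' := hG
  obtain ⟨hne, hirr⟩ := hG'
  refine ⟨hne, fun W hW => hirr W fun g hg => hW g ?_⟩
  have hmin : minGroup G ≤
      Subgroup.centralizer (Cfsg.Agent.H88.restGroup G : Set (LinearMap.GeneralLinearGroup k M)) :=
    Subgroup.commutator_eq_bot_iff_le_centralizer.1 restGroup_commute
  exact (sup_le ((le_minGroup_sup_restGroup h2 h3 hG.semi.noUnip hgen).trans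
      (sup_le (hmin.trans le_sup_right) le_sup_left))
    ((Subgroup.centralizer_le restGroup_le).trans le_sup_right)) hg

/-- A family of subgroups as in the conclusion. -/
structure IsFactorFamily (G : Subgroup (LinearMap.GeneralLinearGroup k M)) {ι : Type}
    (F : ι → Subgroup (LinearMap.GeneralLinearGroup k M)) : Prop where
  le : ∀ i, F i ≤ G
  normal : ∀ i, ∀ g ∈ G, ∀ x ∈ F i, g * x * g⁻¹ ∈ F i
  comm : ∀ i j, i ≠ j → ⁅F i, F j⁆ = ⊥
  iSup_eq : (⨆ i, F i) = G
  quasi : ∀ i, Cfsg.IsQuasisimple ↥(F i)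
  gen : ∀ i, F i ≤ Subgroup.closure (Cfsg.quadraticElements G ∩ (F i : Set (LinearMap.GeneralLinearGroup k M)))
  one : ∀ X, ∀ hX : Rt G X, X ≠ 0 → ∃ i, ∀ c : k, oneAdd (c • X) (smul_sq X hX.sq c) ∈ F i

/-- In an irreducible setting two non-zero pieces from different factors have non-zero product. -/
lemma product_ne_zero {ι : Type} {F : ι → Subgroup (LinearMap.GeneralLinearGroup k M)} (hiso : Iso G)
    (hcomm : ∀ i j, i ≠ j → ⁅F i, F j⁆ = ⊥) (hle : G ≤ ⨆ i, F i) (hFG : ∀ i, F i ≤ G) {i j : ι} (hij : i ≠ j)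
    {Y Z : Module.End k M} {hY : Y * Y = 0} {hZ : Z * Z = 0} (hYi : oneAdd Y hY ∈ F i) (hZj : oneAdd Z hZ ∈ F j)
    (hp : Y * Z = 0) : Y = 0 ∨ Z = 0 := by
  set W : Submodule k M := ⨅ h ∈ F i, LinearMap.ker (conjE h Y) with hW
  have hel : ∀ {a b}, a ≠ b → ∀ x ∈ F a, ∀ y ∈ F b, x * y = y * x := by
    intro a b hab x hx y hy
    exact (Subgroup.mem_centralizer_iff.1
      (Subgroup.commutator_eq_bot_iff_le_centralizer.1 (hcomm a b hab) hx) y hy).symm
  have hZW : LinearMap.range Z ≤ W := by
    refine le_iInf₂ fun h hh => ?_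
    rintro _ ⟨m, rfl⟩
    rw [LinearMap.mem_ker, ← Module.End.mul_apply]
    have e : conjE h Z = Z := by
      have e0 := congrArg (fun g : LinearMap.GeneralLinearGroup k M => (g : Module.End k M))
        (hel hij h hh _ hZj)
      simp only [Units.val_mul, oneAdd_val, mul_add, mul_one, add_mul, one_mul, add_right_inj] at e0
      rw [conjE, e0, mul_assoc, Units.mul_inv, mul_one]
    rw [← e, conjE_mul, hp, conjE_zero]; rfl
  have hinv : ∀ g ∈ G ⊔ Subgroup.centralizer (G : Set (LinearMap.GeneralLinearGroup k M)), ∀ w ∈ W,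
      (g : M →ₗ[k] M) w ∈ W := by
    -- the maps preserving the set of conjugates of `Y`
    let N : Subgroup (LinearMap.GeneralLinearGroup k M) :=
      { carrier := {g | (∀ h ∈ F i, ∃ h' ∈ F i, conjE g (conjE h Y) = conjE h' Y) ∧
          ∀ h ∈ F i, ∃ h' ∈ F i, conjE g⁻¹ (conjE h Y) = conjE h' Y}
        one_mem' := ⟨fun h hh => ⟨h, hh, by rw [conjE_one]⟩, fun h hh => ⟨h, hh, by rw [inv_one, conjE_one]⟩⟩
        mul_mem' := fun {a b} ha hb => ⟨fun h hh => by
            obtain ⟨h', hh', e⟩ := hb.1 h hh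
            obtain ⟨h'', hh'', e'⟩ := ha.1 h' hh'
            exact ⟨h'', hh'', by rw [← conjE_conjE, e, e']⟩, fun h hh => by
            obtain ⟨h', hh', e⟩ := ha.2 h hh
            obtain ⟨h'', hh'', e'⟩ := hb.2 h' hh'
            exact ⟨h'', hh'', by rw [_root_.mul_inv_rev, ← conjE_conjE, e, e']⟩⟩
        inv_mem' := fun {a} ha => ⟨ha.2, by simpa using ha.1⟩ }
    have hfixY : ∀ g : LinearMap.GeneralLinearGroup k M, (∀ x ∈ F i, g * x = x * g) → g ∈ N := by
      intro g hg
      have key : ∀ u : LinearMap.GeneralLinearGroup k M, (∀ x ∈ F i, u * x = x * u) →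
          ∀ h ∈ F i, ∃ h' ∈ F i, conjE u (conjE h Y) = conjE h' Y := by
        intro u hu h hh
        refine ⟨h, hh, ?_⟩
        rw [conjE_conjE, hu h hh, ← conjE_conjE]
        have e0 := congrArg (fun g : LinearMap.GeneralLinearGroup k M => (g : Module.End k M)) (hu _ hYi)
        simp only [Units.val_mul, oneAdd_val, mul_add, mul_one, add_mul, one_mul, add_right_inj] at e0
        rw [show conjE u Y = Y by rw [conjE, e0, mul_assoc, Units.mul_inv, mul_one]]
      exact ⟨key g hg, key g⁻¹ fun x hx => (Commute.inv_left (hg x hx) : Commute g⁻¹ x)⟩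
    have hN : G ⊔ Subgroup.centralizer (G : Set (LinearMap.GeneralLinearGroup k M)) ≤ N := by
      refine sup_le (hle.trans (iSup_le fun a => ?_)) fun g hg => hfixY g fun x hx =>
        (Subgroup.mem_centralizer_iff.1 hg x (hFG i hx)).symm
      by_cases ha : a = i
      · subst ha
        exact fun g hg => ⟨fun h hh => ⟨g * h, Subgroup.mul_mem _ hg hh, conjE_conjE g h Y⟩,
          fun h hh => ⟨g⁻¹ * h, Subgroup.mul_mem _ (Subgroup.inv_mem _ hg) hh, conjE_conjE g⁻¹ h Y⟩⟩
      · exact fun g hg => hfixY g fun x hx => hel ha g hg x hx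
    intro g hg w hw
    obtain ⟨-, hg2⟩ := hN hg
    simp only [hW, Submodule.mem_iInf, LinearMap.mem_ker] at hw ⊢
    intro h hh
    obtain ⟨h', hh', e⟩ := hg2 h hh
    have e2 : conjE h Y = conjE g (conjE h' Y) := by rw [← e, conjE_conjE g, mul_inv_cancel, conjE_one]
    rw [e2]
    show ((g : Module.End k M) * conjE h' Y * _) ((g : Module.End k M) w) = 0
    rw [← Module.End.mul_apply, mul_assoc, Units.inv_mul, mul_one, Module.End.mul_apply, hw h' hh', map_zero]
  rcases hiso.2 W hinv with h | h
  · exact Or.inr (LinearMap.range_eq_bot.1 (le_bot_iff.1 (h ▸ hZW)))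
  · refine Or.inl (LinearMap.ext fun m => ?_)
    have : m ∈ W := h ▸ Submodule.mem_top
    simp only [hW, Submodule.mem_iInf, LinearMap.mem_ker] at this
    simpa [conjE_one] using this 1 (Subgroup.one_mem _)

theorem exists_factors (h2 : (2 : k) ≠ 0) (h3 : Nat.card k ≠ 3) (hiso : Iso G) (hgen : RtGen G) :
    ∃ (s : ℕ) (F : Fin s → Subgroup (LinearMap.GeneralLinearGroup k M)), IsFactorFamily G F := by
  generalize hd : finrank k (Submodule.span k {X : Module.End k M | Rt G X}) = d
  induction d using Nat.strong_induction_on generalizing G with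
  | _ d ih =>
  by_cases hz : ∀ X : Module.End k M, Rt G X → X = 0
  · have hG : G = ⊥ := by
      rw [← hgen, Subgroup.closure_eq_bot_iff]
      intro g hg
      exact Units.ext (sub_eq_zero.1 (hz _ hg))
    refine ⟨0, Fin.elim0, ⟨fun i => i.elim0, fun i => i.elim0, fun i => i.elim0, ?_, fun i => i.elim0,
      fun i => i.elim0, fun X hX hX0 => absurd (hz X hX) hX0⟩⟩
    rw [iSup_of_empty, hG]
  obtain ⟨A, hA⟩ : ∃ A, IsMin G A := by
    push Not at hz
    obtain ⟨X, hX, hX0⟩ := hz
    classical
    have hex : ∃ n, ∃ A, Rt G A ∧ A ≠ 0 ∧ rk A = n := ⟨_, X, hX, hX0, rfl⟩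
    obtain ⟨A, h1, h2', h3'⟩ := Nat.find_spec hex
    exact ⟨A, h1, h2', fun B hB hB0 => h3' ▸ Nat.find_min' hex ⟨B, hB, hB0, rfl⟩⟩
  have hsemi := hiso.semi
  have hnu := hsemi.noUnip
  set G' := restGroup G with hG'
  have hlt : finrank k (Submodule.span k {X : Module.End k M | Rt G' X}) < d := by
    rw [← hd]
    refine Submodule.finrank_lt_finrank_of_lt (lt_of_le_of_ne
      (Submodule.span_mono fun X hX => hX.mono restGroup_le) fun e => ?_)
    obtain ⟨B, hB, hne⟩ := exists_not_commute h2 h3 hnu hA
    have hmem : A ∈ Submodule.span k {X : Module.End k M | Rt G' X} := e ▸ Submodule.subset_span hA.rt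
    apply hne
    have key : ∀ X ∈ Submodule.span k {X : Module.End k M | Rt G' X}, X * B = B * X := ?key
    exact key A hmem
    intro X hX
    clear hmem
    induction hX using Submodule.span_induction with
    | mem X hX =>
      have h := Subgroup.mem_centralizer_iff.1 (Subgroup.commutator_eq_bot_iff_le_centralizer.1
        (restGroup_commute (G := G)) (rootGroup_le_minGroup hB.2.1)) _ hX.oneAdd_mem
      have h' := congrArg (fun g : LinearMap.GeneralLinearGroup k M => (g : Module.End k M)) h
      simp only [Units.val_mul, oneAdd_val] at h'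
      linear_combination (norm := noncomm_ring) h'
    | zero => simp
    | add a b _ _ ha hb => rw [add_mul, mul_add, ha, hb]
    | smul c a _ ha => rw [smul_mul_assoc, mul_smul_comm, ha]
  obtain ⟨s, F', hF'⟩ := ih _ hlt (hiso.restGroup h2 h3 hgen) rtGen_restGroup rfl
  obtain ⟨r, f, hf, hu, hcov⟩ := exists_components h2 h3 hnu
  let F : Fin r ⊕ Fin s → Subgroup (LinearMap.GeneralLinearGroup k M) := Sum.elim (fun i => grp G (f i)) F'
  have hgmin : ∀ a, grp G (f a) ≤ minGroup G := fun a =>
    (Subgroup.closure_le _).2 fun g hg => Subgroup.subset_closure hg.1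
  have hle : ∀ a, F a ≤ G := by
    rintro (a | a)
    · exact (hgmin a).trans minGroup_le
    · exact (hF'.le a).trans restGroup_le
  have hcomm : ∀ a b, a ≠ b → ⁅F a, F b⁆ = ⊥ := by
    rintro (a | a) (b | b) hab
    · exact commutator_grp h2 h3 hnu (hu a b (fun e => hab (congrArg Sum.inl e)))
    · exact le_bot_iff.1 (restGroup_commute (G := G) ▸ Subgroup.commutator_mono (hgmin a) (hF'.le b))
    · exact le_bot_iff.1 (restGroup_commute (G := G) ▸ (Subgroup.commutator_comm _ _).trans_le
        (Subgroup.commutator_mono (hgmin b) (hF'.le a)))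
    · exact hF'.comm a b (fun e => hab (congrArg Sum.inr e))
  have hminsup : minGroup G ≤ ⨆ a, F a := by
    refine (Subgroup.closure_le _).2 fun g hg => ?_
    obtain ⟨i, hi⟩ := hcov _ hg
    exact Subgroup.mem_iSup_of_mem (Sum.inl i) (Subgroup.subset_closure ⟨hg, hi⟩)
  have hGsup : G ≤ ⨆ a, F a := (le_minGroup_sup_restGroup h2 h3 hnu hgen).trans (sup_le hminsup (by
    rw [← hF'.iSup_eq]; exact iSup_le fun a => le_iSup F (Sum.inr a)))
  have hone : ∀ X, ∀ hX : Rt G X, X ≠ 0 → ∃ a, ∀ c : k, oneAdd (c • X) (smul_sq X hX.sq c) ∈ F a := by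
    intro X hX hX0
    generalize hn : rk X = n
    induction n using Nat.strong_induction_on generalizing X with
    | _ n ihn =>
      by_cases hnull : MinNull G X
      · obtain ⟨a, ha⟩ := hF'.one X (rt_restGroup hX (fun B hB => commute_of_minNull h2 h3 hnu hX hnull hB)) hX0
        exact ⟨Sum.inr a, ha⟩
      · unfold MinNull at hnull
        push Not at hnull
        obtain ⟨B, hB, hne⟩ := hnull
        obtain ⟨X₁, X₂, h₁, h₂, rfl, hp, -, hlt'⟩ := split_quadratic h2 h3 hX hB hne
        obtain ⟨i, hi⟩ := hcov X₁ h₁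
        have h1mem : ∀ c : k, oneAdd (c • X₁) (smul_sq X₁ h₁.sq c) ∈ F (Sum.inl i) := fun c =>
          rootGroup_le_grp h2 h3 hnu (hf i) hi
            (oneAdd_mem_rootGroup (Submodule.smul_mem _ c (self_mem_rootSpace h₁.rt)))
        refine ⟨Sum.inl i, fun c => ?_⟩
        have e : oneAdd (c • (X₁ + X₂)) (smul_sq _ hX.sq c)
            = oneAdd (c • X₁) (smul_sq X₁ h₁.sq c) * oneAdd (c • X₂) (smul_sq X₂ h₂.sq c) := by
          refine Units.ext ?_
          simp only [Units.val_mul, oneAdd_val, add_mul, mul_add, one_mul, mul_one, smul_add,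
            smul_mul_smul_comm, hp, smul_zero]
          abel
        rw [e]
        refine Subgroup.mul_mem _ (h1mem c) ?_
        rcases eq_or_ne X₂ 0 with h0 | h0
        · convert Subgroup.one_mem (F (Sum.inl i))
          exact Units.ext (by simp [h0])
        obtain ⟨b, hb⟩ := ihn _ (hn ▸ hlt') X₂ h₂ h0 rfl
        by_cases hbi : Sum.inl i = b
        · exact hbi ▸ hb c
        exfalso
        rcases product_ne_zero hiso hcomm hGsup hle hbi (Y := (1 : k) • X₁) (Z := (1 : k) • X₂) (h1mem 1) (hb 1)
          (by rw [smul_mul_smul_comm, hp, smul_zero]) with h | h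
        · exact h₁.2.1 (by simpa using h)
        · exact h0 (by simpa using h)
  have hnorm : ∀ a, G ≤ Subgroup.normalizer (F a : Set (LinearMap.GeneralLinearGroup k M)) := by
    intro a
    refine hGsup.trans (iSup_le fun b => ?_)
    by_cases hab : b = a
    · exact hab ▸ Subgroup.le_normalizer
    · intro x hx
      have hx' := Subgroup.mem_centralizer_iff.1
        (Subgroup.commutator_eq_bot_iff_le_centralizer.1 (hcomm b a hab) hx)
      rw [Subgroup.mem_normalizer_iff]
      intro n
      constructor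
      · intro hn; rw [← hx' n hn, mul_inv_cancel_right]; exact hn
      · intro hn
        have e := hx' _ hn
        rw [show x * n * x⁻¹ * x = x * n by group] at e
        rw [mul_left_cancel e]; exact hn
  refine ⟨r + s, F ∘ finSumFinEquiv.symm, ⟨fun a => hle _, ?_, ?_, ?_, ?_, ?_, ?_⟩⟩
  · intro a g hg x hx
    exact (Subgroup.mem_normalizer_iff.1 (hnorm _ hg) x).1 hx
  · exact fun a b hab => hcomm _ _ (fun e => hab (finSumFinEquiv.symm.injective e))
  · refine le_antisymm (iSup_le fun a => hle _) (hGsup.trans (iSup_le fun a => ?_))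
    exact le_iSup_of_le (finSumFinEquiv a) (by simp)
  · have : ∀ b, Cfsg.IsQuasisimple ↥(F b) := by
      rintro (b | b)
      · exact quasisimple_grp h2 h3 hsemi (hf b)
      · exact hF'.quasi b
    exact fun a => this (finSumFinEquiv.symm a)
  · intro a
    simp only [Function.comp_apply]
    generalize finSumFinEquiv.symm a = b
    rcases b with b | b
    · refine (Subgroup.closure_le _).2 fun g hg => Subgroup.subset_closure ⟨?_, Subgroup.subset_closure hg⟩
      exact mem_quadraticElements_iff.2 ⟨hg.1.rt, hg.1.2.1⟩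
    · refine (hF'.gen b).trans (Subgroup.closure_mono ?_)
      rintro g ⟨hg, hgF⟩
      obtain ⟨hg1, hg2⟩ := mem_quadraticElements_iff.1 hg
      exact ⟨mem_quadraticElements_iff.2 ⟨hg1.mono restGroup_le, hg2⟩, hgF⟩
  · intro X hX hX0
    obtain ⟨a, ha⟩ := hone X hX hX0
    exact ⟨finSumFinEquiv a, fun c => by simpa using ha c⟩

end Cfsg.Agent.H88
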