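/-
The root subgroups as a set of abstract root subgroups of the group they generate.
-/
import Cfsg.Agent.H88.QFactors
set_option autoImplicit false
set_option maxHeartbeats 1000000

namespace Cfsg.Agent.H88

open Matrix
open scoped commutatorElement

universe u v

variable {k : Type u} [Field k] {M : Type v} [AddCommGroup M] [Module k M] [FiniteDimensional k M]
  {G : Subgroup (LinearMap.GeneralLinearGroup k M)}

lemma iSup_roots_eq_minGroup : (⨆ A ∈ Cfsg.quadraticRootSubgroups G, A) = minGroup G := by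
  refine le_antisymm (iSup₂_le fun E hE => ?_) ((Subgroup.closure_le _).2 fun g hg => ?_)
  · obtain ⟨A, hA, rfl⟩ := mem_quadraticRootSubgroups_iff.1 hE
    intro g hg
    rcases eq_or_ne g 1 with rfl | hg1
    · exact Subgroup.one_mem _
    · exact Subgroup.subset_closure (hA.of_mem_rootSpace (mem_rootGroup.1 hg) (sub_one_ne_zero hg1))
  · exact Subgroup.mem_iSup_of_mem _ (Subgroup.mem_iSup_of_mem (mem_quadraticRootSubgroups_iff.2 ⟨_, hg, rfl⟩)
      (mem_rootGroup.2 (self_mem_rootSpace hg.rt)))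

lemma rootGroup_ne_bot {A : Module.End k M} (hA : IsMin G A) : rootGroup G A hA.sq ≠ ⊥ := by
  intro e
  have h := oneAdd_mem_rootGroup (G := G) (self_mem_rootSpace hA.rt)
  rw [e, Subgroup.mem_bot] at h
  exact hA.2.1 (by simpa using congrArg Units.val h)

section

variable (h2 : (2 : k) ≠ 0) (h3 : Nat.card k ≠ 3)
include h2 h3

/-- A rank one pair is an opposite pair. -/
theorem opp_of_rankOne {A B : Module.End k M} (hA : IsMin G A) (hB : IsMin G B)
    (h : Cfsg.IsRankOnePair (rootGroup G A hA.sq) (rootGroup G B hB.sq)) : Opp G A B := by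
  refine ⟨hA, hB, fun hn => h.ne ?_⟩
  have ha : oneAdd A hA.sq ∈ rootGroup G A hA.sq := oneAdd_mem_rootGroup (self_mem_rootSpace hA.rt)
  have ha1 : oneAdd A hA.sq ≠ 1 := fun e => hA.2.1 (by simpa using congrArg Units.val e)
  obtain ⟨b, hb, hb1, e⟩ := h.cond_left _ ha ha1
  by_cases hne : A * B = B * A
  · have hcomm : ∀ x ∈ rootGroup G A hA.sq, ∀ y ∈ rootGroup G B hB.sq, x * y = y * x := fun x hx y hy =>
      (Subgroup.mem_centralizer_iff.1 (Subgroup.commutator_eq_bot_iff_le_centralizer.1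
        (commutator_eq_bot h2 hA hB hne) hx) y hy).symm
    have fix' : ∀ (E : Subgroup (LinearMap.GeneralLinearGroup k M)) g, (∀ x ∈ E, x * g = g * x) →
        Cfsg.conjBy E g⁻¹ = E := by
      intro E g hg
      ext x
      constructor
      · rintro ⟨y, hy, rfl⟩
        simpa [mul_assoc, hg y hy] using hy
      · intro hx
        exact ⟨x, hx, by simp [mul_assoc, hg x hx]⟩
    rwa [fix' _ _ (fun x hx => hcomm x hx b hb), fix' _ _ (fun y hy => (hcomm _ ha y hy).symm)] at e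
  · exfalso
    set Y := (b : Module.End k M) - 1 with hYdef
    have hY : Y ∈ rootSpace G B hB.sq := mem_rootGroup.1 hb
    have hY0 : Y ≠ 0 := sub_one_ne_zero hb1
    have hb' : b = oneAdd Y hY.1.sq := Units.ext (by simp [hYdef])
    have mY := hB.of_mem_rootSpace hY hY0
    have hneY := bracket_ne_zero h2 hA hB hne (self_mem_rootSpace hA.rt) hA.2.1 hY hY0
    have hnY := nilpotent_all h2 h3 hA hB hn (self_mem_rootSpace hA.rt) hY
    have hA3 := classTwo h2 hA mY.rt hnY
    have hY3 := classTwo h2 mY hA.rt (by rwa [add_comm])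
    rw [rootGroup_congr (G := G) (hA := hB.sq) (hA' := mY.sq) (hB.ker_eq hY hY0).symm (hB.range_eq hY hY0).symm,
      conjBy_rootGroup hA (G.inv_mem (rootGroup_le hB.sq hb)),
      conjBy_rootGroup mY (G.inv_mem hA.rt.oneAdd_mem)] at e
    have hs := rootSpace_eq_of_rootGroup_eq e
    have m1 := self_mem_rootSpace (hA.conj (G.inv_mem (rootGroup_le hB.sq hb))).rt
    have m2 := self_mem_rootSpace (mY.conj (G.inv_mem hA.rt.oneAdd_mem)).rt
    rw [← hs] at m2
    have p1 := rootSpace_mul m1 m2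
    have p2 := rootSpace_mul m2 m1
    have e1 : conjE b⁻¹ A = A + (A * Y - Y * A) := by
      rw [hb', conjE, inv_inv, oneAdd_val, oneAdd_inv_val]
      calc (1 - Y) * A * (1 + Y) = A + (A * Y - Y * A) - Y * A * Y := by noncomm_ring
        _ = _ := by rw [hY3, sub_zero]
    have e2 : conjE (oneAdd A hA.sq)⁻¹ Y = Y - (A * Y - Y * A) := by
      rw [conjE, inv_inv, oneAdd_val, oneAdd_inv_val]
      calc (1 - A) * Y * (1 + A) = Y - (A * Y - Y * A) - A * Y * A := by noncomm_ring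
        _ = _ := by rw [hA3, sub_zero]
    rw [e1, e2] at p1 p2
    have k1 : A * (Y * A) = 0 := by rw [← mul_assoc, hA3]
    have k1' : ∀ Z, A * (Y * (A * Z)) = 0 := fun Z => by simpa [mul_assoc] using congrArg (· * Z) hA3
    have k2 : Y * (A * Y) = 0 := by rw [← mul_assoc, hY3]
    have k2' : ∀ Z, Y * (A * (Y * Z)) = 0 := fun Z => by simpa [mul_assoc] using congrArg (· * Z) hY3
    have k3 : ∀ Z, A * (A * Z) = 0 := fun Z => by rw [← mul_assoc, hA.sq, zero_mul]
    have k4 : ∀ Z, Y * (Y * Z) = 0 := fun Z => by rw [← mul_assoc, mY.sq, zero_mul]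
    simp only [add_mul, mul_add, sub_mul, mul_sub, mul_assoc, k1, k1', k2, k2', k3, k4, hA.sq, mY.sq, mul_zero,
      sub_zero, add_zero, zero_add, sub_self] at p1 p2
    exact hneY (by rw [p1, p2])

/-- The trichotomy. -/
theorem root_pair (hG : NoUnip G) {A B : Module.End k M} (hA : IsMin G A) (hB : IsMin G B) :
    ⁅rootGroup G A hA.sq, rootGroup G B hB.sq⁆ = ⊥ ∨
    Cfsg.IsRankOnePair (rootGroup G A hA.sq) (rootGroup G B hB.sq) ∨
    (∃ (N : Module.End k M) (hN : IsMin G N), Linked G A N ∧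
      ⁅rootGroup G A hA.sq, rootGroup G B hB.sq⁆ = rootGroup G N hN.sq ∧
      Cfsg.RootCommutatorCase (Cfsg.quadraticRootSubgroups G) (rootGroup G A hA.sq) (rootGroup G B hB.sq)) := by
  by_cases hne : A * B = B * A
  · exact Or.inl (commutator_eq_bot h2 hA hB hne)
  by_cases hn : IsNilpotent (A * B + B * A)
  · refine Or.inr (Or.inr ?_)
    obtain ⟨r1, r2, r3, -, r5, -⟩ := classTwo_pair h2 h3 hG hA hB hn hne
    have hN := (nilpotentPair_data h2 hA hB hn hne).1
    refine ⟨_, hN, linked_bracket h2 h3 hG hA hB hn hne, ?_, r1, ?_, r2, r3⟩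
    · rw [← r2 _ (oneAdd_mem_rootGroup (self_mem_rootSpace hA.rt))
        (fun e => hA.2.1 (by simpa using congrArg Units.val e))]
      exact closure_commutators_eq h2 h3 hG hA hB hn hne (oneAdd_mem_rootGroup (self_mem_rootSpace hA.rt))
        (fun e => hA.2.1 (by simpa using congrArg Units.val e))
    · intro c hc x hx
      have hc' : c ∈ ⁅rootGroup G A hA.sq ⊔ rootGroup G B hB.sq, rootGroup G A hA.sq ⊔ rootGroup G B hB.sq⁆ :=
        Subgroup.commutator_mono le_sup_left le_sup_right hc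
      exact (Subgroup.mem_centralizer_iff.1
        (Subgroup.commutator_eq_bot_iff_le_centralizer.1 r5 hc') x hx).symm
  · exact Or.inr (Or.inl (special_pair h2 h3 hA hB fun X hX hX0 Y hY hY0 =>
      not_nilpotent_all h2 h3 hA hB (self_mem_rootSpace hA.rt) (self_mem_rootSpace hB.rt) hn hX hX0 hY hY0).1)

end

/-! ### Restriction to a subgroup containing the members -/

section subgroupOf

variable {Γ : Type*} [Group Γ] {H E F : Subgroup Γ}

lemma map_subgroupOf (hE : E ≤ H) : (E.subgroupOf H).map H.subtype = E := by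
  rw [Subgroup.subgroupOf, Subgroup.map_comap_eq, Subgroup.range_subtype, inf_eq_right.2 hE]

lemma conjBy_map (K : Subgroup H) (g : H) :
    (Cfsg.conjBy K g).map H.subtype = Cfsg.conjBy (K.map H.subtype) (g : Γ) := by
  show (K.map _).map _ = (K.map _).map _
  rw [Subgroup.map_map, Subgroup.map_map]
  congr 1

lemma rankOne_subgroupOf (hE : E ≤ H) (hF : F ≤ H) (h : Cfsg.IsRankOnePair E F) :
    Cfsg.IsRankOnePair (E.subgroupOf H) (F.subgroupOf H) := by
  have cond : ∀ {E F : Subgroup Γ}, E ≤ H → F ≤ H → Cfsg.RankOneCondition E F →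
      Cfsg.RankOneCondition (E.subgroupOf H) (F.subgroupOf H) := by
    intro E F hE hF hc a ha ha1
    obtain ⟨b, hb, hb1, e⟩ := hc a ha (fun e => ha1 (Subtype.ext e))
    refine ⟨⟨b, hF hb⟩, hb, fun e' => hb1 (congrArg Subtype.val e'), ?_⟩
    refine Subgroup.map_injective (Subgroup.subtype_injective H) ?_
    rw [conjBy_map, conjBy_map, map_subgroupOf hE, map_subgroupOf hF]
    exact e
  refine ⟨fun e => h.ne ?_, ?_, ?_, cond hE hF h.cond_left, cond hF hE h.cond_right⟩
  · rw [← map_subgroupOf hE, e, map_subgroupOf hF]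
  · haveI := h.nilpotent_left
    exact nilpotent_of_mulEquiv (Subgroup.subgroupOfEquivOfLe hE).symm
  · haveI := h.nilpotent_right
    exact nilpotent_of_mulEquiv (Subgroup.subgroupOfEquivOfLe hF).symm

lemma commutatorCase_subgroupOf (hE : E ≤ H) (hF : F ≤ H) {S : Set (Subgroup Γ)} {S' : Set (Subgroup H)}
    (h : Cfsg.RootCommutatorCase S E F) (hS : ∃ D ∈ S', D.map H.subtype = ⁅E, F⁆) :
    Cfsg.RootCommutatorCase S' (E.subgroupOf H) (F.subgroupOf H) := by
  have hm : ⁅E.subgroupOf H, F.subgroupOf H⁆.map H.subtype = ⁅E, F⁆ := by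
    rw [Subgroup.map_commutator, map_subgroupOf hE, map_subgroupOf hF]
  obtain ⟨D, hD, hD'⟩ := hS
  obtain ⟨-, h2', h3', h4'⟩ := h
  refine ⟨?_, ?_, ?_, ?_⟩
  · have : ⁅E.subgroupOf H, F.subgroupOf H⁆ = D :=
      Subgroup.map_injective (Subgroup.subtype_injective H) (hm.trans hD'.symm)
    rw [this]; exact hD
  · intro c hc x hx
    refine Subtype.ext (h2' c (hm ▸ ⟨c, hc, rfl⟩) x ?_)
    have : (E.subgroupOf H ⊔ F.subgroupOf H).map H.subtype = E ⊔ F := by
      rw [Subgroup.map_sup, map_subgroupOf hE, map_subgroupOf hF]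
    exact this ▸ ⟨x, hx, rfl⟩
  · intro a ha ha1
    refine Subgroup.map_injective (Subgroup.subtype_injective H) ?_
    rw [MonoidHom.map_closure, hm, ← h3' a ha (fun e => ha1 (Subtype.ext e))]
    congr 1
    ext x
    constructor
    · rintro ⟨_, ⟨b, hb, rfl⟩, rfl⟩; exact ⟨b, hb, rfl⟩
    · rintro ⟨b, hb, rfl⟩; exact ⟨_, ⟨⟨b, hF hb⟩, hb, rfl⟩, rfl⟩
  · intro b hb hb1
    refine Subgroup.map_injective (Subgroup.subtype_injective H) ?_
    rw [MonoidHom.map_closure, hm, ← h4' b hb (fun e => hb1 (Subtype.ext e))]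
    congr 1
    ext x
    constructor
    · rintro ⟨_, ⟨a, ha, rfl⟩, rfl⟩; exact ⟨a, ha, rfl⟩
    · rintro ⟨a, ha, rfl⟩; exact ⟨_, ⟨⟨a, hE ha⟩, ha, rfl⟩, rfl⟩

end subgroupOf

section

variable (h2 : (2 : k) ≠ 0) (h3 : Nat.card k ≠ 3)
include h2 h3

/-- A union of components gives a set of abstract root subgroups of the group it generates. -/
theorem rootSubgroupSet_of (hG : NoUnip G) (p : Module.End k M → Prop) (hp : ∀ X Y, p X → Linked G X Y → p Y)
    (P : Set (Subgroup (LinearMap.GeneralLinearGroup k M)))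
    (hP : ∀ E, E ∈ P ↔ ∃ (A : Module.End k M) (hA : IsMin G A), p A ∧ E = rootGroup G A hA.sq) :
    Cfsg.IsRootSubgroupSet ((fun A : Subgroup (LinearMap.GeneralLinearGroup k M) => A.subgroupOf (⨆ B ∈ P, B)) '' P) := by
  set H : Subgroup (LinearMap.GeneralLinearGroup k M) := ⨆ B ∈ P, B with hH
  have hle : ∀ E ∈ P, E ≤ H := fun E hE => le_biSup (fun B => B) hE
  have hHmin : H ≤ minGroup G := by
    rw [← iSup_roots_eq_minGroup]
    refine biSup_mono fun E hE => ?_
    obtain ⟨A, hA, -, rfl⟩ := (hP E).1 hE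
    exact mem_quadraticRootSubgroups_iff.2 ⟨A, hA, rfl⟩
  refine ⟨?_, ?_, ?_, ?_, ?_⟩
  · rintro _ ⟨E, hE, rfl⟩
    obtain ⟨A, hA, -, rfl⟩ := (hP E).1 hE
    exact ⟨⟨fun a b => Subtype.ext (Subtype.ext (rootGroup_commute (hA := hA.sq) a.2 b.2))⟩⟩
  · rintro _ ⟨E, hE, rfl⟩ e
    obtain ⟨A, hA, -, rfl⟩ := (hP E).1 hE
    refine rootGroup_ne_bot hA ?_
    rw [← map_subgroupOf (hle _ hE)]
    exact (Subgroup.map_eq_bot_iff_of_injective _ (Subgroup.subtype_injective H)).2 e
  · refine Subgroup.map_injective (Subgroup.subtype_injective H) ?_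
    rw [← MonoidHom.range_eq_map, Subgroup.range_subtype, iSup_image]
    simp only [Subgroup.map_iSup]
    conv_rhs => rw [hH]
    refine iSup_congr fun E => iSup_congr fun hE => map_subgroupOf (hle _ hE)
  · rintro _ ⟨E, hE, rfl⟩ g
    obtain ⟨A, hA, hpA, rfl⟩ := (hP E).1 hE
    have hg : (g : LinearMap.GeneralLinearGroup k M) ∈ G := minGroup_le (hHmin g.2)
    have hmem : Cfsg.conjBy (rootGroup G A hA.sq) (g : LinearMap.GeneralLinearGroup k M) ∈ P :=
      (hP _).2 ⟨_, hA.conj hg, hp _ _ hpA (linked_conj_of_mem h2 h3 hG (hHmin g.2) hA), conjBy_rootGroup hA hg⟩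
    refine ⟨_, hmem, Subgroup.map_injective (Subgroup.subtype_injective H) ?_⟩
    show (Subgroup.subgroupOf _ H).map H.subtype = _
    rw [map_subgroupOf (hle _ hmem), conjBy_map, map_subgroupOf (hle _ hE)]
  · rintro _ ⟨E, hE, rfl⟩ _ ⟨F, hF, rfl⟩
    obtain ⟨A, hA, hpA, rfl⟩ := (hP E).1 hE
    obtain ⟨B, hB, -, rfl⟩ := (hP F).1 hF
    rcases root_pair h2 h3 hG hA hB with h | h | ⟨N, hN, hl, hc, h⟩
    · left
      refine Subgroup.map_injective (Subgroup.subtype_injective H) ?_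
      rw [Subgroup.map_commutator, Subgroup.map_bot, map_subgroupOf (hle _ hE), map_subgroupOf (hle _ hF), h]
    · exact Or.inr (Or.inl (rankOne_subgroupOf (hle _ hE) (hle _ hF) h))
    · have hmem : rootGroup G N hN.sq ∈ P := (hP _).2 ⟨N, hN, hp _ _ hpA hl, rfl⟩
      exact Or.inr (Or.inr (commutatorCase_subgroupOf (hle _ hE) (hle _ hF) h
        ⟨_, ⟨_, hmem, rfl⟩, by rw [map_subgroupOf (hle _ hmem), hc]⟩))

theorem not_isolated (hG : NoUnip G) {E : Subgroup (LinearMap.GeneralLinearGroup k M)}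
    (hE : E ∈ Cfsg.quadraticRootSubgroups G) :
    ¬ Cfsg.IsIsolatedIn (Cfsg.FAdj (Cfsg.quadraticRootSubgroups G)) (Cfsg.quadraticRootSubgroups G) E := by
  obtain ⟨A, hA, rfl⟩ := mem_quadraticRootSubgroups_iff.1 hE
  obtain ⟨B, hB, hn⟩ := exists_opposite h2 hG hA
  intro h
  refine (h.2 (rootGroup G B hB.sq)).1 ⟨hE, mem_quadraticRootSubgroups_iff.2 ⟨B, hB, rfl⟩,
    (special_pair h2 h3 hA hB fun X hX hX0 Y hY hY0 =>
      not_nilpotent_all h2 h3 hA hB (self_mem_rootSpace hA.rt) (self_mem_rootSpace hB.rt) hn hX hX0 hY hY0).1⟩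

omit [FiniteDimensional k M] in
lemma three_lt_card (K : Type*) [Field K] [Algebra k K] : 3 < ENat.card K := by
  rcases finite_or_infinite K with hK | hK
  · haveI : Finite k := Finite.of_injective _ (algebraMap k K).injective
    rw [ENat.card_eq_coe_natCard]
    have := (five_le_card h2 h3).trans (Nat.card_le_card_of_injective _ (algebraMap k K).injective)
    exact_mod_cast (show 3 < Nat.card K by omega)
  · rw [ENat.card_eq_top_of_infinite]
    exact ENat.coe_lt_top 3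

theorem exists_psl2 {A B : Module.End k M} (h : Opp G A B) :
    ∃ A₀ B₀ : Subgroup (LinearMap.GeneralLinearGroup k M), A₀ ≤ rootGroup G A h.1.sq ∧ B₀ ≤ rootGroup G B h.2.1.sq ∧
      ∃ (k₁ : Type u) (_ : Field k₁), 3 < ENat.card k₁ ∧ Cfsg.IsPSL2PairOver k₁ A₀ B₀ := by
  obtain ⟨c, hirr, -, -, hle⟩ := opp_coords h2 h3 h
  haveI : Fact (Irreducible c.g) := ⟨hirr⟩
  let K := AdjoinRoot c.g
  have hGψ : ∀ γ, c.ψ γ ∈ G := fun γ =>
    (sup_le (rootGroup_le h.1.sq) (rootGroup_le h.2.1.sq) : _ ≤ G) (hle ⟨γ, rfl⟩)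
  refine ⟨(Cfsg.upperUnipotentSL2 K).map c.ψ, (Cfsg.lowerUnipotentSL2 K).map c.ψ, ?_, ?_, K, inferInstance,
    three_lt_card h2 h3 K, c.ψ, ?_, ?_, rfl, rfl⟩
  · rw [Cfsg.upperUnipotentSL2, MonoidHom.map_closure, Subgroup.closure_le]
    rintro _ ⟨γ, ⟨g10, g00, g11⟩, rfl⟩
    obtain ⟨r, rfl⟩ : ∃ r, γ = uu r :=
      ⟨γ 0 1, sl2_ext (by simpa using g00) (by simp) (by simpa using g10) (by simpa using g11)⟩
    refine mem_rootGroup.2 ?_
    rw [c.ψ_uu, add_sub_cancel_left]
    refine ⟨⟨?_, fun t => ⟨_, hGψ (uu (t • r)), ?_⟩⟩, ?_, range_mul_le _ _⟩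
    · rw [← c.Φ_upper, ← c.Φ_mul]
      convert c.Φ_zero
      ext i j; fin_cases i <;> fin_cases j <;> simp
    · rw [c.ψ_uu, map_smul, mul_smul_comm]
    · rw [(c.commA r).eq]
      intro m hm
      rw [LinearMap.mem_ker, Module.End.mul_apply, LinearMap.mem_ker.1 hm, map_zero]
  · rw [Cfsg.lowerUnipotentSL2, MonoidHom.map_closure, Subgroup.closure_le]
    rintro _ ⟨γ, ⟨g01, g00, g11⟩, rfl⟩
    obtain ⟨r, rfl⟩ : ∃ r, γ = vv (r * AdjoinRoot.root c.g) := by
      refine ⟨γ 1 0 * c.xi, sl2_ext (by simpa using g00) (by simpa using g01) ?_ (by simpa using g11)⟩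
      simp [mul_assoc, mul_comm c.xi, c.root_mul]
    refine mem_rootGroup.2 ?_
    rw [c.ψ_vv, add_sub_cancel_left]
    refine ⟨⟨?_, fun t => ⟨_, hGψ (vv ((t • r) * AdjoinRoot.root c.g)), ?_⟩⟩, ?_, range_mul_le _ _⟩
    · rw [← c.Φ_lower, ← c.Φ_mul]
      convert c.Φ_zero
      ext i j; fin_cases i <;> fin_cases j <;> simp
    · rw [c.ψ_vv, map_smul, mul_smul_comm]
    · rw [(c.commB r).eq]
      intro m hm
      rw [LinearMap.mem_ker, Module.End.mul_apply, LinearMap.mem_ker.1 hm, map_zero]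
  · rw [← Subgroup.map_sup, MonoidHom.range_eq_map]
    congr 1
    refine (eq_top_of_uu_vv (fun r => Subgroup.mem_sup_left (Subgroup.subset_closure ?_))
      (fun r => Subgroup.mem_sup_right (Subgroup.subset_closure ?_))).symm
    · exact ⟨by simp, by simp, by simp⟩
    · exact ⟨by simp, by simp, by simp⟩
  · rw [(MonoidHom.ker_eq_bot_iff _).2 c.ψ_injective]
    exact bot_le

end

end Cfsg.Agent.H88
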