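/-
The components of the set of root subgroups are classes.
-/
import Cfsg.Agent.H88.QRootSet
set_option autoImplicit false
set_option maxHeartbeats 1000000

namespace Cfsg.Agent.H88

universe u v

variable {k : Type u} [Field k] {M : Type v} [AddCommGroup M] [Module k M] [FiniteDimensional k M]
  {G : Subgroup (LinearMap.GeneralLinearGroup k M)}

/-- The root subgroups of a component. -/
def rootPart (G : Subgroup (LinearMap.GeneralLinearGroup k M)) (F : Module.End k M) :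
    Set (Subgroup (LinearMap.GeneralLinearGroup k M)) :=
  {E | ∃ (A : Module.End k M) (hA : IsMin G A), Linked G F A ∧ E = rootGroup G A hA.sq}

lemma rootGroup_eq_linked (h2 : (2 : k) ≠ 0) (h3 : Nat.card k ≠ 3) (hG : NoUnip G) {A B : Module.End k M}
    (hA : IsMin G A) (hB : IsMin G B) (e : rootGroup G A hA.sq = rootGroup G B hB.sq) : Linked G A B :=
  linked_of_mem h2 h3 hG hA ((rootSpace_eq_of_rootGroup_eq e).symm ▸ self_mem_rootSpace hB.rt) hB.2.1

lemma iSup_rootPart (h2 : (2 : k) ≠ 0) (h3 : Nat.card k ≠ 3) (hG : NoUnip G) {F : Module.End k M}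
    (hF : IsMin G F) : (⨆ E ∈ rootPart G F, E) = grp G F := by
  refine le_antisymm (iSup₂_le ?_) ((Subgroup.closure_le _).2 fun g hg => ?_)
  · rintro E ⟨A, hA, hl, rfl⟩
    exact rootGroup_le_grp h2 h3 hG hF hl
  · exact Subgroup.mem_iSup_of_mem _ (Subgroup.mem_iSup_of_mem ⟨_, hg.1, hg.2, rfl⟩
      (mem_rootGroup.2 (self_mem_rootSpace hg.1.rt)))

theorem root_classes (h2 : (2 : k) ≠ 0) (h3 : Nat.card k ≠ 3) (hsemi : Semi G) :
    ∃ (r : ℕ) (part : Fin r → Set (Subgroup (LinearMap.GeneralLinearGroup k M))),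
      (⋃ i, part i) = Cfsg.quadraticRootSubgroups G ∧ (∀ i j, i ≠ j → Disjoint (part i) (part j)) ∧
      (∀ i, (part i).Nonempty) ∧
      (∀ i j, i ≠ j → ⁅(⨆ A ∈ part i, A), (⨆ A ∈ part j, A)⁆ = ⊥) ∧
      (∀ i, Cfsg.IsQuasisimple ↥(⨆ A ∈ part i, A) ∧
        Cfsg.IsRootSubgroupClass ((fun A : Subgroup (LinearMap.GeneralLinearGroup k M) => A.subgroupOf (⨆ B ∈ part i, B)) '' (part i)) ∧
        ∀ A ∈ part i, ∀ B ∈ Cfsg.rankOnePartners (part i) A, ∃ A₀ B₀ : Subgroup (LinearMap.GeneralLinearGroup k M), A₀ ≤ A ∧ B₀ ≤ B ∧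
          ∃ (k₁ : Type u) (_ : Field k₁), 3 < ENat.card k₁ ∧ Cfsg.IsPSL2PairOver k₁ A₀ B₀) := by
  have hG := hsemi.noUnip
  obtain ⟨r, f, hf, hu, hcov⟩ := exists_components h2 h3 hG
  refine ⟨r, fun i => rootPart G (f i), ?_, ?_, fun i => ⟨_, f i, hf i, Relation.ReflTransGen.refl, rfl⟩, ?_, fun i => ⟨?_, ⟨?_, ?_, ?_⟩, ?_⟩⟩
  · ext E
    simp only [Set.mem_iUnion, mem_quadraticRootSubgroups_iff]
    constructor
    · rintro ⟨i, A, hA, -, rfl⟩; exact ⟨A, hA, rfl⟩
    · rintro ⟨A, hA, rfl⟩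
      obtain ⟨i, hi⟩ := hcov A hA
      exact ⟨i, A, hA, hi, rfl⟩
  · intro i j hij
    rw [Set.disjoint_left]
    rintro E ⟨A, hA, hl, rfl⟩ ⟨B, hB, hl', e⟩
    exact hu i j hij ((hl.trans (rootGroup_eq_linked h2 h3 hG hA hB e)).trans hl'.symm)
  · intro i j hij
    rw [iSup_rootPart h2 h3 hG (hf i), iSup_rootPart h2 h3 hG (hf j)]
    exact commutator_grp h2 h3 hG (hu i j hij)
  · dsimp only
    rw [iSup_rootPart h2 h3 hG (hf i)]
    exact quasisimple_grp h2 h3 hsemi (hf i)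
  · exact rootSubgroupSet_of h2 h3 hG (fun X => Linked G (f i) X) (fun X Y h h' => h.trans h') _ (fun E => Iff.rfl)
  · exact Set.Nonempty.image _ ⟨_, f i, hf i, Relation.ReflTransGen.refl, rfl⟩
  · rintro _ ⟨E, ⟨A, hA, hlA, rfl⟩, rfl⟩ _ ⟨E', ⟨B, hB, hlB, rfl⟩, rfl⟩
    set H : Subgroup (LinearMap.GeneralLinearGroup k M) := ⨆ E ∈ rootPart G (f i), E with hH
    have hle : ∀ {C : Module.End k M} (hC : IsMin G C), Linked G (f i) C → rootGroup G C hC.sq ≤ H :=
      fun hC hl => le_biSup (fun E => E) (show _ ∈ rootPart G (f i) from ⟨_, hC, hl, rfl⟩)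
    have key : ∀ C, Linked G A C → ∀ hC : IsMin G C, ∃ g ∈ H,
        rootGroup G C hC.sq = Cfsg.conjBy (rootGroup G A hA.sq) g := by
      intro C hl
      induction hl with
      | refl =>
        intro _
        refine ⟨1, H.one_mem, ?_⟩
        rw [conjBy_rootGroup hA G.one_mem]
        exact rootGroup_congr (by rw [conjE_one]) (by rw [conjE_one])
      | @tail C D hC hCD ih =>
        intro hD
        obtain ⟨g, hg, e⟩ := ih hCD.1
        obtain ⟨b, hb, -, eb⟩ := (special_pair h2 h3 hCD.1 hCD.2.1 fun X hX hX0 Y hY hY0 =>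
          not_nilpotent_all h2 h3 hCD.1 hCD.2.1 (self_mem_rootSpace hCD.1.rt) (self_mem_rootSpace hCD.2.1.rt)
            hCD.2.2 hX hX0 hY hY0).1.cond_left (oneAdd C hCD.1.sq)
          (oneAdd_mem_rootGroup (self_mem_rootSpace hCD.1.rt))
          (fun e => hCD.1.2.1 (by simpa using congrArg Units.val e))
        refine ⟨oneAdd C hCD.1.sq * b⁻¹ * g, H.mul_mem (H.mul_mem
          (hle hCD.1 (hlA.trans hC) (oneAdd_mem_rootGroup (self_mem_rootSpace hCD.1.rt)))
          (H.inv_mem (hle hD (hlA.trans (hC.tail hCD)) hb))) hg, ?_⟩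
        have comp : ∀ (K : Subgroup (LinearMap.GeneralLinearGroup k M)) (x y : LinearMap.GeneralLinearGroup k M),
            Cfsg.conjBy (Cfsg.conjBy K y) x = Cfsg.conjBy K (x * y) := by
          intro K x y
          show (K.map _).map _ = K.map _
          rw [Subgroup.map_map]
          congr 1

        have one : ∀ (K : Subgroup (LinearMap.GeneralLinearGroup k M)), Cfsg.conjBy K 1 = K := by
          intro K; ext z; simp [Cfsg.conjBy]
        rw [← comp, ← e, ← comp, eb, comp, mul_inv_cancel, one]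
    obtain ⟨g, hg, e⟩ := key B (hlA.symm.trans hlB) hB
    refine ⟨⟨g, hg⟩, Subgroup.map_injective (Subgroup.subtype_injective H) ?_⟩
    show (Subgroup.subgroupOf _ H).map H.subtype = _
    rw [map_subgroupOf (hle hB hlB), conjBy_map, map_subgroupOf (hle hA hlA)]
    exact e
  · rintro E ⟨A, hA, -, rfl⟩ F ⟨⟨B, hB, -, rfl⟩, hpair⟩
    exact exists_psl2 h2 h3 (opp_of_rankOne h2 h3 hA hB hpair)

end Cfsg.Agent.H88
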