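import Cfsg.Prelude.Def_Amalgam
import Cfsg.Agent.H58.AmalgamCharP
import Cfsg.Agent.H60.Amalgam

/-!
Vertices of the coset graph of an amalgam whose residues are symmetric groups of degree three.
-/

set_option autoImplicit false
set_option linter.style.haveILetI false

namespace Cfsg.Agent.H88.Am

open Subgroup
open H58 (IsSylIn)

variable {G : Type*} [Group G] {P₁ P₂ : Subgroup G}

/-- a faithful pair with residues of order six -/
structure Cub (P₁ P₂ : Subgroup G) : Prop where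
  amal : Cfsg.IsAmalgamPair P₁ P₂
  fin₁ : Finite P₁
  fin₂ : Finite P₂
  six₁ : Nat.card P₁ = 6 * Nat.card (Cfsg.pCoreOf 2 P₁)
  six₂ : Nat.card P₂ = 6 * Nat.card (Cfsg.pCoreOf 2 P₂)
  syl₁ : IsSylIn 2 (P₁ ⊓ P₂) P₁
  syl₂ : IsSylIn 2 (P₁ ⊓ P₂) P₂

/-- such a pair of characteristic two -/
structure C2 (P₁ P₂ : Subgroup G) : Prop extends Cub P₁ P₂ where
  ch : Cfsg.IsCharPAmalgamPair 2 P₁ P₂

/-- neither side centralising the central involutions -/
structure Hyp (P₁ P₂ : Subgroup G) : Prop extends C2 P₁ P₂ where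
  nc₁ : ¬ P₁ ≤ centralizer (H58.omegaCenter 2 (P₁ ⊓ P₂) : Set G)
  nc₂ : ¬ P₂ ≤ centralizer (H58.omegaCenter 2 (P₁ ⊓ P₂) : Set G)

/-- vertices -/
abbrev Vx (P₁ P₂ : Subgroup G) := Cfsg.CosetVertex P₁ P₂

/-- adjacency -/
abbrev Ad (δ μ : Vx P₁ P₂) : Prop := (Cfsg.cosetGraph P₁ P₂).Adj δ μ

/-- vertex group -/
abbrev S (δ : Vx P₁ P₂) : Subgroup G := MulAction.stabilizer G δ

/-- edge group -/
abbrev E (δ μ : Vx P₁ P₂) : Subgroup G := Cfsg.edgeStabilizer δ μ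

/-- its 2-core -/
abbrev Q (δ : Vx P₁ P₂) : Subgroup G := Cfsg.vertexQ 2 δ

/-- the closure of the central involutions -/
abbrev Z (δ : Vx P₁ P₂) : Subgroup G := Cfsg.vertexZ 2 δ

/-- the vertex group moves the central involutions of an edge -/
def Act (δ : Vx P₁ P₂) : Prop :=
  ∃ μ, Ad δ μ ∧ ¬ S δ ≤ centralizer (H58.omegaCenter 2 (E δ μ) : Set G)

theorem E_comm (δ μ : Vx P₁ P₂) : E δ μ = E μ δ := inf_comm _ _

/-- a subgroup generated by an invariant set is normalised -/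
theorem le_normalizer_closure {H : Subgroup G} {s : Set G} (hs : ∀ g ∈ H, ∀ x ∈ s, g * x * g⁻¹ ∈ closure s) :
    H ≤ normalizer (closure s : Set G) := by
  have key : ∀ g ∈ H, (closure s).map (MulAut.conj g).toMonoidHom ≤ closure s := by
    intro g hg
    rw [MonoidHom.map_closure, closure_le]
    rintro _ ⟨x, hx, rfl⟩
    exact hs g hg x hx
  intro g hg
  refine H58.mem_normalizer_of_map_conj_eq (le_antisymm (key g hg) fun x hx => ?_)
  rw [H58.mem_map_conj]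
  simpa [mul_assoc] using key g⁻¹ (H.inv_mem hg) ⟨x, hx, rfl⟩

/-- two subgroups do not cover a third -/
theorem exists_not_mem_two {X A B : Subgroup G} (hA : ¬ X ≤ A) (hB : ¬ X ≤ B) : ∃ x ∈ X, x ∉ A ∧ x ∉ B := by
  obtain ⟨a, ha, haA⟩ := SetLike.not_le_iff_exists.1 hA
  obtain ⟨b, hb, hbB⟩ := SetLike.not_le_iff_exists.1 hB
  by_cases h1 : a ∈ B
  · by_cases h2 : b ∈ A
    · exact ⟨a * b, mul_mem ha hb, fun hc => haA ((A.mul_mem_cancel_right h2).1 hc),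
        fun hc => hbB ((B.mul_mem_cancel_left h1).1 hc)⟩
    · exact ⟨b, hb, h2, hbB⟩
  · exact ⟨a, ha, haA, h1⟩

namespace Cub

variable (h : Cub P₁ P₂)
include h

theorem finS (δ : Vx P₁ P₂) : Finite (S δ) := by
  haveI := h.fin₁
  haveI := h.fin₂
  rcases δ with q | q <;> induction q using QuotientGroup.induction_on with | _ x => ?_
  · rw [S, H58.stabilizer_inl]
    exact Finite.of_equiv _ (P₁.equivMapOfInjective _ (MulAut.conj x).injective).toEquiv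
  · rw [S, H58.stabilizer_inr]
    exact Finite.of_equiv _ (P₂.equivMapOfInjective _ (MulAut.conj x).injective).toEquiv

theorem finE (δ μ : Vx P₁ P₂) : Finite (E δ μ) :=
  haveI := h.finS δ
  Finite.of_injective _ (inclusion_injective (inf_le_left : E δ μ ≤ S δ))

/-- a vertex group is a conjugate of one of the two groups -/
theorem exists_conj (δ : Vx P₁ P₂) : ∃ x : G, S δ = P₁.map (MulAut.conj x).toMonoidHom ∨
    S δ = P₂.map (MulAut.conj x).toMonoidHom := by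
  rcases δ with q | q <;> induction q using QuotientGroup.induction_on with | _ x => ?_
  · exact ⟨x, Or.inl (H58.stabilizer_inl x)⟩
  · exact ⟨x, Or.inr (H58.stabilizer_inr x)⟩

theorem card_S (δ : Vx P₁ P₂) : Nat.card (S δ) = 6 * Nat.card (Q δ) := by
  haveI := h.fin₁
  haveI := h.fin₂
  obtain ⟨x, hx | hx⟩ := h.exists_conj δ
  · show _ = 6 * Nat.card (Cfsg.pCoreOf 2 (S δ))
    rw [hx, H58.pCoreOf_map_conj, card_map_of_injective (MulAut.conj x).injective,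
      card_map_of_injective (MulAut.conj x).injective, h.six₁]
  · show _ = 6 * Nat.card (Cfsg.pCoreOf 2 (S δ))
    rw [hx, H58.pCoreOf_map_conj, card_map_of_injective (MulAut.conj x).injective,
      card_map_of_injective (MulAut.conj x).injective, h.six₂]

theorem edge_eq {δ μ : Vx P₁ P₂} (hm : Ad δ μ) : ∃ x : G,
    E δ μ = (P₁ ⊓ P₂).map (MulAut.conj x).toMonoidHom ∧
      (S δ = P₁.map (MulAut.conj x).toMonoidHom ∨ S δ = P₂.map (MulAut.conj x).toMonoidHom) := by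
  obtain ⟨x, ⟨rfl, rfl⟩ | ⟨rfl, rfl⟩⟩ := (H58.adj_iff _ _).1 hm
  · refine ⟨x, ?_, Or.inl (H58.stabilizer_inl x)⟩
    rw [E, Cfsg.edgeStabilizer, H58.stabilizer_inl, H58.stabilizer_inr,
      Subgroup.map_inf _ _ _ (MulAut.conj x).injective]
  · refine ⟨x, ?_, Or.inr (H58.stabilizer_inr x)⟩
    rw [E, Cfsg.edgeStabilizer, H58.stabilizer_inl, H58.stabilizer_inr, inf_comm,
      Subgroup.map_inf _ _ _ (MulAut.conj x).injective]

theorem syl {δ μ : Vx P₁ P₂} (hm : Ad δ μ) : IsSylIn 2 (E δ μ) (S δ) := by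
  haveI : Fact (Nat.Prime 2) := ⟨Nat.prime_two⟩
  obtain ⟨x, hE, hS | hS⟩ := h.edge_eq hm <;> rw [hE, hS]
  · exact h.syl₁.map_conj x
  · exact h.syl₂.map_conj x

theorem pQ (δ : Vx P₁ P₂) : IsPGroup 2 (Q δ) := by
  haveI : Fact (Nat.Prime 2) := ⟨Nat.prime_two⟩
  haveI := h.finS δ
  exact H58.pCoreOf_isPGroup _

theorem Q_le_S (δ : Vx P₁ P₂) : Q δ ≤ S δ := H58.pCoreOf_le _

theorem S_le_norm_Q (δ : Vx P₁ P₂) : S δ ≤ normalizer (Q δ : Set G) :=
  H58.le_normalizer_pCoreOf _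

theorem finQ (δ : Vx P₁ P₂) : Finite (Q δ) :=
  haveI := h.finS δ
  Finite.of_injective _ (inclusion_injective (h.Q_le_S δ))

theorem Q_le_E {δ μ : Vx P₁ P₂} (hm : Ad δ μ) : Q δ ≤ E δ μ := by
  haveI : Fact (Nat.Prime 2) := ⟨Nat.prime_two⟩
  haveI := h.finS δ
  exact (h.syl hm).pCoreOf_le

theorem card_Q_pos (δ : Vx P₁ P₂) : 0 < Nat.card (Q δ) :=
  haveI := h.finQ δ
  Nat.card_pos

theorem card_E {δ μ : Vx P₁ P₂} (hm : Ad δ μ) : Nat.card (E δ μ) = 2 * Nat.card (Q δ) := by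
  haveI := h.finQ δ
  haveI : Fact (Nat.Prime 2) := ⟨Nat.prime_two⟩
  obtain ⟨a, ha⟩ := IsPGroup.iff_card.mp (h.pQ δ)
  have hf : (6 * 2 ^ a).factorization 2 = a + 1 := by
    rw [show 6 * 2 ^ a = 2 ^ (a + 1) * 3 by ring, Nat.factorization_mul (by positivity) (by norm_num),
      Finsupp.add_apply, Nat.Prime.factorization_pow Nat.prime_two, Finsupp.single_eq_same,
      Nat.factorization_eq_zero_of_not_dvd (by norm_num : ¬ 2 ∣ 3), add_zero]
  rw [(h.syl hm).2, h.card_S δ, ha, hf, pow_succ']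

/-- the edge group is maximal in the vertex group -/
theorem eq_of_E_le {δ μ : Vx P₁ P₂} (hm : Ad δ μ) {X : Subgroup G} (hX : E δ μ ≤ X) (hXS : X ≤ S δ) :
    X = E δ μ ∨ X = S δ := by
  haveI := h.finS δ
  haveI : Finite X := Finite.of_injective _ (inclusion_injective hXS)
  obtain ⟨c, hc⟩ := card_dvd_of_le hX
  obtain ⟨d, hd⟩ := card_dvd_of_le hXS
  rw [h.card_S δ, hc, h.card_E hm] at hd
  have hcd : c * d = 3 := by
    have := h.card_Q_pos δ
    refine Nat.eq_of_mul_eq_mul_left (show 0 < 2 * Nat.card (Q δ) by omega) ?_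
    rw [← mul_assoc, ← hd]; ring
  rcases (Nat.dvd_prime Nat.prime_three).1 (Dvd.intro d hcd) with rfl | rfl
  · exact Or.inl (eq_of_le_of_card_ge hX (by rw [hc, mul_one])).symm
  · refine Or.inr (eq_of_le_of_card_ge hXS ?_)
    rw [h.card_S δ, hc, h.card_E hm]
    exact le_of_eq (by ring)

theorem E_ne_S {δ μ : Vx P₁ P₂} (hm : Ad δ μ) : ¬ S δ ≤ E δ μ := fun hle => by
  haveI := h.finE δ μ
  have h1 := card_le_of_le hle
  rw [h.card_S δ, h.card_E hm] at h1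
  have := h.card_Q_pos δ
  omega

theorem not_E_le_Q {δ μ : Vx P₁ P₂} (hm : Ad δ μ) : ¬ E δ μ ≤ Q δ := fun hle => by
  haveI := h.finQ δ
  have h1 := card_le_of_le hle
  rw [h.card_E hm] at h1
  have := h.card_Q_pos δ
  omega

/-- different edges at a vertex have different groups -/
theorem E_ne {δ μ ν : Vx P₁ P₂} (hm : Ad δ μ) (hn : Ad δ ν) (hne : μ ≠ ν) : E δ μ ≠ E δ ν := by
  haveI : Fact (Nat.Prime 2) := ⟨Nat.prime_two⟩
  haveI := h.finS δ
  intro he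
  obtain ⟨g, hg, hgμ⟩ := H58.exists_smul_eq_of_adj hm hn
  have hcj : (E δ μ).map (MulAut.conj g).toMonoidHom = E δ μ := by
    conv_rhs => rw [he]
    ext y
    rw [H58.mem_map_conj]
    simp only [Subgroup.mem_inf, MulAction.mem_stabilizer_iff, mul_smul, ← hgμ, inv_smul_eq_iff,
      MulAction.mem_stabilizer_iff.1 hg]
  have hgn : g ∈ normalizer (E δ μ : Set G) := H58.mem_normalizer_of_map_conj_eq hcj
  rcases h.eq_of_E_le hm (X := normalizer (E δ μ : Set G) ⊓ S δ) (le_inf le_normalizer inf_le_left)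
    inf_le_right with h1 | h1
  · have : g ∈ E δ μ := h1 ▸ ⟨hgn, hg⟩
    exact hne (hgμ ▸ (MulAction.mem_stabilizer_iff.1 this.2).symm)
  · exact h.not_E_le_Q hm (H58.le_pCoreOf inf_le_left (h.syl hm).isPGroup (h1.ge.trans inf_le_left))

theorem sup_eq {δ μ ν : Vx P₁ P₂} (hm : Ad δ μ) (hn : Ad δ ν) (hne : μ ≠ ν) :
    E δ μ ⊔ E δ ν = S δ := by
  haveI := h.finE δ μ
  rcases h.eq_of_E_le hm le_sup_left (sup_le inf_le_left inf_le_left) with h1 | h1
  · refine absurd (eq_of_le_of_card_ge (h1 ▸ le_sup_right : E δ ν ≤ E δ μ) ?_).symm (h.E_ne hm hn hne)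
    rw [h.card_E hm, h.card_E hn]
  · exact h1

theorem inf_eq {δ μ ν : Vx P₁ P₂} (hm : Ad δ μ) (hn : Ad δ ν) (hne : μ ≠ ν) :
    E δ μ ⊓ E δ ν = Q δ := by
  haveI := h.finE δ μ
  haveI := h.finE δ ν
  haveI : Finite ↥(E δ μ ⊓ E δ ν) := Finite.of_injective _ (inclusion_injective inf_le_left)
  refine (eq_of_le_of_card_ge (le_inf (h.Q_le_E hm) (h.Q_le_E hn)) ?_).symm
  obtain ⟨c, hc⟩ := card_dvd_of_le (le_inf (h.Q_le_E hm) (h.Q_le_E hn))
  obtain ⟨d, hd⟩ := card_dvd_of_le (inf_le_left : E δ μ ⊓ E δ ν ≤ E δ μ)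
  rw [hc, h.card_E hm] at hd
  have hcd : c * d = 2 := by
    refine Nat.eq_of_mul_eq_mul_left (h.card_Q_pos δ) ?_
    rw [← mul_assoc, ← hd, mul_comm]
  rcases (Nat.dvd_prime Nat.prime_two).1 (Dvd.intro d hcd) with rfl | rfl
  · rw [hc, mul_one]
  · exfalso
    have h1 : E δ μ ⊓ E δ ν = E δ μ :=
      eq_of_le_of_card_ge inf_le_left (by rw [hc, h.card_E hm, mul_comm])
    refine h.E_ne hm hn hne (eq_of_le_of_card_ge (inf_eq_left.1 h1) ?_)
    rw [h.card_E hm, h.card_E hn]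

theorem not_mem_E {δ μ ν : Vx P₁ P₂} (hm : Ad δ μ) (hn : Ad δ ν) (hne : μ ≠ ν) {a : G}
    (ha : a ∈ E δ μ) (haQ : a ∉ Q δ) : a • ν ≠ ν := fun he =>
  haQ (h.inf_eq hm hn hne ▸ ⟨ha, ha.1, he⟩)

theorem mul_mem_Q {δ μ : Vx P₁ P₂} (hm : Ad δ μ) {a b : G} (ha : a ∈ E δ μ) (hb : b ∈ E δ μ)
    (haQ : a ∉ Q δ) (hbQ : b ∉ Q δ) : a * b ∈ Q δ := by
  haveI := h.finE δ μ
  have hi : ((Q δ).subgroupOf (E δ μ)).index = 2 := by
    refine Nat.eq_of_mul_eq_mul_left (h.card_Q_pos δ) ?_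
    have := card_mul_index ((Q δ).subgroupOf (E δ μ))
    rw [Nat.card_congr (subgroupOfEquivOfLe (h.Q_le_E hm)).toEquiv, h.card_E hm] at this
    rw [this, mul_comm]
  exact (mul_mem_iff_of_index_two hi (a := ⟨a, ha⟩) (b := ⟨b, hb⟩)).2 (iff_of_false haQ hbQ)

theorem sq_mem_Q {δ μ : Vx P₁ P₂} (hm : Ad δ μ) {a : G} (ha : a ∈ E δ μ) : a * a ∈ Q δ := by
  by_cases haQ : a ∈ Q δ
  · exact mul_mem haQ haQ
  · exact h.mul_mem_Q hm ha ha haQ haQ

theorem exists_not_mem_Q {δ μ : Vx P₁ P₂} (hm : Ad δ μ) : ∃ a ∈ E δ μ, a ∉ Q δ :=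
  SetLike.not_le_iff_exists.1 (h.not_E_le_Q hm)

theorem exists_other {δ μ : Vx P₁ P₂} (hm : Ad δ μ) : ∃ ν, Ad δ ν ∧ ν ≠ μ := by
  by_contra hc
  push Not at hc
  refine h.E_ne_S hm fun g hg => ⟨hg, MulAction.mem_stabilizer_iff.2 ?_⟩
  refine hc _ ?_
  have := H58.smul_adj g hm
  rwa [MulAction.mem_stabilizer_iff.1 hg] at this

/-- an element of an edge group outside the core exchanges the other two edges -/
theorem adj_smul {δ μ : Vx P₁ P₂} (hm : Ad δ μ) {g : G} (hg : g • δ = δ) : Ad δ (g • μ) := by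
  have := H58.smul_adj g hm
  rwa [hg] at this

theorem smul_ne {δ μ ν : Vx P₁ P₂} {a : G} (ha : a ∈ E δ μ) (hne : ν ≠ μ) : a • ν ≠ μ := fun he =>
  hne (by rw [← inv_smul_smul a ν, he, inv_smul_eq_iff]; exact (MulAction.mem_stabilizer_iff.1 ha.2).symm)

/-- the three neighbours -/
theorem nbr_cases {δ μ ν ξ : Vx P₁ P₂} (hm : Ad δ μ) (hn : Ad δ ν) (hne : ν ≠ μ) {a : G}
    (ha : a ∈ E δ μ) (haQ : a ∉ Q δ) (hx : Ad δ ξ) : ξ = μ ∨ ξ = ν ∨ ξ = a • ν := by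
  haveI := h.finS δ
  by_contra hc
  push Not at hc
  have e1 : a • ν ≠ ν := h.not_mem_E hm hn hne.symm ha haQ
  have e2 : a • ν ≠ μ := h.smul_ne ha hne
  have horb : (MulAction.orbit (S δ) μ).ncard = 3 := by
    refine (MulAction.index_stabilizer (G := S δ) (x := μ)).symm.trans ?_
    have he : MulAction.stabilizer (S δ) μ = (E δ μ).subgroupOf (S δ) := by
      ext g
      exact ⟨fun hg => ⟨g.2, hg⟩, fun hg => hg.2⟩
    rw [he]
    refine Nat.eq_of_mul_eq_mul_left (show 0 < 2 * Nat.card (Q δ) by have := h.card_Q_pos δ; omega) ?_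
    have := card_mul_index ((E δ μ).subgroupOf (S δ))
    rw [Nat.card_congr (subgroupOfEquivOfLe (inf_le_left : E δ μ ≤ S δ)).toEquiv, h.card_E hm,
      h.card_S δ] at this
    rw [this]; ring
  have hfin : (MulAction.orbit (S δ) μ).Finite := Set.finite_of_ncard_pos (by omega)
  have hin : ∀ z, Ad δ z → z ∈ MulAction.orbit (S δ) μ := fun z hz => by
    obtain ⟨g, hg, hgz⟩ := H58.exists_smul_eq_of_adj hm hz
    exact ⟨⟨g, hg⟩, hgz⟩
  have h4 : ({μ, ν, a • ν, ξ} : Set (Vx P₁ P₂)).ncard ≤ 3 := horb ▸ Set.ncard_le_ncard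
    (fun z hz => by
      simp only [Set.mem_insert_iff, Set.mem_singleton_iff] at hz
      rcases hz with rfl | rfl | rfl | rfl
      exacts [hin _ hm, hin _ hn, hin _ (h.adj_smul hn (MulAction.mem_stabilizer_iff.1 ha.1)), hin _ hx]) hfin
  rw [Set.ncard_insert_of_notMem (by simp [hne.symm, e2.symm, hc.1.symm]),
    Set.ncard_insert_of_notMem (by simp [e1.symm, hc.2.1.symm]), Set.ncard_pair hc.2.2.symm] at h4
  omega

theorem conj_mem_Q {δ : Vx P₁ P₂} (g : G) {x : G} (hx : x ∈ Q δ) : g * x * g⁻¹ ∈ Q (g • δ) := by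
  haveI : Fact (Nat.Prime 2) := ⟨Nat.prime_two⟩
  haveI := h.finS δ
  show g * x * g⁻¹ ∈ Cfsg.pCoreOf 2 (S (g • δ))
  rw [show S (g • δ) = H60.cj (S δ) g from H60.stabilizer_smul_cj g δ, H58.pCoreOf_map_conj]
  exact ⟨x, hx, rfl⟩

theorem mem_Q_smul {δ : Vx P₁ P₂} {g x : G} : x ∈ Q (g • δ) ↔ g⁻¹ * x * g ∈ Q δ := by
  constructor
  · intro hx
    have := h.conj_mem_Q g⁻¹ hx
    rwa [inv_smul_smul, inv_inv] at this
  · intro hx
    have := h.conj_mem_Q g hx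
    rwa [show g * (g⁻¹ * x * g) * g⁻¹ = x by group] at this

/-- a subgroup normal in both ends of an edge is trivial -/
theorem killN {δ μ : Vx P₁ P₂} (hm : Ad δ μ) {W : Subgroup G} (hW : W ≤ E δ μ)
    (hd : S δ ≤ normalizer (W : Set G)) (hu : S μ ≤ normalizer (W : Set G)) : W = ⊥ :=
  H60.eq_bot_of_edge h.amal hm hW hd hu

/-- an element central in both ends of an edge is trivial -/
theorem kill {δ μ : Vx P₁ P₂} (hm : Ad δ μ) {c : G} (hc : c ∈ E δ μ)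
    (hd : S δ ≤ centralizer ({c} : Set G)) (hu : S μ ≤ centralizer ({c} : Set G)) : c = 1 :=
  zpowers_eq_bot.1 (h.killN hm (zpowers_le.2 hc) (fun s hs => norm_of_comm (hd hs)) (fun s hs => norm_of_comm (hu hs)))
where
  norm_of_comm {s : G} (hs : s ∈ centralizer ({c} : Set G)) : s ∈ normalizer (zpowers c : Set G) := by
    refine H58.mem_normalizer_of_map_conj_eq ?_
    rw [MonoidHom.map_zpowers]
    show zpowers (s * c * s⁻¹) = _
    rw [mem_centralizer_singleton_iff.1 hs, mul_inv_cancel_right]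

/-- an edge group and one more element give the vertex group -/
theorem S_le {δ μ : Vx P₁ P₂} (hm : Ad δ μ) {X : Subgroup G} (hX : E δ μ ≤ X) {a : G} (ha : a ∈ X)
    (haS : a ∈ S δ) (hne : a ∉ E δ μ) : S δ ≤ X := by
  rcases h.eq_of_E_le hm (le_inf hX inf_le_left) (inf_le_right : X ⊓ S δ ≤ S δ) with h1 | h1
  · exact absurd (h1 ▸ (⟨ha, haS⟩ : a ∈ X ⊓ S δ)) hne
  · exact h1.ge.trans inf_le_left

theorem S_le' {δ μ ν : Vx P₁ P₂} (hm : Ad δ μ) (hn : Ad δ ν) (hne : μ ≠ ν) {X : Subgroup G}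
    (h1 : E δ μ ≤ X) (h2 : E δ ν ≤ X) : S δ ≤ X :=
  h.sup_eq hm hn hne ▸ sup_le h1 h2

end Cub

namespace C2

variable (h : C2 P₁ P₂)
include h

theorem Z_le_Q (δ : Vx P₁ P₂) : Z δ ≤ Q δ := by
  haveI : Fact (Nat.Prime 2) := ⟨Nat.prime_two⟩
  exact H58.vertexZ_le_vertexQ h.ch δ

theorem S_le_norm_Z (δ : Vx P₁ P₂) : S δ ≤ normalizer (Z δ : Set G) := by
  haveI : Fact (Nat.Prime 2) := ⟨Nat.prime_two⟩
  haveI := h.finS δ
  exact H58.le_normalizer_sylowCenterClosure _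

theorem omega_le_Z {δ μ : Vx P₁ P₂} (hm : Ad δ μ) : H58.omegaCenter 2 (E δ μ) ≤ Z δ := by
  haveI : Fact (Nat.Prime 2) := ⟨Nat.prime_two⟩
  haveI := h.finS δ
  exact H58.omegaCenter_le_sylowCenterClosure (h.syl hm)

theorem Q_le_cent_Z (δ : Vx P₁ P₂) : Q δ ≤ centralizer (Z δ : Set G) := by
  haveI : Fact (Nat.Prime 2) := ⟨Nat.prime_two⟩
  haveI := h.finS δ
  rw [le_centralizer_iff]
  exact H58.sylowCenterClosure_le fun T hT =>
    (H58.omegaCenter_le T).trans (inf_le_right.trans (centralizer_le hT.pCoreOf_le))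

theorem Z_comm {δ : Vx P₁ P₂} {a b : G} (ha : a ∈ Z δ) (hb : b ∈ Q δ) : a * b = b * a :=
  mem_centralizer_iff.1 (h.Q_le_cent_Z δ hb) a ha

theorem Z_sq {δ : Vx P₁ P₂} {a : G} (ha : a ∈ Z δ) : a * a = 1 := by
  haveI := h.finS δ
  let X : Subgroup G :=
    { carrier := {z | z ∈ Z δ ∧ z * z = 1}
      one_mem' := ⟨one_mem _, one_mul 1⟩
      mul_mem' := fun {z w} hz hw => ⟨mul_mem hz.1 hw.1, by
        rw [show z * w * (z * w) = z * (w * z) * w by simp only [mul_assoc],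
          ← h.Z_comm hz.1 (h.Z_le_Q δ hw.1), show z * (z * w) * w = (z * z) * (w * w) by simp only [mul_assoc],
          hz.2, hw.2, one_mul]⟩
      inv_mem' := fun {z} hz => ⟨inv_mem hz.1, by rw [← mul_inv_rev, hz.2, inv_one]⟩ }
  haveI : Fact (Nat.Prime 2) := ⟨Nat.prime_two⟩
  have hle : Z δ ≤ X := H58.sylowCenterClosure_le fun T hT => by
    refine (closure_le _).2 fun z hz => ⟨?_, by rw [← sq]; exact hz.2⟩
    exact H58.omegaCenter_le_sylowCenterClosure hT (subset_closure hz)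
  exact (hle ha).2

theorem Z_inv {δ : Vx P₁ P₂} {a : G} (ha : a ∈ Z δ) : a⁻¹ = a :=
  inv_eq_of_mul_eq_one_left (h.Z_sq ha)

/-- the vertex group induces the full residue on `Z` -/
theorem cent_Z {δ : Vx P₁ P₂} (hA : Act δ) {a : G} (ha : a ∈ S δ) (hc : ∀ z ∈ Z δ, a * z = z * a) :
    a ∈ Q δ := by
  obtain ⟨μ, hm, hnc⟩ := hA
  haveI : Fact (Nat.Prime 2) := ⟨Nat.prime_two⟩
  haveI := h.finS δ
  set C := S δ ⊓ centralizer (Z δ : Set G) with hC
  have haC : a ∈ C := ⟨ha, mem_centralizer_iff.2 fun z hz => (hc z hz).symm⟩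
  have hCn : S δ ≤ normalizer (C : Set G) := fun s hs => by
    refine H58.mem_normalizer_of_map_conj_eq (le_antisymm ?_ fun y hy => ?_)
    · rintro _ ⟨y, hy, rfl⟩
      refine ⟨(S δ).mul_mem ((S δ).mul_mem hs hy.1) ((S δ).inv_mem hs), mem_centralizer_iff.2 fun z hz => ?_⟩
      have hz' : s⁻¹ * z * s ∈ Z δ := by
        simpa using (mem_normalizer_iff.1 (h.S_le_norm_Z δ (inv_mem hs)) z).1 hz
      show z * (s * y * s⁻¹) = s * y * s⁻¹ * z
      calc z * (s * y * s⁻¹) = s * ((s⁻¹ * z * s) * y) * s⁻¹ := by group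
        _ = s * (y * (s⁻¹ * z * s)) * s⁻¹ := by rw [mem_centralizer_iff.1 hy.2 _ hz']
        _ = s * y * s⁻¹ * z := by group
    · refine (H58.mem_map_conj _ _ _).2 ⟨(S δ).mul_mem ((S δ).mul_mem ((S δ).inv_mem hs) hy.1) hs, mem_centralizer_iff.2 fun z hz => ?_⟩
      have hz' : s * z * s⁻¹ ∈ Z δ := (mem_normalizer_iff.1 (h.S_le_norm_Z δ hs) z).1 hz
      calc z * (s⁻¹ * y * s) = s⁻¹ * ((s * z * s⁻¹) * y) * s := by group
        _ = s⁻¹ * (y * (s * z * s⁻¹)) * s := by rw [mem_centralizer_iff.1 hy.2 _ hz']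
        _ = s⁻¹ * y * s * z := by group
  by_cases hCE : C ≤ E δ μ
  · exact H58.le_pCoreOf inf_le_left ((h.syl hm).isPGroup.to_le hCE) hCn haC
  exfalso
  rcases h.eq_of_E_le hm le_sup_left (sup_le inf_le_left inf_le_left : E δ μ ⊔ C ≤ S δ) with h1 | h1
  · exact hCE (h1 ▸ le_sup_right)
  refine hnc (h1 ▸ sup_le ?_ (inf_le_right.trans (centralizer_le (h.omega_le_Z hm))))
  rw [le_centralizer_iff]
  exact (H58.omegaCenter_le _).trans inf_le_right

theorem Z_ne_bot (δ : Vx P₁ P₂) : Z δ ≠ ⊥ := by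
  haveI : Fact (Nat.Prime 2) := ⟨Nat.prime_two⟩
  haveI := h.finS δ
  refine H60.sylowCenterClosure_ne_bot _ ?_
  show 2 ∣ Nat.card (S δ)
  rw [h.card_S δ]
  exact ⟨3 * Nat.card (Q δ), by ring⟩


theorem conj_mem_Z {δ : Vx P₁ P₂} (g : G) {x : G} (hx : x ∈ Z δ) : g * x * g⁻¹ ∈ Z (g • δ) := by
  haveI : Fact (Nat.Prime 2) := ⟨Nat.prime_two⟩
  haveI := h.finS δ
  have := H60.sylowCenterClosure_cj_le (p := 2) (S δ) g (show g * x * g⁻¹ ∈ H60.cj (Z δ) g from ⟨x, hx, rfl⟩)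
  rwa [← H60.stabilizer_smul_cj] at this

theorem crit_conj {δ μ : Vx P₁ P₂} (g : G) (hn : ¬ Z δ ≤ Q μ) : ¬ Z (g • δ) ≤ Q (g • μ) := fun hle =>
  hn fun x hx => by
    have := h.mem_Q_smul.1 (hle (h.conj_mem_Z g hx))
    simpa [mul_assoc] using this

end C2

namespace Hyp

variable (h : Hyp P₁ P₂)
include h

theorem not_central {δ μ : Vx P₁ P₂} (hm : Ad δ μ) :
    ¬ S δ ≤ centralizer (H58.omegaCenter 2 (E δ μ) : Set G) := by
  intro hle
  obtain ⟨x, hE, hS⟩ := h.edge_eq hm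
  rw [hE] at hle
  rcases hS with hS | hS <;> rw [hS] at hle
  · refine h.nc₁ fun p hp => mem_centralizer_iff.2 fun z hz => (MulAut.conj x).injective ?_
    rw [map_mul, map_mul]
    exact mem_centralizer_iff.1 (hle ⟨p, hp, rfl⟩) _ (H58.omegaCenter_map_conj_le _ x ⟨z, hz, rfl⟩)
  · refine h.nc₂ fun p hp => mem_centralizer_iff.2 fun z hz => (MulAut.conj x).injective ?_
    rw [map_mul, map_mul]
    exact mem_centralizer_iff.1 (hle ⟨p, hp, rfl⟩) _ (H58.omegaCenter_map_conj_le _ x ⟨z, hz, rfl⟩)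

theorem act (δ : Vx P₁ P₂) : Act δ := by
  obtain ⟨μ, hm⟩ := H58.exists_adj δ
  exact ⟨μ, hm, h.not_central hm⟩

theorem cent_Z {δ : Vx P₁ P₂} {a : G} (ha : a ∈ S δ) (hc : ∀ z ∈ Z δ, a * z = z * a) : a ∈ Q δ :=
  h.toC2.cent_Z (h.act δ) ha hc

end Hyp

end Cfsg.Agent.H88.Am
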