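import Cfsg.Agent.H88.AmPair

/-!
A vertex whose kernels meet in the same subgroup along all its edges, and the shift of a critical pair.
-/

set_option autoImplicit false
set_option linter.style.haveILetI false

namespace Cfsg.Agent.H88.Am

open Subgroup
open scoped commutatorElement

variable {G : Type*} [Group G] {P₁ P₂ : Subgroup G}

/-- the kernel meets the kernels of all neighbours in the same subgroup -/
def Flat (δ : Vx P₁ P₂) : Prop := ∀ μ ν, Ad δ μ → Ad δ ν → Q δ ⊓ Q μ ≤ Q ν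

variable (h : C2 P₁ P₂)
include h

theorem Flat.smul {δ : Vx P₁ P₂} (hf : Flat δ) (g : G) : Flat (g • δ) := by
  intro μ ν hm hn x hx
  have e : ∀ {ξ : Vx P₁ P₂}, Ad (g • δ) ξ → Ad δ (g⁻¹ • ξ) := fun {ξ} hξ => by
    have := H58.smul_adj g⁻¹ hξ
    rwa [inv_smul_smul] at this
  have h2 := hf (g⁻¹ • μ) (g⁻¹ • ν) (e hm) (e hn)
    ⟨(h.mem_Q_smul).1 hx.1, by simpa using h.conj_mem_Q g⁻¹ hx.2⟩
  rw [← smul_inv_smul g ν]
  exact (h.mem_Q_smul).2 h2

theorem Flat.two {δ μ ν : Vx P₁ P₂} (hf : Flat δ) (h1 : Ad δ μ) (h2 : Ad μ ν) : Flat ν := by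
  obtain ⟨g, -, rfl⟩ := H58.exists_smul_eq_of_adj h1.symm h2
  exact Flat.smul h hf g

omit h in
theorem sup_le_normalizer {W₁ W₂ : Subgroup G} {a : G} (ha : a * a = 1)
    (h1 : ∀ w ∈ W₁, a * w * a⁻¹ ∈ W₁ ⊔ W₂) (h2 : ∀ w ∈ W₂, a * w * a⁻¹ ∈ W₁ ⊔ W₂) :
    a ∈ normalizer ((W₁ ⊔ W₂ : Subgroup G) : Set G) := by
  have hle : (W₁ ⊔ W₂).map (MulAut.conj a).toMonoidHom ≤ W₁ ⊔ W₂ := by
    rw [Subgroup.map_sup]
    refine sup_le ?_ ?_ <;> rintro _ ⟨w, hw, rfl⟩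
    · exact h1 w hw
    · exact h2 w hw
  refine H58.mem_normalizer_of_map_conj_eq (le_antisymm hle fun y hy => ?_)
  rw [H58.mem_map_conj]
  have := hle ⟨y, hy, rfl⟩
  simpa [inv_eq_of_mul_eq_one_left ha] using this

theorem C2.norm_Z {δ : Vx P₁ P₂} {a : G} (ha : a ∈ S δ) {z : G} (hz : z ∈ Z δ) : a * z * a⁻¹ ∈ Z δ :=
  (mem_normalizer_iff.1 (h.S_le_norm_Z δ ha) z).1 hz

variable {α β α' β' : Vx P₁ P₂} {u v : G}

/-- an element of a critical pair multiplies such elements by the commutator -/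
theorem Pr.conj_mem (hp : Pr α β α' β' u v) {z : G} (hz : z ∈ E α' β') :
    ∃ e ∈ Z α, v * z * v⁻¹ = e * z := by
  rcases Pr.comm_cases h hp hz with hc | hc
  · refine ⟨1, one_mem _, ?_⟩
    rw [one_mul, ← commutatorElement_eq_one_iff_mul_comm.1 hc, mul_inv_cancel_right]
  · refine ⟨⁅u, v⁆, Pr.mem_left h hp, ?_⟩
    rw [← h.Z_inv (Pr.mem_left h hp), ← hc, commutatorElement_inv, commutatorElement_def]
    group

/-- if the pair cannot be shifted along an edge at `α`, then `α` is flat -/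
theorem Pr.flat (hp : Pr α β α' β' u v) {μ : Vx P₁ P₂} (hm : Ad α μ) (hne : μ ≠ β)
    (hA : Act μ) (hμ : Z μ ≤ E α' β') : Flat α := by
  have hv2 : v * v = 1 := h.Z_sq hp.hv
  set W := Z α ⊔ Z μ
  have hvW : v ∈ normalizer (W : Set G) := by
    refine sup_le_normalizer hv2 (fun w hw => mem_sup_left (h.norm_Z hp.hvE.1 hw)) fun w hw => ?_
    obtain ⟨e, he, hee⟩ := Pr.conj_mem h hp (hμ hw)
    rw [hee]
    exact mul_mem (mem_sup_left he) (mem_sup_right hw)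
  have hEW : E α μ ≤ normalizer (W : Set G) := fun a ha => by
    refine H58.mem_normalizer_of_map_conj_eq ?_
    rw [Subgroup.map_sup, H58.map_conj_eq_self (h.S_le_norm_Z α ha.1), H58.map_conj_eq_self (h.S_le_norm_Z μ ha.2)]
  have hvE : v ∉ E α μ := fun hc =>
    h.not_mem_E hp.adj hm hne.symm hp.hvE hp.hvQ (MulAction.mem_stabilizer_iff.1 hc.2)
  have hSW : S α ≤ normalizer (W : Set G) := by
    rcases h.eq_of_E_le hm (X := normalizer (W : Set G) ⊓ S α) (le_inf hEW inf_le_left) inf_le_right with h1 | h1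
    · exact absurd (h1 ▸ (⟨hvW, hp.hvE.1⟩ : v ∈ normalizer (W : Set G) ⊓ S α)) hvE
    · exact h1.ge.trans inf_le_left
  have hiff : ∀ x, x ∈ Q α ⊓ Q μ ↔ x ∈ Q α ∧ ∀ w ∈ W, x * w = w * x := by
    intro x
    constructor
    · intro hx
      refine ⟨hx.1, fun w hw => ?_⟩
      have hle : W ≤ centralizer ({x} : Set G) := sup_le
        (fun z hz => mem_centralizer_singleton_iff.2 (h.Z_comm hz hx.1))
        (fun z hz => mem_centralizer_singleton_iff.2 (h.Z_comm hz hx.2))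
      exact (mem_centralizer_singleton_iff.1 (hle hw)).symm
    · intro hx
      exact ⟨hx.1, h.cent_Z hA (h.Q_le_E hm hx.1).2 fun z hz => hx.2 z (mem_sup_right hz)⟩
  have hnorm : ∀ g ∈ S α, ∀ x ∈ Q α ⊓ Q μ, g * x * g⁻¹ ∈ Q α ⊓ Q μ := by
    intro g hg x hx
    rw [hiff] at hx ⊢
    refine ⟨(mem_normalizer_iff.1 (h.S_le_norm_Q α hg) x).1 hx.1, fun w hw => ?_⟩
    have hw' : g⁻¹ * w * g ∈ W := by
      simpa using (mem_normalizer_iff.1 (hSW (inv_mem hg)) w).1 hw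
    calc g * x * g⁻¹ * w = g * (x * (g⁻¹ * w * g)) * g⁻¹ := by group
      _ = g * ((g⁻¹ * w * g) * x) * g⁻¹ := by rw [hx.2 _ hw']
      _ = w * (g * x * g⁻¹) := by group
  -- all neighbours
  have key : ∀ ν, Ad α ν → Q α ⊓ Q μ ≤ Q α ⊓ Q ν ∧ Q α ⊓ Q ν ≤ Q α ⊓ Q μ := by
    intro ν hn
    obtain ⟨g, hg, rfl⟩ := H58.exists_smul_eq_of_adj hm hn
    constructor
    · intro x hx
      refine ⟨hx.1, (h.mem_Q_smul).2 ?_⟩
      simpa using (hnorm _ (inv_mem hg) x hx).2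
    · intro x hx
      have h1 : g⁻¹ * x * g ∈ Q α ⊓ Q μ := ⟨by
        simpa using (mem_normalizer_iff.1 (h.S_le_norm_Q α (inv_mem hg)) x).1 hx.1, (h.mem_Q_smul).1 hx.2⟩
      simpa [mul_assoc] using hnorm g hg _ h1
  intro ν ξ hn hx
  exact ((key ν hn).2.trans (key ξ hx).1).trans inf_le_right

end Cfsg.Agent.H88.Am
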