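import Cfsg.Agent.H88.AmOne

/-!
The vertex groups of an adjacent critical pair are `S₄` or `C₂ × S₄`.
-/

set_option autoImplicit false
set_option linter.style.haveILetI false

namespace Cfsg.Agent.H88.Am

open Subgroup
open scoped commutatorElement

variable {G : Type*} [Group G] {P₁ P₂ : Subgroup G}

variable (h : Hyp P₁ P₂)
include h

variable {α β : Vx P₁ P₂} {u v : G}

theorem One.card_S' (hp : Pr α β β α u v) : Nat.card (S α) = 24 * Nat.card (Cn α) := by
  rw [h.card_S, One.card_Q h hp, One.card_D h hp]; ring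

theorem One.E_le_of (hp : Pr α β β α u v) {X : Subgroup G} (hQ : Q α ≤ X) (hv : v ∈ X) : E α β ≤ X := by
  intro e he
  by_cases heQ : e ∈ Q α
  · exact hQ heQ
  · have := mul_mem (hQ (h.mul_mem_Q hp.adj he hp.hvE heQ hp.hvQ)) hv
    rwa [mul_assoc, h.Z_sq hp.hv, mul_one] at this

/-- an element of the kernel normalising a subgroup of order three is central -/
theorem One.fixed_central (hp : Pr α β β α u v) {σ : G} (hσS : σ ∈ S α) (hσE : σ ∉ E α β)
    (hσ3 : σ ^ 3 = 1) (hvσ : v * σ * v⁻¹ = σ⁻¹) {x : G} (hx : x ∈ Q α)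
    (hn : x * σ * x⁻¹ ∈ zpowers σ) : x ∈ Cn α := by
  have hg : x * σ * x⁻¹ * σ⁻¹ ∈ Q α := by
    rw [show x * σ * x⁻¹ * σ⁻¹ = x * (σ * x⁻¹ * σ⁻¹) by group]
    exact mul_mem hx ((mem_normalizer_iff.1 (h.S_le_norm_Q α hσS) x⁻¹).1 (inv_mem hx))
  have hc : x * σ = σ * x := by
    obtain ⟨n, hn'⟩ := mem_zpowers_iff.1 (mul_mem hn (inv_mem (mem_zpowers σ)))
    have h3 : (x * σ * x⁻¹ * σ⁻¹) ^ (3 : ℕ) = 1 := by
      rw [← hn', ← zpow_natCast, ← zpow_mul, mul_comm, zpow_mul, zpow_natCast, hσ3, one_zpow]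
    have h2 := One.Q_sq h hp hg
    rw [pow_succ, pow_two, h2, one_mul] at h3
    exact mul_inv_eq_iff_eq_mul.1 (mul_inv_eq_one.1 h3)
  have hEx : ∀ {r : G}, r ∈ Q α → v * r = r * v → E α β ≤ centralizer ({r} : Set G) := fun {r} hr hvr =>
    One.E_le_of h hp (fun q hq => mem_centralizer_singleton_iff.2 (One.Q_comm h hp hq hr))
      (mem_centralizer_singleton_iff.2 hvr)
  have fin : ∀ {r : G}, r ∈ Q α → v * r = r * v → σ * r = r * σ → r ∈ Cn α := fun {r} hr hvr hσr =>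
    ⟨h.Q_le_S α hr, fun s hs => mem_centralizer_singleton_iff.1
      (h.S_le hp.adj (hEx hr hvr) (mem_centralizer_singleton_iff.2 hσr) hσS hσE hs)⟩
  rcases One.cases h hp hx with h1 | h1
  · exact fin hx (mul_inv_eq_iff_eq_mul.1 h1) hc.symm
  · refine absurd (fin (One.r_mem h hp).1 (Pr.v_comm h.toC2 hp) ?_) (One.r_not_central h hp)
    have hy : σ⁻¹ * (v * x * v⁻¹) = v * x * v⁻¹ * σ⁻¹ := by
      rw [← hvσ]
      calc v * σ * v⁻¹ * (v * x * v⁻¹) = v * (σ * x) * v⁻¹ := by group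
        _ = v * (x * σ) * v⁻¹ := by rw [hc]
        _ = v * x * v⁻¹ * (v * σ * v⁻¹) := by group
    have hy' : Commute σ (v * x * v⁻¹) := (Commute.inv_left_iff).1 hy
    have hr : ⁅u, v⁆ = (v * x * v⁻¹) * x⁻¹ := by rw [h1, mul_inv_cancel_right]
    rw [hr]
    exact hy'.mul_right (Commute.inv_right hc.symm)

theorem One.exists_phi (hp : Pr α β β α u v) :
    ∃ φ : ↥(S α) →* Equiv.Perm (Fin 4), Function.Surjective φ ∧ φ.ker = (Cn α).subgroupOf (S α) := by
  obtain ⟨σ, hσS, hσQ, hσE, hσ3, hvσ, -⟩ := One.exists_three h hp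
  haveI := h.finS α
  haveI : Fact (Nat.Prime 3) := ⟨Nat.prime_three⟩
  haveI : Fact (Nat.Prime 2) := ⟨Nat.prime_two⟩
  set H := S α
  set σ' : ↥H := ⟨σ, hσS⟩
  have hord : orderOf σ' = 3 := orderOf_eq_prime (Subtype.ext hσ3)
    (fun hc => hσQ (by rw [show σ = 1 from congrArg Subtype.val hc]; exact one_mem _))
  have hcard := One.card_S' h hp
  have hCn : Nat.card (Cn α) = 1 ∨ Nat.card (Cn α) = 2 := (One.card_cases h hp).2
  have hfac : (Nat.card H).factorization 3 = 1 := by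
    rw [hcard]
    rcases hCn with hc | hc <;> rw [hc]
    · rw [show 24 * 1 = 3 ^ 1 * 8 by norm_num, Nat.factorization_mul (by norm_num) (by norm_num),
        Finsupp.add_apply, Nat.Prime.factorization_pow Nat.prime_three, Finsupp.single_eq_same,
        Nat.factorization_eq_zero_of_not_dvd (by norm_num : ¬ 3 ∣ 8)]
    · rw [show 24 * 2 = 3 ^ 1 * 16 by norm_num, Nat.factorization_mul (by norm_num) (by norm_num),
        Finsupp.add_apply, Nat.Prime.factorization_pow Nat.prime_three, Finsupp.single_eq_same,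
        Nat.factorization_eq_zero_of_not_dvd (by norm_num : ¬ 3 ∣ 16)]
  set P : Sylow 3 ↥H := Sylow.ofCard (zpowers σ') (by rw [Nat.card_zpowers, hord, hfac, pow_one]) with hP
  have hPcoe : (P : Subgroup ↥H) = zpowers σ' := Sylow.coe_ofCard _ _
  set Q' := (Q α).subgroupOf H with hQ'
  set C' := (Cn α).subgroupOf H with hC'
  haveI : Q'.Normal := normal_subgroupOf_of_le_normalizer (h.S_le_norm_Q α)
  set N := normalizer (P : Set ↥H) with hN
  have hNeq : N = normalizer (zpowers σ' : Set ↥H) := by rw [hN, ← hPcoe]; rfl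
  have hCN : C' ≤ N := by
    intro x hx
    rw [hNeq]
    refine H58.mem_normalizer_of_map_conj_eq ?_
    rw [MonoidHom.map_zpowers]
    congr 1
    exact Subtype.ext (mul_inv_eq_iff_eq_mul.2 (mem_centralizer_iff.1 hx.2 σ hσS).symm)
  have hQN : Q' ⊓ N = C' := by
    refine le_antisymm (fun x hx => ?_) (le_inf (fun x hx => (One.Cn_le h hp hx).1) hCN)
    refine One.fixed_central h hp hσS hσE hσ3 hvσ hx.1 ?_
    have h1 : x * σ' * x⁻¹ ∈ zpowers σ' :=
      (mem_normalizer_iff.1 (hNeq ▸ hx.2 : x ∈ normalizer (zpowers σ' : Set ↥H)) σ').1 (mem_zpowers σ')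
    obtain ⟨n, hn⟩ := mem_zpowers_iff.1 h1
    exact mem_zpowers_iff.2 ⟨n, (SubgroupClass.coe_zpow σ' n).symm.trans (congrArg Subtype.val hn)⟩
  have htop : N ⊔ Q' = ⊤ := by
    refine eq_top_iff.2 fun x _ => ?_
    have hle : S α ≤ (N ⊔ Q').map H.subtype := by
      refine h.S_le hp.adj (One.E_le_of h hp (fun q hq => ?_) ?_) (a := σ) ?_ hσS hσE
      · exact ⟨⟨q, h.Q_le_S α hq⟩, mem_sup_right hq, rfl⟩
      · refine ⟨⟨v, hp.hvE.1⟩, mem_sup_left ?_, rfl⟩
        rw [hNeq]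
        refine H58.mem_normalizer_of_map_conj_eq ?_
        rw [MonoidHom.map_zpowers, ← zpowers_inv (g := σ')]
        congr 1
        exact Subtype.ext hvσ
      · refine ⟨σ', mem_sup_left ?_, rfl⟩
        rw [hNeq]
        exact le_normalizer (mem_zpowers σ')
    obtain ⟨y, hy, hyx⟩ := hle x.2
    exact Subtype.ext hyx ▸ hy
  have hQ6 : Q'.index = 6 := by
    have := card_mul_index Q'
    rw [Nat.card_congr (subgroupOfEquivOfLe (h.Q_le_S α)).toEquiv, h.card_S α, mul_comm 6] at this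
    exact Nat.eq_of_mul_eq_mul_left (h.card_Q_pos α) this
  have hrel : Q'.relIndex N = 6 := by rw [← relIndex_sup_right, htop, relIndex_top_right, hQ6]
  have hN6 : Nat.card N = 6 * Nat.card (Cn α) := by
    have := card_mul_index (Q'.subgroupOf N)
    rw [show (Q'.subgroupOf N).index = 6 from hrel, ← inf_subgroupOf_right, hQN,
      Nat.card_congr (subgroupOfEquivOfLe hCN).toEquiv,
      Nat.card_congr (subgroupOfEquivOfLe (inf_le_left : Cn α ≤ H)).toEquiv] at this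
    exact this.symm.trans (mul_comm _ _)
  have hn3 : Nat.card (Sylow 3 ↥H) = 4 := by
    rw [Sylow.card_eq_index_normalizer P]
    show N.index = 4
    have := card_mul_index N
    rw [hN6, hcard] at this
    rcases hCn with hc | hc <;> rw [hc] at this <;> omega
  haveI : Finite (Sylow 3 ↥H) := inferInstance
  set ψ := MulAction.toPermHom ↥H (Sylow 3 ↥H) with hψ
  have hKmem : ∀ x, x ∈ ψ.ker ↔ ∀ R : Sylow 3 ↥H, x • R = R := fun x => by
    rw [MonoidHom.mem_ker, Equiv.Perm.ext_iff]; rfl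
  have hCK : C' ≤ ψ.ker := by
    intro x hx
    refine (hKmem x).2 fun R => Sylow.smul_eq_iff_mem_normalizer.2 (H58.mem_normalizer_of_map_conj_eq ?_)
    have : (MulAut.conj x).toMonoidHom = MonoidHom.id ↥H := MonoidHom.ext fun y =>
      Subtype.ext (mul_inv_eq_iff_eq_mul.2 (mem_centralizer_iff.1 hx.2 y y.2).symm)
    rw [this, Subgroup.map_id]
  have hKQ : ψ.ker ≤ Q' := by
    have h3 : ¬ 3 ∣ Nat.card ψ.ker := by
      intro hd
      obtain ⟨k, hk⟩ := exists_prime_orderOf_dvd_card' 3 hd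
      have hk' : orderOf (k : ↥H) = 3 := by rw [Subgroup.orderOf_coe, hk]
      set P0 : Sylow 3 ↥H := Sylow.ofCard (zpowers (k : ↥H)) (by rw [Nat.card_zpowers, hk', hfac, pow_one]) with hP0
      obtain ⟨g, hg⟩ := MulAction.exists_smul_eq ↥H P0 P
      have hP0K : (P0 : Subgroup ↥H) ≤ ψ.ker := by rw [hP0, Sylow.coe_ofCard]; exact zpowers_le.2 k.2
      have hσK : σ' ∈ ψ.ker := by
        have : σ' ∈ (P : Subgroup ↥H) := hPcoe ▸ mem_zpowers σ'
        rw [← hg, Sylow.coe_subgroup_smul] at this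
        obtain ⟨y, hy, hyσ⟩ := mem_map.1 this
        rw [← hyσ]
        exact (MonoidHom.normal_ker ψ).conj_mem y (hP0K hy) g
      have hone : ∀ R : Sylow 3 ↥H, R = P := by
        intro R
        have hle : zpowers σ' ≤ normalizer (R : Set ↥H) :=
          zpowers_le.2 (Sylow.smul_eq_iff_mem_normalizer.1 ((hKmem σ').1 hσK R))
        have hp3 : IsPGroup 3 ↥(zpowers σ' ⊔ (R : Subgroup ↥H)) :=
          (hPcoe ▸ P.2 : IsPGroup 3 ↥(zpowers σ')).to_sup_of_normal_right' R.2 hle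
        have h1 := R.3 hp3 le_sup_right
        have h2 := P.3 hp3 (hPcoe.le.trans le_sup_left)
        exact Sylow.ext (h1.symm.trans h2)
      haveI : Subsingleton (Sylow 3 ↥H) := ⟨fun A B => (hone A).trans (hone B).symm⟩
      have := Finite.card_le_one_iff_subsingleton.2 (inferInstance : Subsingleton (Sylow 3 ↥H))
      omega
    have hdvd : Nat.card ψ.ker ∣ 24 * Nat.card (Cn α) := hcard ▸ card_subgroup_dvd_card ψ.ker
    have hcop : Nat.Coprime (Nat.card ψ.ker) 3 := (Nat.prime_three.coprime_iff_not_dvd.2 h3).symm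
    have h2 : IsPGroup 2 ψ.ker := by
      have hd : Nat.card ψ.ker ∣ 2 ^ 4 := by
        refine hcop.dvd_of_dvd_mul_left (hdvd.trans ?_)
        rcases hCn with hc | hc <;> rw [hc] <;> norm_num
      obtain ⟨i, -, hi⟩ := (Nat.dvd_prime_pow Nat.prime_two).1 hd
      exact IsPGroup.of_card hi
    have hle2 : ψ.ker ≤ Cfsg.pCore 2 ↥H := le_sSup ⟨MonoidHom.normal_ker ψ, h2⟩
    intro x hx
    have : x ∈ Cfsg.pCore 2 ↥H := hle2 hx
    exact mem_subgroupOf.2 (show (x : G) ∈ Cfsg.pCoreOf 2 H from ⟨x, this, rfl⟩)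
  have hker : ψ.ker = C' := by
    refine le_antisymm (fun x hx => hQN ▸ ⟨hKQ hx, ?_⟩) hCK
    exact Sylow.smul_eq_iff_mem_normalizer.1 ((hKmem x).1 hx P)
  let e : Sylow 3 ↥H ≃ Fin 4 := Finite.equivFinOfCardEq hn3
  refine ⟨(Equiv.permCongrHom e).toMonoidHom.comp ψ, ?_, ?_⟩
  · rw [MonoidHom.coe_comp]
    refine (Equiv.permCongrHom e).surjective.comp ?_
    rw [← MonoidHom.range_eq_top]
    refine eq_top_of_card_eq _ ?_
    rw [← Subgroup.index_ker, hker, Nat.card_perm, hn3]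
    have := card_mul_index C'
    rw [Nat.card_congr (subgroupOfEquivOfLe (inf_le_left : Cn α ≤ H)).toEquiv, hcard] at this
    rw [show Nat.factorial 4 = 24 by decide]
    rcases hCn with hc | hc <;> rw [hc] at this <;> omega
  · rw [← hker]
    ext x
    simp

theorem One.iso_one (hp : Pr α β β α u v) (hc : Nat.card (Cn α) = 1) :
    Nonempty (↥(S α) ≃* Equiv.Perm (Fin 4)) := by
  obtain ⟨φ, hs, hk⟩ := One.exists_phi h hp
  refine ⟨MulEquiv.ofBijective φ ⟨(MonoidHom.ker_eq_bot_iff φ).1 ?_, hs⟩⟩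
  rw [hk, eq_bot_of_card_eq _ hc, bot_subgroupOf]

theorem One.iso_two (hp : Pr α β β α u v) (hc : Nat.card (Cn α) = 2) :
    Nonempty (↥(S α) ≃* Multiplicative (ZMod 2) × Equiv.Perm (Fin 4)) := by
  obtain ⟨φ, hs, hk⟩ := One.exists_phi h hp
  haveI := h.finS α
  haveI : Fact (Nat.Prime 2) := ⟨Nat.prime_two⟩
  haveI : Finite (Cn α) := Finite.of_injective _ (inclusion_injective inf_le_left)
  obtain ⟨c, hc1, hcu⟩ := (Nat.card_eq_two_iff' (1 : ↥(Cn α))).1 hc
  set r := ⁅u, v⁆ with hr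
  have hr2 : r * r = 1 := Pr.sq h.toC2 hp
  have hc2 : (c : G) * c = 1 := One.Q_sq h hp (One.Cn_le h hp c.2).1
  set E' := (E α β).subgroupOf (S α) with hE'
  have hcE : (c : G) ∈ E α β := h.Q_le_E hp.adj (One.Cn_le h hp c.2).1
  set cS : ↥(S α) := ⟨c, c.2.1⟩
  set cE : ↥E' := ⟨cS, hcE⟩
  set ι : ↥E' →* G := (S α).subtype.comp E'.subtype with hι
  have hsq : ∀ x : ↥E', ι (x * x) ∈ zpowers r := by
    intro x
    rw [map_mul]
    have hx : ι x ∈ E α β := x.2
    generalize ι x = y at hx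
    by_cases hy : y ∈ Q α
    · rw [One.Q_sq h hp hy]; exact one_mem _
    · have hq : y * v ∈ Q α := h.mul_mem_Q hp.adj hx hp.hvE hy hp.hvQ
      have hyy : y = y * v * v := by rw [mul_assoc, h.Z_sq hp.hv, mul_one]
      rw [hyy]
      generalize y * v = q at hq
      rw [show q * v * (q * v) = q * (v * q * v⁻¹) * (v * v) by group, h.Z_sq hp.hv, mul_one]
      rcases One.cases h hp hq with h1 | h1 <;> rw [h1]
      · rw [One.Q_sq h hp hq]; exact one_mem _
      · rw [← mul_assoc, One.Q_comm h hp hq (One.r_mem h hp).1, mul_assoc, One.Q_sq h hp hq, mul_one]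
        exact mem_zpowers r
  set W0 := closure (Set.range fun x : ↥E' => x * x) with hW0
  have hcW0 : cE ∉ W0 := by
    intro hin
    have h1 : ι cE ∈ zpowers r := by
      refine (show W0 ≤ (zpowers r).comap ι from ?_) hin
      rw [hW0, closure_le]
      rintro _ ⟨x, rfl⟩
      exact hsq x
    obtain ⟨n, hn⟩ := mem_zpowers_iff.1 h1
    rcases Int.even_or_odd' n with ⟨k, rfl | rfl⟩
    · rw [zpow_mul, zpow_two, hr2, one_zpow] at hn
      exact hc1 (Subtype.ext hn.symm)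
    · rw [zpow_add, zpow_one, zpow_mul, zpow_two, hr2, one_zpow, one_mul] at hn
      have hrc : ⁅u, v⁆ = (c : G) := hn
      exact One.r_not_central h hp (hrc.symm ▸ c.2)
  obtain ⟨W, hW0W, ⟨⟨hsqW, hcW⟩, hmax⟩⟩ := Finite.exists_le_maximal (α := Subgroup ↥E')
    (p := fun W => W0 ≤ W ∧ cE ∉ W) ⟨le_refl W0, hcW0⟩
  have hsq' : ∀ x : ↥E', x * x ∈ W := fun x => hW0W (subset_closure ⟨x, rfl⟩)
  haveI : W.Normal := ⟨fun w hw a => by
    rw [show a * w * a⁻¹ = (a * w) * (a * w) * w⁻¹ * (a * a)⁻¹ by group]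
    exact mul_mem (mul_mem (hsq' _) (inv_mem hw)) (inv_mem (hsq' a))⟩
  have hi : W.index = 2 := by
    rw [index_eq_two_iff]
    refine ⟨cE, fun b => ?_⟩
    by_cases hb : b ∈ W
    · exact Or.inr ⟨hb, fun hc' => hcW ((W.mul_mem_cancel_left hb).1 hc')⟩
    refine Or.inl ⟨?_, hb⟩
    have hin : cE ∈ W ⊔ zpowers b := by
      by_contra hn
      exact hb (hmax ⟨hsqW.trans le_sup_left, hn⟩ le_sup_left (mem_sup_right (mem_zpowers b)))
    obtain ⟨w, hw, z, hz, hwz⟩ := mem_sup_of_normal_left.1 hin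
    obtain ⟨n, rfl⟩ := mem_zpowers_iff.1 hz
    rcases Int.even_or_odd' n with ⟨k, rfl | rfl⟩
    · refine absurd ?_ hcW
      rw [← hwz, zpow_mul, zpow_two]
      exact mul_mem hw (zpow_mem (hsq' b) k)
    · rw [← hwz, zpow_add, zpow_one, zpow_mul, zpow_two,
        show b * (w * ((b * b) ^ k * b)) = b * (w * (b * b) ^ k) * b⁻¹ * (b * b) by group]
      exact mul_mem (Subgroup.Normal.conj_mem inferInstance _ (mul_mem hw (zpow_mem (hsq' b) k)) b) (hsq' b)
  let f : ↥E' →* Multiplicative (ZMod 2) :=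
    (mulEquivOfPrimeCardEq (p := 2) (G := ↥E' ⧸ W) (G' := Multiplicative (ZMod 2)) hi (by simp)).toMonoidHom.comp
      (QuotientGroup.mk' W)
  have hfc : f cE ≠ 1 := by
    intro h0
    exact hcW (by simpa [f] using h0)
  have hE3 : E'.index = 3 := by
    have := card_mul_index E'
    rw [Nat.card_congr (subgroupOfEquivOfLe (inf_le_left : E α β ≤ S α)).toEquiv, h.card_E hp.adj, h.card_S α] at this
    have := h.card_Q_pos α
    refine Nat.eq_of_mul_eq_mul_left (show 0 < 2 * Nat.card (Q α) by omega) ?_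
    rw [‹2 * Nat.card (Q α) * E'.index = _›]; ring
  have hΛ : f.transfer cS ≠ 1 := by
    have hkey : ∀ (k : ℕ) (g₀ : ↥(S α)), g₀⁻¹ * cS ^ k * g₀ ∈ E' → g₀⁻¹ * cS ^ k * g₀ = cS ^ k := by
      intro k g₀ _
      have hcm : Commute cS g₀ := Subtype.ext (mem_centralizer_iff.1 c.2.2 g₀ g₀.2).symm
      rw [mul_assoc, (hcm.pow_left k).eq, inv_mul_cancel_left]
    rw [MonoidHom.transfer_eq_pow f cS hkey]
    convert hfc
    refine Subtype.ext ?_
    show cS ^ E'.index = cS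
    rw [hE3, pow_succ, pow_two, show cS * cS = 1 from Subtype.ext hc2, one_mul]
  have hinj : Function.Injective (f.transfer.prod φ) := by
    refine (injective_iff_map_eq_one _).2 fun x hx => ?_
    obtain ⟨h1, h2⟩ := Prod.ext_iff.1 hx
    have hxC : (x : G) ∈ Cn α := by
      have : x ∈ φ.ker := h2
      rw [hk] at this
      exact this
    by_contra hne
    have hxc : (⟨(x : G), hxC⟩ : ↥(Cn α)) = c := hcu _ fun he => hne (Subtype.ext (congrArg (fun t : ↥(Cn α) => (t : G)) he))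
    have hxg : (x : G) = c := congrArg (fun t : ↥(Cn α) => (t : G)) hxc
    have : x = cS := Subtype.ext hxg
    exact hΛ (this ▸ h1)
  refine ⟨MulEquiv.ofBijective _ ((Nat.bijective_iff_injective_and_card _).2 ⟨hinj, ?_⟩)⟩
  rw [One.card_S' h hp, hc, Nat.card_prod, Nat.card_perm, Nat.card_fin]
  simp [Nat.factorial]

theorem One.iso (hp : Pr α β β α u v) :
    (Nonempty (↥(S α) ≃* Equiv.Perm (Fin 4)) ∧ Nonempty (↥(S β) ≃* Equiv.Perm (Fin 4))) ∨
      (Nonempty (↥(S α) ≃* Multiplicative (ZMod 2) × Equiv.Perm (Fin 4)) ∧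
        Nonempty (↥(S β) ≃* Multiplicative (ZMod 2) × Equiv.Perm (Fin 4))) := by
  obtain ⟨he, hc | hc⟩ := One.card_cases h hp
  · exact Or.inl ⟨One.iso_one h hp hc, One.iso_one h (Pr.symm h.toC2 hp) (he.trans hc)⟩
  · exact Or.inr ⟨One.iso_two h hp hc, One.iso_two h (Pr.symm h.toC2 hp) (he.trans hc)⟩

/-- the classification of the vertex groups -/
theorem main :
    (Nonempty (↥P₁ ≃* Equiv.Perm (Fin 4)) ∧ Nonempty (↥P₂ ≃* Equiv.Perm (Fin 4))) ∨
      (Nonempty (↥P₁ ≃* Multiplicative (ZMod 2) × Equiv.Perm (Fin 4)) ∧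
        Nonempty (↥P₂ ≃* Multiplicative (ZMod 2) × Equiv.Perm (Fin 4))) := by
  obtain ⟨p, hp⟩ := h.exists_crit
  obtain ⟨u, v, hpr⟩ := Crit.exists_pr h.toC2 hp (h.act _)
  rw [crit_eq_one h] at hpr
  simp only [Nat.sub_self] at hpr
  have hiso := One.iso h hpr
  obtain ⟨x, ⟨h1, h2⟩ | ⟨h1, h2⟩⟩ := (H58.adj_iff _ _).1 hpr.adj
  all_goals
    have e1 : ↥P₁ ≃* ↥(P₁.map (MulAut.conj x).toMonoidHom) :=
      P₁.equivMapOfInjective _ (MulAut.conj x).injective
    have e2 : ↥P₂ ≃* ↥(P₂.map (MulAut.conj x).toMonoidHom) :=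
      P₂.equivMapOfInjective _ (MulAut.conj x).injective
  · rw [h1, h2, S, S, H58.stabilizer_inl, H58.stabilizer_inr] at hiso
    rcases hiso with ⟨⟨a⟩, ⟨b⟩⟩ | ⟨⟨a⟩, ⟨b⟩⟩
    · exact Or.inl ⟨⟨e1.trans a⟩, ⟨e2.trans b⟩⟩
    · exact Or.inr ⟨⟨e1.trans a⟩, ⟨e2.trans b⟩⟩
  · rw [h1, h2, S, S, H58.stabilizer_inl, H58.stabilizer_inr] at hiso
    rcases hiso with ⟨⟨a⟩, ⟨b⟩⟩ | ⟨⟨a⟩, ⟨b⟩⟩
    · exact Or.inl ⟨⟨e1.trans b⟩, ⟨e2.trans a⟩⟩
    · exact Or.inr ⟨⟨e1.trans b⟩, ⟨e2.trans a⟩⟩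

end Cfsg.Agent.H88.Am
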