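import Cfsg.Agent.H88.AmTwo

/-!
The critical length is at most two.
-/

set_option autoImplicit false
set_option linter.style.haveILetI false

namespace Cfsg.Agent.H88.Am

open Subgroup
open scoped commutatorElement

variable {G : Type*} [Group G] {P₁ P₂ : Subgroup G}

/-- the part of a kernel lying in all neighbouring kernels -/
def K (δ : Vx P₁ P₂) : Subgroup G := Q δ ⊓ ⨅ ν : {ν // Ad δ ν}, Q ν.1

theorem mem_K {δ : Vx P₁ P₂} {x : G} : x ∈ K δ ↔ x ∈ Q δ ∧ ∀ ν, Ad δ ν → x ∈ Q ν := by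
  simp [K, Subgroup.mem_iInf]

variable (h : Hyp P₁ P₂)
include h

theorem Hyp.K_smul {δ : Vx P₁ P₂} {g x : G} (hx : x ∈ K δ) : g * x * g⁻¹ ∈ K (g • δ) := by
  rw [mem_K] at hx ⊢
  refine ⟨h.conj_mem_Q g hx.1, fun ν hν => ?_⟩
  have h1 := H58.smul_adj g⁻¹ hν
  rw [inv_smul_smul] at h1
  simpa using h.conj_mem_Q g (hx.2 _ h1)

theorem Hyp.S_le_norm_K (δ : Vx P₁ P₂) : S δ ≤ normalizer (K δ : Set G) := by
  rw [le_normalizer_iff]
  intro g hg x hx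
  have := h.K_smul (g := g) hx
  rwa [MulAction.mem_stabilizer_iff.1 hg] at this

theorem Hyp.flat_iter {n : ℕ} {p : ℕ → Vx P₁ P₂} (hp : Pth n p) {i : ℕ} (hf : Flat (p i)) :
    ∀ k, i + 2 * k ≤ n → Flat (p (i + 2 * k)) := by
  intro k
  induction k with
  | zero => simpa using fun _ => hf
  | succ k ih =>
    intro hk
    exact Flat.two h.toC2 (ih (by omega)) (hp (i + 2 * k) (by omega)) (hp (i + 2 * k + 1) (by omega))

/-- a flat vertex at even distance from the last but one vertex of a critical path -/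
theorem Hyp.flat_contra {p : ℕ → Vx P₁ P₂} (hp : Crit p) (hb : 2 ≤ crit P₁ P₂) {i k : ℕ}
    (hi : i + 2 * k = crit P₁ P₂ - 1) (hf : Flat (p i)) : False := by
  have hf' := h.flat_iter hp.1 hf k (by omega)
  rw [hi] at hf'
  have h1 : Ad (p (crit P₁ P₂ - 2)) (p (crit P₁ P₂ - 1)) := by
    have := hp.1 (crit P₁ P₂ - 2) (by omega)
    rwa [show crit P₁ P₂ - 2 + 1 = crit P₁ P₂ - 1 by omega] at this
  have h2 : Ad (p (crit P₁ P₂ - 1)) (p (crit P₁ P₂)) := by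
    have := hp.1 (crit P₁ P₂ - 1) (by omega)
    rwa [show crit P₁ P₂ - 1 + 1 = crit P₁ P₂ by omega] at this
  exact hp.2 fun x hx => hf' _ _ h1.symm h2
    ⟨h.Z_le_Q_of_path (hp.1.mono (Nat.sub_le _ 1)) (by omega) hx,
      h.Z_le_Q_of_path (hp.1.mono (Nat.sub_le _ 2)) (by omega) hx⟩

/-- extending a path backwards to a critical one -/
theorem Hyp.exists_crit_shift {q : ℕ → Vx P₁ P₂} (hb : 2 ≤ crit P₁ P₂) (hq : Pth (crit P₁ P₂ - 1) q)
    {γ : Vx P₁ P₂} (hγ : Ad (q 0) γ) (hn : ¬ Z γ ≤ Q (q (crit P₁ P₂ - 1))) :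
    ∃ q', Crit q' ∧ ∃ u v, Pr γ (q 0) (q (crit P₁ P₂ - 1)) (q (crit P₁ P₂ - 2)) u v ∧ q' 0 = γ ∧ q' 1 = q 0 := by
  have hc : Crit fun i => if i = 0 then γ else q (i - 1) := by
    refine ⟨?_, ?_⟩
    · have := hq.shift hγ
      rwa [Nat.sub_add_cancel (by omega : 1 ≤ crit P₁ P₂)] at this
    · show ¬ Z _ ≤ Q (if crit P₁ P₂ = 0 then γ else q (crit P₁ P₂ - 1))
      rw [if_neg (by omega)]
      simpa using hn
  obtain ⟨u, v, hpr⟩ := Crit.exists_pr h.toC2 hc (h.act _)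
  simp only [↓reduceIte, Nat.one_ne_zero, Nat.sub_self, if_neg (show ¬ crit P₁ P₂ = 0 by omega),
    if_neg (show ¬ crit P₁ P₂ - 1 = 0 by omega), Nat.sub_sub] at hpr
  exact ⟨_, hc, u, v, hpr, by simp, by simp⟩

variable {α β α' β' : Vx P₁ P₂} {u v : G}

theorem Pr.replace (hp : Pr α β α' β' u v) {w : G} (hw : w ∈ Z α') (hwQ : w ∉ Q α) :
    Pr α β α' β' u w :=
  ⟨hp.adj, hp.adj', hp.le, hp.le', hp.hu, hp.huE, hp.huQ, hw, hp.le' hw, hwQ⟩

/-- the commutator of a shifted pair cannot be central in a vertex group at `μ` -/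
theorem finish {p : ℕ → Vx P₁ P₂} (hp : Crit p) (hb : 3 ≤ crit P₁ P₂)
    (hpr : Pr (p 0) (p 1) (p (crit P₁ P₂)) (p (crit P₁ P₂ - 1)) u v) {μ : Vx P₁ P₂} (hm : Ad (p 0) μ)
    (hne : μ ≠ p 1) {r : G} (hr : r ∈ Q μ) (hr' : r ∈ Z (p (crit P₁ P₂ - 2)))
    (hS : S μ ≤ centralizer ({r} : Set G)) : r = 1 := by
  have hrQ : r ∈ Q (p (crit P₁ P₂)) := by
    have := h.Z_le_Q_of_path (p := fun i => p (crit P₁ P₂ - 2 + i)) (n := 2)
      (fun i hi => hp.1 _ (by omega)) (by omega)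
    simp only [add_zero, show crit P₁ P₂ - 2 + 2 = crit P₁ P₂ by omega] at this
    exact this hr'
  have hvr : v * r = r * v := h.Z_comm hpr.hv hrQ
  have hvα : v • p 0 = p 0 := hpr.hvE.1
  have hne' : v • μ ≠ μ := h.not_mem_E hpr.adj hm hne.symm hpr.hvE hpr.hvQ
  have hS' : S (v • μ) ≤ centralizer ({r} : Set G) := fun x hx => by
    have h1 : v⁻¹ * x * v ∈ S μ := by
      rw [MulAction.mem_stabilizer_iff, mul_smul, mul_smul, MulAction.mem_stabilizer_iff.1 hx, inv_smul_smul]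
    have h2 := mem_centralizer_singleton_iff.1 (hS h1)
    rw [mem_centralizer_singleton_iff]
    calc x * r = v * ((v⁻¹ * x * v) * (v⁻¹ * (r * v))) * v⁻¹ := by group
      _ = v * ((v⁻¹ * x * v) * r) * v⁻¹ := by rw [← hvr, inv_mul_cancel_left]
      _ = (v * r) * (v⁻¹ * x * v) * v⁻¹ := by rw [h2]; group
      _ = r * x := by rw [hvr]; group
  refine h.kill hm.symm (h.Q_le_E hm.symm hr) hS (h.S_le' hm (h.adj_smul hm hvα) hne'.symm ?_ ?_)
  · exact inf_le_right.trans hS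
  · exact inf_le_right.trans hS'

theorem long_step {p : ℕ → Vx P₁ P₂} (hp : Crit p) (hb : 3 ≤ crit P₁ P₂) {μ : Vx P₁ P₂}
    (hm : Ad (p 0) μ) (hne : μ ≠ p 1) : Z μ ≤ Q (p (crit P₁ P₂ - 1)) := by
  by_contra hμ
  obtain ⟨q, hq, u', v', hpq, hq0, hq1⟩ :=
    h.exists_crit_shift (by omega) (hp.1.mono (Nat.sub_le _ 1)) hm hμ
  obtain ⟨γ, hγ, hγne⟩ := h.exists_other hm.symm
  have h21 : Ad (p (crit P₁ P₂ - 2)) (p (crit P₁ P₂ - 1)) := by
    have := hp.1 (crit P₁ P₂ - 2) (by omega)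
    rwa [show crit P₁ P₂ - 2 + 1 = crit P₁ P₂ - 1 by omega] at this
  have hn : ¬ Z γ ≤ Q (p (crit P₁ P₂ - 2)) := by
    intro hle
    have hflat : Flat μ := Pr.flat h.toC2 hpq hγ hγne (h.act _) fun x hx => E_comm (p (crit P₁ P₂ - 2)) _ ▸ h.Q_le_E h21 (hle hx)
    rcases Nat.even_or_odd' (crit P₁ P₂) with ⟨k, hk | hk⟩
    · refine h.flat_contra hp (by omega) (i := 1) (k := k - 1) (by omega) ?_
      exact Flat.two h.toC2 hflat hm.symm (hp.1 0 (by omega))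
    · exact h.flat_contra hq (by omega) (i := 0) (k := k) (by omega) (hq0 ▸ hflat)
  have hs : Pth (crit P₁ P₂ - 1) fun i => if i = 0 then μ else p (i - 1) := by
    have := (hp.1.mono (Nat.sub_le _ 2)).shift hm
    rwa [show crit P₁ P₂ - 2 + 1 = crit P₁ P₂ - 1 by omega] at this
  obtain ⟨_, -, u'', v'', hpr'', -, -⟩ := h.exists_crit_shift (by omega) hs (γ := γ) (by simpa using hγ) (by
    simpa [show ¬ crit P₁ P₂ - 1 = 0 by omega, Nat.sub_sub] using hn)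
  simp only [↓reduceIte, show ¬ crit P₁ P₂ - 1 = 0 by omega, show ¬ crit P₁ P₂ - 2 = 0 by omega,
    Nat.sub_sub] at hpr''
  obtain ⟨u, v, hpr⟩ := Crit.exists_pr h.toC2 hp (h.act _)
  refine Pr.ne_one h.toC2 hpr'' (h.act _) (finish h hp hb hpr hm hne (h.Z_le_Q_adj hγ.symm (by omega) (Pr.mem_left h.toC2 hpr''))
    (Pr.mem_right h.toC2 hpr'') ?_)
  refine h.S_le hγ (E_comm γ μ ▸ Pr.E_le_cent h.toC2 hpr'') (a := v') ?_ hpq.hvE.1 fun hc => ?_
  · rw [mem_centralizer_singleton_iff]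
    exact h.Z_comm hpq.hv (h.Z_le_Q_adj h21 (by omega) (Pr.mem_right h.toC2 hpr''))
  · exact h.not_mem_E hpq.adj hγ hγne.symm hpq.hvE hpq.hvQ (MulAction.mem_stabilizer_iff.1 hc.2)

theorem crit_lt_three : crit P₁ P₂ < 3 := by
  by_contra hb
  have hb : 3 ≤ crit P₁ P₂ := by omega
  obtain ⟨p, hp⟩ := h.exists_crit
  obtain ⟨u, v, hpr⟩ := Crit.exists_pr h.toC2 hp (h.act _)
  obtain ⟨μ, hm, hne⟩ := h.exists_other (hp.1 0 (by omega))
  have hμ := long_step h hp hb hm hne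
  have h10 : Ad (p (crit P₁ P₂ - 1)) (p (crit P₁ P₂)) := by
    have := hp.1 (crit P₁ P₂ - 1) (by omega)
    rwa [show crit P₁ P₂ - 1 + 1 = crit P₁ P₂ by omega] at this
  have hflat : Flat (p 0) := Pr.flat h.toC2 hpr hm hne (h.act _) fun x hx => E_comm (p (crit P₁ P₂ - 1)) _ ▸ h.Q_le_E h10 (hμ hx)
  rcases Nat.even_or_odd' (crit P₁ P₂) with ⟨k, hk | hk⟩
  swap
  · exact h.flat_contra hp (by omega) (i := 0) (k := k) (by omega) hflat
  have hb4 : 4 ≤ crit P₁ P₂ := by omega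
  have h21 : Ad (p (crit P₁ P₂ - 2)) (p (crit P₁ P₂ - 1)) := by
    have := hp.1 (crit P₁ P₂ - 2) (by omega)
    rwa [show crit P₁ P₂ - 2 + 1 = crit P₁ P₂ - 1 by omega] at this
  have h32 : Ad (p (crit P₁ P₂ - 3)) (p (crit P₁ P₂ - 2)) := by
    have := hp.1 (crit P₁ P₂ - 3) (by omega)
    rwa [show crit P₁ P₂ - 3 + 1 = crit P₁ P₂ - 2 by omega] at this
  have hflat' : Flat (p (crit P₁ P₂ - 2)) := by
    have := h.flat_iter hp.1 hflat (k - 1) (by omega)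
    rwa [show 0 + 2 * (k - 1) = crit P₁ P₂ - 2 by omega] at this
  have hs : Pth (crit P₁ P₂ - 1) fun i => if i = 0 then μ else p (i - 1) := by
    have := (hp.1.mono (Nat.sub_le _ 2)).shift hm
    rwa [show crit P₁ P₂ - 2 + 1 = crit P₁ P₂ - 1 by omega] at this
  have hvα : v • p 0 = p 0 := hpr.hvE.1
  have hv2 : v * v = 1 := h.Z_sq hpr.hv
  have hne' : v • μ ≠ μ := h.not_mem_E hpr.adj hm hne.symm hpr.hvE hpr.hvQ
  have hm' : Ad (p 0) (v • μ) := h.adj_smul hm hvα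
  -- the neighbours of `μ` all lead to critical pairs
  have key : ∀ γ, Ad μ γ → γ ≠ p 0 → ¬ Z γ ≤ Q (p (crit P₁ P₂ - 2)) := by
    intro γ hγ hγne hle
    have hle3 : Z γ ≤ Q (p (crit P₁ P₂ - 3)) := by
      have h1 := (hp.1.mono (Nat.sub_le _ 3)).shift hm
      have h2 := h1.shift (μ := γ) (by simpa using hγ)
      have h3 := h.Z_le_Q_of_path h2 (by omega)
      simpa [show ¬ crit P₁ P₂ - 3 + 1 = 0 by omega, show crit P₁ P₂ - 3 + 1 + 1 - 1 - 1 = crit P₁ P₂ - 3 by omega]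
        using h3
    have hγE : Z γ ≤ E (p (crit P₁ P₂)) (p (crit P₁ P₂ - 1)) := fun x hx =>
      E_comm (p (crit P₁ P₂ - 1)) _ ▸ h.Q_le_E h10 (hflat' _ _ h32.symm h21 ⟨hle hx, hle3 hx⟩)
    have hμE : Z μ ≤ E (p (crit P₁ P₂)) (p (crit P₁ P₂ - 1)) := fun x hx =>
      E_comm (p (crit P₁ P₂ - 1)) _ ▸ h.Q_le_E h10 (hμ hx)
    have hU : ∀ {z}, z ∈ Z γ → v * z * v⁻¹ ∈ Z (p 0) ⊔ Z γ := fun {z} hz => by
      obtain ⟨e, he, hee⟩ := Pr.conj_mem h.toC2 hpr (hγE hz)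
      rw [hee]
      exact mul_mem (mem_sup_left he) (mem_sup_right hz)
    have hD : ∀ {x}, x ∈ Q (p 0) ⊓ Q μ → x ∈ Q γ → x ∈ Q (v • γ) := by
      intro x hx hxγ
      have hxc : Z (p 0) ⊔ Z γ ≤ centralizer ({x} : Set G) := sup_le
        (fun z hz => mem_centralizer_singleton_iff.2 (h.Z_comm hz hx.1))
        (fun z hz => mem_centralizer_singleton_iff.2 (h.Z_comm hz hxγ))
      rw [h.mem_Q_smul]
      have h1 : v⁻¹ * x * v ∈ Q μ := (h.mem_Q_smul).1 (hflat _ _ hm hm' hx)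
      refine h.cent_Z (h.Q_le_E hγ h1).2 fun z hz => ?_
      have h2 := mem_centralizer_singleton_iff.1 (hxc (hU hz))
      calc v⁻¹ * x * v * z = v⁻¹ * (x * (v * z * v⁻¹)) * v := by group
        _ = v⁻¹ * ((v * z * v⁻¹) * x) * v := by rw [h2]
        _ = z * (v⁻¹ * x * v) := by group
    obtain ⟨t, ht, htQ⟩ : ∃ t ∈ Q (p 0), t ∉ Q μ := by
      refine SetLike.not_le_iff_exists.1 fun hle' => h.Z_ne_bot (p 0) ?_
      haveI := h.finQ μ
      have hc : Nat.card (Q μ) ≤ Nat.card (Q (p 0)) := by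
        have h1 := h.card_E hm
        have h2 := h.card_E hm.symm
        rw [E_comm] at h2
        omega
      have he : Q (p 0) = Q μ := eq_of_le_of_card_ge hle' hc
      have := h.killN hm (h.Q_le_E hm) (h.S_le_norm_Q _) (he ▸ h.S_le_norm_Q μ)
      exact le_bot_iff.1 ((h.Z_le_Q _).trans this.le)
    have htm : t ∈ E μ (p 0) := E_comm (p 0) μ ▸ h.Q_le_E hm ht
    have htm' : t ∈ E (v • μ) (p 0) := E_comm (p 0) (v • μ) ▸ h.Q_le_E hm' ht
    have htQ' : t ∉ Q (v • μ) := fun hc => htQ (hflat _ _ hm' hm ⟨ht, hc⟩)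
    have hγ' : Ad (v • μ) (v • γ) := H58.smul_adj v hγ
    have hγne' : v • γ ≠ p 0 := fun hc => hγne (by rw [← inv_smul_smul v γ, hc, inv_smul_eq_iff]; exact hvα.symm)
    have hK1 : K μ ≤ K (v • μ) := by
      intro x hx
      rw [mem_K] at hx ⊢
      have hxD : x ∈ Q (p 0) ⊓ Q μ := ⟨hx.2 _ hm.symm, hx.1⟩
      refine ⟨hflat _ _ hm hm' hxD, fun ν hν => ?_⟩
      rcases h.nbr_cases hm'.symm hγ' hγne' htm' htQ' hν with rfl | rfl | rfl
      · exact hxD.1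
      · exact hD hxD (hx.2 _ hγ)
      · rw [h.mem_Q_smul]
        refine hD ⟨?_, ?_⟩ ?_
        · simpa using (mem_normalizer_iff.1 (h.S_le_norm_Q (p 0) (inv_mem htm.2)) x).1 hxD.1
        · simpa using (mem_normalizer_iff.1 (h.S_le_norm_Q μ (inv_mem htm.1)) x).1 hx.1
        · exact (h.mem_Q_smul).1 (hx.2 _ (h.adj_smul hγ htm.1))
    have hK : K (v • μ) = K μ := by
      refine le_antisymm (fun x hx => ?_) hK1
      have h1 : v * x * v⁻¹ ∈ K μ := by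
        have := h.K_smul (g := v) hx
        rwa [← mul_smul, hv2, one_smul] at this
      have := h.K_smul (g := v) (hK1 h1)
      rw [← mul_smul, hv2, one_smul] at this
      rwa [show v * (v * x * v⁻¹) * v⁻¹ = (v * v) * x * (v * v)⁻¹ by group, hv2, one_mul, inv_one, mul_one] at this
    have hKbot : K μ = ⊥ := by
      refine h.killN hm (fun x hx => h.Q_le_E hm ((mem_K.1 hx).2 _ hm.symm)) ?_ (h.S_le_norm_K μ)
      exact h.S_le' hm hm' hne'.symm (inf_le_right.trans (h.S_le_norm_K μ))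
        (inf_le_right.trans (hK ▸ h.S_le_norm_K (v • μ)))
    refine h.Z_ne_bot (p 0) (le_bot_iff.1 fun x hx => hKbot ▸ mem_K.2 ⟨h.Z_le_Q_adj hm (by omega) hx, fun ν hν => ?_⟩)
    have := h.Z_le_Q_of_path (p := fun i => if i = 0 then p 0 else if i = 1 then μ else ν) (n := 2)
      (fun i hi => by rcases i with _ | _ | i <;> simp_all) (by omega)
    simpa using this (by simpa using hx)
  obtain ⟨γ, hγ, hγne⟩ := h.exists_other hm.symm
  obtain ⟨a, ha, haQ⟩ := h.exists_not_mem_Q hm.symm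
  have hγ2 : Ad μ (a • γ) := h.adj_smul hγ ha.1
  have hγne2 : a • γ ≠ p 0 := h.smul_ne ha hγne
  have hγγ : a • γ ≠ γ := h.not_mem_E hm.symm hγ hγne.symm ha haQ
  have mk : ∀ δ, Ad μ δ → δ ≠ p 0 →
      ∃ u₁ v₁, Pr δ μ (p (crit P₁ P₂ - 2)) (p (crit P₁ P₂ - 3)) u₁ v₁ ∧ ¬ Z (p (crit P₁ P₂ - 2)) ≤ Q δ := by
    intro δ hδ hδne
    obtain ⟨_, -, u₁, v₁, hpr₁, -, -⟩ := h.exists_crit_shift (by omega) hs (γ := δ) (by simpa using hδ) (by
      simpa [show ¬ crit P₁ P₂ - 1 = 0 by omega, Nat.sub_sub] using key δ hδ hδne)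
    simp only [↓reduceIte, show ¬ crit P₁ P₂ - 1 = 0 by omega, show ¬ crit P₁ P₂ - 2 = 0 by omega,
      Nat.sub_sub] at hpr₁
    exact ⟨u₁, v₁, hpr₁, fun hc => hpr₁.hvQ (hc hpr₁.hv)⟩
  obtain ⟨u₁, v₁, h1, h1n⟩ := mk γ hγ hγne
  obtain ⟨u₂, v₂, h2, h2n⟩ := mk (a • γ) hγ2 hγne2
  obtain ⟨w, hw, hw1, hw2⟩ := exists_not_mem_two h1n h2n
  have h1' := Pr.replace h h1 hw hw1
  have h2' := Pr.replace h h2 hw hw2
  have heq : ⁅u₂, w⁆ = ⁅u₁, w⁆ := (Pr.comm_cases h.toC2 h1' h2.huE).resolve_left (Pr.ne_one h.toC2 h2' (h.act _))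
  refine Pr.ne_one h.toC2 h1' (h.act _) (finish h hp hb hpr hm hne (h.Z_le_Q_adj hγ.symm (by omega) (Pr.mem_left h.toC2 h1'))
    (Pr.mem_right h.toC2 h1') ?_)
  exact h.S_le' hγ hγ2 hγγ.symm (E_comm γ μ ▸ Pr.E_le_cent h.toC2 h1')
    (E_comm (a • γ) μ ▸ heq ▸ Pr.E_le_cent h.toC2 h2')

theorem crit_eq_one : crit P₁ P₂ = 1 := by
  have := h.crit_pos
  have := crit_ne_two h
  have := crit_lt_three h
  omega

end Cfsg.Agent.H88.Am
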