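import Cfsg.Agent.H88.AmLong

/-!
The structure of a vertex group for a critical pair of adjacent vertices.
-/

set_option autoImplicit false
set_option linter.style.haveILetI false

namespace Cfsg.Agent.H88.Am

open Subgroup
open scoped commutatorElement

variable {G : Type*} [Group G] {P₁ P₂ : Subgroup G}

/-- the centre of a vertex group -/
abbrev Cn (δ : Vx P₁ P₂) : Subgroup G := S δ ⊓ centralizer (S δ : Set G)

theorem card_eq_two_mul {H K : Subgroup G} (hle : H ≤ K) {a : G} (ha : a ∈ K) (haH : a ∉ H)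
    (hm : ∀ x ∈ K, x ∉ H → x * a ∈ H) : Nat.card K = 2 * Nat.card H := by
  have hi : (H.subgroupOf K).index = 2 := by
    rw [index_eq_two_iff]
    refine ⟨⟨a, ha⟩, fun b => ?_⟩
    by_cases hb : (b : G) ∈ H
    · exact Or.inr ⟨hb, fun hc => haH ((H.mul_mem_cancel_left hb).1 hc)⟩
    · exact Or.inl ⟨hm b b.2 hb, hb⟩
  have := card_mul_index (H.subgroupOf K)
  rw [hi, Nat.card_congr (subgroupOfEquivOfLe hle).toEquiv] at this
  omega

variable (h : Hyp P₁ P₂)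
include h

variable {α β : Vx P₁ P₂} {u v : G}

theorem One.uQ (hp : Pr α β β α u v) : u ∈ Q α ∧ v ∈ Q β :=
  ⟨h.Z_le_Q α hp.hu, h.Z_le_Q β hp.hv⟩

theorem One.mul_u (hp : Pr α β β α u v) {x : G} (hx : x ∈ Q α) (hxβ : x ∉ Q β) : x * u ∈ Q α ⊓ Q β :=
  ⟨mul_mem hx (One.uQ h hp).1,
    h.mul_mem_Q hp.adj' (E_comm α β ▸ h.Q_le_E hp.adj hx) hp.huE hxβ hp.huQ⟩

theorem One.sq_one (hp : Pr α β β α u v) {d : G} (hd : d ∈ Q α ⊓ Q β) : d * d = 1 := by
  set F := closure {y | ∃ x ∈ Q α ⊓ Q β, x * x = y}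
  have key : ∀ (α' β' : Vx P₁ P₂) (u' v' : G), Pr α' β' β' α' u' v' →
      S α' ≤ normalizer (closure {y | ∃ x ∈ Q α' ⊓ Q β', x * x = y} : Set G) := by
    intro α' β' u' v' hp'
    refine le_normalizer_closure fun a ha y => ?_
    rintro ⟨x, hx, rfl⟩
    have hy : a * x * a⁻¹ ∈ Q α' := (mem_normalizer_iff.1 (h.S_le_norm_Q α' ha) x).1 hx.1
    rw [show a * (x * x) * a⁻¹ = (a * x * a⁻¹) * (a * x * a⁻¹) by group]
    generalize a * x * a⁻¹ = y at hy
    by_cases hyβ : y ∈ Q β'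
    · exact subset_closure ⟨y, ⟨hy, hyβ⟩, rfl⟩
    · have he := One.mul_u h hp' hy hyβ
      refine subset_closure ⟨y * u', he, ?_⟩
      rw [show y * u' * (y * u') = y * (u' * y) * u' by group, h.Z_comm hp'.hu hy,
        show y * (y * u') * u' = y * y * (u' * u') by group, h.Z_sq hp'.hu, mul_one]
  have hk := h.killN hp.adj (W := F) ?_ (key α β u v hp) (by
    have := key β α v u (Pr.symm h.toC2 hp)
    rwa [inf_comm] at this)
  · exact mem_bot.1 (hk ▸ subset_closure ⟨d, hd, rfl⟩)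
  · rw [closure_le]
    rintro _ ⟨x, hx, rfl⟩
    exact mul_mem (h.Q_le_E hp.adj hx.1) (h.Q_le_E hp.adj hx.1)

theorem One.d_comm (hp : Pr α β β α u v) {d e : G} (hd : d ∈ Q α ⊓ Q β) (he : e ∈ E α β) :
    e * d = d * e := by
  have hD : ∀ {a b : G}, a ∈ Q α ⊓ Q β → b ∈ Q α ⊓ Q β → a * b = b * a := by
    intro a b ha hb
    rw [← inv_eq_of_mul_eq_one_left (One.sq_one h hp (mul_mem ha hb)), mul_inv_rev,
      inv_eq_of_mul_eq_one_left (One.sq_one h hp ha), inv_eq_of_mul_eq_one_left (One.sq_one h hp hb)]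
  have hA : ∀ {a : G}, a ∈ Q α → a * d = d * a := by
    intro a ha
    by_cases haβ : a ∈ Q β
    · exact hD ⟨ha, haβ⟩ hd
    · calc a * d = a * u * (u * d) := by rw [← mul_assoc, mul_assoc a, h.Z_sq hp.hu, mul_one]
        _ = (a * u * d) * u := by rw [h.Z_comm hp.hu hd.1, ← mul_assoc]
        _ = d * (a * u) * u := by rw [hD (One.mul_u h hp ha haβ) hd]
        _ = d * a := by rw [mul_assoc, mul_assoc a, h.Z_sq hp.hu, mul_one]
  by_cases heQ : e ∈ Q α
  · exact hA heQ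
  · calc e * d = e * v * (v * d) := by rw [← mul_assoc, mul_assoc e, h.Z_sq hp.hv, mul_one]
      _ = (e * v * d) * v := by rw [h.Z_comm hp.hv hd.2, ← mul_assoc]
      _ = d * (e * v) * v := by rw [hA (h.mul_mem_Q hp.adj he hp.hvE heQ hp.hvQ)]
      _ = d * e := by rw [mul_assoc, mul_assoc e, h.Z_sq hp.hv, mul_one]

theorem One.d_le_Z (hp : Pr α β β α u v) : Q α ⊓ Q β ≤ Z α := fun d hd =>
  h.omega_le_Z hp.adj (H58.mem_omegaCenter_of (h.Q_le_E hp.adj hd.1) (fun _ ht => One.d_comm h hp hd ht)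
    (by rw [pow_two]; exact One.sq_one h hp hd))

theorem One.Q_le_Z (hp : Pr α β β α u v) : Q α ≤ Z α := by
  intro x hx
  by_cases hxβ : x ∈ Q β
  · exact One.d_le_Z h hp ⟨hx, hxβ⟩
  · have := mul_mem (One.d_le_Z h hp (One.mul_u h hp hx hxβ)) hp.hu
    rwa [mul_assoc, h.Z_sq hp.hu, mul_one] at this

theorem One.Q_sq (hp : Pr α β β α u v) {x : G} (hx : x ∈ Q α) : x * x = 1 := h.Z_sq (One.Q_le_Z h hp hx)

theorem One.Q_comm (hp : Pr α β β α u v) {x y : G} (hx : x ∈ Q α) (hy : y ∈ Q α) : x * y = y * x :=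
  h.Z_comm (One.Q_le_Z h hp hx) hy

theorem One.card_Q (hp : Pr α β β α u v) : Nat.card (Q α) = 2 * Nat.card ↥(Q α ⊓ Q β) :=
  card_eq_two_mul inf_le_left (One.uQ h hp).1 (fun hc => hp.huQ hc.2) fun _ hx hxn =>
    One.mul_u h hp hx fun hc => hxn ⟨hx, hc⟩

theorem One.cases (hp : Pr α β β α u v) {q : G} (hq : q ∈ Q α) :
    v * q * v⁻¹ = q ∨ v * q * v⁻¹ = ⁅u, v⁆ * q := by
  rcases Pr.comm_cases h.toC2 hp (E_comm α β ▸ h.Q_le_E hp.adj hq) with hc | hc
  · left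
    rw [← commutatorElement_eq_one_iff_mul_comm.1 hc, mul_inv_cancel_right]
  · right
    rw [← Pr.comm_symm h.toC2 hp, ← commutatorElement_inv, ← hc, commutatorElement_def]
    group

theorem One.r_mem (hp : Pr α β β α u v) : ⁅u, v⁆ ∈ Q α ⊓ Q β :=
  ⟨h.Z_le_Q α (Pr.mem_left h.toC2 hp), h.Z_le_Q β (Pr.mem_right h.toC2 hp)⟩

/-- an element of order three inverted by `v` -/
theorem One.exists_three (hp : Pr α β β α u v) :
    ∃ σ ∈ S α, σ ∉ Q α ∧ σ ∉ E α β ∧ σ ^ 3 = 1 ∧ v * σ * v⁻¹ = σ⁻¹ ∧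
      ∃ a ∈ S α, σ = (v * (a * v * a⁻¹)) * (v * (a * v * a⁻¹)) := by
  obtain ⟨β₁, hb1, hne⟩ := h.exists_other hp.adj
  obtain ⟨a, ha, hab⟩ := H58.exists_smul_eq_of_adj hp.adj hb1
  have hvα : v • α = α := hp.hvE.1
  have hvβ : v • β = β := hp.hvE.2
  have hv2 : v * v = 1 := h.Z_sq hp.hv
  have haα : a • α = α := MulAction.mem_stabilizer_iff.1 ha
  set v' := a * v * a⁻¹ with hv'
  have hv'S : v' ∈ S α := (S α).mul_mem ((S α).mul_mem ha hp.hvE.1) ((S α).inv_mem ha)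
  have hv'2 : v' * v' = 1 := by rw [hv', show a * v * a⁻¹ * (a * v * a⁻¹) = a * (v * v) * a⁻¹ by group, hv2]; group
  have hv'1 : v' • β₁ = β₁ := by rw [hv', mul_smul, mul_smul, ← hab, inv_smul_smul, hvβ]
  have hv'Q : v' ∉ Q α := fun hc => hp.hvQ (by
    have := (h.mem_Q_smul (g := a) (δ := α) (x := v')).1 (by rwa [haα])
    simpa [hv', mul_assoc] using this)
  have hv'E : v' ∈ E α β₁ := ⟨hv'S, hv'1⟩
  set β₂ := v • β₁ with hb2def
  have hb2 : Ad α β₂ := h.adj_smul hb1 hvα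
  have e1 : β₂ ≠ β₁ := h.not_mem_E hp.adj hb1 hne.symm hp.hvE hp.hvQ
  have e2 : β₂ ≠ β := h.smul_ne hp.hvE hne
  have hv'β : v' • β = β₂ := by
    rcases h.nbr_cases hp.adj hb1 hne hp.hvE hp.hvQ (h.adj_smul hp.adj (MulAction.mem_stabilizer_iff.1 hv'S)) with e | e | e
    · exact absurd e (h.not_mem_E hb1 hp.adj hne hv'E hv'Q)
    · exact absurd e (h.smul_ne hv'E hne.symm)
    · exact e
  set s := v * v' with hs
  have hsS : s ∈ S α := (S α).mul_mem hp.hvE.1 hv'S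
  have hs0 : s • β = β₁ := by rw [hs, mul_smul, hv'β, hb2def, ← mul_smul, hv2, one_smul]
  have hs1 : s • β₁ = β₂ := by rw [hs, mul_smul, hv'1]
  have hs2 : s • β₂ = β := by
    have : v' • β₂ = β := by rw [← hv'β, ← mul_smul, hv'2, one_smul]
    rw [hs, mul_smul, this, hvβ]
  have hs3 : s * s * s ∈ Q α := by
    rw [← h.inf_eq hp.adj hb1 hne.symm]
    exact ⟨⟨(S α).mul_mem ((S α).mul_mem hsS hsS) hsS, by
        show (s * s * s) • β = β
        rw [mul_smul, mul_smul, hs0, hs1, hs2]⟩,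
      (S α).mul_mem ((S α).mul_mem hsS hsS) hsS, by
        show (s * s * s) • β₁ = β₁
        rw [mul_smul, mul_smul, hs1, hs2, hs0]⟩
  have hσE : s * s ∉ E α β := fun hc => e2 (by
    have := MulAction.mem_stabilizer_iff.1 hc.2
    rwa [mul_smul, hs0, hs1] at this)
  refine ⟨s * s, (S α).mul_mem hsS hsS, fun hc => hσE (h.Q_le_E hp.adj hc), hσE, ?_, ?_, a, ha, rfl⟩
  · rw [← One.Q_sq h hp hs3]; simp only [pow_succ, pow_zero, one_mul, mul_assoc]
  · rw [hs, inv_eq_of_mul_eq_one_left hv2, mul_inv_rev, mul_inv_rev, inv_eq_of_mul_eq_one_left hv2,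
      inv_eq_of_mul_eq_one_left hv'2,
      show v * (v * v' * (v * v')) * v = (v * v) * v' * v * (v' * v) by group, hv2, one_mul]

theorem One.r_not_central (hp : Pr α β β α u v) : ⁅u, v⁆ ∉ Cn α := by
  intro hc
  obtain ⟨σ, hσS, hσQ, -, -, -, a, ha, hσ⟩ := One.exists_three h hp
  set r := ⁅u, v⁆ with hr
  have hcom : ∀ x ∈ S α, x * r = r * x := fun x hx => mem_centralizer_iff.1 hc.2 x hx
  refine hσQ (h.cent_Z hσS fun q hq => ?_)
  have hq' := h.Z_le_Q α hq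
  have step : ∀ {q}, q ∈ Q α → ∃ e, (e = 1 ∨ e = r) ∧ v * q * v⁻¹ = e * q := fun hq => by
    rcases One.cases h hp hq with h1 | h1
    · exact ⟨1, Or.inl rfl, by rw [one_mul]; exact h1⟩
    · exact ⟨r, Or.inr rfl, h1⟩
  have step' : ∀ {q}, q ∈ Q α → ∃ e, (e = 1 ∨ e = r) ∧ (a * v * a⁻¹) * q * (a * v * a⁻¹)⁻¹ = e * q := by
    intro q hq
    obtain ⟨e, he, hee⟩ := step (q := a⁻¹ * q * a)
      (by simpa using (mem_normalizer_iff.1 (h.S_le_norm_Q α (inv_mem ha)) q).1 hq)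
    refine ⟨e, he, ?_⟩
    have hea : a * e = e * a := by
      rcases he with rfl | rfl
      · rw [mul_one, one_mul]
      · exact hcom a ha
    calc a * v * a⁻¹ * q * (a * v * a⁻¹)⁻¹ = a * (v * (a⁻¹ * q * a) * v⁻¹) * a⁻¹ := by group
      _ = (a * e) * a⁻¹ * q := by rw [hee]; group
      _ = e * q := by rw [hea, mul_inv_cancel_right]
  set w := a * v * a⁻¹
  have hwS : w ∈ S α := (S α).mul_mem ((S α).mul_mem ha hp.hvE.1) ((S α).inv_mem ha)
  have hsS : v * w ∈ S α := (S α).mul_mem hp.hvE.1 hwS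
  obtain ⟨e, he, hee⟩ := step' hq'
  obtain ⟨e', he', hee'⟩ := step hq'
  have hcom' : ∀ {e}, (e = 1 ∨ e = r) → ∀ x ∈ S α, x * e = e * x := fun he x hx => by
    rcases he with rfl | rfl
    · rw [mul_one, one_mul]
    · exact hcom x hx
  have hss : (v * w) * q * (v * w)⁻¹ = (e * e') * q := by
    calc v * w * q * (v * w)⁻¹ = v * (w * q * w⁻¹) * v⁻¹ := by group
      _ = (v * e) * q * v⁻¹ := by rw [hee]; group
      _ = e * (v * q * v⁻¹) := by rw [hcom' he v hp.hvE.1]; group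
      _ = (e * e') * q := by rw [hee', mul_assoc]
  have hee2 : (e * e') * (e * e') = 1 := by
    have hr2 : r * r = 1 := Pr.sq h.toC2 hp
    rcases he with rfl | rfl <;> rcases he' with rfl | rfl <;> simp [hr2]
  refine mul_inv_eq_iff_eq_mul.1 ?_
  rw [hσ]
  calc v * w * (v * w) * q * (v * w * (v * w))⁻¹ = (v * w) * ((v * w) * q * (v * w)⁻¹) * (v * w)⁻¹ := by group
    _ = ((v * w) * (e * e')) * q * (v * w)⁻¹ := by rw [hss]; group
    _ = (e * e') * ((v * w) * q * (v * w)⁻¹) := by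
      rw [show v * w * (e * e') = e * e' * (v * w) by
        rw [← mul_assoc, hcom' he _ hsS, mul_assoc, hcom' he' _ hsS, ← mul_assoc]]
      group
    _ = q := by rw [hss, ← mul_assoc, hee2, one_mul]

theorem One.Cn_le (hp : Pr α β β α u v) : Cn α ≤ Q α ⊓ Q β := by
  intro c hc
  have h1 : c ∈ Q α := h.cent_Z hc.1 fun z hz =>
    (mem_centralizer_iff.1 hc.2 z (h.Q_le_S α (h.Z_le_Q α hz))).symm
  refine ⟨h1, by_contra fun hcβ => Pr.ne_one h.toC2 hp (h.act _) ?_⟩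
  rw [commutatorElement_def, h.act_eq hp.adj' hp.huE (E_comm α β ▸ h.Q_le_E hp.adj h1) hp.huQ hcβ hp.hv,
    ← mem_centralizer_iff.1 hc.2 v hp.hvE.1, mul_inv_cancel_right, mul_inv_cancel]

theorem One.card_D (hp : Pr α β β α u v) : Nat.card ↥(Q α ⊓ Q β) = 2 * Nat.card (Cn α) := by
  obtain ⟨β₁, hb1, hne⟩ := h.exists_other hp.adj
  obtain ⟨a, ha, hab⟩ := H58.exists_smul_eq_of_adj hp.adj hb1
  have hX : ∀ x ∈ Q α ⊓ Q β, x ∈ Q β₁ → x ∈ Cn α := by
    intro x hx hx1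
    have hax : a⁻¹ * x * a ∈ Q α ⊓ Q β :=
      ⟨by simpa using (mem_normalizer_iff.1 (h.S_le_norm_Q α (inv_mem ha)) x).1 hx.1,
        (h.mem_Q_smul).1 (hab.symm ▸ hx1)⟩
    refine ⟨h.Q_le_S α hx.1, fun s hs => (mem_centralizer_singleton_iff.1 ?_)⟩
    refine h.S_le' hp.adj hb1 hne.symm (X := centralizer ({x} : Set G))
      (fun e he => mem_centralizer_singleton_iff.2 (One.d_comm h hp hx he))
      (fun e he => mem_centralizer_singleton_iff.2 ?_) hs
    have heE : a⁻¹ * e * a ∈ E α β := by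
      refine ⟨(S α).mul_mem ((S α).mul_mem ((S α).inv_mem ha) he.1) ha, ?_⟩
      show (a⁻¹ * e * a) • β = β
      rw [mul_smul, mul_smul, hab,
        MulAction.mem_stabilizer_iff.1 he.2, ← hab, inv_smul_smul]
    calc e * x = a * ((a⁻¹ * e * a) * (a⁻¹ * x * a)) * a⁻¹ := by group
      _ = a * ((a⁻¹ * x * a) * (a⁻¹ * e * a)) * a⁻¹ := by rw [One.d_comm h hp hax heE]
      _ = x * e := by group
  refine card_eq_two_mul (One.Cn_le h hp) (One.r_mem h hp) (One.r_not_central h hp) fun x hx hxn => ?_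
  have hr := One.r_mem h hp
  exact hX _ (mul_mem hx hr) (h.mul_mem_Q hb1.symm (E_comm α β₁ ▸ h.Q_le_E hb1 hx.1)
    (E_comm α β₁ ▸ h.Q_le_E hb1 hr.1) (fun hc => hxn (hX x hx hc))
    (fun hc => One.r_not_central h hp (hX _ hr hc)))

theorem One.card_cases (hp : Pr α β β α u v) :
    Nat.card (Cn β) = Nat.card (Cn α) ∧ (Nat.card (Cn α) = 1 ∨ Nat.card (Cn α) = 2) := by
  have h1 := One.card_D h hp
  have h2 := One.card_D h (Pr.symm h.toC2 hp)
  rw [inf_comm] at h2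
  have he : Nat.card (Cn β) = Nat.card (Cn α) := by omega
  refine ⟨he, ?_⟩
  haveI := h.finQ α
  haveI : Finite ↥(Q α ⊓ Q β) := Finite.of_injective _ (inclusion_injective inf_le_left)
  haveI : Finite (Cn α) := Finite.of_injective _ (inclusion_injective (One.Cn_le h hp))
  have hle : Nat.card (Cn α) * Nat.card (Cn β) ≤ Nat.card ↥(Q α ⊓ Q β) := by
    rw [← Nat.card_prod]
    refine Nat.card_le_card_of_injective (fun c => (⟨(c.1 : G) * c.2, mul_mem (One.Cn_le h hp c.1.2)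
      (inf_comm (Q β) (Q α) ▸ One.Cn_le h (Pr.symm h.toC2 hp) c.2.2)⟩ : ↥(Q α ⊓ Q β))) ?_
    rintro ⟨a, b⟩ ⟨a', b'⟩ hab
    have hab' : (a : G) * b = a' * b' := congrArg Subtype.val hab
    have he1 : (a' : G)⁻¹ * a = b' * (b : G)⁻¹ := by rw [eq_mul_inv_iff_mul_eq, mul_assoc, hab', inv_mul_cancel_left]
    have hca : (a' : G)⁻¹ * a ∈ Cn α := mul_mem (inv_mem a'.2) a.2
    have hcb : (a' : G)⁻¹ * a ∈ Cn β := he1 ▸ mul_mem b'.2 (inv_mem b.2)
    have hone := h.kill hp.adj (h.Q_le_E hp.adj (One.Cn_le h hp hca).1)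
      (fun s hs => mem_centralizer_singleton_iff.2 (mem_centralizer_iff.1 hca.2 s hs))
      (fun s hs => mem_centralizer_singleton_iff.2 (mem_centralizer_iff.1 hcb.2 s hs))
    have ha' : a = a' := Subtype.ext (inv_mul_eq_one.1 hone).symm
    subst ha'
    exact Prod.ext rfl (Subtype.ext (mul_left_cancel hab'))
  rw [he, h1] at hle
  have : 0 < Nat.card (Cn α) := Nat.card_pos
  have : Nat.card (Cn α) ≤ 2 := Nat.le_of_mul_le_mul_right hle this
  omega

end Cfsg.Agent.H88.Am
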