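import Cfsg.Agent.H88.AmBasic

/-!
Critical paths in the coset graph and the commutator of a critical pair.
-/

set_option autoImplicit false
set_option linter.style.haveILetI false

namespace Cfsg.Agent.H88.Am

open Subgroup
open scoped commutatorElement

variable {G : Type*} [Group G] {P₁ P₂ : Subgroup G}

/-- a path of length `n` -/
def Pth (n : ℕ) (p : ℕ → Vx P₁ P₂) : Prop := ∀ i < n, Ad (p i) (p (i + 1))

theorem Pth.rev {n : ℕ} {p : ℕ → Vx P₁ P₂} (hp : Pth n p) : Pth n fun i => p (n - i) := by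
  intro i hi
  have := (hp (n - (i + 1)) (by omega)).symm
  rwa [show n - (i + 1) + 1 = n - i by omega] at this

theorem Pth.shift {n : ℕ} {p : ℕ → Vx P₁ P₂} (hp : Pth n p) {μ : Vx P₁ P₂} (hm : Ad (p 0) μ) :
    Pth (n + 1) fun i => if i = 0 then μ else p (i - 1) := by
  intro i hi
  rcases i with _ | i
  · simpa using hm.symm
  · simpa using hp i (by omega)

theorem Pth.mono {n m : ℕ} {p : ℕ → Vx P₁ P₂} (hp : Pth n p) (hmn : m ≤ n) : Pth m p :=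
  fun i hi => hp i (by omega)

variable (P₁ P₂) in
/-- the critical length -/
noncomputable def crit : ℕ :=
  sInf {n : ℕ | ∃ p : ℕ → Vx P₁ P₂, Pth n p ∧ ¬ Z (p 0) ≤ Q (p n)}

/-- a critical path -/
def Crit (p : ℕ → Vx P₁ P₂) : Prop :=
  Pth (crit P₁ P₂) p ∧ ¬ Z (p 0) ≤ Q (p (crit P₁ P₂))

variable (h : C2 P₁ P₂)
include h

theorem C2.exists_crit : ∃ p : ℕ → Vx P₁ P₂, Crit p := by
  by_contra hne
  have hall : ∀ n (p : ℕ → Vx P₁ P₂), Pth n p → Z (p 0) ≤ Q (p n) := by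
    intro n p hp
    by_contra hc
    obtain ⟨p', hp'⟩ := Nat.sInf_mem (s := {n : ℕ | ∃ p : ℕ → Vx P₁ P₂, Pth n p ∧ ¬ Z (p 0) ≤ Q (p n)})
      ⟨n, p, hp, hc⟩
    exact hne ⟨p', hp'⟩
  set o : Vx P₁ P₂ := Sum.inl ((1 : G) : G ⧸ P₁)
  obtain ⟨o', ho⟩ := H58.exists_adj o
  refine h.Z_ne_bot o (H58.eq_bot_of_forall_smul h.ch.1.2.2.2 _ fun g hg v => ?_)
  obtain ⟨w⟩ := (H58.connected h.ch.1.1).preconnected o v
  have hp : Pth w.length w.getVert := fun i hi => w.adj_getVert_succ hi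
  have h1 := hall _ _ hp
  rw [w.getVert_zero, w.getVert_length] at h1
  exact MulAction.mem_stabilizer_iff.1 (h.Q_le_S v (h1 hg))

theorem C2.Z_le_Q_of_path {n : ℕ} {p : ℕ → Vx P₁ P₂} (hp : Pth n p) (hn : n < crit P₁ P₂) :
    Z (p 0) ≤ Q (p n) := by
  by_contra hc
  exact absurd (Nat.sInf_le (s := {n : ℕ | ∃ p : ℕ → Vx P₁ P₂, Pth n p ∧ ¬ Z (p 0) ≤ Q (p n)})
    ⟨p, hp, hc⟩) (not_le.2 hn)

theorem C2.Z_le_Q_of_path' {n : ℕ} {p : ℕ → Vx P₁ P₂} (hp : Pth n p) (hn : n < crit P₁ P₂) :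
    Z (p n) ≤ Q (p 0) := by
  simpa using h.Z_le_Q_of_path hp.rev hn

theorem C2.Z_le_Q_adj {δ μ : Vx P₁ P₂} (hm : Ad δ μ) (hb : 1 < crit P₁ P₂) : Z δ ≤ Q μ :=
  h.Z_le_Q_of_path (n := 1) (p := fun i => if i = 0 then δ else μ)
    (fun i hi => by obtain rfl : i = 0 := (by omega); simpa using hm) hb

theorem C2.crit_pos : 0 < crit P₁ P₂ := by
  obtain ⟨p, hp, hc⟩ := h.exists_crit
  refine Nat.pos_of_ne_zero fun h0 => ?_
  rw [h0] at hc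
  exact hc (h.Z_le_Q _)

theorem C2.Z_le_E {p : ℕ → Vx P₁ P₂} (hp : Pth (crit P₁ P₂) p) :
    Z (p 0) ≤ E (p (crit P₁ P₂)) (p (crit P₁ P₂ - 1)) := by
  have hb := h.crit_pos
  have h1 := h.Z_le_Q_of_path (hp.mono (Nat.sub_le _ 1)) (by omega : crit P₁ P₂ - 1 < crit P₁ P₂)
  have h2 : Ad (p (crit P₁ P₂ - 1)) (p (crit P₁ P₂)) := by
    have := hp (crit P₁ P₂ - 1) (by omega)
    rwa [Nat.sub_add_cancel hb] at this
  rw [E_comm]
  exact h1.trans (h.Q_le_E h2)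

theorem Crit.symm {p : ℕ → Vx P₁ P₂} (hp : Crit p) (hA : Act (p (crit P₁ P₂))) : Crit fun i => p (crit P₁ P₂ - i) := by
  refine ⟨hp.1.rev, fun hc => hp.2 fun z hz => ?_⟩
  simp only [Nat.sub_zero, Nat.sub_self] at hc
  have hb := h.crit_pos
  have hzS : z ∈ S (p (crit P₁ P₂)) := (h.Z_le_E hp.1 hz).1
  have h2 : Ad (p (crit P₁ P₂ - 1)) (p (crit P₁ P₂)) := by
    have := hp.1 (crit P₁ P₂ - 1) (by omega)
    rwa [Nat.sub_add_cancel hb] at this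
  exact h.cent_Z hA hzS fun w hw => h.Z_comm hz (hc hw)

/-- all elements outside the core of an edge group act alike on `Z` -/
theorem C2.act_eq {δ μ : Vx P₁ P₂} (hm : Ad δ μ) {a b z : G} (ha : a ∈ E δ μ) (hb : b ∈ E δ μ)
    (haQ : a ∉ Q δ) (hbQ : b ∉ Q δ) (hz : z ∈ Z δ) : a * z * a⁻¹ = b * z * b⁻¹ := by
  have h1 : b⁻¹ * a ∈ Q δ := h.mul_mem_Q hm (inv_mem hb) ha (fun hc => hbQ (inv_mem_iff.1 hc)) haQ
  calc a * z * a⁻¹ = b * ((b⁻¹ * a) * z * (b⁻¹ * a)⁻¹) * b⁻¹ := by group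
    _ = b * z * b⁻¹ := by rw [← h.Z_comm hz h1, mul_inv_cancel_right]

/-- the data of a critical pair -/
structure Pr (α β α' β' : Vx P₁ P₂) (u v : G) : Prop where
  adj : Ad α β
  adj' : Ad α' β'
  le : Z α ≤ E α' β'
  le' : Z α' ≤ E α β
  hu : u ∈ Z α
  huE : u ∈ E α' β'
  huQ : u ∉ Q α'
  hv : v ∈ Z α'
  hvE : v ∈ E α β
  hvQ : v ∉ Q α

theorem Crit.exists_pr {p : ℕ → Vx P₁ P₂} (hp : Crit p) (hA : Act (p (crit P₁ P₂))) :
    ∃ u v, Pr (p 0) (p 1) (p (crit P₁ P₂)) (p (crit P₁ P₂ - 1)) u v := by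
  have hb := h.crit_pos
  have hq := hp.symm h hA
  obtain ⟨u, hu, huQ⟩ := SetLike.not_le_iff_exists.1 hp.2
  obtain ⟨v, hv, hvQ⟩ := SetLike.not_le_iff_exists.1 hq.2
  simp only [Nat.sub_zero, Nat.sub_self] at hv hvQ
  have hvE := h.Z_le_E hq.1
  simp only [Nat.sub_zero, Nat.sub_self, show crit P₁ P₂ - (crit P₁ P₂ - 1) = 1 by omega] at hvE
  refine ⟨u, v, hp.1 0 hb, ?_, h.Z_le_E hp.1, hvE, hu, h.Z_le_E hp.1 hu, huQ, hv, hvE hv, hvQ⟩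
  have := (hp.1 (crit P₁ P₂ - 1) (by omega)).symm
  rwa [Nat.sub_add_cancel hb] at this

variable {α β α' β' : Vx P₁ P₂} {u v : G}

theorem Pr.symm (hp : Pr α β α' β' u v) : Pr α' β' α β v u :=
  ⟨hp.adj', hp.adj, hp.le', hp.le, hp.hv, hp.hvE, hp.hvQ, hp.hu, hp.huE, hp.huQ⟩

theorem Pr.comm_cases (hp : Pr α β α' β' u v) {z : G} (hz : z ∈ E α' β') :
    ⁅z, v⁆ = 1 ∨ ⁅z, v⁆ = ⁅u, v⁆ := by
  by_cases hzQ : z ∈ Q α'
  · left
    rw [commutatorElement_eq_one_iff_mul_comm]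
    exact (h.Z_comm hp.hv hzQ).symm
  · right
    rw [commutatorElement_def, commutatorElement_def, h.act_eq hp.adj' hz hp.huE hzQ hp.huQ hp.hv]

theorem Pr.mem_left (hp : Pr α β α' β' u v) : ⁅u, v⁆ ∈ Z α := by
  rw [commutatorElement_def, mul_assoc, mul_assoc]
  refine mul_mem hp.hu ?_
  rw [← mul_assoc]
  exact (mem_normalizer_iff.1 (h.S_le_norm_Z α hp.hvE.1) u⁻¹).1 (inv_mem hp.hu)

theorem Pr.mem_right (hp : Pr α β α' β' u v) : ⁅u, v⁆ ∈ Z α' := by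
  rw [← commutatorElement_inv]
  exact inv_mem (Pr.mem_left h (Pr.symm h hp))

theorem Pr.comm_symm (hp : Pr α β α' β' u v) : ⁅v, u⁆ = ⁅u, v⁆ := by
  rw [← commutatorElement_inv, h.Z_inv (Pr.mem_left h hp)]

theorem Pr.ne_one (hp : Pr α β α' β' u v) (hA : Act α') : ⁅u, v⁆ ≠ 1 := by
  intro h1
  refine hp.huQ (h.cent_Z hA hp.huE.1 fun w hw => ?_)
  rcases Pr.comm_cases h (Pr.symm h hp) (hp.le' hw) with hc | hc
  · exact (commutatorElement_eq_one_iff_mul_comm.1 hc).symm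
  · rw [Pr.comm_symm h hp, h1] at hc
    exact (commutatorElement_eq_one_iff_mul_comm.1 hc).symm

theorem Pr.sq (hp : Pr α β α' β' u v) : ⁅u, v⁆ * ⁅u, v⁆ = 1 := h.Z_sq (Pr.mem_left h hp)

theorem Pr.v_comm (hp : Pr α β α' β' u v) : v * ⁅u, v⁆ = ⁅u, v⁆ * v :=
  (h.Z_comm (Pr.mem_right h hp) (h.Z_le_Q α' hp.hv)).symm

theorem Pr.E_le_cent (hp : Pr α β α' β' u v) : E α β ≤ centralizer ({⁅u, v⁆} : Set G) := by
  intro a ha
  rw [mem_centralizer_singleton_iff]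
  by_cases haQ : a ∈ Q α
  · exact (h.Z_comm (Pr.mem_left h hp) haQ).symm
  · refine mul_inv_eq_iff_eq_mul.1 ?_
    rw [h.act_eq hp.adj ha hp.hvE haQ hp.hvQ (Pr.mem_left h hp), Pr.v_comm h hp, mul_inv_cancel_right]

theorem Pr.right_le_cent (hp : Pr α β α' β' u v) : E α' β' ≤ centralizer ({⁅u, v⁆} : Set G) :=
  Pr.comm_symm h hp ▸ Pr.E_le_cent h (Pr.symm h hp)

end Cfsg.Agent.H88.Am
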