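import Cfsg.Agent.H88.AmFlat

/-!
The critical length differs from two.
-/

set_option autoImplicit false
set_option linter.style.haveILetI false

namespace Cfsg.Agent.H88.Am

open Subgroup
open scoped commutatorElement

variable {G : Type*} [Group G] {P₁ P₂ : Subgroup G}

variable (h : Hyp P₁ P₂)
include h

omit h in
theorem prod_three {u v w r : G} (hu : u * u = 1) (hv : v * v = 1) (hw : w * w = 1) (hr : r * r = 1)
    (hvr : v * r = r * v) (hur : u * r = r * u) (hwr : w * r = r * w)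
    (huv : v * u = r * (u * v)) (huw : w * u = r * (u * w)) (hvw : w * v = r * (v * w)) :
    (u * v * w) * (u * v * w) = r ∧ (u * v * w) * v = v * (u * v * w) := by
  constructor
  · calc u * v * w * (u * v * w) = u * v * (w * u) * v * w := by group
      _ = u * (v * r) * u * (w * v) * w := by rw [huw]; group
      _ = (u * r) * v * (u * r) * v * (w * w) := by rw [hvw, hvr]; group
      _ = r * u * (v * r) * u * v := by rw [hur, hw]; group
      _ = r * (u * r) * (v * u) * v := by rw [hvr]; group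
      _ = r * (u * (r * r)) * u * (v * v) := by rw [huv]; group
      _ = r * (u * u) := by rw [hr, hv]; group
      _ = r := by rw [hu, mul_one]
  · calc u * v * w * v = u * v * (w * v) := by group
      _ = u * (v * r) * v * w := by rw [hvw]; group
      _ = (u * r) * (v * v) * w := by rw [hvr]; group
      _ = r * u * w := by rw [hur, hv, mul_one]
      _ = r * u * (v * v) * w := by rw [hv, mul_one]
      _ = (r * (u * v)) * v * w := by group
      _ = v * (u * v * w) := by rw [← huv]; group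

theorem crit_ne_two : crit P₁ P₂ ≠ 2 := by
  intro hb
  obtain ⟨p, hp⟩ := h.exists_crit
  obtain ⟨u, v, hpr⟩ := Crit.exists_pr h.toC2 hp (h.act _)
  rw [hb] at hpr
  simp only [show 2 - 1 = 1 from rfl] at hpr
  have hne : p 0 ≠ p 2 := by
    intro he
    have := hp.2
    rw [hb, ← he] at this
    exact this (h.Z_le_Q _)
  generalize p 0 = α at hpr hne
  generalize p 1 = β at hpr
  generalize p 2 = γ at hpr hne
  have h1 : 1 < crit P₁ P₂ := by omega
  have hba := hpr.adj.symm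
  have hbg := hpr.adj'.symm
  set r := ⁅u, v⁆ with hr
  have hSb : S β ≤ centralizer ({r} : Set G) := h.S_le' hba hbg hne
    (E_comm α β ▸ Pr.E_le_cent h.toC2 hpr) (E_comm γ β ▸ Pr.right_le_cent h.toC2 hpr)
  -- the third edge at `β`
  obtain ⟨g, hg, hgQ⟩ := h.exists_not_mem_Q hba
  obtain ⟨k, hk, hkQ⟩ := h.exists_not_mem_Q hbg
  have hgβ : g • β = β := hg.1
  have hgα : g • α = α := hg.2
  have hkγ : k • γ = γ := hk.2
  have hka : k • α = g • γ := by
    rcases h.nbr_cases hba hbg hne.symm hg hgQ (h.adj_smul hba hk.1) with e | e | e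
    · exact absurd e (h.not_mem_E hbg hba hne.symm hk hkQ)
    · exact absurd e (h.smul_ne hk hne)
    · exact e
  have hA : ¬ Z (g • γ) ≤ Q α := by
    intro hle
    refine hpr.hvQ ?_
    have := (h.mem_Q_smul (δ := α) (g := g) (x := g * v * g⁻¹)).1 (by rw [hgα]; exact hle (h.conj_mem_Z g hpr.hv))
    simpa [mul_assoc] using this
  have hB : ¬ Z (g • γ) ≤ Q γ := by
    intro hle
    refine hpr.huQ ?_
    have := (h.mem_Q_smul (δ := γ) (g := k) (x := k * u * k⁻¹)).1
      (by rw [hkγ]; exact hle (hka ▸ h.conj_mem_Z k hpr.hu))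
    simpa [mul_assoc] using this
  obtain ⟨w, hw, hwA, hwB⟩ := exists_not_mem_two hA hB
  have hγ'' : Ad (g • γ) β := (h.adj_smul hbg hgβ).symm
  have huQb : u ∈ Q β := h.Z_le_Q_adj hpr.adj h1 hpr.hu
  have hvQb : v ∈ Q β := h.Z_le_Q_adj hpr.adj' h1 hpr.hv
  have hwQb : w ∈ Q β := h.Z_le_Q_adj hγ'' h1 hw
  have hwa : w ∈ E α β := E_comm β α ▸ h.Q_le_E hba hwQb
  have hwc : w ∈ E γ β := E_comm β γ ▸ h.Q_le_E hbg hwQb
  -- relations
  have hu2 : u * u = 1 := h.Z_sq hpr.hu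
  have hv2 : v * v = 1 := h.Z_sq hpr.hv
  have hw2 : w * w = 1 := h.Z_sq hw
  have hr2 : r * r = 1 := Pr.sq h.toC2 hpr
  have hcomm : ∀ x ∈ S β, x * r = r * x := fun x hx => mem_centralizer_singleton_iff.1 (hSb hx)
  have hvu : v * u * v⁻¹ = r * u := by
    rw [hr, ← Pr.comm_symm h.toC2 hpr, commutatorElement_def]; group
  have hwu : w * u * w⁻¹ = r * u := by
    rw [← hvu]; exact h.act_eq hpr.adj hwa hpr.hvE hwA hpr.hvQ hpr.hu
  have hwv : w * v * w⁻¹ = r * v := by
    rw [h.act_eq hpr.adj' hwc hpr.huE hwB hpr.huQ hpr.hv, hr, commutatorElement_def]; group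
  have hS : ∀ {x}, x ∈ Q β → x ∈ S β := fun hx => h.Q_le_S β hx
  obtain ⟨hd2, hdv⟩ := prod_three hu2 hv2 hw2 hr2 (hcomm v (hS hvQb)) (hcomm u (hS huQb)) (hcomm w (hS hwQb))
    (by rw [← mul_assoc]; exact mul_inv_eq_iff_eq_mul.1 hvu)
    (by rw [← mul_assoc]; exact mul_inv_eq_iff_eq_mul.1 hwu)
    (by rw [← mul_assoc]; exact mul_inv_eq_iff_eq_mul.1 hwv)
  set d := u * v * w with hd
  have hdb : d ∈ Q β := mul_mem (mul_mem huQb hvQb) hwQb
  have hda : d ∈ Q α := by
    rw [hd, mul_assoc]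
    exact mul_mem (h.Z_le_Q α hpr.hu) (h.mul_mem_Q hpr.adj hpr.hvE hwa hpr.hvQ hwA)
  clear_value d
  -- an element of order four in every kernel at `α`
  obtain ⟨β₁, hb1, hb1ne⟩ := h.exists_other hpr.adj
  have hvα : v • α = α := hpr.hvE.1
  have hall : ∃ s ∈ Q α, (∀ μ, Ad α μ → s ∈ Q μ) ∧ s * s = r := by
    by_cases hzb : Z β ≤ Q β₁
    · have hflat : Flat α := Pr.flat h.toC2 hpr hb1 hb1ne (h.act _) fun x hx => by
        have hxQ : x ∈ Q β := h.cent_Z (h.Q_le_E hpr.adj (h.Z_le_Q_adj hb1.symm h1 hx)).2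
          fun z hz => h.Z_comm hx (hzb hz)
        exact E_comm β γ ▸ h.Q_le_E hbg hxQ
      exact ⟨d, hda, fun μ hμ => hflat β μ hpr.adj hμ ⟨hda, hdb⟩, hd2⟩
    · obtain ⟨z, hz, hzQ⟩ := SetLike.not_le_iff_exists.1 hzb
      have hza : z ∈ Q α := h.Z_le_Q_adj hba h1 hz
      have hzd : z * d = d * z := h.Z_comm hz hdb
      have hzv : z * v = v * z := h.Z_comm hz hvQb
      have hb2 : Ad α (v • β₁) := h.adj_smul hb1 hvα
      have hcv : ∀ x, x * v = v * x → (x ∈ Q (v • β₁) ↔ x ∈ Q β₁) := by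
        intro x hx
        rw [h.mem_Q_smul, show v⁻¹ * x * v = x by rw [mul_assoc, hx, inv_mul_cancel_left]]
      obtain ⟨s, hs, hsv, hs1, hsb, hs2⟩ : ∃ s, s ∈ Q α ∧ s * v = v * s ∧ s ∈ Q β₁ ∧ s ∈ Q β ∧ s * s = r := by
        by_cases hd1 : d ∈ Q β₁
        · exact ⟨d, hda, hdv, hd1, hdb, hd2⟩
        · refine ⟨d * z, mul_mem hda hza, by rw [mul_assoc, hzv, ← mul_assoc, hdv, mul_assoc],
            h.mul_mem_Q hb1.symm (E_comm α β₁ ▸ h.Q_le_E hb1 hda) (E_comm α β₁ ▸ h.Q_le_E hb1 hza) hd1 hzQ,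
            mul_mem hdb (h.Z_le_Q β hz), ?_⟩
          rw [show d * z * (d * z) = d * (z * d) * z by group, hzd, show d * (d * z) * z = d * d * (z * z) by group,
            h.Z_sq hz, mul_one, hd2]
      refine ⟨s, hs, fun μ hμ => ?_, hs2⟩
      rcases h.nbr_cases hpr.adj hb1 hb1ne hpr.hvE hpr.hvQ hμ with rfl | rfl | rfl
      exacts [hsb, hs1, (hcv s hsv).2 hs1]
  obtain ⟨s, hs, hsall, hs2⟩ := hall
  set F := closure {y | ∃ x ∈ Q α, (∀ μ, Ad α μ → x ∈ Q μ) ∧ x * x = y} with hF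
  have hFn : S α ≤ normalizer (F : Set G) := le_normalizer_closure fun a ha y => by
    rintro ⟨x, hx, hxall, rfl⟩
    refine subset_closure ⟨a * x * a⁻¹, (mem_normalizer_iff.1 (h.S_le_norm_Q α ha) x).1 hx, fun μ hμ => ?_, by group⟩
    have := h.conj_mem_Q a (hxall (a⁻¹ • μ) (h.adj_smul hμ (MulAction.mem_stabilizer_iff.1 (inv_mem ha))))
    rwa [smul_inv_smul] at this
  have hFv : F ≤ centralizer ({v} : Set G) := by
    rw [hF, closure_le]
    rintro _ ⟨x, -, hxall, rfl⟩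
    refine mem_centralizer_singleton_iff.2 (h.Z_comm hpr.hv ?_).symm
    exact h.sq_mem_Q hpr.adj' (E_comm β γ ▸ h.Q_le_E hbg (hxall β hpr.adj))
  obtain ⟨a, ha, hab⟩ := H58.exists_smul_eq_of_adj hpr.adj hb1
  have hSa : S α ≤ centralizer ({r} : Set G) := by
    refine h.S_le hpr.adj (Pr.E_le_cent h.toC2 hpr) (a := a * v * a⁻¹) ?_ ?_ ?_
    · have : a⁻¹ * r * a ∈ F := by
        simpa using (mem_normalizer_iff.1 (hFn (inv_mem ha)) r).1 (subset_closure ⟨s, hs, hsall, hs2⟩)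
      have h3 := mem_centralizer_singleton_iff.1 (hFv this)
      rw [mem_centralizer_singleton_iff]
      calc a * v * a⁻¹ * r = a * (v * (a⁻¹ * r * a)) * a⁻¹ := by group
        _ = a * ((a⁻¹ * r * a) * v) * a⁻¹ := by rw [h3]
        _ = r * (a * v * a⁻¹) := by group
    · exact (S α).mul_mem ((S α).mul_mem ha hpr.hvE.1) ((S α).inv_mem ha)
    · intro hc
      have h4 : v • (a⁻¹ • β) = a⁻¹ • β := by
        rw [eq_inv_smul_iff, ← mul_smul, ← mul_smul]
        exact MulAction.mem_stabilizer_iff.1 hc.2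
      refine h.not_mem_E hpr.adj (h.adj_smul hpr.adj (MulAction.mem_stabilizer_iff.1 (inv_mem ha))) ?_
        hpr.hvE hpr.hvQ h4
      intro he
      exact hb1ne (by rw [← hab]; exact (eq_inv_smul_iff.1 he))
  exact Pr.ne_one h.toC2 hpr (h.act _) (h.kill hpr.adj (h.Q_le_E hpr.adj (h.Z_le_Q α (Pr.mem_left h.toC2 hpr))) hSa hSb)

end Cfsg.Agent.H88.Am
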