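import Cfsg.Agent.H88.GbSide

/-!
Arcs, movers of arcs and the transitivity they give.
-/

set_option autoImplicit false
set_option linter.style.haveILetI false

namespace Cfsg.Agent.H88.Am

open Subgroup

variable {G : Type*} [Group G] {P₁ P₂ : Subgroup G}

/-- a path without immediate returns -/
def Arc (n : ℕ) (p : ℕ → Vx P₁ P₂) : Prop := Pth n p ∧ ∀ i, i + 2 ≤ n → p i ≠ p (i + 2)

/-- an element fixing an arc and moving its continuations -/
def Mv (n : ℕ) (p : ℕ → Vx P₁ P₂) (g : G) : Prop := (∀ i ≤ n, g • p i = p i) ∧ g ∉ Q (p n)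

/-- put a vertex in front of a path -/
def cons (μ : Vx P₁ P₂) (p : ℕ → Vx P₁ P₂) : ℕ → Vx P₁ P₂ := fun i => if i = 0 then μ else p (i - 1)

@[simp] theorem cons_zero (μ : Vx P₁ P₂) (p : ℕ → Vx P₁ P₂) : cons μ p 0 = μ := rfl

@[simp] theorem cons_succ (μ : Vx P₁ P₂) (p : ℕ → Vx P₁ P₂) (i : ℕ) : cons μ p (i + 1) = p i := by
  simp [cons]

theorem Arc.mono {n m : ℕ} {p : ℕ → Vx P₁ P₂} (hp : Arc n p) (h : m ≤ n) : Arc m p :=
  ⟨hp.1.mono h, fun i hi => hp.2 i (by omega)⟩

theorem Arc.drop {n : ℕ} {p : ℕ → Vx P₁ P₂} (hp : Arc n p) (k : ℕ) (hk : k ≤ n) :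
    Arc (n - k) fun i => p (k + i) :=
  ⟨fun i hi => by simpa [add_assoc] using hp.1 (k + i) (by omega),
    fun i hi => by simpa [add_assoc] using hp.2 (k + i) (by omega)⟩

theorem Arc.rev {n : ℕ} {p : ℕ → Vx P₁ P₂} (hp : Arc n p) : Arc n fun i => p (n - i) := by
  refine ⟨hp.1.rev, fun i hi => ?_⟩
  have := hp.2 (n - (i + 2)) (by omega)
  rw [show n - (i + 2) + 2 = n - i by omega] at this
  exact this.symm

theorem Arc.cons {n : ℕ} {p : ℕ → Vx P₁ P₂} (hp : Arc n p) {μ : Vx P₁ P₂} (hm : Ad (p 0) μ)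
    (hne : 1 ≤ n → μ ≠ p 1) : Arc (n + 1) (Am.cons μ p) := by
  refine ⟨fun i hi => ?_, fun i hi => ?_⟩
  · rcases i with _ | i
    · simpa using hm.symm
    · simpa using hp.1 i (by omega)
  · rcases i with _ | i
    · simpa using hne (by omega)
    · simpa [show i + 1 + 2 = (i + 2) + 1 by omega] using hp.2 i (by omega)

theorem parity {n : ℕ} {p : ℕ → Vx P₁ P₂} (hp : Pth n p) :
    ∀ i ≤ n, (A (p i) ↔ (A (p 0) ↔ Even i)) := by
  intro i
  induction i with
  | zero => simp
  | succ i ih =>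
    intro hi
    have h1 := ih (by omega)
    have h2 := A_adj (hp i (by omega))
    rw [Nat.even_add_one]
    tauto

namespace C2

variable (h : C2 P₁ P₂)
include h

theorem Z_fix {n : ℕ} {p : ℕ → Vx P₁ P₂} (hp : Pth n p) (hn : n ≤ crit P₁ P₂) {z : G}
    (hz : z ∈ Z (p 0)) : z • p n = p n := by
  rcases hn.eq_or_lt with e | e
  · subst e
    exact MulAction.mem_stabilizer_iff.1 (h.Z_le_E hp hz).1
  · exact MulAction.mem_stabilizer_iff.1 (h.Q_le_S _ (h.Z_le_Q_of_path hp e hz))

theorem crit_arc {p : ℕ → Vx P₁ P₂} (hp : Crit p) : Arc (crit P₁ P₂) p := by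
  refine ⟨hp.1, fun i hi he => hp.2 ?_⟩
  have hq : Pth (crit P₁ P₂ - 2) fun j => if j ≤ i then p j else p (j + 2) := by
    intro j hj
    rcases lt_trichotomy j i with e | e | e
    · simpa [e.le, show j + 1 ≤ i by omega] using hp.1 j (by omega)
    · subst e
      simpa [he, show ¬ j + 1 ≤ j by omega] using hp.1 (j + 2) (by omega)
    · simpa [show ¬ j ≤ i by omega, show ¬ j + 1 ≤ i by omega, show j + 2 + 1 = j + 1 + 2 by omega]
        using hp.1 (j + 2) (by omega)
  have h2 := h.Z_le_Q_of_path hq (by omega)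
  simp only [Nat.zero_le, ↓reduceIte] at h2
  split_ifs at h2 with hle
  · rw [show crit P₁ P₂ - 2 = i by omega, he, show i + 2 = crit P₁ P₂ by omega] at h2
    exact h2
  · rwa [show crit P₁ P₂ - 2 + 2 = crit P₁ P₂ by omega] at h2

theorem mover_of_crit {p : ℕ → Vx P₁ P₂} (hp : Crit p) {u : G} (hu : u ∈ Z (p 0))
    (huQ : u ∉ Q (p (crit P₁ P₂))) : Mv (crit P₁ P₂) p u :=
  ⟨fun _ hi => h.Z_fix (hp.1.mono hi) hi hu, huQ⟩

end C2

namespace Side

variable (h : Side P₁ P₂)
include h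

theorem crit_A {p : ℕ → Vx P₁ P₂} (hp : Crit p) : A (p 0) := by
  by_contra hB
  have hb := h.crit_pos
  refine hp.2 ((h.Zb_le hB (hp.1 0 hb)).trans ?_)
  have := h.Z_le_Q_of_path (p := fun i => p (i + 1)) (n := crit P₁ P₂ - 1)
    (fun i hi => hp.1 (i + 1) (by omega)) (by omega)
  simp only [zero_add, show crit P₁ P₂ - 1 + 1 = crit P₁ P₂ by omega] at this ⊢
  exact this

theorem A_iff {p : ℕ → Vx P₁ P₂} (hp : Crit p) {i : ℕ} (hi : i ≤ crit P₁ P₂) : A (p i) ↔ Even i := by
  rw [parity hp.1 i hi]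
  simp [h.crit_A hp]

/-- movers at both kinds of ends give transitivity on arcs -/
theorem arc_trans {k nA nB : ℕ} {rA rB : ℕ → Vx P₁ P₂} {gA gB : G} (hrA : Arc nA rA) (hmA : Mv nA rA gA)
    (hA : A (rA nA)) (hrB : Arc nB rB) (hmB : Mv nB rB gB) (hB : ¬ A (rB nB)) (hkA : k ≤ nA + 1)
    (hkB : k ≤ nB + 1) :
    ∀ i ≤ k, ∀ q q' : ℕ → Vx P₁ P₂, Arc i q → Arc i q' → (A (q 0) ↔ A (q' 0)) →
      ∃ g : G, ∀ j ≤ i, g • q j = q' j := by
  intro i
  induction i with
  | zero =>
    intro _ q q' _ _ ht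
    obtain ⟨g, hg⟩ := exists_smul_of_iff ht
    exact ⟨g, fun j hj => by rw [show j = 0 by omega]; exact hg⟩
  | succ i ih =>
    intro hi q q' hq hq' ht
    obtain ⟨g, hg⟩ := ih (by omega) q q' (hq.mono (by omega)) (hq'.mono (by omega)) ht
    have hc : Ad (q' i) (g • q (i + 1)) := by
      rw [← hg i le_rfl]
      exact H58.smul_adj g (hq.1 i (by omega))
    have hd : Ad (q' i) (q' (i + 1)) := hq'.1 i (by omega)
    rcases Nat.eq_zero_or_pos i with rfl | hpos
    · obtain ⟨k', hk', hkc⟩ := H58.exists_smul_eq_of_adj hc hd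
      refine ⟨k' * g, fun j hj => ?_⟩
      rw [mul_smul]
      rcases Nat.eq_zero_or_pos j with rfl | hj'
      · rw [hg 0 le_rfl]
        exact hk'
      · rw [show j = 1 by omega]
        exact hkc
    have hm : Ad (q' i) (q' (i - 1)) := by
      have := (hq'.1 (i - 1) (by omega)).symm
      rwa [show i - 1 + 1 = i by omega] at this
    have hcne : g • q (i + 1) ≠ q' (i - 1) := by
      rw [← hg (i - 1) (by omega)]
      intro e
      have e' := smul_left_cancel g e
      have := hq.2 (i - 1) (by omega)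
      rw [show i - 1 + 2 = i + 1 by omega] at this
      exact this e'.symm
    have hdne : q' (i + 1) ≠ q' (i - 1) := by
      have := hq'.2 (i - 1) (by omega)
      rw [show i - 1 + 2 = i + 1 by omega] at this
      exact this.symm
    -- a mover of the right kind
    obtain ⟨n, r, m, hin, hr, hmv, hty⟩ : ∃ n r m, i ≤ n ∧ Arc n r ∧ Mv n r m ∧ (A (r n) ↔ A (q' i)) := by
      by_cases hT : A (q' i)
      · exact ⟨nA, rA, gA, by omega, hrA, hmA, iff_of_true hA hT⟩
      · exact ⟨nB, rB, gB, by omega, hrB, hmB, iff_of_false hB hT⟩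
    have hs : Arc i fun j => r (n - i + j) := by
      have := hr.drop (n - i) (by omega)
      rwa [show n - (n - i) = i by omega] at this
    have ht' : A (r (n - i + 0)) ↔ A (q' 0) := by
      have h1 := parity hs.1 i le_rfl
      have h2 := parity hq'.1 i (by omega)
      simp only [show n - i + i = n by omega] at h1
      rw [add_zero]
      simp only [add_zero] at h1
      tauto
    obtain ⟨h0, hh0⟩ := ih (by omega) _ q' hs (hq'.mono (by omega)) ht'
    set t := h0 * m * h0⁻¹ with ht0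
    have htfix : ∀ j ≤ i, t • q' j = q' j := fun j hj => by
      rw [← hh0 j hj, ht0, mul_smul, mul_smul, inv_smul_smul, hmv.1 _ (by omega)]
    have htQ : t ∉ Q (q' i) := fun hc' => hmv.2 (by
      rw [← hh0 i le_rfl, show n - i + i = n by omega] at hc'
      have := h.mem_Q_smul.1 hc'
      simpa [ht0, mul_assoc] using this)
    have htE : t ∈ E (q' i) (q' (i - 1)) := ⟨htfix i le_rfl, htfix (i - 1) (by omega)⟩
    rcases h.nbr_cases hm hc hcne htE htQ hd with e | e | e
    · exact absurd e hdne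
    · refine ⟨g, fun j hj => ?_⟩
      rcases hj.eq_or_lt with rfl | hlt
      · exact e.symm
      · exact hg j (by omega)
    · refine ⟨t * g, fun j hj => ?_⟩
      rw [mul_smul]
      rcases hj.eq_or_lt with rfl | hlt
      · exact e.symm
      · rw [hg j (by omega), htfix j (by omega)]

/-- an arc conjugate to a critical one is critical -/
theorem crit_of_trans {p q : ℕ → Vx P₁ P₂} (hp : Crit p) (hq : Pth (crit P₁ P₂) q) {g : G}
    (hg : ∀ j ≤ crit P₁ P₂, g • p j = q j) : Crit q :=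
  ⟨hq, by rw [← hg 0 (Nat.zero_le _), ← hg _ le_rfl]; exact h.crit_conj g hp.2⟩

end Side

end Cfsg.Agent.H88.Am
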