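import Cfsg.Agent.H88.GbShift

/-!
A critical path of odd length with the commutator of its two movers.
-/

set_option autoImplicit false
set_option linter.style.haveILetI false

namespace Cfsg.Agent.H88.Am

open Subgroup

variable {G : Type*} [Group G] {P₁ P₂ : Subgroup G}

/-- the reversed path starting beyond the end -/
noncomputable def rv (p : ℕ → Vx P₁ P₂) (γ : Vx P₁ P₂) : ℕ → Vx P₁ P₂ :=
  cons γ fun i => p (crit P₁ P₂ - i)

theorem rv_zero (p : ℕ → Vx P₁ P₂) (γ : Vx P₁ P₂) : rv p γ 0 = γ := rfl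

theorem rv_succ (p : ℕ → Vx P₁ P₂) (γ : Vx P₁ P₂) (i : ℕ) : rv p γ (i + 1) = p (crit P₁ P₂ - i) :=
  cons_succ _ _ _

theorem rv_of_pos (p : ℕ → Vx P₁ P₂) (γ : Vx P₁ P₂) {i j : ℕ} (hi : 1 ≤ i) (hij : i + j = crit P₁ P₂ + 1) :
    rv p γ i = p j := by
  obtain ⟨k, rfl⟩ : ∃ k, i = k + 1 := ⟨i - 1, by omega⟩
  rw [rv_succ]
  congr 1
  omega

/-- the membership in the cores of the two edges other than a given one agrees -/
def Par (δ μ : Vx P₁ P₂) (x : G) : Prop :=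
  ∀ ν ν', Ad δ ν → Ad δ ν' → ν ≠ μ → ν' ≠ μ → (x ∈ Q ν ↔ x ∈ Q ν')

/-- a critical path together with the two elements exchanged by reversing -/
structure Bk (p : ℕ → Vx P₁ P₂) (γ : Vx P₁ P₂) (u w : G) : Prop where
  isCrit : Crit p
  odd : Odd (crit P₁ P₂)
  three_le : 3 ≤ crit P₁ P₂
  adj : Ad (p (crit P₁ P₂)) γ
  ne : γ ≠ p (crit P₁ P₂ - 1)
  hu : u ∈ Z (p 0)
  huQ : u ∉ Q (p (crit P₁ P₂))
  hw : w ∈ Z γ
  hwQ : w ∉ Q (p 1)

theorem Cub.par_conj (h : Cub P₁ P₂) {δ μ δ' μ' : Vx P₁ P₂} {x g : G} (hd : g • δ = δ') (hm : g • μ = μ')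
    (hx : Par δ μ x) : Par δ' μ' (g * x * g⁻¹) := by
  intro ν ν' hν hν' hne hne'
  have key : ∀ ξ, g * x * g⁻¹ ∈ Q ξ ↔ x ∈ Q (g⁻¹ • ξ) := fun ξ => by
    rw [h.mem_Q_smul, inv_inv]
  have had : ∀ ξ, Ad δ' ξ → Ad δ (g⁻¹ • ξ) := fun ξ hξ => by
    have := H58.smul_adj g⁻¹ hξ
    rwa [← hd, inv_smul_smul] at this
  rw [key, key]
  exact hx _ _ (had ν hν) (had ν' hν') (fun e => hne (by rw [← hm, ← e, smul_inv_smul]))
    (fun e => hne' (by rw [← hm, ← e, smul_inv_smul]))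

theorem Cub.par_of_pair (h : Cub P₁ P₂) {δ μ ν₁ ν₂ : Vx P₁ P₂} (hm : Ad δ μ) (h1 : Ad δ ν₁) (h2 : Ad δ ν₂)
    (hne1 : ν₁ ≠ μ) (hne2 : ν₂ ≠ μ) (hne : ν₂ ≠ ν₁) {x : G} (hx : x ∈ Q ν₁ ↔ x ∈ Q ν₂) : Par δ μ x := by
  intro ν ν' hν hν' hn hn'
  rcases h.three hm h1 h2 hne1 hne2 hne hν with rfl | rfl | rfl <;>
    rcases h.three hm h1 h2 hne1 hne2 hne hν' with rfl | rfl | rfl <;> tauto

namespace C2

variable (h : C2 P₁ P₂)
include h

theorem V_le_cent {ν : Vx P₁ P₂} {x : G} (hx : ∀ ε, Ad ν ε → x ∈ Q ε) {y : G} (hy : y ∈ V ν) :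
    x * y = y * x := by
  have hle : V ν ≤ centralizer ({x} : Set G) :=
    iSup_le fun ε z hz => mem_centralizer_singleton_iff.2 (h.Z_comm hz (hx ε.1 ε.2))
  exact (mem_centralizer_singleton_iff.1 (hle hy)).symm

end C2

namespace Side

variable (h : Side P₁ P₂)
include h

theorem za_index (hR : Rk P₁ P₂) {α ν : Vx P₁ P₂} (hA : A α) (hm : Ad α ν) {x y : G} (hx : x ∈ Z α)
    (hy : y ∈ Z α) (hxn : x ∉ Z ν) (hyn : y ∉ Z ν) : x⁻¹ * y ∈ Z ν := by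
  have hB : ¬ A ν := (A_adj hm).1 hA
  obtain ⟨ν', hν', hne⟩ := h.exists_other hm
  obtain ⟨c, hc, d, hd, rfl⟩ := h.Z_sup hR hA hm hν' hne.symm hx
  obtain ⟨c', hc', d', hd', rfl⟩ := h.Z_sup hR hA hm hν' hne.symm hy
  have hd1 : d ≠ 1 := fun e => hxn (by rw [e, mul_one]; exact hc)
  have hd1' : d' ≠ 1 := fun e => hyn (by rw [e, mul_one]; exact hc')
  rw [h.Zb_eq_one hR ((A_adj hν').1 hA) hd hd' hd1 hd1']
  have hm' : c⁻¹ * c' ∈ Z ν := mul_mem (inv_mem hc) hc'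
  rw [show (c * d')⁻¹ * (c' * d') = d'⁻¹ * (c⁻¹ * c' * d') by group,
    ← h.Zb_central hB hm' (h.Q_le_E hm (h.Z_le_Q α (h.Zb_le ((A_adj hν').1 hA) hν'.symm hd'))).2,
    inv_mul_cancel_left]
  exact hm'

theorem transv_Q (hR : Rk P₁ P₂) {β ν : Vx P₁ P₂} (hB : ¬ A β) (hm : Ad β ν) {x y z : G} (hx : x ∈ Q β)
    (hxn : x ∉ Q ν) (hy : y ∈ Z ν) (hyn : y ∉ Z β) (hz : z ∈ Z β) (hz1 : z ≠ 1) :
    x * y * x⁻¹ = y * z := by
  obtain ⟨z', hz', e, he⟩ := h.transv hR ((A_adj hm.symm).2 hB) hm.symm (h.Q_mem_E hm hx) hy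
  by_cases hz'1 : z' = 1
  · rcases he hz'1 with hc | hc
    · exact absurd hc hxn
    · exact absurd hc hyn
  · rw [e, h.Zb_eq_one hR hB hz hz' hz1 hz'1]

/-- an edge group fixes the product of the other two centres modulo the centre -/
theorem comm_mid (hR : Rk P₁ P₂) (hb : 2 < crit P₁ P₂) {ν μ μ' μ'' : Vx P₁ P₂} (hB : ¬ A ν) (hm : Ad ν μ)
    (hm' : Ad ν μ') (hm'' : Ad ν μ'') (h1 : μ' ≠ μ) (h2 : μ'' ≠ μ) (h3 : μ'' ≠ μ') {y y' x : G}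
    (hy : y ∈ Z μ') (hyn : y ∉ Z ν) (hy' : y' ∈ Z μ'') (hyn' : y' ∉ Z ν) (hx : x ∈ E ν μ) :
    x * (y * y') * x⁻¹ * (y * y')⁻¹ ∈ Z ν := by
  have hyV : y ∈ V ν := Z_le_V hm' hy
  have hyV' : y' ∈ V ν := Z_le_V hm'' hy'
  have hcc : ∀ {c}, c ∈ Z ν → ∀ {v}, v ∈ V ν → v * c = c * v := fun hc _ hv =>
    h.Zb_central hB hc (h.Q_le_S ν (h.V_le_Q (by omega) ν hv))
  have hfin : ∀ {s t c c' : G}, s ∈ V ν → t ∈ V ν → c ∈ Z ν → c' ∈ Z ν → x * y * x⁻¹ = s * c →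
      x * y' * x⁻¹ = t * c' → s * t = y * y' → x * (y * y') * x⁻¹ * (y * y')⁻¹ ∈ Z ν := by
    intro s t c c' hs ht hc hc' e e' est
    have he : x * (y * y') * x⁻¹ = (y * y') * (c * c') := by
      rw [show x * (y * y') * x⁻¹ = (x * y * x⁻¹) * (x * y' * x⁻¹) by group, e, e',
        show s * c * (t * c') = s * (c * t) * c' by group, ← hcc hc ht,
        show s * (t * c) * c' = s * t * (c * c') by group, est]
    rw [he, hcc (mul_mem hc hc') (mul_mem hyV hyV'), mul_inv_cancel_right]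
    exact mul_mem hc hc'
  by_cases hxQ : x ∈ Q ν
  · have key : ∀ {μ₀ v}, Ad ν μ₀ → v ∈ Z μ₀ → ∃ c ∈ Z ν, x * v * x⁻¹ = v * c := fun {μ₀ v} hμ hv =>
      ⟨x * v * x⁻¹ * v⁻¹, h.comm_Zb ((A_adj hμ.symm).2 hB) hμ.symm (h.Q_mem_E hμ hxQ) hv, by
        rw [hcc (h.comm_Zb ((A_adj hμ.symm).2 hB) hμ.symm (h.Q_mem_E hμ hxQ) hv) (Z_le_V hμ hv),
          inv_mul_cancel_right]⟩
    obtain ⟨c, hc, e⟩ := key hm' hy
    obtain ⟨c', hc', e'⟩ := key hm'' hy'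
    exact hfin hyV hyV' hc hc' e e' rfl
  · have hsw : ∀ {ρ ρ'}, Ad ν ρ → Ad ν ρ' → ρ ≠ μ → ρ' ≠ μ → ρ' ≠ ρ → x • ρ = ρ' := by
      intro ρ ρ' hρ hρ' hne hne' hd
      rcases h.three hm hρ hρ' hne hne' hd (h.adj_smul hρ hx.1) with e | e | e
      · exact absurd e (h.smul_ne hx hne)
      · exact absurd e (h.not_mem_E hm hρ hne.symm hx hxQ)
      · exact e
    have key : ∀ {ρ ρ' v v'}, Ad ν ρ → Ad ν ρ' → ρ ≠ μ → ρ' ≠ μ → ρ' ≠ ρ → v ∈ Z ρ → v ∉ Z ν →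
        v' ∈ Z ρ' → v' ∉ Z ν → ∃ c ∈ Z ν, x * v * x⁻¹ = v' * c := by
      intro ρ ρ' v v' hρ hρ' hne hne' hd hv hvn hv' hvn'
      have hm1 : x * v * x⁻¹ ∈ Z ρ' := hsw hρ hρ' hne hne' hd ▸ h.conj_mem_Z x hv
      have hn1 : x * v * x⁻¹ ∉ Z ν := fun hc => hvn (by
        have := h.conj_mem_Z x⁻¹ hc
        rw [inv_smul_eq_iff.2 (MulAction.mem_stabilizer_iff.1 hx.1).symm] at this
        simpa [mul_assoc] using this)
      exact ⟨v'⁻¹ * (x * v * x⁻¹), h.za_index hR ((A_adj hρ'.symm).2 hB) hρ'.symm hv' hm1 hvn' hn1,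
        by rw [mul_inv_cancel_left]⟩
    obtain ⟨c, hc, e⟩ := key hm' hm'' h1 h2 h3 hy hyn hy' hyn'
    obtain ⟨c', hc', e'⟩ := key hm'' hm' h2 h1 h3.symm hy' hyn' hy hyn
    exact hfin hyV' hyV hc hc' e e' (h.V_comm hb hyV' hyV)

/-- transitivity on arcs of length two -/
theorem trans_two {q q' : ℕ → Vx P₁ P₂} (hq : Arc 2 q) (hq' : Arc 2 q') (ht : A (q 0) ↔ A (q' 0)) :
    ∃ g : G, ∀ j ≤ 2, g • q j = q' j := by
  obtain ⟨α, β, hA, hB, hm⟩ : ∃ α β : Vx P₁ P₂, A α ∧ ¬ A β ∧ Ad α β := by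
    by_cases hA : A (q 0)
    · exact ⟨q 0, q 1, hA, (A_adj (hq.1 0 (by omega))).1 hA, hq.1 0 (by omega)⟩
    · exact ⟨q 1, q 0, (A_adj (hq.1 0 (by omega)).symm).2 hA, hA, (hq.1 0 (by omega)).symm⟩
  obtain ⟨t, htE, htQ⟩ := h.exists_not_mem_Q hm
  obtain ⟨t', htE', htQ'⟩ := h.exists_not_mem_Q hm.symm
  have harc : ∀ {δ μ : Vx P₁ P₂}, Ad δ μ → Arc 1 (cons δ fun _ => μ) := fun {δ μ} hd =>
    ⟨fun i hi => by obtain rfl : i = 0 := (by omega); simpa using hd, fun i hi => absurd hi (by omega)⟩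
  have hfix : ∀ {δ μ : Vx P₁ P₂} {s : G}, s ∈ E μ δ → s ∉ Q μ → Mv 1 (cons δ fun _ => μ) s :=
    fun {δ μ s} hs hsQ => ⟨fun i hi => by
      rcases i with _ | _ | i
      · simpa using MulAction.mem_stabilizer_iff.1 hs.2
      · simpa using MulAction.mem_stabilizer_iff.1 hs.1
      · omega, by simpa using hsQ⟩
  exact h.arc_trans (harc hm.symm) (hfix htE htQ) (by simpa using hA) (harc hm) (hfix htE' htQ')
    (by simpa using hB) le_rfl le_rfl 2 le_rfl q q' hq hq' ht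

theorem exists_bk {p : ℕ → Vx P₁ P₂} (hp : Crit p) (ho : Odd (crit P₁ P₂)) (hb : 3 ≤ crit P₁ P₂) :
    ∃ γ u w, Bk p γ u w := by
  obtain ⟨γ, w, hγ, hne, hw, hwQ, -, -⟩ := h.exists_back hp ho hb
  obtain ⟨u, hu, huQ⟩ := SetLike.not_le_iff_exists.1 hp.2
  exact ⟨γ, u, w, hp, ho, hb, hγ, hne, hu, huQ, hw, hwQ⟩

section

variable {p : ℕ → Vx P₁ P₂} {γ : Vx P₁ P₂} {u w : G} (k : Bk p γ u w)
include k

theorem bk_arc : Arc (crit P₁ P₂) (rv p γ) := by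
  have hb := k.three_le
  have := ((h.crit_arc k.isCrit).rev.mono (Nat.sub_le _ 1)).cons (μ := γ) (by simpa using k.adj)
    fun _ => by simpa using k.ne
  rwa [show crit P₁ P₂ - 1 + 1 = crit P₁ P₂ by omega] at this

theorem bk_crit : Crit (rv p γ) := by
  have hb := k.three_le
  refine ⟨(h.bk_arc k).1, fun hle => k.hwQ ?_⟩
  rw [rv_of_pos p γ (j := 1) (by omega) rfl, rv_zero] at hle
  exact hle k.hw

theorem bk_symm : Bk (rv p γ) (p 0) w u := by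
  have hb := k.three_le
  have e1 : rv p γ (crit P₁ P₂) = p 1 := rv_of_pos p γ (by omega) rfl
  have e2 : rv p γ (crit P₁ P₂ - 1) = p 2 := rv_of_pos p γ (by omega) (by omega)
  have e3 : rv p γ 1 = p (crit P₁ P₂) := rv_of_pos p γ le_rfl (by omega)
  refine ⟨h.bk_crit k, k.odd, hb, ?_, ?_, ?_, ?_, k.hu, ?_⟩
  · rw [e1]; exact (k.isCrit.1 0 (by omega)).symm
  · rw [e2]; exact (h.crit_arc k.isCrit).2 0 (by omega)
  · rw [rv_zero]; exact k.hw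
  · rw [e1]; exact k.hwQ
  · rw [e3]; exact k.huQ

theorem bk_huE : u ∈ E (p (crit P₁ P₂)) (p (crit P₁ P₂ - 1)) := h.Z_le_E k.isCrit.1 k.hu

theorem bk_hwE : w ∈ E (p 1) (p 2) := by
  have hb := k.three_le
  have := h.Z_le_E (h.bk_crit k).1 (show w ∈ Z (rv p γ 0) from k.hw)
  rwa [rv_of_pos p γ (j := 1) (by omega) rfl,
    rv_of_pos p γ (j := 2) (by omega) (by omega)] at this

theorem bk_B1 : ¬ A (p 1) := by
  have hb := k.three_le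
  exact (A_adj (k.isCrit.1 0 (by omega))).1 (h.crit_A k.isCrit)

theorem bk_ne0 : w • p 0 ≠ p 0 := by
  have hb := k.three_le
  exact h.not_mem_E (k.isCrit.1 1 (by omega)) (k.isCrit.1 0 (by omega)).symm
    ((h.crit_arc k.isCrit).2 0 (by omega)).symm (h.bk_hwE k) k.hwQ

theorem bk_ne2 : w • p 0 ≠ p 2 := by
  have hb := k.three_le
  exact h.smul_ne (h.bk_hwE k) ((h.crit_arc k.isCrit).2 0 (by omega))

theorem bk_u_notin : u ∉ Z (p 1) := fun hc => k.huQ (by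
  have hb := k.three_le
  refine h.Z_le_Q_of_path (p := fun i => p (1 + i)) (n := crit P₁ P₂ - 1)
    (fun i hi => k.isCrit.1 (1 + i) (by omega)) (by omega) hc |> fun e => ?_
  rwa [show 1 + (crit P₁ P₂ - 1) = crit P₁ P₂ by omega] at e)

theorem bk_v_notin : w * u * w⁻¹ ∉ Z (p 1) := fun hc => h.bk_u_notin k (by
  have := h.Zb_central (h.bk_B1 k) hc (inv_mem (h.bk_hwE k).1)
  rwa [show u = w⁻¹ * (w * u * w⁻¹) * w by group, this, inv_mul_cancel_right])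

theorem bk_uV : u ∈ V (p 1) ∧ w * u * w⁻¹ ∈ Z (w • p 0) ∧ w * u * w⁻¹ ∈ V (p 1) := by
  have hb := k.three_le
  have hm := (k.isCrit.1 0 (by omega)).symm
  exact ⟨Z_le_V hm k.hu, h.conj_mem_Z w k.hu,
    Z_le_V (h.adj_smul hm (h.bk_hwE k).1) (h.conj_mem_Z w k.hu)⟩

theorem bk_a_eq : u * w * u * w = u * (w * u * w⁻¹) := by
  rw [h.Z_inv k.hw]; group

theorem bk_a_mem : u * w * u * w ∈ V (p 1) := by
  rw [h.bk_a_eq k]; exact mul_mem (h.bk_uV k).1 (h.bk_uV k).2.2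

theorem bk_a_symm : w * u * w * u = u * w * u * w := by
  have hb := k.three_le
  have hw2 := h.Z_sq k.hw
  have hu2 := h.Z_sq k.hu
  have e : (u * w * u * w) * (u * w * u * w) = 1 := h.V_sq (by omega) (h.bk_a_mem k)
  rw [← inv_eq_of_mul_eq_one_left e, mul_inv_rev, mul_inv_rev, mul_inv_rev, h.Z_inv k.hw, h.Z_inv k.hu]
  simp [mul_assoc]

theorem bk_a_mem' : u * w * u * w ∈ V (p (crit P₁ P₂)) := by
  have hb := k.three_le
  have := h.bk_a_mem (h.bk_symm k)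
  rwa [h.bk_a_symm k, rv_of_pos p γ (j := crit P₁ P₂) le_rfl (by omega)] at this

theorem bk_a_notin : u * w * u * w ∉ Z (p 1) := by
  intro hc
  have hb := k.three_le
  have h01 := k.isCrit.1 0 (by omega)
  rw [h.bk_a_eq k] at hc
  have h1 : w * u * w⁻¹ ∈ Z (p 0) := by
    simpa using mul_mem (inv_mem k.hu) (h.Zb_le (h.bk_B1 k) h01.symm hc)
  exact h.bk_v_notin k (h.sib_inter (by omega) (h.bk_B1 k) h01.symm (h.adj_smul h01.symm (h.bk_hwE k).1)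
    (h.bk_ne0 k) h1 (h.bk_uV k).2.1)

theorem bk_form (hR : Rk P₁ P₂) {x : G} (hx : x ∈ E (p 1) (p 2)) :
    x * (u * w * u * w) * x⁻¹ * (u * w * u * w)⁻¹ ∈ Z (p 1) := by
  have hb := k.three_le
  rw [h.bk_a_eq k]
  have hm := (k.isCrit.1 0 (by omega)).symm
  exact h.comm_mid hR (by omega) (h.bk_B1 k) (k.isCrit.1 1 (by omega)) hm
    (h.adj_smul hm (h.bk_hwE k).1) ((h.crit_arc k.isCrit).2 0 (by omega)) (h.bk_ne2 k) (h.bk_ne0 k)
    k.hu (h.bk_u_notin k) (h.bk_uV k).2.1 (h.bk_v_notin k) hx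

theorem bk_par_iff (hR : Rk P₁ P₂) {x : G} (hx : x ∈ Q (p 1)) :
    x * (u * w * u * w) = u * w * u * w * x ↔ Par (p 1) (p 2) x := by
  have hb := k.three_le
  have hB := h.bk_B1 k
  have hm := (k.isCrit.1 0 (by omega)).symm
  have hm2 := h.adj_smul hm (h.bk_hwE k).1
  obtain ⟨hu, hv, hvV⟩ := h.bk_uV k
  rw [h.bk_a_eq k]
  set v := w * u * w⁻¹
  obtain ⟨z, hz, hz1⟩ := h.exists_Zb (p 1)
  have hzv : z * v = v * z := (h.Zb_central hB hz (h.Q_le_S _ (h.V_le_Q (by omega) _ hvV))).symm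
  have hne0 : p 0 ≠ p 2 := (h.crit_arc k.isCrit).2 0 (by omega)
  have e : x * (u * v) = u * v * x ↔ (x * u * x⁻¹) * (x * v * x⁻¹) = u * v := by
    rw [show x * u * x⁻¹ * (x * v * x⁻¹) = x * (u * v) * x⁻¹ by group]
    exact ⟨fun e => by rw [e, mul_inv_cancel_right], fun e => mul_inv_eq_iff_eq_mul.1 e⟩
  rw [e]
  have hin : ∀ {ν y}, x ∈ Q ν → y ∈ Z ν → x * y * x⁻¹ = y := fun hx hy => by
    rw [← h.Z_comm hy hx, mul_inv_cancel_right]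
  have hne : u * v * z ≠ u * v := fun e => hz1 (mul_eq_left.1 e)
  by_cases c1 : x ∈ Q (p 0) <;> by_cases c2 : x ∈ Q (w • p 0)
  · rw [hin c1 k.hu, hin c2 hv]
    exact iff_of_true rfl (h.par_of_pair (k.isCrit.1 1 (by omega)) hm hm2 hne0 (h.bk_ne2 k) (h.bk_ne0 k)
      (iff_of_true c1 c2))
  · rw [hin c1 k.hu, h.transv_Q hR hB hm2 hx c2 hv (h.bk_v_notin k) hz hz1, ← mul_assoc]
    exact iff_of_false hne fun hp => c2 ((hp _ _ hm hm2 hne0 (h.bk_ne2 k)).1 c1)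
  · rw [hin c2 hv, h.transv_Q hR hB hm hx c1 k.hu (h.bk_u_notin k) hz hz1,
      mul_assoc u z, hzv, ← mul_assoc]
    exact iff_of_false hne fun hp => c1 ((hp _ _ hm hm2 hne0 (h.bk_ne2 k)).2 c2)
  · rw [h.transv_Q hR hB hm2 hx c2 hv (h.bk_v_notin k) hz hz1,
      h.transv_Q hR hB hm hx c1 k.hu (h.bk_u_notin k) hz hz1,
      show u * z * (v * z) = u * (z * v) * z by group, hzv,
      show u * (v * z) * z = u * v * (z * z) by group, h.Z_sq hz, mul_one]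
    exact iff_of_true rfl (h.par_of_pair (k.isCrit.1 1 (by omega)) hm hm2 hne0 (h.bk_ne2 k) (h.bk_ne0 k)
      (iff_of_false c1 c2))

end

end Side

end Cfsg.Agent.H88.Am
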