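import Cfsg.Agent.H88.AmBasic

/-!
Counting tools for bounding the edge group of a faithful cubic pair.
-/

set_option autoImplicit false
set_option linter.style.haveILetI false

namespace Cfsg.Agent.H88.Am

open Subgroup

variable {G : Type*} [Group G]

open Classical in
/-- counting by a map whose fibres lie in cosets of a subgroup -/
theorem card_le_fibres {H K : Subgroup G} [Finite K] {α : Type*} [Finite α] (f : G → α)
    (hf : ∀ a ∈ H, ∀ b ∈ H, f a = f b → a⁻¹ * b ∈ K) : Nat.card H ≤ Nat.card α * Nat.card K := by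
  have hr : ∀ x : H, ∃ y : H, f y = f x := fun x => ⟨x, rfl⟩
  let r : α → G := fun t => if ht : ∃ y : H, f y = t then (ht.choose : G) else 1
  have hr1 : ∀ x : H, r (f x) ∈ H ∧ f (r (f x)) = f x := fun x => by
    simp only [r, dif_pos (hr x)]
    exact ⟨(hr x).choose.2, (hr x).choose_spec⟩
  rw [← Nat.card_prod]
  refine Nat.card_le_card_of_injective
    (fun x : H => ((f x, ⟨(r (f x))⁻¹ * x, hf _ (hr1 x).1 _ x.2 (hr1 x).2⟩) : α × K)) fun x y hxy => ?_
  obtain ⟨h1, h2⟩ := Prod.ext_iff.1 hxy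
  have h3 : (r (f x))⁻¹ * (x : G) = (r (f y))⁻¹ * y := congrArg Subtype.val h2
  rw [show f x = f y from h1] at h3
  exact Subtype.ext (mul_left_cancel h3)

/-- elements with two-valued conjugation have a stabiliser of bounded index -/
theorem card_le_conj {H : Subgroup G} [Finite H] {n : ℕ} (e p q : Fin n → G)
    (hpq : ∀ a ∈ H, ∀ i, a * e i * a⁻¹ = p i ∨ a * e i * a⁻¹ = q i)
    (hker : ∀ a ∈ H, (∀ i, a * e i = e i * a) → a = 1) : Nat.card H ≤ 2 ^ n := by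
  classical
  have hbot : Nat.card (⊥ : Subgroup G) = 1 := Subgroup.card_bot
  refine (card_le_fibres (K := ⊥) (fun a i => decide (a * e i * a⁻¹ = p i)) ?_).trans ?_
  · intro a ha b hb hab
    rw [mem_bot]
    refine hker _ (H.mul_mem (H.inv_mem ha) hb) fun i => ?_
    have hi : a * e i * a⁻¹ = b * e i * b⁻¹ := by
      have := decide_eq_decide.1 (congrFun hab i)
      rcases hpq a ha i with h1 | h1 <;> rcases hpq b hb i with h2 | h2
      · rw [h1, h2]
      · rw [h1, this.1 h1]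
      · rw [this.2 h2, h2]
      · rw [h1, h2]
    calc a⁻¹ * b * e i = a⁻¹ * (b * e i * b⁻¹) * b := by group
      _ = a⁻¹ * (a * e i * a⁻¹) * b := by rw [hi]
      _ = e i * (a⁻¹ * b) := by group
  · simp

variable {P₁ P₂ : Subgroup G}

namespace Cub

variable (h : Cub P₁ P₂)
include h

theorem card_edge {δ μ : Vx P₁ P₂} (hm : Ad δ μ) : Nat.card (E δ μ) = Nat.card ↥(P₁ ⊓ P₂) := by
  obtain ⟨x, hE, -⟩ := h.edge_eq hm
  rw [hE, card_map_of_injective (MulAut.conj x).injective]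

theorem base_adj : Ad (Sum.inl ((1 : G) : G ⧸ P₁) : Vx P₁ P₂) (Sum.inr ((1 : G) : G ⧸ P₂)) :=
  H58.adj_coe 1

theorem card_le_of_Q {δ : Vx P₁ P₂} {n : ℕ} (hn : 2 * Nat.card (Q δ) ≤ n) :
    Nat.card ↥(P₁ ⊓ P₂) ≤ n := by
  obtain ⟨μ, hm⟩ := H58.exists_adj δ
  rwa [← h.card_edge hm, h.card_E hm]

theorem Q_ne_le {δ μ : Vx P₁ P₂} (hm : Ad δ μ) (hQ : Q δ ≠ ⊥) : ¬ Q δ ≤ Q μ := fun hle => by
  haveI := h.finQ μ
  have hc : Nat.card (Q μ) = Nat.card (Q δ) := by
    have h1 := h.card_E hm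
    have h2 := h.card_E hm.symm
    rw [E_comm] at h2
    omega
  have he : Q δ = Q μ := eq_of_le_of_card_ge hle hc.le
  exact hQ (h.killN hm (h.Q_le_E hm) (h.S_le_norm_Q δ) (he ▸ h.S_le_norm_Q μ))

theorem inf_Q_cases {δ μ : Vx P₁ P₂} (hm : Ad δ μ) {a b : G} (ha : a ∈ Q δ) (hb : b ∈ Q δ)
    (hab : a ∈ Q μ ↔ b ∈ Q μ) : a⁻¹ * b ∈ Q μ := by
  by_cases haQ : a ∈ Q μ
  · exact mul_mem (inv_mem haQ) (hab.1 haQ)
  · exact h.mul_mem_Q hm.symm (E_comm δ μ ▸ h.Q_le_E hm (inv_mem ha)) (E_comm δ μ ▸ h.Q_le_E hm hb)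
      (fun hc => haQ (inv_mem_iff.1 hc)) (fun hc => haQ (hab.2 hc))

/-- a subgroup outside the core of an edge meets every vertex group in enough to generate it -/
theorem S_le_of_normal {δ μ : Vx P₁ P₂} (hm : Ad δ μ) {X : Subgroup G} (hX : X ≤ S δ)
    (hn : S δ ≤ normalizer (X : Set G)) (hXQ : ¬ X ≤ Q δ) : E δ μ ⊔ X = S δ := by
  haveI : Fact (Nat.Prime 2) := ⟨Nat.prime_two⟩
  haveI := h.finS δ
  rcases h.eq_of_E_le hm le_sup_left (sup_le inf_le_left hX) with h1 | h1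
  · exact absurd (H58.le_pCoreOf hX ((h.syl hm).isPGroup.to_le (h1 ▸ le_sup_right)) hn) hXQ
  · exact h1

theorem conj_mem_K {δ μ : Vx P₁ P₂} {g x : G} (hg : g ∈ S δ) (hm : Ad δ μ)
    (hx : ∀ ν, Ad δ ν → x ∈ Q ν) : g * x * g⁻¹ ∈ Q μ := by
  have h1 := h.conj_mem_Q g (hx (g⁻¹ • μ) (h.adj_smul hm ((S δ).inv_mem hg)))
  rwa [smul_inv_smul] at h1

/-- a vertex group centralising no more than its kernel, or a small edge group -/
theorem le_sixteen_of_cent {δ : Vx P₁ P₂}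
    (hc : ¬ S δ ⊓ centralizer (Q δ : Set G) ≤ Q δ) : Nat.card ↥(P₁ ⊓ P₂) ≤ 16 := by
  haveI : Fact (Nat.Prime 2) := ⟨Nat.prime_two⟩
  obtain ⟨α, hα⟩ := H58.exists_adj δ
  set X := S δ ⊓ centralizer (Q δ : Set G) with hX
  have hXn : S δ ≤ normalizer (X : Set G) := by
    rw [le_normalizer_iff]
    intro g hg x hx
    refine ⟨(S δ).mul_mem ((S δ).mul_mem hg hx.1) ((S δ).inv_mem hg), mem_centralizer_iff.2 fun q hq => ?_⟩
    have hq' : g⁻¹ * q * g ∈ Q δ := by
      simpa using (mem_normalizer_iff.1 (h.S_le_norm_Q δ (inv_mem hg)) q).1 hq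
    calc q * (g * x * g⁻¹) = g * ((g⁻¹ * q * g) * x) * g⁻¹ := by group
      _ = g * (x * (g⁻¹ * q * g)) * g⁻¹ := by rw [mem_centralizer_iff.1 hx.2 _ hq']
      _ = g * x * g⁻¹ * q := by group
  have hgen := h.S_le_of_normal hα inf_le_left hXn hc
  -- invariant subgroups inside both kernels are trivial
  have key : ∀ W : Subgroup G, W ≤ Q α → W ≤ Q δ → S α ≤ normalizer (W : Set G) → W = ⊥ := by
    intro W hWa hWd hn
    refine h.killN hα.symm (hWa.trans (h.Q_le_E hα.symm)) hn ?_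
    rw [← hgen]
    refine sup_le (inf_le_right.trans hn) fun x hx => mem_normalizer_iff.2 fun y => ?_
    constructor
    · intro hy
      rwa [← mem_centralizer_iff.1 hx.2 y (hWd hy), mul_inv_cancel_right]
    · intro hy
      have h2 := mem_centralizer_iff.1 hx.2 _ (hWd hy)
      have h3 : x * y * x⁻¹ = y := by
        calc x * y * x⁻¹ = x⁻¹ * ((x * y * x⁻¹) * x) * x * x⁻¹ * (y * y⁻¹) := by rw [h2]; group
          _ = y := by group
      rwa [h3] at hy
  set F := closure {y | ∃ x ∈ Q α, x * x = y}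
  have hF : F = ⊥ := by
    refine key F ?_ ?_ (le_normalizer_closure fun g hg y => ?_)
    · rw [closure_le]; rintro _ ⟨x, hx, rfl⟩; exact mul_mem hx hx
    · rw [closure_le]; rintro _ ⟨x, hx, rfl⟩
      exact h.sq_mem_Q hα (E_comm α δ ▸ h.Q_le_E hα.symm hx)
    · rintro ⟨x, hx, rfl⟩
      exact subset_closure ⟨_, (mem_normalizer_iff.1 (h.S_le_norm_Q α hg) x).1 hx, by group⟩
  have hsq : ∀ x ∈ Q α, x * x = 1 := fun x hx => mem_bot.1 (hF ▸ subset_closure ⟨x, hx, rfl⟩)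
  set K := Q α ⊓ ⨅ ν : {ν // Ad α ν}, Q ν.1
  have hK : K = ⊥ := by
    refine key K inf_le_left (inf_le_right.trans (iInf_le (fun ν : {ν // Ad α ν} => Q ν.1) ⟨δ, hα.symm⟩)) ?_
    rw [le_normalizer_iff]
    intro g hg x hx
    refine ⟨(mem_normalizer_iff.1 (h.S_le_norm_Q α hg) x).1 hx.1, mem_iInf.2 fun ν => ?_⟩
    exact h.conj_mem_K hg ν.2 fun μ hμ => mem_iInf.1 hx.2 ⟨μ, hμ⟩
  obtain ⟨β, hβ, hβne⟩ := h.exists_other hα.symm
  obtain ⟨a, ha, haQ⟩ := h.exists_not_mem_Q hα.symm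
  classical
  haveI : Finite K := by rw [hK]; infer_instance
  have h8 : Nat.card (Q α) ≤ 8 := by
    refine (card_le_fibres (H := Q α) (K := K)
      (fun x => (decide (x ∈ Q δ), decide (x ∈ Q β), decide (x ∈ Q (a • β)))) ?_).trans ?_
    · intro x hx y hy hxy
      simp only [Prod.mk.injEq, decide_eq_decide] at hxy
      refine ⟨(Q α).mul_mem ((Q α).inv_mem hx) hy, mem_iInf.2 fun ν => ?_⟩
      rcases h.nbr_cases hα.symm hβ hβne ha haQ ν.2 with e | e | e <;> rw [e]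
      · exact h.inf_Q_cases hα.symm hx hy hxy.1
      · exact h.inf_Q_cases hβ hx hy hxy.2.1
      · exact h.inf_Q_cases (h.adj_smul hβ ha.1) hx hy hxy.2.2
    · rw [hK, Subgroup.card_bot]; simp
  exact h.card_le_of_Q (δ := α) (by omega)

end Cub

end Cfsg.Agent.H88.Am
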