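import Cfsg.Agent.H88.GbRank

/-!
Critical length one with one central side: the edge group has order at most 32.
-/

set_option autoImplicit false
set_option linter.style.haveILetI false

namespace Cfsg.Agent.H88.Am

open Subgroup

variable {G : Type*} [Group G] {P₁ P₂ : Subgroup G}

theorem card_subgroup_le {H K : Subgroup G} [Finite K] (hle : H ≤ K) : Nat.card H ≤ Nat.card K :=
  Subgroup.card_le_of_le hle

namespace Side

variable (h : Side P₁ P₂)
include h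

theorem bound_one (hb : crit P₁ P₂ = 1) : Nat.card ↥(P₁ ⊓ P₂) ≤ 32 := by
  classical
  obtain ⟨p, hp⟩ := h.exists_crit
  have hA := h.crit_A hp
  have hm : Ad (p 0) (p 1) := hp.1 0 (by omega)
  have hp2 : ¬ Z (p 0) ≤ Q (p 1) := by
    have := hp.2
    rwa [hb] at this
  generalize p 0 = α at hA hm hp2
  generalize p 1 = β at hm hp2
  have hB : ¬ A β := (A_adj hm).1 hA
  obtain ⟨u, hu, huQ⟩ := SetLike.not_le_iff_exists.1 hp2
  have huA : u ∈ Q α := h.Z_le_Q α hu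
  have huE : u ∈ E β α := E_comm α β ▸ h.Q_le_E hm huA
  have hu2 : u * u = 1 := h.Z_sq hu
  obtain ⟨α₂, hα2, hne⟩ := h.exists_other hm.symm
  obtain ⟨g, hg, hgα⟩ := H58.exists_smul_eq_of_adj hm.symm hα2
  set u' := g * u * g⁻¹ with hu'
  have hu'Z : u' ∈ Z α₂ := hgα ▸ h.conj_mem_Z g hu
  have hu'E : u' ∈ E β α₂ := E_comm α₂ β ▸ h.Q_le_E hα2.symm (h.Z_le_Q α₂ hu'Z)
  have hu'Q : u' ∉ Q β := fun hc => huQ (by
    have := (h.mem_Q_smul (g := g) (δ := β) (x := u')).1 (by rwa [MulAction.mem_stabilizer_iff.1 hg])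
    simpa [hu', mul_assoc] using this)
  have hu'α : u' ∉ E β α := fun hc => h.not_mem_E hα2 hm.symm hne hu'E hu'Q hc.2
  set D := Q α ⊓ Q β with hD
  have hD2 : ∀ x ∈ D, x * x ∈ Q α₂ := fun x hx =>
    h.sq_mem_Q hα2.symm (E_comm β α₂ ▸ h.Q_le_E hα2 hx.2)
  have hu_comm : ∀ {y}, y ∈ Q α → u * y = y * u := fun hy => h.Z_comm hu hy
  have hmulu : ∀ {y}, y ∈ Q α → y ∉ Q β → y * u ∈ D := fun hy hyb =>
    ⟨mul_mem hy huA, h.mul_mem_Q hm.symm (E_comm α β ▸ h.Q_le_E hm hy) huE hyb huQ⟩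
  have hsqu : ∀ {y}, y ∈ Q α → y * u * (y * u) = y * y := fun {y} hy => by
    rw [show y * u * (y * u) = y * (u * y) * u by group, hu_comm hy,
      show y * (y * u) * u = y * y * (u * u) by group, hu2, mul_one]
  set F := closure {y | ∃ x ∈ D, x * x = y} with hF
  have hFn : S α ≤ normalizer (F : Set G) := le_normalizer_closure fun a ha y => by
    rintro ⟨x, hx, rfl⟩
    have hy : a * x * a⁻¹ ∈ Q α := (mem_normalizer_iff.1 (h.S_le_norm_Q α ha) x).1 hx.1
    rw [show a * (x * x) * a⁻¹ = (a * x * a⁻¹) * (a * x * a⁻¹) by group]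
    generalize a * x * a⁻¹ = y at hy
    by_cases hyb : y ∈ Q β
    · exact subset_closure ⟨y, ⟨hy, hyb⟩, rfl⟩
    · exact subset_closure ⟨y * u, hmulu hy hyb, hsqu hy⟩
  have hFle : F ≤ Q α₂ := by
    rw [hF, closure_le]; rintro _ ⟨x, hx, rfl⟩; exact hD2 x hx
  have hFbot : F = ⊥ := by
    refine h.killN hm ?_ hFn (h.S_le hm.symm (inf_le_right.trans hFn) (a := u') ?_ hu'E.1 hu'α)
    · rw [hF, closure_le]
      rintro _ ⟨x, hx, rfl⟩
      exact h.Q_le_E hm (mul_mem hx.1 hx.1)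
    · refine H58.mem_normalizer_of_map_conj_eq (le_antisymm ?_ fun y hy => ⟨y, hy, ?_⟩)
      · rintro _ ⟨y, hy, rfl⟩
        show u' * y * u'⁻¹ ∈ F
        rwa [h.Z_comm hu'Z (hFle hy), mul_inv_cancel_right]
      · show u' * y * u'⁻¹ = y
        rw [h.Z_comm hu'Z (hFle hy), mul_inv_cancel_right]
  have hsq : ∀ {y}, y ∈ Q α → y * y = 1 := fun {y} hy => by
    by_cases hyb : y ∈ Q β
    · exact mem_bot.1 (hFbot ▸ subset_closure ⟨y, ⟨hy, hyb⟩, rfl⟩)
    · rw [← hsqu hy]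
      exact mem_bot.1 (hFbot ▸ subset_closure ⟨y * u, hmulu hy hyb, rfl⟩)
  have hab : ∀ {a b}, a ∈ Q α → b ∈ Q α → a * b = b * a := fun {a b} ha hb' => by
    rw [← inv_eq_of_mul_eq_one_left (hsq (mul_mem ha hb')), mul_inv_rev,
      inv_eq_of_mul_eq_one_left (hsq ha), inv_eq_of_mul_eq_one_left (hsq hb')]
  by_cases hflat : D ≤ Q α₂
  · exfalso
    obtain ⟨y, hy, hyA⟩ : ∃ y ∈ Q β, y ∉ Q α := by
      refine SetLike.not_le_iff_exists.1 (h.Q_ne_le hm.symm fun hb0 => ?_)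
      exact h.Z_ne_bot β (le_bot_iff.1 (hb0 ▸ h.Z_le_Q β))
    set s := u * u' with hs
    have hsS : s ∈ S β := (S β).mul_mem huE.1 hu'E.1
    have hsd : ∀ {d}, d ∈ D → s * d * s⁻¹ = d := fun {d} hd => by
      rw [hs, show u * u' * d * (u * u')⁻¹ = u * (u' * d * u'⁻¹) * u⁻¹ by group,
        h.Z_comm hu'Z (hflat hd), mul_inv_cancel_right, hu_comm hd.1, mul_inv_cancel_right]
    have hsyQ : s * y * s⁻¹ ∈ Q β := (mem_normalizer_iff.1 (h.S_le_norm_Q β hsS) y).1 hy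
    have hsyA : s * y * s⁻¹ ∉ Q α := fun hc => hyA (by
      have h1 := hsd (⟨hc, hsyQ⟩ : s * y * s⁻¹ ∈ D)
      have h2 : s * y * s⁻¹ = y := by
        calc s * y * s⁻¹ = s⁻¹ * (s * (s * y * s⁻¹) * s⁻¹) * s := by group
          _ = s⁻¹ * (s * y * s⁻¹) * s := by rw [h1]
          _ = y := by group
      exact h2 ▸ hc)
    have hd : y⁻¹ * (s * y * s⁻¹) ∈ D :=
      ⟨h.inf_Q_cases hm.symm hy hsyQ (iff_of_false hyA hsyA), (Q β).mul_mem ((Q β).inv_mem hy) hsyQ⟩
    have hss : ∀ q ∈ Q β, s * s * q = q * (s * s) := by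
      have hsy : s * s * y = y * (s * s) := by
        refine mul_inv_eq_iff_eq_mul.1 ?_
        calc s * s * y * (s * s)⁻¹ = s * (y * (y⁻¹ * (s * y * s⁻¹))) * s⁻¹ := by group
          _ = (s * y * s⁻¹) * (s * (y⁻¹ * (s * y * s⁻¹)) * s⁻¹) := by group
          _ = y * ((y⁻¹ * (s * y * s⁻¹)) * (y⁻¹ * (s * y * s⁻¹))) := by rw [hsd hd]; group
          _ = y := by rw [hsq hd.1, mul_one]
      have hsD : ∀ {d}, d ∈ D → s * s * d = d * (s * s) := fun {d} hd' => by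
        have h1 := mul_inv_eq_iff_eq_mul.1 (hsd hd')
        rw [mul_assoc, h1, ← mul_assoc, h1, mul_assoc]
      intro q hq
      by_cases hqA : q ∈ Q α
      · exact hsD ⟨hqA, hq⟩
      · have hqy : y⁻¹ * q ∈ D :=
          ⟨h.inf_Q_cases hm.symm hy hq (iff_of_false hyA hqA), (Q β).mul_mem ((Q β).inv_mem hy) hq⟩
        calc s * s * q = (s * s * y) * (y⁻¹ * q) := by group
          _ = y * (s * s * (y⁻¹ * q)) := by rw [hsy]; group
          _ = q * (s * s) := by rw [hsD hqy]; group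
    have hssQ : s * s ∈ Q β := by
      haveI : Fact (Nat.Prime 2) := ⟨Nat.prime_two⟩
      exact H58.centralizer_vertexQ_le h.ch β ⟨(S β).mul_mem hsS hsS,
        mem_centralizer_iff.2 fun q hq => (hss q hq).symm⟩
    have h1 : (s * s) • α = α := MulAction.mem_stabilizer_iff.1 (h.Q_le_E hm.symm hssQ).2
    have h3 : u • α = α := huE.2
    have h4 : u' * u' = 1 := h.Z_sq hu'Z
    refine h.not_mem_E hm.symm (h.adj_smul hm.symm hu'E.1)
      (fun e => hu'α ⟨hu'E.1, MulAction.mem_stabilizer_iff.2 e.symm⟩) huE huQ ?_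
    rw [hs, show u * u' * (u * u') = u * u' * u * u' by group, mul_smul, mul_smul, mul_smul] at h1
    have := congrArg (fun z => u' • u • z) h1
    simpa [← mul_smul, ← mul_assoc, hu2, h4, h3] using this
  · obtain ⟨z, hz, hz2⟩ := SetLike.not_le_iff_exists.1 hflat
    have hK : D ⊓ Q α₂ ≤ Z β := by
      intro x hx
      refine h.mem_Zb hB hm.symm (h.Q_le_E hm.symm hx.1.2) (hsq hx.1.1) fun e he => ?_
      have hq : ∀ q ∈ Q β, q * x = x * q := by
        intro q hq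
        by_cases hqA : q ∈ Q α
        · exact hab hqA hx.1.1
        by_cases hq2 : q ∈ Q α₂
        · have h1 : g⁻¹ * q * g ∈ Q α := h.mem_Q_smul.1 (hgα.symm ▸ hq2)
          have h2 : g⁻¹ * x * g ∈ Q α := h.mem_Q_smul.1 (hgα.symm ▸ hx.2)
          calc q * x = g * ((g⁻¹ * q * g) * (g⁻¹ * x * g)) * g⁻¹ := by group
            _ = g * ((g⁻¹ * x * g) * (g⁻¹ * q * g)) * g⁻¹ := by rw [hab h1 h2]
            _ = x * q := by group
        · have hqz : q * z ∈ Q α₂ := h.mul_mem_Q hα2.symm (E_comm β α₂ ▸ h.Q_le_E hα2 hq)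
            (E_comm β α₂ ▸ h.Q_le_E hα2 hz.2) hq2 hz2
          have h1 : g⁻¹ * (q * z) * g ∈ Q α := h.mem_Q_smul.1 (hgα.symm ▸ hqz)
          have h2 : g⁻¹ * x * g ∈ Q α := h.mem_Q_smul.1 (hgα.symm ▸ hx.2)
          have hzx : z⁻¹ * x = x * z⁻¹ := hab ((Q α).inv_mem hz.1) hx.1.1
          calc q * x = g * (g⁻¹ * (q * z) * g) * g⁻¹ * (z⁻¹ * x) := by group
            _ = g * ((g⁻¹ * (q * z) * g) * (g⁻¹ * x * g)) * g⁻¹ * z⁻¹ := by rw [hzx]; group
            _ = g * ((g⁻¹ * x * g) * (g⁻¹ * (q * z) * g)) * g⁻¹ * z⁻¹ := by rw [hab h1 h2]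
            _ = x * q := by group
      by_cases heQ : e ∈ Q β
      · exact hq e heQ
      · have h1 := hq (e * u) (h.mul_mem_Q hm.symm he huE heQ huQ)
        calc e * x = e * u * (u * x) := by rw [← mul_assoc, mul_assoc e, hu2, mul_one]
          _ = e * u * x * u := by rw [hu_comm hx.1.1, mul_assoc (e * u)]
          _ = x * (e * u) * u := by rw [h1]
          _ = x * e := by rw [mul_assoc, mul_assoc e, hu2, mul_one]
    haveI := h.finZ β
    haveI : Finite ↥(D ⊓ Q α₂) := Finite.of_injective _ (inclusion_injective hK)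
    haveI := h.finQ α
    haveI : Finite D := Finite.of_injective _ (inclusion_injective (inf_le_left : D ≤ Q α))
    have h1 : Nat.card D ≤ 2 * Nat.card (Z β) := by
      refine (card_le_fibres (K := D ⊓ Q α₂) (fun x => decide (x ∈ Q α₂)) fun a ha b hb' hab' =>
        ⟨D.mul_mem (D.inv_mem ha) hb', h.inf_Q_cases hα2 ha.2 hb'.2 (decide_eq_decide.1 hab')⟩).trans ?_
      rw [Nat.card_eq_fintype_card (α := Bool), Fintype.card_bool]
      exact Nat.mul_le_mul_left 2 (card_subgroup_le hK)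
    have h2 : Nat.card (Q α) ≤ 2 * Nat.card D := by
      refine (card_le_fibres (K := D) (fun x => decide (x ∈ Q β)) fun a ha b hb' hab' =>
        ⟨(Q α).mul_mem ((Q α).inv_mem ha) hb', h.inf_Q_cases hm ha hb' (decide_eq_decide.1 hab')⟩).trans ?_
      rw [Nat.card_eq_fintype_card (α := Bool), Fintype.card_bool]
    obtain ⟨β₁, hβ1, hβne⟩ := h.exists_other hm
    obtain ⟨k, hk, hkβ⟩ := H58.exists_smul_eq_of_adj hm hβ1
    have h3 : Nat.card (Z β) * Nat.card (Z β) ≤ Nat.card (Q α) := by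
      rw [← Nat.card_prod]
      refine Nat.card_le_card_of_injective (fun q => (⟨(q.1 : G) * (k * q.2 * k⁻¹),
        mul_mem (h.Z_le_Q α (h.Zb_le hB hm.symm q.1.2)) (h.Z_le_Q α (h.Zb_le ((A_adj hβ1).1 hA) hβ1.symm
          (hkβ ▸ h.conj_mem_Z k q.2.2)))⟩ : ↥(Q α))) ?_
      rintro ⟨a, b⟩ ⟨a', b'⟩ he
      have he' : (a : G) * (k * b * k⁻¹) = a' * (k * b' * k⁻¹) := congrArg Subtype.val he
      have h5 : (a' : G)⁻¹ * a = (k * b' * k⁻¹) * (k * (b : G) * k⁻¹)⁻¹ := by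
        rw [eq_mul_inv_iff_mul_eq, mul_assoc, he', inv_mul_cancel_left]
      have h6 := h.Zb_inf hA hm hβ1 hβne.symm (mul_mem (inv_mem a'.2) a.2)
        (h5 ▸ mul_mem (hkβ ▸ h.conj_mem_Z k b'.2) (inv_mem (hkβ ▸ h.conj_mem_Z k b.2)))
      have ha : a = a' := Subtype.ext (inv_mul_eq_one.1 h6).symm
      subst ha
      exact Prod.ext rfl (Subtype.ext (by simpa using mul_left_cancel he'))
    have h4 : Nat.card (Z β) ≤ 4 := by
      by_contra hc
      have : 5 * Nat.card (Z β) ≤ Nat.card (Z β) * Nat.card (Z β) := Nat.mul_le_mul_right _ (by omega)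
      omega
    exact h.card_le_of_Q (δ := α) (by omega)

end Side

end Cfsg.Agent.H88.Am
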