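import Cfsg.Agent.H88.GbThree

/-!
The counting for critical length three.
-/

set_option autoImplicit false
set_option linter.style.haveILetI false

namespace Cfsg.Agent.H88.Am

open Subgroup

variable {G : Type*} [Group G] {P₁ P₂ : Subgroup G}

namespace Side

variable (h : Side P₁ P₂) (hb3 : crit P₁ P₂ = 3)
include h hb3

theorem Z_le_L_three {β : Vx P₁ P₂} (hB : ¬ A β) : Z β ≤ L β := by
  intro z hz
  obtain ⟨α, hα⟩ := H58.exists_adj β
  refine mem_L.2 ⟨h.V_le_Ker (by omega) β (Z_le_V hα (h.Zb_le hB hα hz)), fun α' ν hα' hν y hy => ?_⟩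
  have hyQ : y ∈ Q α' := (mem_Ker.1 (h.V_le_Ker (by omega) ν hy)).2 _ hν.symm
  exact (h.Zb_central hB hz (h.Q_le_E hα'.symm hyQ).2).symm

section

variable {p : ℕ → Vx P₁ P₂} {γ : Vx P₁ P₂} {u w : G} (k : Bk p γ u w)
include k

theorem three_L_inf {y : G} (hy : y ∈ L (p 1)) (hyV : y ∈ V (p 1)) : y ∈ Z (p 1) := by
  have ho := h.odd_three hb3
  have h12 : Ad (p 1) (p 2) := k.isCrit.1 1 (by omega)
  have h23 : Ad (p 2) (p 3) := k.isCrit.1 2 (by omega)
  have h10 : Ad (p 1) (p 0) := (k.isCrit.1 0 (by omega)).symm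
  have hB1 := h.bk_B1 k
  have hwV := (h.three_w hb3 k).2.1
  have hwE := h.bk_hwE k
  have h2 : y ∈ Z (p 2) :=
    h.V_fix_edge ho (by omega) hB1 h12 hwE k.hwQ hyV ((mem_L.1 hy).2 _ _ h12 h23 w hwV).symm
  obtain ⟨g, hg, hgp⟩ := H58.exists_smul_eq_of_adj h12 h10
  have e1 : g • p 1 = p 1 := hg
  have hgν : Ad (p 0) (g • p 3) := hgp ▸ H58.smul_adj g h23
  have htE : g * w * g⁻¹ ∈ E (p 1) (p 0) := by
    refine ⟨(S (p 1)).mul_mem ((S (p 1)).mul_mem hg hwE.1) ((S (p 1)).inv_mem hg),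
      MulAction.mem_stabilizer_iff.2 ?_⟩
    rw [mul_smul, mul_smul, ← hgp, inv_smul_smul, MulAction.mem_stabilizer_iff.1 hwE.2]
  have htQ : g * w * g⁻¹ ∉ Q (p 1) := fun hc => k.hwQ (by
    rw [← e1] at hc
    simpa [mul_assoc] using h.mem_Q_smul.1 hc)
  have h0 : y ∈ Z (p 0) := h.V_fix_edge ho (by omega) hB1 h10 htE htQ hyV
    ((mem_L.1 hy).2 _ _ h10 hgν _ (h.conj_mem_V g hwV)).symm
  exact h.sib_inter (by omega) hB1 h10 h12 ((h.crit_arc k.isCrit).2 0 (by omega)).symm h0 h2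

theorem three_L_split {σ σ' : G} (hs : Sp (p 1) σ w) (hs' : Sp (p 3) σ' u) {x : G} (hx : x ∈ L (p 1)) :
    ∃ n ∈ L (p 3), ∃ c ∈ Z (p 2), x = n * c := by
  have h12 : Ad (p 1) (p 2) := k.isCrit.1 1 (by omega)
  have h23 : Ad (p 2) (p 3) := k.isCrit.1 2 (by omega)
  have hA2 : A (p 2) := (A_adj h12.symm).2 (h.bk_B1 k)
  have h31 : p 3 ≠ p 1 := ((h.crit_arc k.isCrit).2 1 (by omega)).symm
  obtain ⟨hxK, hxc⟩ := mem_L.1 hx
  have hwV := (h.three_w hb3 k).2.1
  have hxw : x * w = w * x := hxc _ _ h12 h23 w hwV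
  obtain ⟨n, hn, hnu, hnc, c, hc, hxe⟩ := h.three_incl hb3 k hs' hxK hxw
  refine ⟨n, ?_, c, hc, hxe⟩
  obtain ⟨e1, e2, e3⟩ := h.three_symm hb3 k
  -- the decomposition at the second vertex shows that `x` is fixed
  obtain ⟨v, hv, hvc⟩ := hs.split x hxK
  have hnK : x * v ∈ Ker (p 1) := mul_mem hxK (h.V_le_Ker (by omega) _ hv)
  have hz := h.three_fixed hb3 k hs hnK hvc
  obtain ⟨ν, g, hν, n1, n3, -, -, -, -⟩ := h.exists_third h12.symm h23 h31
  have hζ := inv_mem ((h.three_V_comm hb3 k hν n1 n3).2 v hv w hwV)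
  set ζ := (v * w * v⁻¹ * w⁻¹)⁻¹ with hζdef
  have hζ2 : ζ ∈ Z (p 2) := h.Zb_le ((A_adj hν).1 hA2) hν.symm hζ
  have hxQ : x ∈ Q (p 2) := (mem_Ker.1 hxK).2 _ h12
  have e : w⁻¹ * (x * v) * w * (x * v)⁻¹ = ζ := by
    calc w⁻¹ * (x * v) * w * (x * v)⁻¹ = w⁻¹ * x * v * w * v⁻¹ * x⁻¹ := by group
      _ = w * x * v * w * v⁻¹ * x⁻¹ := by rw [h.Z_inv k.hw]
      _ = x * (w * v * w * v⁻¹) * x⁻¹ := by rw [← hxw]; group
      _ = x * ζ * x⁻¹ := by rw [hζdef, mul_inv_rev, mul_inv_rev, mul_inv_rev, inv_inv, inv_inv, h.Z_inv k.hw]; group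
      _ = ζ := by rw [← h.Z_comm hζ2 hxQ, mul_inv_cancel_right]
  rw [e] at hz
  have hζ1 : ζ = 1 := h.Zb_inf hA2 h12.symm hν n1.symm hz hζ
  have hvw : v * w = w * v := by
    rw [hζdef, inv_eq_one] at hζ1
    exact mul_inv_eq_iff_eq_mul.1 (mul_inv_eq_one.1 hζ1)
  have hnw : x * v * w = w * (x * v) := by rw [mul_assoc, hvw, ← mul_assoc, hxw, mul_assoc]
  have hnL : x * v ∈ L (p 1) := h.three_L hb3 k hs hs' hnK hvc hnw
  have hvZ : v ∈ Z (p 1) := h.three_L_inf hb3 k (((L (p 1)).mul_mem_cancel_left hx).1 hnL) hv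
  have hσx : σ * x = x * σ := by
    have hσv : σ * v = v * σ := h.Zb_central (h.bk_B1 k) hvZ hs.mem
    refine mul_right_cancel (b := v) ?_
    rw [mul_assoc, hvc, mul_assoc x σ v, hσv, ← mul_assoc]
  have := h.three_L hb3 (h.bk_symm k) (σ := σ') (σ' := σ) (by rw [e1]; exact hs') (by rw [e3]; exact hs)
    (x := n) (by rw [e1]; exact hn) hnc hnu
  rwa [e1] at this

theorem bound_three_aux : Nat.card ↥(P₁ ⊓ P₂) ≤ 128 := by
  classical
  have ho := h.odd_three hb3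
  have hR := h.odd_rank ho (by omega)
  have hp := k.isCrit
  have hpa := h.crit_arc hp
  have hB1 := h.bk_B1 k
  have h12 : Ad (p 1) (p 2) := hp.1 1 (by omega)
  have h23 : Ad (p 2) (p 3) := hp.1 2 (by omega)
  have h10 : Ad (p 1) (p 0) := (hp.1 0 (by omega)).symm
  have hA2 : A (p 2) := (A_adj h12.symm).2 hB1
  have hB3 : ¬ A (p 3) := (A_adj h23).1 hA2
  have h31 : p 3 ≠ p 1 := (hpa.2 1 (by omega)).symm
  obtain ⟨e1, e2, e3⟩ := h.three_symm hb3 k
  obtain ⟨σ, hs, -⟩ := h.three_sigma hb3 k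
  obtain ⟨σ', hs', -⟩ := h.three_sigma hb3 (h.bk_symm k)
  rw [e1] at hs'
  have hL13 : ∀ x ∈ L (p 1), ∃ n ∈ L (p 3), ∃ c ∈ Z (p 2), x = n * c :=
    fun x hx => h.three_L_split hb3 k hs hs' hx
  have hL31 : ∀ x ∈ L (p 3), ∃ n ∈ L (p 1), ∃ c ∈ Z (p 2), x = n * c := by
    intro x hx
    have := h.three_L_split hb3 (h.bk_symm k) (σ := σ') (σ' := σ) (by rw [e1]; exact hs')
      (by rw [e3]; exact hs) (x := x) (by rw [e1]; exact hx)
    rwa [e3, e2] at this
  have hLK : ∀ {β : Vx P₁ P₂}, L β ≤ Ker β := fun {β} x hx => (mem_L.1 hx).1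
  have hLQ : ∀ {β : Vx P₁ P₂}, Ad (p 2) β → L β ≤ Q (p 2) := fun {β} hβ x hx => (mem_Ker.1 (hLK hx)).2 _ hβ.symm
  have hcc : ∀ {c x}, c ∈ Z (p 2) → x ∈ Q (p 2) → c * x = x * c := fun hc hx => h.Z_comm hc hx
  let R : Subgroup G :=
    { carrier := {r | ∃ n ∈ L (p 1), ∃ c ∈ Z (p 2), r = n * c}
      one_mem' := ⟨1, one_mem _, 1, one_mem _, by simp⟩
      mul_mem' := fun {a b} ha hb' => by
        obtain ⟨n, hn, c, hc, rfl⟩ := ha
        obtain ⟨n', hn', c', hc', rfl⟩ := hb'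
        refine ⟨n * n', mul_mem hn hn', c * c', mul_mem hc hc', ?_⟩
        rw [mul_assoc n c, ← mul_assoc c n', hcc hc (hLQ h12.symm hn')]
        group
      inv_mem' := fun {a} ha => by
        obtain ⟨n, hn, c, hc, rfl⟩ := ha
        exact ⟨n⁻¹, inv_mem hn, c⁻¹, inv_mem hc, by
          rw [mul_inv_rev, hcc (inv_mem hc) (inv_mem (hLQ h12.symm hn))]⟩ }
  have hRQ : R ≤ Q (p 2) := by
    rintro _ ⟨n, hn, c, hc, rfl⟩
    exact mul_mem (hLQ h12.symm hn) (h.Z_le_Q _ hc)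
  have hZR : Z (p 2) ≤ R := fun c hc => ⟨1, one_mem _, c, hc, (one_mul c).symm⟩
  obtain ⟨ν, g, hν, n1, n3, hg, hgQ, hg3, hgν⟩ := h.exists_third h12.symm h23 h31
  have g1 : g • p 1 = p 1 := hg.2
  have g2 : g • p 2 = p 2 := hg.1
  have hgL : ∀ {x}, x ∈ L (p 1) → g * x * g⁻¹ ∈ L (p 1) := fun hx => by
    have := h.L_conj g hx; rwa [g1] at this
  have hgZ : ∀ {x}, x ∈ Z (p 2) → g * x * g⁻¹ ∈ Z (p 2) := fun hx => by
    have := h.conj_mem_Z g hx; rwa [g2] at this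
  have hall : ∀ β, Ad (p 2) β → L β ≤ R ∧ ∀ r ∈ R, ∃ n ∈ L β, ∃ c ∈ Z (p 2), r = n * c := by
    intro β hβ
    rcases h.three h12.symm h23 hν h31 n1 n3 hβ with e | e | e <;> subst e
    · exact ⟨fun x hx => ⟨x, hx, 1, one_mem _, (mul_one x).symm⟩, fun r hr => hr⟩
    · refine ⟨fun x hx => hL31 x hx, ?_⟩
      rintro _ ⟨n, hn, c, hc, rfl⟩
      obtain ⟨m, hm, d, hd, rfl⟩ := hL13 n hn
      exact ⟨m, hm, d * c, mul_mem hd hc, mul_assoc _ _ _⟩
    · refine ⟨fun x hx => ?_, ?_⟩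
      · have h1 := h.L_conj g⁻¹ hx
        rw [inv_smul_eq_iff.2 hg3.symm, inv_inv] at h1
        obtain ⟨m, hm, d, hd, e⟩ := hL31 _ h1
        refine ⟨_, hgL hm, _, hgZ hd, ?_⟩
        calc x = g * (g⁻¹ * x * g) * g⁻¹ := by group
          _ = g * m * g⁻¹ * (g * d * g⁻¹) := by rw [e]; group
      · rintro _ ⟨n, hn, c, hc, rfl⟩
        have h1 := h.L_conj g⁻¹ hn
        rw [inv_smul_eq_iff.2 g1.symm, inv_inv] at h1
        obtain ⟨m, hm, d, hd, e⟩ := hL13 _ h1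
        refine ⟨g * m * g⁻¹, hg3 ▸ h.L_conj g hm, g * d * g⁻¹ * c, mul_mem (hgZ hd) hc, ?_⟩
        calc n * c = g * (g⁻¹ * n * g) * g⁻¹ * c := by group
          _ = g * m * g⁻¹ * (g * d * g⁻¹ * c) := by rw [e]; group
  have hRn : ∀ s ∈ S (p 2), ∀ r ∈ R, s * r * s⁻¹ ∈ R := by
    rintro s hs2 _ ⟨n, hn, c, hc, rfl⟩
    have hn' : s * n * s⁻¹ ∈ R := (hall _ (h.adj_smul h12.symm hs2)).1 (h.L_conj s hn)
    have hc' : s * c * s⁻¹ ∈ R := hZR ((mem_normalizer_iff.1 (h.S_le_norm_Z _ hs2) c).1 hc)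
    rw [show s * (n * c) * s⁻¹ = (s * n * s⁻¹) * (s * c * s⁻¹) by group]
    exact mul_mem hn' hc'
  -- squares
  have hF : closure {y | ∃ x ∈ L (p 1), x * x = y} = ⊥ := by
    set F := closure {y | ∃ x ∈ L (p 1), x * x = y} with hFdef
    have hsq : ∀ {β β'}, Ad (p 2) β → Ad (p 2) β' → ∀ x ∈ L β, (∀ x ∈ L β, ∃ n ∈ L β', ∃ c ∈ Z (p 2), x = n * c) →
        ∃ n ∈ L β', n * n = x * x := by
      intro β β' hβ hβ' x hx hd
      obtain ⟨n, hn, c, hc, rfl⟩ := hd x hx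
      refine ⟨n, hn, ?_⟩
      rw [show n * c * (n * c) = n * (c * n) * c by group, hcc hc (hLQ hβ' hn),
        show n * (n * c) * c = n * n * (c * c) by group, h.Z_sq hc, mul_one]
    have hn1 : S (p 1) ≤ normalizer (F : Set G) := le_normalizer_closure fun a ha y => by
      rintro ⟨x, hx, rfl⟩
      exact subset_closure ⟨_, (mem_normalizer_iff.1 (h.S_le_norm_L _ ha) x).1 hx, by group⟩
    have hn3 : S (p 3) ≤ normalizer (F : Set G) := le_normalizer_closure fun a ha y => by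
      rintro ⟨x, hx, rfl⟩
      obtain ⟨n, hn, hne⟩ := hsq h12.symm h23 x hx hL13
      obtain ⟨m, hm, hme⟩ := hsq h23 h12.symm _ ((mem_normalizer_iff.1 (h.S_le_norm_L _ ha) n).1 hn) hL31
      exact subset_closure ⟨m, hm, by rw [hme, ← hne]; group⟩
    refine h.killN h12 ?_ hn1
      (h.S_le' h12.symm h23 h31.symm (inf_le_right.trans hn1) (inf_le_right.trans hn3))
    rw [hFdef, closure_le]
    rintro _ ⟨x, hx, rfl⟩
    exact h.Q_le_E h12 (mul_mem (Ker_le _ (hLK hx)) (Ker_le _ (hLK hx)))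
  have hsame : ∀ {β}, Ad (p 2) β → ∀ r ∈ R, ∀ r' ∈ R, (r ∈ L β ↔ r' ∈ L β) → r⁻¹ * r' ∈ L β := by
    intro β hβ r hr r' hr' hiff
    by_cases hrL : r ∈ L β
    · exact mul_mem (inv_mem hrL) (hiff.1 hrL)
    have hr'L : r' ∉ L β := fun hc => hrL (hiff.2 hc)
    obtain ⟨n, hn, c, hc, rfl⟩ := (hall β hβ).2 r hr
    obtain ⟨n', hn', c', hc', rfl⟩ := (hall β hβ).2 r' hr'
    have hZ := h.Z_le_L_three hb3 ((A_adj hβ).1 hA2)
    have h1 : c⁻¹ * c' ∈ Z β := h.za_index hR hA2 hβ hc hc' (fun e => hrL (mul_mem hn (hZ e)))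
      fun e => hr'L (mul_mem hn' (hZ e))
    rw [show (n * c)⁻¹ * (n' * c') = c⁻¹ * (n⁻¹ * n') * c' by group,
      hcc (inv_mem hc) (hLQ hβ (mul_mem (inv_mem hn) hn')), mul_assoc]
    exact mul_mem (mul_mem (inv_mem hn) hn') (hZ h1)
  have hcore : ∀ x, (∀ β, Ad (p 2) β → x ∈ L β) → x = 1 := by
    set D := ⨅ β : {β // Ad (p 2) β}, L β.1 with hD
    have hD0 : D = ⊥ := by
      by_contra hne
      obtain ⟨x, hx, hx1, hxZ⟩ := h.exists_fixed hA2 h23 (W := D)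
        ((iInf_le (fun β : {β // Ad (p 2) β} => L β.1) ⟨p 1, h12.symm⟩).trans (hLQ h12.symm))
        (by
          rw [le_normalizer_iff]
          intro s hs2 x hx
          refine mem_iInf.2 fun β => ?_
          have h1 := h.L_conj s (mem_iInf.1 hx ⟨s⁻¹ • β.1, h.adj_smul β.2 ((S (p 2)).inv_mem hs2)⟩)
          rwa [smul_inv_smul] at h1) hne
      exact hx1 (h.Zb_inf hA2 h12.symm h23 h31.symm
        (h.three_L_inf hb3 k (mem_iInf.1 hx ⟨p 1, h12.symm⟩) (Z_le_V h12 (h.Zb_le hB3 h23.symm hxZ))) hxZ)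
    exact fun x hx => mem_bot.1 (hD0 ▸ mem_iInf.2 fun β => hx β.1 β.2)
  have hdiff : ∀ r ∈ R, ∀ r' ∈ R, (∀ β, Ad (p 2) β → (r ∈ L β ↔ r' ∈ L β)) → r = r' := fun r hr r' hr' hb' =>
    inv_mul_eq_one.1 (hcore _ fun β hβ => hsame hβ r hr r' hr' (hb' β hβ))
  have hnone : ∀ r ∈ R, ∃ β, Ad (p 2) β ∧ r ∈ L β := by
    intro r hr
    by_contra hno
    push Not at hno
    have hfix : ∀ s ∈ S (p 2), s * r * s⁻¹ = r := fun s hs2 => hdiff _ (hRn s hs2 r hr) r hr fun β hβ => by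
      refine iff_of_false (fun hc => ?_) (hno β hβ)
      have := h.L_conj s⁻¹ hc
      rw [inv_inv, show s⁻¹ * (s * r * s⁻¹) * s = r by group] at this
      exact hno _ (h.adj_smul hβ ((S (p 2)).inv_mem hs2)) this
    have hr2 : r * r = 1 := by
      obtain ⟨n, hn, c, hc, rfl⟩ := hr
      rw [show n * c * (n * c) = n * (c * n) * c by group, hcc hc (hLQ h12.symm hn),
        show n * (n * c) * c = n * n * (c * c) by group, h.Z_sq hc, mul_one]
      exact mem_bot.1 (hF ▸ subset_closure ⟨n, hn, rfl⟩)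
    have h1 : r = 1 := h.fix_one hA2 (hRQ hr) hr2 fun s hs2 =>
      mem_centralizer_singleton_iff.2 (mul_inv_eq_iff_eq_mul.1 (hfix s hs2))
    exact hno (p 1) h12.symm (h1 ▸ one_mem _)
  haveI := h.finQ (p 2)
  haveI : Finite R := Finite.of_injective _ (inclusion_injective hRQ)
  haveI := h.finKer (p 1)
  haveI : Finite (L (p 1)) := Finite.of_injective _ (inclusion_injective hLK)
  have hR7 : Nat.card R ≤ 7 := by
    let T3 := {t : Bool × Bool × Bool // t ≠ (false, false, false)}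
    let f : G → T3 := fun r =>
      if hh : ((decide (r ∈ L (p 1)), decide (r ∈ L (p 3)), decide (r ∈ L ν)) : Bool × Bool × Bool) ≠
        (false, false, false) then ⟨_, hh⟩ else ⟨(true, true, true), by simp⟩
    have hf : ∀ r ∈ R, (f r).1 = (decide (r ∈ L (p 1)), decide (r ∈ L (p 3)), decide (r ∈ L ν)) := by
      intro r hr
      refine congrArg Subtype.val (dif_pos ?_)
      obtain ⟨β, hβ, hrβ⟩ := hnone r hr
      intro e
      simp only [Prod.mk.injEq, decide_eq_false_iff_not] at e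
      rcases h.three h12.symm h23 hν h31 n1 n3 hβ with e' | e' | e' <;> rw [e'] at hrβ
      exacts [e.1 hrβ, e.2.1 hrβ, e.2.2 hrβ]
    refine (card_le_fibres (H := R) (K := ⊥) f fun a ha b hb' hab => ?_).trans ?_
    · have := congrArg Subtype.val hab
      rw [hf a ha, hf b hb'] at this
      simp only [Prod.mk.injEq, decide_eq_decide] at this
      rw [mem_bot, inv_mul_eq_one]
      refine hdiff a ha b hb' fun β hβ => ?_
      rcases h.three h12.symm h23 hν h31 n1 n3 hβ with e' | e' | e' <;> rw [e']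
      exacts [this.1, this.2.1, this.2.2]
    · rw [Subgroup.card_bot, mul_one, Nat.card_eq_fintype_card]
      exact le_of_eq (by decide)
  have hL2 : Nat.card (L (p 1)) ≤ 2 := by
    haveI := h.finZ (p 3)
    have h1 : Nat.card (L (p 1)) * 2 ≤ Nat.card R := by
      rw [← hR.two _ hB3, ← Nat.card_prod]
      refine Nat.card_le_card_of_injective
        (fun q => (⟨(q.1 : G) * q.2, ⟨q.1, q.1.2, q.2, h.Zb_le hB3 h23.symm q.2.2, rfl⟩⟩ : R)) ?_
      rintro ⟨x, y⟩ ⟨x', y'⟩ he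
      have he2 : (x : G) * y = x' * y' := congrArg Subtype.val he
      have h5 : (x' : G)⁻¹ * x = y' * (y : G)⁻¹ := by
        rw [eq_mul_inv_iff_mul_eq, mul_assoc, he2, inv_mul_cancel_left]
      have h6 : (x' : G)⁻¹ * x ∈ L (p 1) := mul_mem (inv_mem x'.2) x.2
      have h7 : (x' : G)⁻¹ * x ∈ Z (p 3) := h5 ▸ mul_mem y'.2 (inv_mem y.2)
      have h8 := h.Zb_inf hA2 h12.symm h23 h31.symm
        (h.three_L_inf hb3 k h6 (Z_le_V h12 (h.Zb_le hB3 h23.symm h7))) h7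
      have hx : x = x' := Subtype.ext (inv_mul_eq_one.1 h8).symm
      subst hx
      exact Prod.ext rfl (Subtype.ext (mul_left_cancel he2))
    haveI : Fact (Nat.Prime 2) := ⟨Nat.prime_two⟩
    obtain ⟨a, ha⟩ := IsPGroup.iff_card.1 ((h.pQ (p 1)).to_le (hLK.trans (Ker_le (p 1))))
    rw [ha] at h1 ⊢
    have : 2 ^ a ≤ 3 := by omega
    rcases a with _ | _ | a
    · simp
    · simp
    · exfalso
      have : 4 ≤ 2 ^ (a + 1 + 1) := by
        calc 4 = 2 ^ 2 := rfl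
          _ ≤ 2 ^ (a + 1 + 1) := Nat.pow_le_pow_right (by omega) (by omega)
      omega
  set N := Ker (p 1) ⊓ centralizer ({σ} : Set G) with hN
  haveI : Finite N := Finite.of_injective _ (inclusion_injective (inf_le_left : N ≤ Ker (p 1)))
  have hNc : ∀ {x}, x ∈ N → σ * x = x * σ := fun hx => (mem_centralizer_singleton_iff.1 hx.2).symm
  have hN4 : Nat.card N ≤ 4 := by
    refine (card_le_fibres (H := N) (K := L (p 1)) (fun n => decide (n * w = w * n)) fun a ha b hb' hab => ?_).trans ?_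
    · have hiff : a * w = w * a ↔ b * w = w * b := decide_eq_decide.1 hab
      have hmem : a⁻¹ * b ∈ N := mul_mem (inv_mem ha) hb'
      refine h.three_L hb3 k hs hs' hmem.1 (hNc hmem) ?_
      by_cases hc : a * w = w * a
      · calc a⁻¹ * b * w = a⁻¹ * (w * b) := by rw [mul_assoc, hiff.1 hc]
          _ = a⁻¹ * w * b := by rw [mul_assoc]
          _ = w * a⁻¹ * b := by rw [(Commute.inv_left (show Commute a w from hc)).eq]
          _ = w * (a⁻¹ * b) := by rw [mul_assoc]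
      have hne : ∀ {n}, n * w ≠ w * n → w⁻¹ * n * w * n⁻¹ ≠ 1 := fun {n} hn e => hn (by
        calc n * w = w * (w⁻¹ * n * w * n⁻¹) * n := by group
          _ = w * n := by rw [e, mul_one])
      have hz := h.Zb_eq_one hR hB1 (h.three_fixed hb3 k hs ha.1 (hNc ha))
        (h.three_fixed hb3 k hs hb'.1 (hNc hb')) (hne hc) (hne fun e => hc (hiff.2 e))
      calc a⁻¹ * b * w = a⁻¹ * w * ((w⁻¹ * b * w * b⁻¹) * b) := by group
        _ = a⁻¹ * w * ((w⁻¹ * a * w * a⁻¹) * b) := by rw [hz]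
        _ = w * (a⁻¹ * b) := by group
    · rw [Nat.card_eq_fintype_card (α := Bool), Fintype.card_bool]
      omega
  let φ : G → G := fun x => if hh : ∃ v ∈ V (p 1), σ * (x * v) = x * v * σ then hh.choose else 1
  have hφ : ∀ x ∈ Ker (p 1), φ x ∈ V (p 1) ∧ x * φ x ∈ N := by
    intro x hx
    have hh := hs.split x hx
    have e : φ x = hh.choose := dif_pos hh
    rw [e]
    exact ⟨hh.choose_spec.1, mul_mem hx (h.V_le_Ker (by omega) _ hh.choose_spec.1),
      mem_centralizer_singleton_iff.2 hh.choose_spec.2.symm⟩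
  have hK16 : Nat.card (Ker (p 1)) ≤ 16 := by
    refine (card_le_fibres (H := Ker (p 1)) (K := N)
      (fun x => (decide (φ x ∈ Z (p 2)), decide (φ x ∈ Z (p 0)))) fun x hx y hy hxy => ?_).trans ?_
    · simp only [Prod.mk.injEq, decide_eq_decide] at hxy
      obtain ⟨hv, hnx⟩ := hφ x hx
      obtain ⟨hv', hny⟩ := hφ y hy
      set v := φ x
      set v' := φ y
      have h02 : p 0 ≠ p 2 := hpa.2 0 (by omega)
      have hz : v⁻¹ * v' ∈ Z (p 1) := by
        by_cases c2 : v ∈ Z (p 2)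
        · by_cases c0 : v ∈ Z (p 0)
          · exact mul_mem (inv_mem (h.sib_inter (by omega) hB1 h10 h12 h02.symm c0 c2))
              (h.sib_inter (by omega) hB1 h10 h12 h02.symm (hxy.2.1 c0) (hxy.1.1 c2))
          · exact h.za_index hR hA2 h12.symm c2 (hxy.1.1 c2) (fun e => c0 (h.Zb_le hB1 h10 e))
              fun e => c0 (hxy.2.2 (h.Zb_le hB1 h10 e))
        · have c2' : v' ∉ Z (p 2) := fun e => c2 (hxy.1.2 e)
          have n1 : v ∉ Z (p 1) := fun e => c2 (h.Zb_le hB1 h12 e)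
          have n1' : v' ∉ Z (p 1) := fun e => c2' (h.Zb_le hB1 h12 e)
          obtain ⟨μ, hμ, hμv⟩ := h.V_cases ho (by omega) hB1 hv
          obtain ⟨μ', hμ', hμv'⟩ := h.V_cases ho (by omega) hB1 hv'
          by_cases c0 : v ∈ Z (p 0)
          · exact h.za_index hR (h.crit_A hp) h10.symm c0 (hxy.2.1 c0) n1 n1'
          have c0' : v' ∉ Z (p 0) := fun e => c0 (hxy.2.2 e)
          have hα2 := h.adj_smul h10 (h.bk_hwE k).1
          have key : ∀ {t μ}, Ad (p 1) μ → t ∈ Z μ → t ∉ Z (p 2) → t ∉ Z (p 0) → μ = w • p 0 := by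
            intro t μ hm ht t2 t0
            rcases h.three h12 h10 hα2 h02 (h.bk_ne2 k) (h.bk_ne0 k) hm with e | e | e
            · exact absurd (e ▸ ht) t2
            · exact absurd (e ▸ ht) t0
            · exact e
          have hμμ : μ' = μ := (key hμ' hμv' c2' c0').trans (key hμ hμv c2 c0).symm
          subst hμμ
          exact h.za_index hR ((A_adj hμ'.symm).2 hB1) hμ'.symm hμv hμv' n1 n1'
      have hzN : v⁻¹ * v' ∈ N := ⟨h.V_le_Ker (by omega) _ (mul_mem (inv_mem hv) hv'),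
        mem_centralizer_singleton_iff.2 (h.Zb_central hB1 hz hs.mem).symm⟩
      have hvc : ∀ {a}, a ∈ Ker (p 1) → v * a = a * v := fun {a} ha =>
        (h.V_le_cent (fun ε hε => (mem_Ker.1 ha).2 ε hε) hv).symm
      have e : x⁻¹ * y = (x * v)⁻¹ * (y * v') * (v⁻¹ * v') := by
        have hm := hvc (mul_mem (inv_mem (mul_mem hx (h.V_le_Ker (by omega) _ hv)))
          (mul_mem hy (h.V_le_Ker (by omega) _ hv')))
        calc x⁻¹ * y = v * ((x * v)⁻¹ * (y * v')) * v'⁻¹ := by group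
          _ = (x * v)⁻¹ * (y * v') * (v * v'⁻¹) := by rw [hm]; group
          _ = (x * v)⁻¹ * (y * v') * (v⁻¹ * v') := by
            rw [inv_eq_of_mul_eq_one_left (h.V_sq (by omega) hv),
              inv_eq_of_mul_eq_one_left (h.V_sq (by omega) hv')]
      rw [e]
      exact mul_mem (mul_mem (inv_mem hnx) hny) hzN
    · rw [show Nat.card (Bool × Bool) = 4 by simp]
      omega
  haveI := h.finQ (p 1)
  have hQ : Nat.card (Q (p 1)) ≤ 64 := by
    refine (card_le_fibres (H := Q (p 1)) (K := Ker (p 1))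
      (fun x => (decide (x ∈ Q (p 0)), decide (x ∈ Q (p 2)))) fun x hx y hy hxy => ?_).trans ?_
    · simp only [Prod.mk.injEq, decide_eq_decide] at hxy
      have hm : x⁻¹ * y ∈ Q (p 1) := (Q (p 1)).mul_mem ((Q (p 1)).inv_mem hx) hy
      have c0 := h.inf_Q_cases h10 hx hy hxy.1
      have c2 := h.inf_Q_cases h12 hx hy hxy.2
      have hP := (h.bk_par_iff k hR hm).1 (h.bk_comm k hR _ hm c2)
      refine mem_Ker.2 ⟨hm, fun β hβ => ?_⟩
      have hα2 := h.adj_smul h10 (h.bk_hwE k).1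
      by_cases e : β = p 2
      · exact e ▸ c2
      · exact (hP _ _ h10 hβ (hpa.2 0 (by omega)) e).1 c0
    · rw [show Nat.card (Bool × Bool) = 4 by simp]
      omega
  exact h.card_le_of_Q (δ := p 1) (by omega)

end

theorem bound_three : Nat.card ↥(P₁ ⊓ P₂) ≤ 128 := by
  obtain ⟨p, hp⟩ := h.exists_crit
  obtain ⟨γ, u, w, k⟩ := h.exists_bk hp (h.odd_three hb3) (by omega)
  exact h.bound_three_aux hb3 k

end Side

end Cfsg.Agent.H88.Am
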