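import Cfsg.Agent.H88.GbRank

/-!
An even critical length with one central side is two.
-/

set_option autoImplicit false
set_option linter.style.haveILetI false

namespace Cfsg.Agent.H88.Am

open Subgroup
open scoped commutatorElement

variable {G : Type*} [Group G] {P₁ P₂ : Subgroup G}

theorem C2.card_Z_smul (h : C2 P₁ P₂) (g : G) (δ : Vx P₁ P₂) : Nat.card (Z (g • δ)) = Nat.card (Z δ) := by
  refine (Nat.card_congr ?_).symm
  exact
    { toFun := fun x => ⟨g * x * g⁻¹, h.conj_mem_Z g x.2⟩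
      invFun := fun x => ⟨g⁻¹ * x * g, by
        have := h.conj_mem_Z g⁻¹ x.2
        rwa [inv_smul_smul, inv_inv] at this⟩
      left_inv := fun x => Subtype.ext (by simp [mul_assoc])
      right_inv := fun x => Subtype.ext (by simp [mul_assoc]) }

theorem Rk.of (h : C2 P₁ P₂) {α β : Vx P₁ P₂} (hA : A α) (hB : ¬ A β) (h4 : Nat.card (Z α) = 4)
    (h2 : Nat.card (Z β) = 2) : Rk P₁ P₂ := by
  refine ⟨fun δ hδ => ?_, fun δ hδ => ?_⟩
  · obtain ⟨g, rfl⟩ := exists_smul_of_iff (δ := α) (μ := δ) (iff_of_true hA hδ)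
    rw [h.card_Z_smul, h4]
  · obtain ⟨g, rfl⟩ := exists_smul_of_iff (δ := β) (μ := δ) (iff_of_false hB hδ)
    rw [h.card_Z_smul, h2]

namespace Side

variable (h : Side P₁ P₂)
include h

theorem even_pr (he : Even (crit P₁ P₂)) {p : ℕ → Vx P₁ P₂} (hp : Crit p) :
    ∃ u v, Pr (p 0) (p 1) (p (crit P₁ P₂)) (p (crit P₁ P₂ - 1)) u v ∧
      ⁅u, v⁆ ≠ 1 ∧ ⁅u, v⁆ ∈ Z (p 1) ∧ ⁅u, v⁆ ∈ Z (p (crit P₁ P₂ - 1)) := by
  have hA' : A (p (crit P₁ P₂)) := (h.A_iff hp le_rfl).2 he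
  obtain ⟨u, v, hpr⟩ := Crit.exists_pr h.toC2 hp (h.act hA')
  have key : ∀ {α β α' β' : Vx P₁ P₂} {u v : G}, A α → Pr α β α' β' u v → ⁅u, v⁆ ∈ Z β := by
    intro α β α' β' u v hA hq
    have hr := Pr.mem_left h.toC2 hq
    refine h.mem_Zb ((A_adj hq.adj).1 hA) hq.adj.symm ?_ (h.Z_sq hr) fun e he' => ?_
    · exact E_comm α β ▸ h.Q_le_E hq.adj (h.Z_le_Q α hr)
    · exact mem_centralizer_singleton_iff.1 (Pr.E_le_cent h.toC2 hq (E_comm β α ▸ he'))
  refine ⟨u, v, hpr, Pr.ne_one h.toC2 hpr (h.act hA'), key (h.crit_A hp) hpr, ?_⟩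
  rw [← Pr.comm_symm h.toC2 hpr]
  exact key hA' (Pr.symm h.toC2 hpr)

theorem even_rank (he : Even (crit P₁ P₂)) : Rk P₁ P₂ := by
  obtain ⟨p, hp⟩ := h.exists_crit
  have hA := h.crit_A hp
  obtain ⟨u, v, hpr, -, -, -⟩ := h.even_pr he hp
  generalize p 1 = β at hpr
  generalize p 0 = α at hA hpr
  generalize p (crit P₁ P₂) = α' at hpr
  generalize p (crit P₁ P₂ - 1) = β' at hpr
  have hm := hpr.adj
  have hB : ¬ A β := (A_adj hm).1 hA
  obtain ⟨β₁, hβ1, hne⟩ := h.exists_other hm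
  obtain ⟨a, ha, haβ⟩ := H58.exists_smul_eq_of_adj hm hβ1
  haveI := h.finZ α
  haveI := h.finZ β
  set r := ⁅u, v⁆ with hr
  have hconj : ∀ z ∈ Z α, z * v * z⁻¹ = v ∨ z * v * z⁻¹ = r * v := by
    intro z hz
    have e : z * v * z⁻¹ = ⁅z, v⁆ * v := by rw [commutatorElement_def]; group
    rcases Pr.comm_cases h.toC2 hpr (hpr.le hz) with hc | hc <;> rw [e, hc]
    · exact Or.inl (one_mul v)
    · exact Or.inr rfl
  have h4 : Nat.card (Z α) ≤ 4 := by
    refine card_le_conj (n := 2) ![v, a * v * a⁻¹] ![v, a * v * a⁻¹] ![r * v, a * (r * v) * a⁻¹] ?_ ?_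
    · intro z hz i
      fin_cases i
      · simpa using hconj z hz
      · have hz' : a⁻¹ * z * a ∈ Z α := by
          simpa using (mem_normalizer_iff.1 (h.S_le_norm_Z α (inv_mem ha)) z).1 hz
        have e : z * (a * v * a⁻¹) * z⁻¹ = a * ((a⁻¹ * z * a) * v * (a⁻¹ * z * a)⁻¹) * a⁻¹ := by group
        simp only [Fin.mk_one, Matrix.cons_val_one, Matrix.cons_val_fin_one, Matrix.head_cons]
        rcases hconj _ hz' with hc | hc <;> rw [e, hc]
        · exact Or.inl rfl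
        · exact Or.inr rfl
    · intro z hz hc
      have h0 : z * v = v * z := by simpa using hc 0
      have h1 : z * (a * v * a⁻¹) = a * v * a⁻¹ * z := by simpa using hc 1
      refine h.fix_one hA (h.Z_le_Q α hz) (h.Z_sq hz) (h.S_le hm ?_ (a := a * v * a⁻¹) ?_ ?_ ?_)
      · intro e he'
        rw [mem_centralizer_singleton_iff]
        by_cases heQ : e ∈ Q α
        · exact (h.Z_comm hz heQ).symm
        · have h2 := h.Z_comm hz (h.mul_mem_Q hm he' hpr.hvE heQ hpr.hvQ)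
          calc e * z = e * v * (z * v)⁻¹ * z * z := by group
            _ = (e * v) * (v * z)⁻¹ * z * z := by rw [h0]
            _ = (e * v * z) * v⁻¹ * ((z * z)⁻¹ * (z * z)) := by
              rw [mul_inv_rev, h.Z_inv hz, h.Z_sq hz]
              simp [mul_assoc, h.Z_sq hz]
            _ = z * e := by rw [← h2]; group
      · exact mem_centralizer_singleton_iff.2 h1.symm
      · exact (S α).mul_mem ((S α).mul_mem ha hpr.hvE.1) ((S α).inv_mem ha)
      · intro hc'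
        have h5 : v • (a⁻¹ • β) = a⁻¹ • β := by
          rw [eq_inv_smul_iff, ← mul_smul, ← mul_smul]
          exact MulAction.mem_stabilizer_iff.1 hc'.2
        refine h.not_mem_E hm (h.adj_smul hm (MulAction.mem_stabilizer_iff.1 (inv_mem ha))) ?_
          hpr.hvE hpr.hvQ h5
        intro e
        exact hne (by rw [← haβ]; exact (eq_inv_smul_iff.1 e))
  have hmul : Nat.card (Z β) * Nat.card (Z β) ≤ Nat.card (Z α) := by
    rw [← Nat.card_prod]
    refine Nat.card_le_card_of_injective (fun q => (⟨(q.1 : G) * (a * q.2 * a⁻¹),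
      mul_mem (h.Zb_le hB hm.symm q.1.2) (h.Zb_le ((A_adj hβ1).1 hA) hβ1.symm
        (haβ ▸ h.conj_mem_Z a q.2.2))⟩ : ↥(Z α))) ?_
    rintro ⟨x, y⟩ ⟨x', y'⟩ he'
    have he2 : (x : G) * (a * y * a⁻¹) = x' * (a * y' * a⁻¹) := congrArg Subtype.val he'
    have h5 : (x' : G)⁻¹ * x = (a * y' * a⁻¹) * (a * (y : G) * a⁻¹)⁻¹ := by
      rw [eq_mul_inv_iff_mul_eq, mul_assoc, he2, inv_mul_cancel_left]
    have h6 := h.Zb_inf hA hm hβ1 hne.symm (mul_mem (inv_mem x'.2) x.2)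
      (h5 ▸ mul_mem (haβ ▸ h.conj_mem_Z a y'.2) (inv_mem (haβ ▸ h.conj_mem_Z a y.2)))
    have hx : x = x' := Subtype.ext (inv_mul_eq_one.1 h6).symm
    subst hx
    exact Prod.ext rfl (Subtype.ext (by simpa using mul_left_cancel he2))
  have h1 : 2 ≤ Nat.card (Z β) := (Subgroup.one_lt_card_iff_ne_bot _).2 (h.Z_ne_bot β)
  have h2 : Nat.card (Z β) = 2 := by
    by_contra hc
    have : 3 * 3 ≤ Nat.card (Z β) * Nat.card (Z β) := Nat.mul_le_mul (by omega) (by omega)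
    omega
  rw [h2] at hmul
  exact Rk.of h.toC2 hA hB (by omega) h2

theorem even_two (he : Even (crit P₁ P₂)) : crit P₁ P₂ = 2 := by
  by_contra hb2
  have hb : 4 ≤ crit P₁ P₂ := by
    have := h.crit_pos
    obtain ⟨k, hk⟩ := he
    omega
  have hR := h.even_rank he
  obtain ⟨p, hp⟩ := h.exists_crit
  have hA := h.crit_A hp
  obtain ⟨u, v, hpr, hr1, hrb, hrb'⟩ := h.even_pr he hp
  have hpa := h.crit_arc hp
  obtain ⟨μ, hμ, hμne⟩ := h.exists_other (hp.1 0 (by omega))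
  have h10 : Ad (p (crit P₁ P₂ - 2)) (p (crit P₁ P₂ - 1)) := by
    have := hp.1 (crit P₁ P₂ - 2) (by omega)
    rwa [show crit P₁ P₂ - 2 + 1 = crit P₁ P₂ - 1 by omega] at this
  have h01 : Ad (p (crit P₁ P₂ - 1)) (p (crit P₁ P₂)) := by
    have := hp.1 (crit P₁ P₂ - 1) (by omega)
    rwa [show crit P₁ P₂ - 1 + 1 = crit P₁ P₂ by omega] at this
  have hq : ∀ γ, Ad μ γ → γ ≠ p 0 → Arc (crit P₁ P₂) (cons γ (cons μ p)) := fun γ hγ hne => by
    have := ((hpa.mono (Nat.sub_le _ 2)).cons hμ fun _ => hμne).cons (μ := γ) (by simpa using hγ)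
      fun _ => by simpa using hne
    rwa [show crit P₁ P₂ - 2 + 1 + 1 = crit P₁ P₂ by omega] at this
  have hqb : ∀ γ, cons γ (cons μ p) (crit P₁ P₂) = p (crit P₁ P₂ - 2) := fun γ => by
    rw [show crit P₁ P₂ = crit P₁ P₂ - 2 + 1 + 1 by omega, cons_succ, cons_succ]
    congr 1
  obtain ⟨γ, hγ, hγne, hγc⟩ : ∃ γ, Ad μ γ ∧ γ ≠ p 0 ∧ ¬ Z γ ≤ Q (p (crit P₁ P₂ - 2)) := by
    by_contra hno
    push Not at hno
    have hpa' : Z (p 0) ≤ Q (p (crit P₁ P₂ - 2)) := h.Z_le_Q_of_path (hp.1.mono (Nat.sub_le _ 2)) (by omega)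
    have hVle : V μ ≤ Q (p (crit P₁ P₂ - 2)) := iSup_le fun ξ => by
      by_cases e : ξ.1 = p 0
      · rw [e]; exact hpa'
      · exact hno _ ξ.2 e
    by_cases hV2 : V μ ≤ Q (p (crit P₁ P₂ - 1))
    · have hvn : ∀ x ∈ V μ, v * x * v⁻¹ ∈ V μ := by
        intro x hx
        obtain ⟨e, he', hee⟩ := Pr.conj_mem h.toC2 hpr
          (E_comm (p (crit P₁ P₂ - 1)) _ ▸ h.Q_le_E h01 (hV2 hx))
        rw [hee]
        exact mul_mem (Z_le_V hμ.symm he') hx
      have hne' : v • μ ≠ μ := h.not_mem_E hpr.adj hμ hμne.symm hpr.hvE hpr.hvQ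
      refine h.V_ne (by omega) hμ (h.adj_smul hμ hpr.hvE.1) hne'.symm (le_antisymm (fun x hx => ?_) fun x hx => ?_)
      · have h1 := hvn x hx
        have h2 := h.conj_mem_V v h1
        have hv2 : v * v = 1 := h.Z_sq hpr.hv
        rwa [show v * (v * x * v⁻¹) * v⁻¹ = (v * v) * x * (v * v)⁻¹ by group, hv2, one_mul, inv_one,
          mul_one] at h2
      · have h1 := h.conj_mem_V v⁻¹ hx
        rw [inv_smul_smul] at h1
        have := hvn _ h1
        simpa [mul_assoc] using this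
    · obtain ⟨ξ, hξ⟩ : ∃ ξ : {ξ // Ad μ ξ}, ¬ Z ξ.1 ≤ Q (p (crit P₁ P₂ - 1)) := by
        by_contra hc
        push Not at hc
        exact hV2 (iSup_le hc)
      obtain ⟨x, hx, hxQ⟩ := SetLike.not_le_iff_exists.1 hξ
      have hmv : Mv (crit P₁ P₂ - 1) p x := by
        refine ⟨fun i hi => ?_, hxQ⟩
        rcases Nat.lt_or_ge i (crit P₁ P₂ - 1) with hlt | hge
        · have hP : Pth (i + 1 + 1) (cons ξ.1 (cons μ p)) := by
            intro j hj
            rcases j with _ | _ | j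
            · simpa using ξ.2.symm
            · simpa using hμ.symm
            · simpa using hp.1 j (by omega)
          simpa using h.Z_fix hP (by omega) hx
        · rw [show i = crit P₁ P₂ - 1 by omega]
          exact MulAction.mem_stabilizer_iff.1 (h.Q_le_E h10 (hVle (Z_le_V ξ.2 hx))).2
      have hBend : ¬ A (p (crit P₁ P₂ - 1)) := by
        rw [h.A_iff hp (Nat.sub_le _ 1)]
        obtain ⟨k, hk⟩ := he
        exact fun ⟨j, hj⟩ => by omega
      obtain ⟨γ, hγ, hγne⟩ := h.exists_other hμ.symm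
      have hqa := hq γ hγ hγne
      obtain ⟨g, hg⟩ := h.arc_trans (k := crit P₁ P₂) hpa (h.mover_of_crit hp hpr.hu hpr.huQ)
        ((h.A_iff hp le_rfl).2 he) (hpa.mono (Nat.sub_le _ 1)) hmv hBend (by omega) (by omega)
        _ le_rfl p _ hpa hqa (iff_of_true hA (by
          rw [cons_zero]
          exact (A_adj hγ.symm).2 ((A_adj hμ).1 hA)))
      have := (h.crit_of_trans hp hqa.1 hg).2
      rw [cons_zero, hqb] at this
      exact this (hno γ hγ hγne)
  have hc : Crit (cons γ (cons μ p)) := ⟨(hq γ hγ hγne).1, by rwa [cons_zero, hqb]⟩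
  obtain ⟨u', v', -, hs1, hsb, hsb'⟩ := h.even_pr he hc
  rw [show (1 : ℕ) = 0 + 1 from rfl, cons_succ, cons_zero] at hsb
  rw [show crit P₁ P₂ - 1 = crit P₁ P₂ - 3 + 1 + 1 by omega, cons_succ, cons_succ] at hsb'
  have hB1 : ¬ A (p 1) := (A_adj (hp.1 0 (by omega))).1 hA
  have hBμ : ¬ A μ := (A_adj hμ).1 hA
  refine hp.2 fun x hx => ?_
  obtain ⟨a, ha, b, hb', rfl⟩ := h.Z_sup hR hA hμ (hp.1 0 (by omega)) hμne hx
  have h30 : Ad (p (crit P₁ P₂ - 3)) (p (crit P₁ P₂ - 2)) := by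
    have := hp.1 (crit P₁ P₂ - 3) (by omega)
    rwa [show crit P₁ P₂ - 3 + 1 = crit P₁ P₂ - 2 by omega] at this
  have hA2 : A (p (crit P₁ P₂ - 2)) := by
    rw [h.A_iff hp (Nat.sub_le _ 2)]
    obtain ⟨k, hk⟩ := he
    exact ⟨k - 1, by omega⟩
  have ha2 : a ∈ Z (p (crit P₁ P₂ - 2)) := by
    refine h.Zb_le ((A_adj h30.symm).1 hA2) h30 ?_
    by_cases a1 : a = 1
    · rw [a1]; exact one_mem _
    · rw [h.Zb_eq_one hR hBμ ha hsb a1 hs1]; exact hsb'
  have hb2' : b ∈ Z (p (crit P₁ P₂ - 2)) := by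
    refine h.Zb_le ((A_adj h10).1 hA2) h10.symm ?_
    by_cases b1 : b = 1
    · rw [b1]; exact one_mem _
    · rw [h.Zb_eq_one hR hB1 hb' hrb b1 hr1]; exact hrb'
  have := h.Z_le_Q_of_path (p := fun i => p (crit P₁ P₂ - 2 + i)) (n := 2)
    (fun i hi => hp.1 _ (by omega)) (by omega)
  simp only [add_zero, show crit P₁ P₂ - 2 + 2 = crit P₁ P₂ by omega] at this
  exact this (mul_mem ha2 hb2')

end Side

end Cfsg.Agent.H88.Am
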