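import Cfsg.Agent.H88.GbRank

/-!
The kernel of a vertex on the vertices at distance two.
-/

set_option autoImplicit false
set_option linter.style.haveILetI false

namespace Cfsg.Agent.H88.Am

open Subgroup

variable {G : Type*} [Group G] {P₁ P₂ : Subgroup G}

/-- the part of a core lying in all neighbouring cores -/
def Ker (δ : Vx P₁ P₂) : Subgroup G := Q δ ⊓ ⨅ ν : {ν // Ad δ ν}, Q ν.1

theorem mem_Ker {δ : Vx P₁ P₂} {x : G} : x ∈ Ker δ ↔ x ∈ Q δ ∧ ∀ ν, Ad δ ν → x ∈ Q ν := by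
  simp [Ker, Subgroup.mem_iInf]

theorem Ker_le (δ : Vx P₁ P₂) : Ker δ ≤ Q δ := inf_le_left

namespace C2

variable (h : C2 P₁ P₂)
include h

theorem Ker_conj {δ : Vx P₁ P₂} (g : G) {x : G} (hx : x ∈ Ker δ) : g * x * g⁻¹ ∈ Ker (g • δ) := by
  rw [mem_Ker] at hx ⊢
  refine ⟨h.conj_mem_Q g hx.1, fun ν hν => ?_⟩
  have h1 := H58.smul_adj g⁻¹ hν
  rw [inv_smul_smul] at h1
  simpa using h.conj_mem_Q g (hx.2 _ h1)

theorem S_le_norm_Ker (δ : Vx P₁ P₂) : S δ ≤ normalizer (Ker δ : Set G) := by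
  rw [le_normalizer_iff]
  intro g hg x hx
  have := h.Ker_conj g hx
  rwa [MulAction.mem_stabilizer_iff.1 hg] at this

theorem V_le_Ker (hb : 2 < crit P₁ P₂) (ν : Vx P₁ P₂) : V ν ≤ Ker ν := fun x hx =>
  mem_Ker.2 ⟨h.V_le_Q (by omega) ν hx, fun μ hμ => by
    refine (iSup_le fun ξ => ?_ : V ν ≤ Q μ) hx
    have := h.Z_le_Q_of_path (p := fun i => if i = 0 then ξ.1 else if i = 1 then ν else μ) (n := 2)
      (fun i hi => by
        rcases i with _ | _ | i
        · simpa using ξ.2.symm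
        · simpa using hμ
        · omega) hb
    simpa using this⟩

theorem finKer (δ : Vx P₁ P₂) : Finite (Ker δ) :=
  haveI := h.finQ δ
  Finite.of_injective _ (inclusion_injective (Ker_le δ))

end C2

namespace Side

variable (h : Side P₁ P₂)
include h

/-- a normal subgroup of the core centralised by an element outside it is trivial -/
theorem normal_bot (hR : Rk P₁ P₂) {α β : Vx P₁ P₂} (hA : A α) (hm : Ad α β) {v : G} (hv : v ∈ E α β)
    (hvQ : v ∉ Q α) {W : Subgroup G} (hW : W ≤ Q α) (hn : S α ≤ normalizer (W : Set G))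
    (hc : ∀ x ∈ W, v * x = x * v) : W = ⊥ := by
  by_contra hne
  obtain ⟨β₁, hβ1, hne1⟩ := h.exists_other hm
  obtain ⟨x, hx, hx1, hxZ⟩ := h.exists_fixed hA hβ1 hW hn hne
  refine hvQ (h.cent_Z (h.act hA) hv.1 fun z hz => ?_)
  obtain ⟨a, ha, b, hb, rfl⟩ := h.Z_sup hR hA hm hβ1 hne1.symm hz
  have h1 : v * a = a * v := h.Zb_central ((A_adj hm).1 hA) ha hv.2
  have h2 : v * b = b * v := by
    by_cases hb1 : b = 1
    · rw [hb1, mul_one, one_mul]
    · rw [h.Zb_eq_one hR ((A_adj hβ1).1 hA) hb hxZ hb1 hx1]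
      exact hc x hx
  rw [← mul_assoc, h1, mul_assoc, h2, mul_assoc]

end Side

end Cfsg.Agent.H88.Am
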