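import Cfsg.Agent.H88.AmTwo
import Cfsg.Agent.H88.GbEven
import Cfsg.Agent.H88.GbKer

/-!
Critical length two with one central side: the edge group has order at most 128.
-/

set_option autoImplicit false
set_option linter.style.haveILetI false

namespace Cfsg.Agent.H88.Am

open Subgroup
open scoped commutatorElement

variable {G : Type*} [Group G] {P₁ P₂ : Subgroup G}

namespace Side

variable (h : Side P₁ P₂)
include h

theorem conj_two (hR : Rk P₁ P₂) {α β : Vx P₁ P₂} (hA : A α) (hm : Ad α β) {r : G} (hr : r ∈ Z β)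
    (hr1 : r ≠ 1) {a x : G} (ha : a ∈ E α β) (hx : x ∈ Z α) :
    a * x * a⁻¹ = x ∨ a * x * a⁻¹ = x * r := by
  obtain ⟨z, hz, e, -⟩ := h.transv hR hA hm ha hx
  by_cases hz1 : z = 1
  · left; rw [e, hz1, mul_one]
  · right; rw [e, h.Zb_eq_one hR ((A_adj hm).1 hA) hz hr hz1 hr1]

theorem bound_two (hb : crit P₁ P₂ = 2) : Nat.card ↥(P₁ ⊓ P₂) ≤ 128 := by
  classical
  have he : Even (crit P₁ P₂) := ⟨1, by omega⟩
  have hR := h.even_rank he
  obtain ⟨p, hp⟩ := h.exists_crit
  have hA := h.crit_A hp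
  obtain ⟨u, v, hpr, hr1, hrβ, -⟩ := h.even_pr he hp
  have hA' : A (p (crit P₁ P₂)) := (h.A_iff hp le_rfl).2 he
  rw [hb] at hpr hA'
  simp only [show 2 - 1 = 1 from rfl] at hpr
  have hne : p 0 ≠ p 2 := by
    have := (h.crit_arc hp).2 0 (by omega)
    simpa using this
  generalize p 0 = α at hpr hne hA
  generalize p 1 = β at hpr hrβ
  generalize p 2 = γ at hpr hne hA'
  have h1 : 1 < crit P₁ P₂ := by omega
  set r := ⁅u, v⁆ with hr
  have hm := hpr.adj
  have hba := hm.symm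
  have hbg := hpr.adj'.symm
  have hB : ¬ A β := (A_adj hm).1 hA
  -- the third edge at `β`
  obtain ⟨g, hg, hgQ⟩ := h.exists_not_mem_Q hba
  obtain ⟨k, hk, hkQ⟩ := h.exists_not_mem_Q hbg
  have hgα : g • α = α := hg.2
  have hkγ : k • γ = γ := hk.2
  have hka : k • α = g • γ := by
    rcases h.nbr_cases hba hbg hne.symm hg hgQ (h.adj_smul hba hk.1) with e | e | e
    · exact absurd e (h.not_mem_E hbg hba hne.symm hk hkQ)
    · exact absurd e (h.smul_ne hk hne)
    · exact e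
  have hA2 : A (g • γ) := A_smul.2 hA'
  have hγ'' : Ad (g • γ) β := (h.adj_smul hbg hg.1).symm
  have hX : ¬ Z (g • γ) ≤ Q α := by
    intro hle
    refine hpr.hvQ ?_
    have := (h.mem_Q_smul (δ := α) (g := g) (x := g * v * g⁻¹)).1 (by rw [hgα]; exact hle (h.conj_mem_Z g hpr.hv))
    simpa [mul_assoc] using this
  have hY : ¬ Z (g • γ) ≤ Q γ := by
    intro hle
    refine hpr.huQ ?_
    have := (h.mem_Q_smul (δ := γ) (g := k) (x := k * u * k⁻¹)).1
      (by rw [hkγ]; exact hle (hka ▸ h.conj_mem_Z k hpr.hu))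
    simpa [mul_assoc] using this
  obtain ⟨w, hw, hwA, hwB⟩ := exists_not_mem_two hX hY
  have huQb : u ∈ Q β := h.Z_le_Q_adj hm h1 hpr.hu
  have hvQb : v ∈ Q β := h.Z_le_Q_adj hpr.adj' h1 hpr.hv
  have hwQb : w ∈ Q β := h.Z_le_Q_adj hγ'' h1 hw
  have hwa : w ∈ E α β := E_comm β α ▸ h.Q_le_E hba hwQb
  have hwc : w ∈ E γ β := E_comm β γ ▸ h.Q_le_E hbg hwQb
  have hu2 : u * u = 1 := h.Z_sq hpr.hu
  have hv2 : v * v = 1 := h.Z_sq hpr.hv
  have hw2 : w * w = 1 := h.Z_sq hw
  have hr2 : r * r = 1 := h.Z_sq hrβ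
  have hcomm : ∀ x ∈ Q β, x * r = r * x := fun x hx => h.Zb_central hB hrβ (h.Q_le_S β hx)
  have hvu : v * u * v⁻¹ = r * u := by
    rw [hr, ← Pr.comm_symm h.toC2 hpr, commutatorElement_def]; group
  have hwu : w * u * w⁻¹ = r * u := by
    rw [← hvu]; exact h.act_eq hm hwa hpr.hvE hwA hpr.hvQ hpr.hu
  have hwv : w * v * w⁻¹ = r * v := by
    rw [h.act_eq hpr.adj' hwc hpr.huE hwB hpr.huQ hpr.hv, hr, commutatorElement_def]; group
  obtain ⟨hd2, hdv⟩ := prod_three hu2 hv2 hw2 hr2 (hcomm v hvQb) (hcomm u huQb) (hcomm w hwQb)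
    (by rw [← mul_assoc]; exact mul_inv_eq_iff_eq_mul.1 hvu)
    (by rw [← mul_assoc]; exact mul_inv_eq_iff_eq_mul.1 hwu)
    (by rw [← mul_assoc]; exact mul_inv_eq_iff_eq_mul.1 hwv)
  set d := u * v * w with hd
  have hdb : d ∈ Q β := mul_mem (mul_mem huQb hvQb) hwQb
  have hda : d ∈ Q α := by
    rw [hd, mul_assoc]
    exact mul_mem (h.Z_le_Q α hpr.hu) (h.mul_mem_Q hm hpr.hvE hwa hpr.hvQ hwA)
  -- the other edges at `α`
  obtain ⟨β₁, hβ1, hne1⟩ := h.exists_other hm
  obtain ⟨a₁, ha₁, ha₁β⟩ := H58.exists_smul_eq_of_adj hm hβ1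
  have hvS : v ∈ S α := hpr.hvE.1
  have hstep : ∀ x ∈ Q α ⊓ Q β, x ∈ Q β₁ → x ∈ Q (v • β₁) := by
    intro x hx hx1
    obtain ⟨e, he', hee⟩ := Pr.conj_mem h.toC2 hpr (E_comm β γ ▸ h.Q_le_E hbg hx.2)
    rw [h.mem_Q_smul, inv_eq_of_mul_eq_one_left hv2]
    rw [inv_eq_of_mul_eq_one_left hv2] at hee
    rw [hee]
    exact mul_mem (h.Z_le_Q_adj hβ1 h1 he') hx1
  haveI := h.finQ α
  haveI := h.finKer α
  have hidx : Nat.card (Q α) ≤ 4 * Nat.card (Ker α) := by
    refine (card_le_fibres (H := Q α) (K := Ker α) (fun x => (decide (x ∈ Q β), decide (x ∈ Q β₁))) fun a ha b hb' hab => ?_).trans ?_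
    · simp only [Prod.mk.injEq, decide_eq_decide] at hab
      have h2 := h.inf_Q_cases hm ha hb' hab.1
      have h3 := h.inf_Q_cases hβ1 ha hb' hab.2
      have h4 : a⁻¹ * b ∈ Q α := (Q α).mul_mem ((Q α).inv_mem ha) hb'
      refine mem_Ker.2 ⟨h4, fun ν hν => ?_⟩
      rcases h.nbr_cases hm hβ1 hne1 hpr.hvE hpr.hvQ hν with rfl | rfl | rfl
      exacts [h2, h3, hstep _ ⟨h4, h2⟩ h3]
    · simp
  have hKb : ∀ {x}, x ∈ Ker α → x ∈ Q β := fun hx => (mem_Ker.1 hx).2 β hm
  have hsq : ∀ x ∈ Ker α, x * x = 1 := by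
    have hF : closure {y | ∃ x ∈ Ker α, x * x = y} = ⊥ := by
      refine h.normal_bot hR hA hm hpr.hvE hpr.hvQ ?_ (le_normalizer_closure fun a ha y => ?_) ?_
      · rw [closure_le]; rintro _ ⟨x, hx, rfl⟩; exact mul_mem (Ker_le α hx) (Ker_le α hx)
      · rintro ⟨x, hx, rfl⟩
        exact subset_closure ⟨_, (mem_normalizer_iff.1 (h.S_le_norm_Ker α ha) x).1 hx, by group⟩
      · have : closure {y | ∃ x ∈ Ker α, x * x = y} ≤ centralizer ({v} : Set G) := by
          rw [closure_le]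
          rintro _ ⟨x, hx, rfl⟩
          exact mem_centralizer_singleton_iff.2
            (h.Z_comm hpr.hv (h.sq_mem_Q hpr.adj' (E_comm β γ ▸ h.Q_le_E hbg (hKb hx)))).symm
        exact fun x hx => (mem_centralizer_singleton_iff.1 (this hx)).symm
    exact fun x hx => mem_bot.1 (hF ▸ subset_closure ⟨x, hx, rfl⟩)
  have hd1 : d ∉ Q β₁ ∧ d ∉ Q (v • β₁) := by
    have hdK : d ∉ Ker α := fun hc => hr1 (by rw [← hd2]; exact hsq d hc)
    have hiff : d ∈ Q (v • β₁) ↔ d ∈ Q β₁ := by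
      rw [h.mem_Q_smul, show v⁻¹ * d * v = d by rw [mul_assoc, hdv, inv_mul_cancel_left]]
    have h2 : d ∉ Q β₁ := fun hc => hdK (mem_Ker.2 ⟨hda, fun ν hν => by
      rcases h.nbr_cases hm hβ1 hne1 hpr.hvE hpr.hvQ hν with rfl | rfl | rfl
      exacts [hdb, hc, hiff.2 hc]⟩)
    exact ⟨h2, fun hc => h2 (hiff.1 hc)⟩
  have hd_out : ∀ ν, Ad α ν → ν ≠ β → d ∉ Q ν := fun ν hν hne' => by
    rcases h.nbr_cases hm hβ1 hne1 hpr.hvE hpr.hvQ hν with rfl | rfl | rfl
    exacts [absurd rfl hne', hd1.1, hd1.2]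
  have hKE : ∀ {x}, x ∈ Ker α → x ∈ E γ β := fun hx => E_comm β γ ▸ h.Q_le_E hbg (hKb hx)
  have hKE' : ∀ {x}, x ∈ Ker α → x ∈ E (g • γ) β := fun hx =>
    E_comm β (g • γ) ▸ h.Q_le_E hγ''.symm (hKb hx)
  have hxu : ∀ {x}, x ∈ Ker α → x * u * x⁻¹ = u := fun hx => by
    rw [← h.Z_comm hpr.hu (Ker_le α hx), mul_inv_cancel_right]
  have hxd : ∀ x ∈ Ker α, x * d * x⁻¹ = d ∨ x * d * x⁻¹ = d * r := by
    intro x hx
    have e : x * d * x⁻¹ = (x * u * x⁻¹) * (x * v * x⁻¹) * (x * w * x⁻¹) := by rw [hd]; group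
    rw [e, hxu hx]
    rcases h.conj_two hR hA' hpr.adj' hrβ hr1 (hKE hx) hpr.hv with e1 | e1 <;>
      rcases h.conj_two hR hA2 hγ'' hrβ hr1 (hKE' hx) hw with e2 | e2 <;> rw [e1, e2]
    · exact Or.inl rfl
    · exact Or.inr (by rw [hd]; group)
    · refine Or.inr ?_
      rw [hd, mul_assoc (u * v) w r, hcomm w hwQb]; group
    · refine Or.inl ?_
      rw [hd, show u * (v * r) * (w * r) = u * v * ((r * w) * r) by group, ← hcomm w hwQb,
        show u * v * (w * r * r) = u * v * w * (r * r) by group, hr2, mul_one]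
  -- commuting with `v` and `d` puts an element into all cores at `β`
  have hfull : ∀ x ∈ Ker α, x * v = v * x → x * d = d * x → ∀ ν, Ad β ν → x ∈ Q ν := by
    intro x hx hxv hxd' ν hν
    have hxw : x * w = w * x := by
      have e : w = v⁻¹ * u⁻¹ * d := by rw [hd]; group
      have hxu' : x * u⁻¹ = u⁻¹ * x := (Commute.inv_right (h.Z_comm hpr.hu (Ker_le α hx)).symm).eq
      have hxv' : x * v⁻¹ = v⁻¹ * x := (Commute.inv_right hxv).eq
      rw [e]
      calc x * (v⁻¹ * u⁻¹ * d) = (x * v⁻¹) * u⁻¹ * d := by group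
        _ = v⁻¹ * (x * u⁻¹) * d := by rw [hxv']; group
        _ = v⁻¹ * u⁻¹ * (x * d) := by rw [hxu']; group
        _ = v⁻¹ * u⁻¹ * d * x := by rw [hxd']; group
    rcases h.nbr_cases hba hbg hne.symm hg hgQ hν with rfl | rfl | rfl
    · exact Ker_le _ hx
    · obtain ⟨z, hz, e, ez⟩ := h.transv hR hA' hpr.adj' (hKE hx) hpr.hv
      rw [hxv, mul_inv_cancel_right] at e
      exact (ez (mul_left_cancel (e.symm.trans (mul_one v).symm))).resolve_right fun hc =>
        hpr.hvQ (h.Z_le_Q α (h.Zb_le hB hba hc))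
    · obtain ⟨z, hz, e, ez⟩ := h.transv hR hA2 hγ'' (hKE' hx) hw
      rw [hxw, mul_inv_cancel_right] at e
      exact (ez (mul_left_cancel (e.symm.trans (mul_one w).symm))).resolve_right fun hc =>
        hwA (h.Z_le_Q α (h.Zb_le hB hba hc))
  have h16 : Nat.card (Ker α) ≤ 16 := by
    refine card_le_conj (n := 4) ![v, d, a₁ * v * a₁⁻¹, v * a₁ * v * (v * a₁)⁻¹]
      ![v, d, a₁ * v * a₁⁻¹, v * a₁ * v * (v * a₁)⁻¹]
      ![v * r, d * r, a₁ * (v * r) * a₁⁻¹, v * a₁ * (v * r) * (v * a₁)⁻¹] ?_ ?_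
    · intro x hx i
      have key : ∀ b ∈ S α, x * (b * v * b⁻¹) * x⁻¹ = b * v * b⁻¹ ∨
          x * (b * v * b⁻¹) * x⁻¹ = b * (v * r) * b⁻¹ := by
        intro b hb'
        have hx' : b⁻¹ * x * b ∈ Ker α := by
          simpa using (mem_normalizer_iff.1 (h.S_le_norm_Ker α (inv_mem hb')) x).1 hx
        have e : x * (b * v * b⁻¹) * x⁻¹ = b * ((b⁻¹ * x * b) * v * (b⁻¹ * x * b)⁻¹) * b⁻¹ := by group
        rcases h.conj_two hR hA' hpr.adj' hrβ hr1 (hKE hx') hpr.hv with e1 | e1 <;> rw [e, e1]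
        · exact Or.inl rfl
        · exact Or.inr rfl
      fin_cases i
      · simpa using key 1 (one_mem _)
      · simpa using hxd x hx
      · simpa using key a₁ ha₁
      · simpa using key (v * a₁) ((S α).mul_mem hvS ha₁)
    · intro x hx hc
      have hc0 : x * v = v * x := by simpa using hc 0
      have hc1 : x * d = d * x := by simpa using hc 1
      have hall : ∀ ν, Ad β ν → x ∈ Q ν := hfull x hx hc0 hc1
      have hai : ∀ a ∈ S α, a • β ≠ β → x * (a * v * a⁻¹) = a * v * a⁻¹ * x →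
          ∀ ν, Ad β ν → a⁻¹ * x * a ∈ Q ν := by
        intro a ha hab hxa
        have hx' : a⁻¹ * x * a ∈ Ker α := by
          simpa using (mem_normalizer_iff.1 (h.S_le_norm_Ker α (inv_mem ha)) x).1 hx
        refine hfull _ hx' ?_ ?_
        · calc a⁻¹ * x * a * v = a⁻¹ * (x * (a * v * a⁻¹)) * a := by group
            _ = a⁻¹ * (a * v * a⁻¹ * x) * a := by rw [hxa]
            _ = v * (a⁻¹ * x * a) := by group
        set e := a * d * a⁻¹ with he'
        have heA : e ∈ Q α := (mem_normalizer_iff.1 (h.S_le_norm_Q α ha) d).1 hda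
        have heQ : e ∉ Q β := fun hc' => by
          have hne' : a⁻¹ • β ≠ β := fun e' => hab (inv_smul_eq_iff.1 e').symm
          refine hd_out _ (h.adj_smul hm (MulAction.mem_stabilizer_iff.1 (inv_mem ha))) hne' ?_
          have := h.conj_mem_Q a⁻¹ hc'
          simpa [he', mul_assoc] using this
        have heE : e ∈ E β α := E_comm α β ▸ h.Q_le_E hm heA
        have heγ : e • γ = g • γ := by
          rcases h.nbr_cases hba hbg hne.symm hg hgQ (h.adj_smul hbg heE.1) with e' | e' | e'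
          · exact absurd e' (h.smul_ne heE hne.symm)
          · exact absurd e' (h.not_mem_E hba hbg hne heE heQ)
          · exact e'
        have hxe : x * e * x⁻¹ = e ∨ x * e * x⁻¹ = e * (a * r * a⁻¹) := by
          have q : x * e * x⁻¹ = a * ((a⁻¹ * x * a) * d * (a⁻¹ * x * a)⁻¹) * a⁻¹ := by rw [he']; group
          rcases hxd _ hx' with e1 | e1 <;> rw [q, e1]
          · exact Or.inl rfl
          · exact Or.inr (by rw [he']; group)
        rcases hxe with hxe | hxe
        · calc a⁻¹ * x * a * d = a⁻¹ * ((x * e * x⁻¹) * x) * a := by rw [he']; group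
            _ = a⁻¹ * (e * x) * a := by rw [hxe]
            _ = d * (a⁻¹ * x * a) := by rw [he']; group
        exfalso
        -- the commutator would lie in the core at `γ`
        have hz : a * r * a⁻¹ ∈ Q γ := by
          have h2 : e⁻¹ * x * e ∈ Q γ := h.mem_Q_smul.1 (heγ ▸ hall _ hγ''.symm)
          have h3 : e⁻¹ * x * e = (a * r * a⁻¹) * x := by
            calc e⁻¹ * x * e = e⁻¹ * (x * e * x⁻¹) * x := by group
              _ = (a * r * a⁻¹) * x := by rw [hxe]; group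
          rw [h3] at h2
          exact (Q γ).mul_mem_cancel_right (hall γ hbg) |>.1 h2
        have hzZ : a * r * a⁻¹ ∈ Z (a • β) := h.conj_mem_Z a hrβ
        have hab' : Ad α (a • β) := h.adj_smul hm (MulAction.mem_stabilizer_iff.1 ha)
        refine hpr.hvQ (h.cent_Z (h.act hA) hvS fun y hy => ?_)
        obtain ⟨c, hcb, c', hcb', rfl⟩ := h.Z_sup hR hA hm hab' hab.symm hy
        have h5 : v * c = c * v := h.Zb_central hB hcb hpr.hvE.2
        have h6 : v * c' = c' * v := by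
          by_cases hc'1 : c' = 1
          · rw [hc'1, mul_one, one_mul]
          · have hne2 : a * r * a⁻¹ ≠ 1 := fun e' => hr1 (conj_eq_one_iff.1 e')
            rw [h.Zb_eq_one hR (fun hh => hB (A_smul.1 hh)) hcb' hzZ hc'1 hne2]
            exact h.Z_comm hpr.hv hz
        rw [← mul_assoc, h5, mul_assoc, h6, mul_assoc]
      have hc2 : x * (a₁ * v * a₁⁻¹) = a₁ * v * a₁⁻¹ * x := by simpa using hc 2
      have hc3 : x * (v * a₁ * v * (v * a₁)⁻¹) = v * a₁ * v * (v * a₁)⁻¹ * x := by simpa using hc 3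
      have hb2 : (v * a₁) • β = v • β₁ := by rw [mul_smul, ha₁β]
      have h1' := hai a₁ ha₁ (by rw [ha₁β]; exact hne1) hc2
      have h2' := hai (v * a₁) ((S α).mul_mem hvS ha₁) (by
        rw [hb2]; exact h.smul_ne hpr.hvE hne1) hc3
      set W := closure {y | ∃ b ∈ S α, b * x * b⁻¹ = y}
      have hW : W = ⊥ := by
        refine h.normal_bot hR hA hm hpr.hvE hpr.hvQ ?_ (le_normalizer_closure fun b hb' y => ?_) ?_
        · rw [closure_le]
          rintro _ ⟨b, hb', rfl⟩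
          exact (mem_normalizer_iff.1 (h.S_le_norm_Q α hb') x).1 (Ker_le α hx)
        · rintro ⟨c, hc', rfl⟩
          exact subset_closure ⟨b * c, (S α).mul_mem hb' hc', by group⟩
        · have hle : W ≤ centralizer ({v} : Set G) := by
            rw [closure_le]
            rintro _ ⟨b, hb', rfl⟩
            refine mem_centralizer_singleton_iff.2 ?_
            -- move to the edge `b⁻¹ • β`
            have key : ∀ a ∈ S α, a • β = b⁻¹ • β → (∀ ν, Ad β ν → a⁻¹ * x * a ∈ Q ν) →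
                b * x * b⁻¹ * v = v * (b * x * b⁻¹) := by
              intro a ha hab hx'
              have h7 : (b * a) • β = β := by rw [mul_smul, hab, smul_inv_smul]
              have h8 : b * x * b⁻¹ ∈ Q γ := by
                have e : Ad β ((b * a)⁻¹ • γ) := h.adj_smul hbg (by rw [inv_smul_eq_iff, h7])
                have := h.conj_mem_Q (b * a) (hx' _ e)
                rw [smul_inv_smul, show b * a * (a⁻¹ * x * a) * (b * a)⁻¹ = b * x * b⁻¹ by group] at this
                exact this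
              exact (h.Z_comm hpr.hv h8).symm
            rcases h.nbr_cases hm hβ1 hne1 hpr.hvE hpr.hvQ
              (h.adj_smul hm (MulAction.mem_stabilizer_iff.1 (inv_mem hb'))) with e | e | e
            · exact key 1 (one_mem _) (by rw [one_smul, e]) (by simpa using hall)
            · exact key a₁ ha₁ (by rw [ha₁β, e]) h1'
            · exact key (v * a₁) ((S α).mul_mem hvS ha₁) (by rw [hb2, e]) h2'
          exact fun y hy => (mem_centralizer_singleton_iff.1 (hle hy)).symm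
      exact mem_bot.1 (hW ▸ subset_closure ⟨1, one_mem _, by group⟩)
  exact h.card_le_of_Q (δ := α) (by omega)

end Side

end Cfsg.Agent.H88.Am
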