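import Cfsg.Agent.H88.AmLong
import Cfsg.Agent.H88.AmOne
import Cfsg.Agent.H88.GbOne
import Cfsg.Agent.H88.GbTwo
import Cfsg.Agent.H88.GbThreeBound

/-!
The bound on the edge group of a faithful cubic pair.
-/

set_option autoImplicit false
set_option linter.style.haveILetI false

namespace Cfsg.Agent.H88.Am

open Subgroup

variable {G : Type*} [Group G] {P₁ P₂ : Subgroup G}

theorem Cub.swap (h : Cub P₁ P₂) : Cub P₂ P₁ := by
  refine ⟨⟨by rw [sup_comm]; exact h.amal.1, h.amal.2.2.1, h.amal.2.1,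
    fun N hN => h.amal.2.2.2 N (by rwa [inf_comm])⟩, h.fin₂, h.fin₁, h.six₂, h.six₁, ?_, ?_⟩
  · rw [inf_comm]; exact h.syl₂
  · rw [inf_comm]; exact h.syl₁

/-- both residual centralisers small gives characteristic two -/
theorem Cub.to_C2 (h : Cub P₁ P₂) (c₁ : centralizer (Cfsg.pCore 2 P₁ : Set P₁) ≤ Cfsg.pCore 2 P₁)
    (c₂ : centralizer (Cfsg.pCore 2 P₂ : Set P₂) ≤ Cfsg.pCore 2 P₂) : C2 P₁ P₂ := by
  haveI := h.fin₁
  haveI := h.fin₂
  haveI : Fact (Nat.Prime 2) := ⟨Nat.prime_two⟩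
  haveI : Finite ↥(P₁ ⊓ P₂) := Finite.of_injective _ (inclusion_injective inf_le_left)
  refine { toCub := h, ch := ⟨h.amal, h.fin₁, h.fin₂, ?_, ?_, fun S R₁ R₂ => ?_, c₁, c₂⟩ }
  · rw [h.six₁]; exact Dvd.intro _ (by ring : 2 * (3 * Nat.card (Cfsg.pCoreOf 2 P₁)) = _)
  · rw [h.six₂]; exact Dvd.intro _ (by ring : 2 * (3 * Nat.card (Cfsg.pCoreOf 2 P₂)) = _)
  · rw [S.card_eq_multiplicity, R₁.card_eq_multiplicity, R₂.card_eq_multiplicity, h.syl₁.2,
      Nat.Prime.factorization_pow Nat.prime_two, Finsupp.single_eq_same]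
    exact ⟨rfl, h.syl₁.2.symm.trans h.syl₂.2⟩

namespace Side

variable (h : Side P₁ P₂)
include h

theorem bound : Nat.card ↥(P₁ ⊓ P₂) ≤ 128 := by
  have hpos := h.crit_pos
  rcases Nat.even_or_odd (crit P₁ P₂) with he | ho
  · exact h.bound_two (h.even_two he)
  · by_cases h1 : crit P₁ P₂ = 1
    · exact (h.bound_one h1).trans (by norm_num)
    · have h5 := h.odd_le_five ho
      by_cases hb5 : crit P₁ P₂ = 5
      · exact (h.five_false hb5).elim
      · refine h.bound_three ?_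
        obtain ⟨m, hm⟩ := ho
        omega

end Side

theorem C2.bound (h : C2 P₁ P₂) (h' : C2 P₂ P₁) : Nat.card ↥(P₁ ⊓ P₂) ≤ 128 := by
  haveI : Fact (Nat.Prime 2) := ⟨Nat.prime_two⟩
  haveI := h.fin₁
  haveI : Finite ↥(P₁ ⊓ P₂) := Finite.of_injective _ (inclusion_injective inf_le_left)
  by_cases n1 : P₁ ≤ centralizer (H58.omegaCenter 2 (P₁ ⊓ P₂) : Set G) <;>
    by_cases n2 : P₂ ≤ centralizer (H58.omegaCenter 2 (P₁ ⊓ P₂) : Set G)
  · -- both centralise it
    by_contra hlt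
    haveI : Nontrivial ↥(P₁ ⊓ P₂) := Finite.one_lt_card_iff_nontrivial.1 (by omega)
    obtain ⟨z, -, hzc, hoz⟩ := PGroups.exists_mem_center_orderOf_eq (h.syl₁.isPGroup)
      (⊤ : Subgroup ↥(P₁ ⊓ P₂)) top_ne_bot
    set W := H58.omegaCenter 2 (P₁ ⊓ P₂) with hW
    have hzW : (z : G) ∈ W := by
      refine H58.mem_omegaCenter_of z.2 (fun t ht => congrArg Subtype.val
        (Subgroup.mem_center_iff.1 hzc ⟨t, ht⟩)) ?_
      have := congrArg Subtype.val (hoz ▸ pow_orderOf_eq_one z)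
      simpa using this
    have hn : ∀ {P : Subgroup G}, P ≤ centralizer (W : Set G) → P ≤ normalizer (W : Set G) := fun hP g hg =>
      Subgroup.centralizer_le_normalizer _ (hP hg)
    have hWle : W ≤ P₁ ⊓ P₂ := (H58.omegaCenter_le _).trans inf_le_left
    have hWn : W.Normal := by
      refine normalizer_eq_top_iff.1 (top_le_iff.1 ?_)
      rw [← h.amal.1]
      exact sup_le (hn n1) (hn n2)
    have := h.amal.2.2.2 W hWle hWn
    rw [this, mem_bot] at hzW
    rw [show z = 1 from Subtype.ext hzW, orderOf_one] at hoz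
    omega
  · have hs : Side P₂ P₁ := { toC2 := h', nc₁ := by rwa [inf_comm], c₂ := by rwa [inf_comm] }
    rw [inf_comm]
    exact hs.bound
  · exact Side.bound { toC2 := h, nc₁ := n1, c₂ := n2 }
  · have hh : Hyp P₁ P₂ := { toC2 := h, nc₁ := n1, nc₂ := n2 }
    obtain ⟨p, hp⟩ := h.exists_crit
    obtain ⟨u, v, hpr⟩ := Crit.exists_pr h hp (hh.act _)
    rw [crit_eq_one hh] at hpr
    simp only [Nat.sub_self] at hpr
    have e1 := One.card_Q hh hpr
    have e2 := One.card_D hh hpr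
    obtain ⟨-, e3⟩ := One.card_cases hh hpr
    exact h.toCub.card_le_of_Q (δ := p 0) (by omega)

theorem Cub.bound (h : Cub P₁ P₂) : Nat.card ↥(P₁ ⊓ P₂) ≤ 128 := by
  haveI : Fact (Nat.Prime 2) := ⟨Nat.prime_two⟩
  have key : ∀ (δ : Vx P₁ P₂) (P : Subgroup G), S δ = P →
      Nat.card ↥(P₁ ⊓ P₂) ≤ 128 ∨ centralizer (Cfsg.pCore 2 P : Set P) ≤ Cfsg.pCore 2 P := by
    intro δ P hδ
    subst hδ
    by_cases hc : S δ ⊓ centralizer (Q δ : Set G) ≤ Q δ
    · refine Or.inr fun m hm => ?_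
      have hq : (m : G) ∈ Q δ := hc ⟨m.2, mem_centralizer_iff.2 fun q hq => by
        obtain ⟨q', hq', rfl⟩ := hq
        exact congrArg Subtype.val (mem_centralizer_iff.1 hm q' hq')⟩
      obtain ⟨m', hm', he⟩ := hq
      rwa [← Subtype.ext he]
    · exact Or.inl ((h.le_sixteen_of_cent hc).trans (by norm_num))
  have s1 : S (Sum.inl ((1 : G) : G ⧸ P₁) : Vx P₁ P₂) = P₁ := by
    rw [S, H58.stabilizer_inl]; ext x; rw [H58.mem_map_conj]; simp
  have s2 : S (Sum.inr ((1 : G) : G ⧸ P₂) : Vx P₁ P₂) = P₂ := by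
    rw [S, H58.stabilizer_inr]; ext x; rw [H58.mem_map_conj]; simp
  rcases key _ P₁ s1 with hb | c₁
  · exact hb
  rcases key _ P₂ s2 with hb | c₂
  · exact hb
  exact (h.to_C2 c₁ c₂).bound (h.swap.to_C2 c₂ c₁)

end Cfsg.Agent.H88.Am
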