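import Cfsg.Agent.H88.GbNat

/-!
The join of the neighbouring centres at a central vertex is covered by these centres.
-/

set_option autoImplicit false
set_option linter.style.haveILetI false

namespace Cfsg.Agent.H88.Am

open Subgroup

variable {G : Type*} [Group G] {P₁ P₂ : Subgroup G}

namespace Side

variable (h : Side P₁ P₂) (ho : Odd (crit P₁ P₂)) (hb : 3 ≤ crit P₁ P₂)
include h ho hb

theorem V_split_and_cover {β α : Vx P₁ P₂} (hB : ¬ A β) (hm : Ad β α) :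
    (∀ x ∈ V β, ∀ y ∈ V β, x ∉ Z α → y ∉ Z α → x⁻¹ * y ∈ Z α) ∧
      ∀ x ∈ V β, ∃ ν, Ad β ν ∧ x ∈ Z ν := by
  have hR := h.odd_rank ho hb
  obtain ⟨p, hp⟩ := h.exists_crit
  obtain ⟨γ, u, w, k⟩ := h.exists_bk hp ho hb
  have hA0 := h.crit_A hp
  have hB1 := h.bk_B1 k
  have h12 : Ad (p 1) (p 2) := hp.1 1 (by omega)
  have h10 : Ad (p 1) (p 0) := (hp.1 0 (by omega)).symm
  have hα2 : Ad (p 1) (w • p 0) := h.adj_smul h10 (h.bk_hwE k).1
  have hnat := h.bk_nat k hR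
  have ha := h.bk_a_notin k
  have haeq := h.bk_a_eq k
  obtain ⟨huV, hv, hvV⟩ := h.bk_uV k
  set v := w * u * w⁻¹ with hvdef
  set a := u * w * u * w with hadef
  have hu2 := h.Z_sq k.hu
  have hua : u * a = v := by rw [haeq, ← mul_assoc, hu2, one_mul]
  have hcomm : ∀ {x y}, x ∈ V (p 1) → y ∈ V (p 1) → x * y = y * x := fun hx hy => h.V_comm (by omega) hx hy
  have hzV : ∀ {x}, x ∈ Z (p 2) → x ∈ V (p 1) := fun hx => Z_le_V h12 hx
  let X : Subgroup G :=
    { carrier := {x | x ∈ V (p 1) ∧ (x ∈ Z (p 2) ∨ u * x ∈ Z (p 2))}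
      one_mem' := ⟨one_mem _, Or.inl (one_mem _)⟩
      mul_mem' := fun {x y} hx hy => ⟨mul_mem hx.1 hy.1, by
        rcases hx.2 with hx' | hx' <;> rcases hy.2 with hy' | hy'
        · exact Or.inl (mul_mem hx' hy')
        · refine Or.inr ?_
          rw [← mul_assoc, hcomm huV hx.1, mul_assoc]
          exact mul_mem hx' hy'
        · refine Or.inr ?_
          rw [← mul_assoc]
          exact mul_mem hx' hy'
        · refine Or.inl ?_
          have := mul_mem hx' hy'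
          rwa [hcomm huV hx.1, show x * u * (u * y) = x * (u * u) * y by group, hu2, mul_one] at this⟩
      inv_mem' := fun {x} hx => by
        rw [inv_eq_of_mul_eq_one_left (h.V_sq (by omega) hx.1)]; exact hx }
  have hXgen : V (p 1) ≤ X := by
    refine iSup_le fun ν y hy => ⟨Z_le_V ν.2 hy, ?_⟩
    rcases h.three h12 h10 hα2 ((h.crit_arc hp).2 0 (by omega)) (h.bk_ne2 k) (h.bk_ne0 k) ν.2
      with e | e | e <;> rw [e] at hy
    · exact Or.inl hy
    · by_cases hy1 : y ∈ Z (p 1)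
      · exact Or.inl (h.Zb_le hB1 h12 hy1)
      · refine Or.inr ?_
        have := h.za_index hR hA0 h10.symm k.hu hy (h.bk_u_notin k) hy1
        rw [h.Z_inv k.hu] at this
        exact h.Zb_le hB1 h12 this
    · by_cases hy1 : y ∈ Z (p 1)
      · exact Or.inl (h.Zb_le hB1 h12 hy1)
      · refine Or.inr ?_
        have := h.za_index hR (by rw [A_smul]; exact hA0) hα2.symm hv hy (h.bk_v_notin k) hy1
        rw [show u * y = u * v * (v⁻¹ * y) by group, ← haeq]
        exact mul_mem hnat (h.Zb_le hB1 h12 this)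
  have hsplit : ∀ x ∈ V (p 1), ∀ y ∈ V (p 1), x ∉ Z (p 2) → y ∉ Z (p 2) → x⁻¹ * y ∈ Z (p 2) := by
    intro x hx y hy hx2 hy2
    have h1 := (hXgen hx).2.resolve_left hx2
    have h2 := (hXgen hy).2.resolve_left hy2
    have := mul_mem (inv_mem h1) h2
    rwa [show (u * x)⁻¹ * (u * y) = x⁻¹ * y by group] at this
  have hcover : ∀ x ∈ V (p 1), ∃ ν, Ad (p 1) ν ∧ x ∈ Z ν := by
    intro x hx
    rcases (hXgen hx).2 with h1 | h1
    · exact ⟨_, h12, h1⟩
    have hxe : x = u * (u * x) := by rw [← mul_assoc, hu2, one_mul]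
    by_cases h2 : u * x ∈ Z (p 1)
    · refine ⟨_, h10, ?_⟩
      rw [hxe]
      exact mul_mem k.hu (h.Zb_le hB1 h10 h2)
    · have h3 := h.za_index hR ((A_adj h12.symm).2 hB1) h12.symm hnat h1 ha h2
      refine ⟨_, hα2, ?_⟩
      rw [hxe, ← mul_inv_cancel_left a (u * x), ← mul_assoc, hua]
      exact mul_mem hv (h.Zb_le hB1 hα2 h3)
  -- transport along an automorphism of the graph
  obtain ⟨g₀, hg₀⟩ := exists_smul_of_iff (δ := p 1) (μ := β) (iff_of_false hB1 hB)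
  have hm' : Ad (p 1) (g₀⁻¹ • α) := by
    have := H58.smul_adj g₀⁻¹ hm
    rwa [← hg₀, inv_smul_smul] at this
  obtain ⟨s, hs, hsp⟩ := H58.exists_smul_eq_of_adj h12 hm'
  set g := g₀ * s with hg
  have g1 : g • p 1 = β := by rw [hg, mul_smul, MulAction.mem_stabilizer_iff.1 hs, hg₀]
  have g2 : g • p 2 = α := by rw [hg, mul_smul, hsp, smul_inv_smul]
  have hback : ∀ {x}, x ∈ V β → g⁻¹ * x * g ∈ V (p 1) := fun hx => by
    have := h.conj_mem_V g⁻¹ hx
    rwa [inv_inv, inv_smul_eq_iff.2 g1.symm] at this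
  have hzback : ∀ {x}, g⁻¹ * x * g ∈ Z (p 2) ↔ x ∈ Z α := fun {x} => by
    constructor <;> intro hx
    · have := h.conj_mem_Z g hx
      rwa [g2, show g * (g⁻¹ * x * g) * g⁻¹ = x by group] at this
    · have := h.conj_mem_Z g⁻¹ hx
      rwa [inv_inv, inv_smul_eq_iff.2 g2.symm] at this
  refine ⟨fun x hx y hy hxn hyn => ?_, fun x hx => ?_⟩
  · refine hzback.1 ?_
    have := hsplit _ (hback hx) _ (hback hy) (mt hzback.1 hxn) (mt hzback.1 hyn)
    rwa [show g⁻¹ * (x⁻¹ * y) * g = (g⁻¹ * x * g)⁻¹ * (g⁻¹ * y * g) by group]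
  · obtain ⟨ν, hν, hxν⟩ := hcover _ (hback hx)
    refine ⟨g • ν, g1 ▸ H58.smul_adj g hν, ?_⟩
    have := h.conj_mem_Z g hxν
    rwa [show g * (g⁻¹ * x * g) * g⁻¹ = x by group] at this

theorem V_split {β α : Vx P₁ P₂} (hB : ¬ A β) (hm : Ad β α) {x y : G} (hx : x ∈ V β) (hy : y ∈ V β)
    (hxn : x ∉ Z α) (hyn : y ∉ Z α) : x⁻¹ * y ∈ Z α :=
  (h.V_split_and_cover ho hb hB hm).1 x hx y hy hxn hyn

theorem V_cases {β : Vx P₁ P₂} (hB : ¬ A β) {x : G} (hx : x ∈ V β) : ∃ ν, Ad β ν ∧ x ∈ Z ν := by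
  obtain ⟨α, hm⟩ := H58.exists_adj β
  exact (h.V_split_and_cover ho hb hB hm).2 x hx

/-- an element fixed by an outer element of an edge lies in the centre at that edge -/
theorem V_fix_edge {β α : Vx P₁ P₂} (hB : ¬ A β) (hm : Ad β α) {t x : G} (ht : t ∈ E β α) (htQ : t ∉ Q β)
    (hx : x ∈ V β) (hc : t * x = x * t) : x ∈ Z α := by
  obtain ⟨ν, hν, hxν⟩ := h.V_cases ho hb hB hx
  by_cases e : ν = α
  · exact e ▸ hxν
  refine h.Zb_le hB hm (h.sib_inter (by omega) hB hν (h.adj_smul hν ht.1)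
    (h.not_mem_E hm hν (fun e' => e e'.symm) ht htQ) hxν ?_)
  have := h.conj_mem_Z t hxν
  rwa [hc, mul_inv_cancel_right] at this

/-- an element fixed by one moving all neighbours is central -/
theorem V_fix_cycle {β : Vx P₁ P₂} (hB : ¬ A β) {σ x : G} (hσ : σ ∈ S β)
    (hmove : ∀ ν, Ad β ν → σ • ν ≠ ν) (hx : x ∈ V β) (hc : σ * x = x * σ) : x ∈ Z β := by
  obtain ⟨ν, hν, hxν⟩ := h.V_cases ho hb hB hx
  refine h.sib_inter (by omega) hB hν (h.adj_smul hν hσ) (hmove ν hν) hxν ?_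
  have := h.conj_mem_Z σ hxν
  rwa [hc, mul_inv_cancel_right] at this

end Side

namespace Cub

variable (h : Cub P₁ P₂)
include h

/-- an element of order three moving one neighbour moves all three -/
theorem move_all {δ μ : Vx P₁ P₂} (hm : Ad δ μ) {σ : G} (hσ : σ ∈ S δ) (h3 : σ ^ 3 = 1)
    (hne : σ • μ ≠ μ) : ∀ ν, Ad δ ν → σ • ν ≠ ν := by
  intro ν hν e
  have hμν : μ ≠ ν := fun e' => hne (by rw [e']; exact e)
  have hm1 : Ad δ (σ • μ) := h.adj_smul hm hσ
  have hm2 : Ad δ (σ • σ • μ) := h.adj_smul hm1 hσ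
  have n1 : σ • μ ≠ ν := fun e' => hμν (smul_left_cancel σ (e'.trans e.symm))
  have n2 : σ • σ • μ ≠ ν := fun e' => n1 (smul_left_cancel σ (e'.trans e.symm))
  rcases h.three hν hm hm1 hμν n1 hne hm2 with e' | e' | e'
  · exact n2 e'
  · refine hne ?_
    conv_rhs => rw [← one_smul G μ, ← h3, pow_succ, pow_two, mul_smul, mul_smul]
    rw [smul_comm_aux e']
  · exact hne (smul_left_cancel σ e')
where
  smul_comm_aux {μ : Vx P₁ P₂} {σ : G} (e : σ • σ • μ = μ) : σ • σ • σ • μ = σ • μ := by rw [e]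

end Cub

end Cfsg.Agent.H88.Am
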