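import Cfsg.Agent.H88.AmTwo
import Cfsg.Agent.H88.GbNatural

/-!
The critical length is not five.
-/

set_option autoImplicit false
set_option linter.style.haveILetI false

namespace Cfsg.Agent.H88.Am

open Subgroup

variable {G : Type*} [Group G] {P₁ P₂ : Subgroup G}

/-- the part of the kernel centralising the joins at distance two -/
def L (β : Vx P₁ P₂) : Subgroup G :=
  Ker β ⊓ ⨅ α : {α // Ad β α}, ⨅ ν : {ν // Ad α.1 ν}, centralizer (V ν.1 : Set G)

theorem mem_L {β : Vx P₁ P₂} {x : G} :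
    x ∈ L β ↔ x ∈ Ker β ∧ ∀ α ν, Ad β α → Ad α ν → ∀ y ∈ V ν, x * y = y * x := by
  simp only [L, Subgroup.mem_inf, Subgroup.mem_iInf, mem_centralizer_iff, SetLike.mem_coe, Subtype.forall]
  exact ⟨fun hx => ⟨hx.1, fun α ν ha hn y hy => (hx.2 α ha ν hn y hy).symm⟩,
    fun hx => ⟨hx.1, fun α ha ν hn y hy => (hx.2 α ν ha hn y hy).symm⟩⟩

/-- an element at distance two outside the centre -/
def Out (β α : Vx P₁ P₂) (x : G) : Prop :=
  ∃ ν ε, Ad β α ∧ Ad α ν ∧ ν ≠ β ∧ Ad ν ε ∧ ε ≠ α ∧ x ∈ Z ε ∧ x ∉ Z ν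

/-- an element of order three splitting the subgroup `L` -/
structure Sg (β : Vx P₁ P₂) (σ w : G) : Prop where
  mem : σ ∈ S β
  cube : σ ^ 3 = 1
  move : ∀ ν, Ad β ν → σ • ν ≠ ν
  split : ∀ x ∈ L β, ∃ n ∈ L β, ∃ v ∈ V β, x = n * v ∧ σ * n = n * σ
  comm : ∀ n ∈ L β, σ * n = n * σ → w * n = n * w

theorem Arc.single (δ : Vx P₁ P₂) : Arc 0 (fun _ => δ) :=
  ⟨fun i hi => absurd hi (by omega), fun i hi => absurd hi (by omega)⟩

namespace C2

variable (h : C2 P₁ P₂)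
include h

theorem L_conj {β : Vx P₁ P₂} (g : G) {x : G} (hx : x ∈ L β) : g * x * g⁻¹ ∈ L (g • β) := by
  rw [mem_L] at hx ⊢
  refine ⟨h.Ker_conj g hx.1, fun α ν hα hν y hy => ?_⟩
  have h1 := H58.smul_adj g⁻¹ hα
  rw [inv_smul_smul] at h1
  have h2 := hx.2 _ _ h1 (H58.smul_adj g⁻¹ hν) _ (h.conj_mem_V g⁻¹ hy)
  rw [inv_inv] at h2
  calc g * x * g⁻¹ * y = g * (x * (g⁻¹ * y * g)) * g⁻¹ := by group
    _ = g * (g⁻¹ * y * g * x) * g⁻¹ := by rw [h2]
    _ = y * (g * x * g⁻¹) := by group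

theorem S_le_norm_L (β : Vx P₁ P₂) : S β ≤ normalizer (L β : Set G) := by
  rw [le_normalizer_iff]
  intro g hg x hx
  have := h.L_conj g hx
  rwa [MulAction.mem_stabilizer_iff.1 hg] at this

theorem conj_mem_Z_iff {δ : Vx P₁ P₂} {g x : G} : g * x * g⁻¹ ∈ Z (g • δ) ↔ x ∈ Z δ := by
  refine ⟨fun hx => ?_, h.conj_mem_Z g⟩
  have := h.conj_mem_Z g⁻¹ hx
  rw [inv_smul_smul] at this
  simpa [mul_assoc] using this

theorem out_conj {β α : Vx P₁ P₂} {x : G} (g : G) (hx : Out β α x) :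
    Out (g • β) (g • α) (g * x * g⁻¹) := by
  obtain ⟨ν, ε, h1, h2, h3, h4, h5, h6, h7⟩ := hx
  exact ⟨g • ν, g • ε, H58.smul_adj g h1, H58.smul_adj g h2, fun e => h3 (smul_left_cancel g e),
    H58.smul_adj g h4, fun e => h5 (smul_left_cancel g e), h.conj_mem_Z g h6,
    fun hc => h7 (h.conj_mem_Z_iff.1 hc)⟩

theorem Q_of_comm_aux {α : Vx P₁ P₂} (hA : Act α) {x : G} (hfix : x • α = α)
    (hc : ∀ z ∈ Z α, x * z = z * x) : x ∈ Q α :=
  h.cent_Z hA (MulAction.mem_stabilizer_iff.2 hfix) hc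

end C2

namespace Side

variable (h : Side P₁ P₂)
include h

theorem Q_of_comm {β α : Vx P₁ P₂} (hB : ¬ A β) (hm : Ad β α) {x : G} (hx : x ∈ S β)
    (hc : ∀ z ∈ Z α, x * z = z * x) : x ∈ Q α := by
  refine h.Q_of_comm_aux (h.act ((A_adj hm.symm).2 hB)) ?_ hc
  by_contra hne
  refine h.Z_ne hB (h.adj_smul hm hx) hm hne (le_antisymm (fun z hz => ?_) fun z hz => ?_)
  · have h1 := h.conj_mem_Z x⁻¹ hz
    rw [inv_smul_smul, inv_inv] at h1
    have h2 := hc _ h1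
    have h3 : z = x⁻¹ * z * x := by
      calc z = x * (x⁻¹ * z * x) * x⁻¹ := by group
        _ = x⁻¹ * z * x := by rw [h2, mul_inv_cancel_right]
    rwa [← h3] at h1
  · have := h.conj_mem_Z x hz
    rwa [hc z hz, mul_inv_cancel_right] at this

section

variable (hb5 : crit P₁ P₂ = 5)
include hb5

theorem odd_five : Odd (crit P₁ P₂) := ⟨2, by omega⟩

theorem five_crit {q : ℕ → Vx P₁ P₂} (hq : Arc 5 q) (hA : A (q 0)) : Crit q := by
  have ho := h.odd_five hb5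
  obtain ⟨p, hp⟩ := h.exists_crit
  obtain ⟨γ, u, w, k⟩ := h.exists_bk hp ho (by omega)
  have hpa := h.crit_arc hp
  have h12 : Ad (p 1) (p 2) := hp.1 1 (by omega)
  have h23 : Ad (p 2) (p 3) := hp.1 2 (by omega)
  have h34 : Ad (p 3) (p 4) := hp.1 3 (by omega)
  have hB3 : ¬ A (p 3) := by rw [h.A_iff hp (by omega)]; decide
  obtain ⟨y, hy3, hy2, hy4⟩ := h.not_flat (by omega) hB3 h23.symm h34 (hpa.2 2 (by omega)).symm
  have hwQ : ∀ i, 2 ≤ i → i ≤ 4 → w ∈ Q (p i) := fun i h2 h4 => by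
    have := h.Z_le_Q_of_path ((h.bk_crit k).1.mono (m := 6 - i) (by omega)) (by omega)
    rw [rv_zero, rv_of_pos p γ (j := i) (by omega) (by omega)] at this
    exact this k.hw
  obtain ⟨m, hm1, hm2, hm3, hm4⟩ : ∃ m, m ∈ Q (p 1) ∧ m ∈ Q (p 2) ∧ m ∈ Q (p 3) ∧ m ∉ Q (p 4) := by
    by_cases hy1 : y ∈ Q (p 1)
    · exact ⟨y, hy1, hy2, hy3, hy4⟩
    · exact ⟨y * w, h.mul_mem_Q h12 (h.Q_mem_E h12.symm hy2) (h.bk_hwE k) hy1 k.hwQ,
        mul_mem hy2 (hwQ 2 le_rfl (by omega)), mul_mem hy3 (hwQ 3 (by omega) (by omega)),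
        fun hc => hy4 (((Q (p 4)).mul_mem_cancel_right (hwQ 4 (by omega) le_rfl)).1 hc)⟩
  have hmv : Mv 4 p m := by
    refine ⟨fun i hi => ?_, hm4⟩
    rcases i with _ | _ | _ | _ | _ | i
    · exact MulAction.mem_stabilizer_iff.1 (h.Q_le_E (hp.1 0 (by omega)).symm hm1).2
    · exact MulAction.mem_stabilizer_iff.1 (h.Q_le_S _ hm1)
    · exact MulAction.mem_stabilizer_iff.1 (h.Q_le_S _ hm2)
    · exact MulAction.mem_stabilizer_iff.1 (h.Q_le_S _ hm3)
    · exact MulAction.mem_stabilizer_iff.1 (h.Q_le_E h34 hm3).2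
    · omega
  obtain ⟨g, hg⟩ := h.arc_trans (k := 5) ((h.crit_arc hp).mono (m := 4) (by omega)) hmv
    ((h.A_iff hp (by omega)).2 ⟨2, rfl⟩) hpa (h.mover_of_crit hp k.hu k.huQ)
    (by rw [h.A_iff hp le_rfl]; exact Nat.not_even_iff_odd.2 ho) (by omega) (by omega) 5 le_rfl p q
    (by rw [← hb5]; exact hpa) hq (iff_of_true (h.crit_A hp) hA)
  exact h.crit_of_trans hp (by rw [hb5]; exact hq.1) (by rw [hb5]; exact hg)

theorem out_mover {q : ℕ → Vx P₁ P₂} (hq : Arc 5 q) (hA : A (q 0)) {s : G} (hs : s ∈ Z (q 0))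
    (hsn : s ∉ Z (q 1)) : s ∉ Q (q 5) := by
  have hR := h.odd_rank (h.odd_five hb5) (by omega)
  have hc := h.five_crit hb5 hq hA
  obtain ⟨c, hc', hcQ⟩ := SetLike.not_le_iff_exists.1 hc.2
  rw [hb5] at hcQ
  have h15 : Z (q 1) ≤ Q (q 5) := by
    have := h.Z_le_Q_of_path (p := fun i => q (1 + i)) (n := 4) (fun i hi => hq.1 (1 + i) (by omega)) (by omega)
    simpa using this
  have hcn : c ∉ Z (q 1) := fun hh => hcQ (h15 hh)
  have := h15 (h.za_index hR hA (hq.1 0 (by omega)) hc' hs hcn hsn)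
  intro hsQ
  exact hcQ (inv_mem_iff.1 (((Q (q 5)).mul_mem_cancel_right hsQ).1 this))

theorem six_bk {q : ℕ → Vx P₁ P₂} (hq : Arc 6 q) (hA : A (q 0)) {s t : G} (hs : s ∈ Z (q 0))
    (hsn : s ∉ Z (q 1)) (ht : t ∈ Z (q 6)) (htn : t ∉ Z (q 5)) : Bk q (q 6) s t := by
  have hA6 : A (q 6) := by
    rw [parity hq.1 6 le_rfl]
    exact iff_of_true hA ⟨3, rfl⟩
  refine ⟨h.five_crit hb5 (hq.mono (by omega)) hA, h.odd_five hb5, by omega, ?_, ?_, hs, ?_, ht, ?_⟩
  · rw [hb5]; exact hq.1 5 (by omega)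
  · rw [hb5]; exact (hq.2 4 (by omega)).symm
  · rw [hb5]; exact h.out_mover hb5 (hq.mono (by omega)) hA hs hsn
  · exact h.out_mover hb5 (hq.rev.mono (by omega)) hA6 ht htn

theorem six {q : ℕ → Vx P₁ P₂} (hq : Arc 6 q) (hA : A (q 0)) {s t z : G} (hs : s ∈ Z (q 0))
    (hsn : s ∉ Z (q 1)) (ht : t ∈ Z (q 6)) (htn : t ∉ Z (q 5)) (hz : z ∈ Z (q 3)) (hz1 : z ≠ 1) :
    s * t * s⁻¹ * t⁻¹ = z := by
  have k := h.six_bk hb5 hq hA hs hsn ht htn
  have hR := h.odd_rank (h.odd_five hb5) (by omega)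
  have h3 := h.bk_mem_left k hR (by omega)
  rw [hb5] at h3
  rw [h.Z_inv hs, h.Z_inv ht]
  refine h.Zb_eq_one hR ?_ h3 hz (fun e => h.bk_a_notin k (e ▸ one_mem _)) hz1
  rw [parity hq.1 3 (by omega)]
  exact fun hh => absurd (hh.1 hA) (by decide)

theorem out_same {β α : Vx P₁ P₂} {x y : G} (hx : Out β α x) (hy : Out β α y) : x * y = y * x := by
  obtain ⟨ν, ε, h1, h2, h3, h4, h5, h6, -⟩ := hx
  obtain ⟨ν', ε', k1, k2, k3, k4, k5, k6, -⟩ := hy
  have hP : Pth 4 (cons ε (cons ν (cons α (cons ν' fun _ => ε')))) := by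
    intro i hi
    rcases i with _ | _ | _ | _ | i
    · simpa using h4.symm
    · simpa using h2.symm
    · simpa using k2
    · simpa using k4
    · omega
  have := h.Z_le_Q_of_path hP (by omega)
  simp [cons] at this
  exact (h.Z_comm k6 (this h6)).symm

theorem out_diff {β α α' : Vx P₁ P₂} (hB : ¬ A β) {x y z : G} (hx : Out β α x) (hy : Out β α' y)
    (hne : α ≠ α') (hz : z ∈ Z β) (hz1 : z ≠ 1) : x * y * x⁻¹ * y⁻¹ = z := by
  obtain ⟨ν, ε, h1, h2, h3, h4, h5, h6, h7⟩ := hx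
  obtain ⟨ν', ε', k1, k2, k3, k4, k5, k6, k7⟩ := hy
  have hq : Arc 6 (cons ε (cons ν (cons α (cons β (cons α' (cons ν' fun _ => ε')))))) := by
    refine Arc.cons (Arc.cons (Arc.cons (Arc.cons (Arc.cons (Arc.cons (Arc.single ε') k4.symm ?_)
      (by simpa using k2.symm) ?_) (by simpa using k1.symm) ?_) (by simpa using h1) ?_)
      (by simpa using h2) ?_) (by simpa using h4) ?_
    · exact fun hh => absurd hh (by omega)
    · exact fun _ => by simpa using k5.symm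
    · exact fun _ => by simpa using k3.symm
    · exact fun _ => by simpa using hne
    · exact fun _ => by simpa using h3
    · exact fun _ => by simpa using h5
  have hA : A ε := (A_adj h4.symm).2 ((A_adj h2).1 ((A_adj h1.symm).2 hB))
  refine h.six hb5 hq (by simpa using hA) ?_ ?_ ?_ ?_ ?_ hz1
  · simpa using h6
  · simpa [cons] using h7
  · simpa [cons] using k6
  · simpa [cons] using k7
  · simpa [cons] using hz

theorem out_ker {β α : Vx P₁ P₂} {x : G} (hx : Out β α x) : x ∈ Ker β := by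
  obtain ⟨ν, ε, h1, h2, -, h4, -, h6, -⟩ := hx
  have key : ∀ {n : ℕ} {r : ℕ → Vx P₁ P₂}, Pth n r → r 0 = ε → n < 5 → x ∈ Q (r n) := fun {n r} hr e hn =>
    h.Z_le_Q_of_path hr (by omega) (e ▸ h6)
  refine mem_Ker.2 ⟨?_, fun α' hα' => ?_⟩
  · have hP : Pth 3 (cons ε (cons ν (cons α fun _ => β))) := by
      intro i hi
      rcases i with _ | _ | _ | i
      · simpa using h4.symm
      · simpa using h2.symm
      · simpa using h1.symm
      · omega
    simpa [cons] using key hP rfl (by omega)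
  · have hP : Pth 4 (cons ε (cons ν (cons α (cons β fun _ => α')))) := by
      intro i hi
      rcases i with _ | _ | _ | _ | i
      · simpa using h4.symm
      · simpa using h2.symm
      · simpa using h1.symm
      · simpa using hα'
      · omega
    simpa [cons] using key hP rfl (by omega)

theorem mem_L_of {β : Vx P₁ P₂} (hB : ¬ A β) {x : G} (hx : x ∈ Ker β)
    (hc : ∀ α y, Out β α y → x * y = y * x) : x ∈ L β := by
  refine mem_L.2 ⟨hx, fun α ν hα hν y hy => ?_⟩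
  have hV : ∀ {y}, y ∈ V β → x * y = y * x := fun hy => h.V_le_cent (fun ε hε => (mem_Ker.1 hx).2 ε hε) hy
  have hle : V ν ≤ centralizer ({x} : Set G) := iSup_le fun ε z hz => by
    refine mem_centralizer_singleton_iff.2 (Eq.symm ?_)
    by_cases e : ε.1 = α
    · exact hV (Z_le_V hα (e ▸ hz))
    by_cases e' : ν = β
    · subst e'; exact hV (Z_le_V ε.2 hz)
    by_cases hzn : z ∈ Z ν
    · exact hV (Z_le_V hα (h.Zb_le ((A_adj hν).1 ((A_adj hα.symm).2 hB)) hν.symm hzn))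
    exact hc α z ⟨ν, ε.1, hα, hν, e', ε.2, e, hz, hzn⟩
  exact (mem_centralizer_singleton_iff.1 (hle hy)).symm

theorem V_le_L {β : Vx P₁ P₂} (hB : ¬ A β) : V β ≤ L β := fun x hx => by
  refine h.mem_L_of hb5 hB (h.V_le_Ker (by omega) β hx) fun α y hy => ?_
  obtain ⟨ν, ε, h1, h2, -, h4, -, h6, -⟩ := hy
  refine (h.V_le_cent (fun ε' hε' => ?_) hx).symm
  have hP : Pth 4 (cons ε (cons ν (cons α (cons β fun _ => ε')))) := by
    intro i hi
    rcases i with _ | _ | _ | _ | i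
    · simpa using h4.symm
    · simpa using h2.symm
    · simpa using h1.symm
    · simpa using hε'
    · omega
  have := h.Z_le_Q_of_path hP (by omega)
  simp [cons] at this
  exact this h6

theorem L_comm_far {q : ℕ → Vx P₁ P₂} (hq : Arc 6 q) (hA : A (q 0)) {w x : G} (hw : w ∈ Z (q 6))
    (hwn : w ∉ Z (q 5)) (hx : x ∈ L (q 1)) : w⁻¹ * x * w * x⁻¹ ∈ Z (q 3) := by
  have ho := h.odd_five hb5
  have hR := h.odd_rank ho (by omega)
  obtain ⟨hxK, hxc⟩ := mem_L.1 hx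
  have hA' : ∀ i ≤ 6, A (q i) ↔ Even i := fun i hi => by rw [parity hq.1 i hi]; simp [hA]
  have hB1 : ¬ A (q 1) := by rw [hA' 1 (by omega)]; decide
  have hB3 : ¬ A (q 3) := by rw [hA' 3 (by omega)]; decide
  have hB5 : ¬ A (q 5) := by rw [hA' 5 (by omega)]; decide
  have h12 : Ad (q 1) (q 2) := hq.1 1 (by omega)
  have h23 : Ad (q 2) (q 3) := hq.1 2 (by omega)
  have h34 : Ad (q 3) (q 4) := hq.1 3 (by omega)
  have h45 : Ad (q 4) (q 5) := hq.1 4 (by omega)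
  have h56 : Ad (q 5) (q 6) := hq.1 5 (by omega)
  have hxS : x ∈ S (q 3) := (h.Q_le_E h23 ((mem_Ker.1 hxK).2 _ h12)).2
  have hx4 : x ∈ Q (q 4) :=
    h.Q_of_comm hB3 h34 hxS fun z hz => hxc _ _ h12 h23 z (Z_le_V h34 hz)
  have hx5 : x ∈ E (q 5) (q 4) := h.Q_mem_E h45 hx4
  have hw4 : w ∉ Z (q 4) := fun hc =>
    hwn (h.sib_inter (by omega) hB5 h56 h45.symm (hq.2 4 (by omega)) hw hc)
  have hxw : x * w * x⁻¹ ∉ Z (q 4) := fun hc => hw4 (by
    have e : x • q 4 = q 4 := hx5.2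
    rw [← e] at hc
    exact h.conj_mem_Z_iff.1 hc)
  have hwV : w ∈ V (q 5) := Z_le_V h56 hw
  have hxwV : x * w * x⁻¹ ∈ V (q 5) := (mem_normalizer_iff.1 (h.S_le_norm_V _ hx5.1) w).1 hwV
  have h4 := h.V_split ho (by omega) hB5 h45.symm hwV hxwV hw4 hxw
  rw [show w⁻¹ * (x * w * x⁻¹) = w⁻¹ * x * w * x⁻¹ by group] at h4
  obtain ⟨s₀, hs₀, hs₀Q⟩ := SetLike.not_le_iff_exists.1 (h.five_crit hb5 (hq.mono (by omega)) hA).2
  have k := h.six_bk hb5 hq hA hs₀ (fun hc => hs₀Q (by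
    have := h.Z_le_Q_of_path (p := fun i => q (1 + i)) (n := 4) (fun i hi => hq.1 (1 + i) (by omega))
      (by omega) hc
    rw [hb5]
    simpa using this)) hw hwn
  have hwS : w ∈ S (q 1) := (h.bk_hwE k).1
  have hL : w⁻¹ * x * w * x⁻¹ ∈ L (q 1) := by
    refine mul_mem ?_ (inv_mem hx)
    simpa using (mem_normalizer_iff.1 (h.S_le_norm_L (q 1) (inv_mem hwS)) x).1 hx
  set c := w⁻¹ * x * w * x⁻¹ with hc
  obtain ⟨a, ha, b, hb', hab⟩ := h.Z_sup hR ((hA' 4 (by omega)).2 ⟨2, rfl⟩) h34.symm h45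
    (hq.2 3 (by omega)) h4
  suffices hb1 : b = 1 by rw [← hab, hb1, mul_one]; exact ha
  have haL : a ∈ L (q 1) := h.V_le_L hb5 hB1 (Z_le_V h12 (h.Zb_le hB3 h23.symm ha))
  have hbL : b ∈ L (q 1) := ((L (q 1)).mul_mem_cancel_left haL).1 (hab ▸ hL)
  -- a mover of the middle from the other side
  obtain ⟨μ, hμ, hμne⟩ := h.exists_other (hq.1 0 (by omega))
  obtain ⟨ε, hε, hεne⟩ := h.exists_other hμ.symm
  have hl : Arc 5 (cons ε (cons μ q)) :=
    (((hq.mono (m := 3) (by omega)).cons hμ fun _ => hμne).cons (μ := ε) (by simpa using hε)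
      fun _ => by simpa using hεne)
  have hAε : A ε := (A_adj hε.symm).2 ((A_adj hμ).1 hA)
  obtain ⟨s, hs, hsQ⟩ := SetLike.not_le_iff_exists.1 (h.five_crit hb5 hl (by simpa using hAε)).2
  rw [hb5] at hsQ
  have hsE : s ∈ E (q 3) (q 2) := by
    have := h.Z_le_E (h.five_crit hb5 hl (by simpa using hAε)).1 hs
    rw [hb5] at this
    simpa [cons] using this
  have hsQ3 : s ∉ Q (q 3) := by simpa [cons] using hsQ
  have hsb : s * b = b * s := ((mem_L.1 hbL).2 _ _ (hq.1 0 (by omega)).symm hμ s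
    (Z_le_V hε (by simpa using hs))).symm
  have hb4 : b ∈ Z (q 4) := h.Zb_le hB5 h45.symm hb'
  have hb3 : b ∈ Z (q 3) := by
    refine h.sib_inter (by omega) hB3 h34 (h.adj_smul h34 hsE.1)
      (h.not_mem_E h23.symm h34 (hq.2 2 (by omega)) hsE hsQ3) hb4 ?_
    have := h.conj_mem_Z s hb4
    rwa [hsb, mul_inv_cancel_right] at this
  exact h.Zb_inf ((hA' 4 (by omega)).2 ⟨2, rfl⟩) h34.symm h45 (hq.2 3 (by omega)) hb3 hb'

theorem exists_sg {q : ℕ → Vx P₁ P₂} (hq : Arc 6 q) (hA : A (q 0)) {u w : G} (hu : u ∈ Z (q 0))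
    (hun : u ∉ Z (q 1)) (hw : w ∈ Z (q 6)) (hwn : w ∉ Z (q 5)) : ∃ σ, Sg (q 1) σ w := by
  have ho := h.odd_five hb5
  have k := h.six_bk hb5 hq hA hu hun hw hwn
  have h12 : Ad (q 1) (q 2) := hq.1 1 (by omega)
  have h23 : Ad (q 2) (q 3) := hq.1 2 (by omega)
  have hB1 : ¬ A (q 1) := h.bk_B1 k
  have hB3 : ¬ A (q 3) := (A_adj h23).1 ((A_adj h12.symm).2 hB1)
  have hw2 := h.Z_sq hw
  obtain ⟨σ, hσ, hσm, hσ3, hσw, hσX⟩ := h.exists_sigma h12 (h.bk_hwE k) k.hwQ hw2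
  have hmove := h.move_all h12 hσ hσ3 hσm
  have hVL := h.V_le_L hb5 hB1
  have hfar : ∀ x ∈ L (q 1), w⁻¹ * x * w * x⁻¹ ∈ Z (q 3) := fun x hx => h.L_comm_far hb5 hq hA hw hwn hx
  have h3V : Z (q 3) ≤ V (q 1) := (h.Zb_le hB3 h23.symm).trans (Z_le_V h12)
  let X : Subgroup G :=
    { carrier := {g | g ∈ S (q 1) ∧ ∀ x ∈ L (q 1), x⁻¹ * (g * x * g⁻¹) ∈ V (q 1)}
      one_mem' := ⟨one_mem _, fun x _ => by simp⟩
      mul_mem' := fun {a b} ha hb => ⟨mul_mem ha.1 hb.1, fun x hx => by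
        have h1 := (mem_normalizer_iff.1 (h.S_le_norm_V (q 1) ha.1) _).1 (hb.2 x hx)
        rw [show x⁻¹ * (a * b * x * (a * b)⁻¹) =
          (x⁻¹ * (a * x * a⁻¹)) * (a * (x⁻¹ * (b * x * b⁻¹)) * a⁻¹) by group]
        exact mul_mem (ha.2 x hx) h1⟩
      inv_mem' := fun {a} ha => ⟨inv_mem ha.1, fun x hx => by
        have h1 : a⁻¹ * x * a ∈ L (q 1) := by
          simpa using (mem_normalizer_iff.1 (h.S_le_norm_L (q 1) (inv_mem ha.1)) x).1 hx
        have h2 := inv_mem (ha.2 _ h1)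
        rw [show x⁻¹ * (a⁻¹ * x * a⁻¹⁻¹) = ((a⁻¹ * x * a)⁻¹ * (a * (a⁻¹ * x * a) * a⁻¹))⁻¹ by group]
        exact h2⟩ }
  have hwX : ∀ g ∈ S (q 1), g * w * g⁻¹ ∈ X := by
    intro g hg
    refine ⟨mul_mem (mul_mem hg (h.bk_hwE k).1) (inv_mem hg), fun x hx => ?_⟩
    have h1 : g⁻¹ * x * g ∈ L (q 1) := by
      simpa using (mem_normalizer_iff.1 (h.S_le_norm_L (q 1) (inv_mem hg)) x).1 hx
    have h2 := h3V (hfar _ (inv_mem h1))
    rw [h.Z_inv hw] at h2
    have h3 : (g⁻¹ * x * g)⁻¹ * (w * (g⁻¹ * x * g) * w⁻¹) ∈ V (q 1) := by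
      have h4 := inv_mem h2
      rw [h.Z_inv hw]
      rwa [show (w * (g⁻¹ * x * g)⁻¹ * w * (g⁻¹ * x * g)⁻¹⁻¹)⁻¹ =
        (g⁻¹ * x * g)⁻¹ * (w⁻¹ * (g⁻¹ * x * g) * w⁻¹) by group, h.Z_inv hw] at h4
    have := (mem_normalizer_iff.1 (h.S_le_norm_V (q 1) hg) _).1 h3
    rwa [show g * ((g⁻¹ * x * g)⁻¹ * (w * (g⁻¹ * x * g) * w⁻¹)) * g⁻¹ =
      x⁻¹ * (g * w * g⁻¹ * x * (g * w * g⁻¹)⁻¹) by group] at this
  have hσXm : σ ∈ X := hσX X hwX
  refine ⟨σ, hσ, hσ3, hmove, fun x hx => ?_, fun n hn hc => ?_⟩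
  · set v := x⁻¹ * (σ * x * σ⁻¹) with hv
    have hvV : v ∈ V (q 1) := hσXm.2 x hx
    have hσV : ∀ {y}, y ∈ V (q 1) → σ * y * σ⁻¹ ∈ V (q 1) := fun hy =>
      (mem_normalizer_iff.1 (h.S_le_norm_V (q 1) hσ) _).1 hy
    set v1 := σ * v * σ⁻¹ with hv1
    set v2 := σ * v1 * σ⁻¹ with hv2
    have h1V := hσV hvV
    rw [← hv1] at h1V
    have h2V := hσV h1V
    rw [← hv2] at h2V
    have e1 : σ * x * σ⁻¹ = x * v := by rw [hv, mul_inv_cancel_left]
    have e2 : v * v1 * v2 = 1 := by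
      have : σ ^ 3 * x * (σ ^ 3)⁻¹ = x * (v * v1 * v2) := by
        calc σ ^ 3 * x * (σ ^ 3)⁻¹ = σ * (σ * (σ * x * σ⁻¹) * σ⁻¹) * σ⁻¹ := by
              rw [show σ ^ 3 = σ * σ * σ by rw [pow_succ, pow_two]]
              group
          _ = σ * (σ * (x * v) * σ⁻¹) * σ⁻¹ := by rw [e1]
          _ = σ * ((σ * x * σ⁻¹) * v1) * σ⁻¹ := by rw [hv1]; group
          _ = σ * (x * v * v1) * σ⁻¹ := by rw [e1]
          _ = (σ * x * σ⁻¹) * v1 * v2 := by rw [hv2, hv1]; group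
          _ = x * (v * v1 * v2) := by rw [e1]; group
      rw [hσ3, one_mul, inv_one, mul_one] at this
      exact mul_eq_left.1 this.symm
    have hV2 : ∀ {y}, y ∈ V (q 1) → y * y = 1 := fun hy => h.V_sq (by omega) hy
    have e3 : v * v2 = v1 := by
      calc v * v2 = v * v2 * (v1 * v1) := by rw [hV2 h1V, mul_one]
        _ = v * (v2 * v1) * v1 := by group
        _ = v * v1 * v2 * v1 := by rw [h.V_comm (by omega) h2V h1V]; group
        _ = v1 := by rw [e2, one_mul]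
    refine ⟨x * v1, mul_mem hx (hVL h1V), v1, h1V, by rw [mul_assoc, hV2 h1V, mul_one], ?_⟩
    refine mul_inv_eq_iff_eq_mul.1 ?_
    calc σ * (x * v1) * σ⁻¹ = (σ * x * σ⁻¹) * v2 := by rw [hv2]; group
      _ = x * (v * v2) := by rw [e1, mul_assoc]
      _ = x * v1 := by rw [e3]
  · set c := w⁻¹ * n * w * n⁻¹ with hcdef
    have h3 : c ∈ Z (q 3) := hfar n hn
    have hσc : σ * c = c * σ := by
      have e : σ * w = w * σ⁻¹ := by
        calc σ * w = w * w * σ * w := by rw [hw2, one_mul]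
          _ = w * (w * σ * w) := by group
          _ = w * σ⁻¹ := by rw [hσw]
      have e' : σ * w⁻¹ = w⁻¹ * σ⁻¹ := by rw [h.Z_inv hw]; exact e
      have e'' : σ⁻¹ * n = n * σ⁻¹ := (Commute.inv_left (hc : Commute σ n)).eq
      have e4 : σ⁻¹ * w = w * σ := by
        calc σ⁻¹ * w = σ⁻¹ * (w * σ⁻¹) * σ := by group
          _ = w * σ := by rw [← e, inv_mul_cancel_left]
      have e5 : σ * n⁻¹ = n⁻¹ * σ := (Commute.inv_right (hc : Commute σ n)).eq
      calc σ * c = (σ * w⁻¹) * n * w * n⁻¹ := by rw [hcdef]; group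
        _ = w⁻¹ * (σ⁻¹ * n) * w * n⁻¹ := by rw [e']; group
        _ = w⁻¹ * n * (σ⁻¹ * w) * n⁻¹ := by rw [e'']; group
        _ = w⁻¹ * n * w * (σ * n⁻¹) := by rw [e4]; group
        _ = c * σ := by rw [e5, hcdef]; group
    have h1 : c ∈ Z (q 1) := h.V_fix_cycle ho (by omega) hB1 hσ hmove (h3V h3) hσc
    have hc1 : c = 1 := h.Zb_inf ((A_adj h12.symm).2 hB1) h12.symm h23 (hq.2 1 (by omega)) h1 h3
    calc w * n = w * (c * n) := by rw [hc1, one_mul]
      _ = n * w := by rw [hcdef]; group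

theorem L_incl {r : ℕ → Vx P₁ P₂} (hr : Arc 8 r) (hA : A (r 0)) {u u' w σ σ' : G}
    (hu : u ∈ Z (r 2)) (hun : u ∉ Z (r 3)) (hu' : u' ∈ Z (r 0)) (hu'n : u' ∉ Z (r 1))
    (hw : w ∈ Z (r 8)) (hwn : w ∉ Z (r 7)) (hs : Sg (r 3) σ w) (hs' : Sg (r 5) σ' u') {x : G}
    (hx : x ∈ L (r 3)) (hxc : σ * x = x * σ) :
    ∃ n ∈ L (r 5), σ' * n = n * σ' ∧ ∃ v ∈ Z (r 4), x = n * v := by
  have ho := h.odd_five hb5
  have hA' : ∀ i ≤ 8, A (r i) ↔ Even i := fun i hi => by rw [parity hr.1 i hi]; simp [hA]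
  have hB5 : ¬ A (r 5) := by rw [hA' 5 (by omega)]; decide
  have hB3 : ¬ A (r 3) := by rw [hA' 3 (by omega)]; decide
  have hB7 : ¬ A (r 7) := by rw [hA' 7 (by omega)]; decide
  have h01 : Ad (r 0) (r 1) := hr.1 0 (by omega)
  have h12 : Ad (r 1) (r 2) := hr.1 1 (by omega)
  have h23 : Ad (r 2) (r 3) := hr.1 2 (by omega)
  have h34 : Ad (r 3) (r 4) := hr.1 3 (by omega)
  have h45 : Ad (r 4) (r 5) := hr.1 4 (by omega)
  have h56 : Ad (r 5) (r 6) := hr.1 5 (by omega)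
  have h67 : Ad (r 6) (r 7) := hr.1 6 (by omega)
  have h78 : Ad (r 7) (r 8) := hr.1 7 (by omega)
  obtain ⟨hxK, hxV⟩ := mem_L.1 hx
  have hxw : x * w = w * x := (hs.comm x hx hxc).symm
  have hxu' : x * u' = u' * x := hxV _ _ h23.symm h12.symm u' (Z_le_V h01.symm hu')
  have hu'E : u' ∈ E (r 5) (r 4) := by
    have := h.Z_le_E (p := r) (hr.1.mono (by omega)) hu'
    rwa [hb5] at this
  have hu'Q : u' ∉ Q (r 5) := h.out_mover hb5 (hr.mono (by omega)) hA hu' hu'n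
  have hx4 : x ∈ Q (r 4) := (mem_Ker.1 hxK).2 _ h34
  have hx5 : x ∈ S (r 5) := (h.Q_le_E h45 hx4).2
  have hxV5 : ∀ y ∈ V (r 5), x * y = y * x := hxV _ _ h34 h45
  have hxα : ∀ α, Ad (r 5) α → x ∈ Q α := fun α hα =>
    h.Q_of_comm hB5 hα hx5 fun z hz => hxV5 z (Z_le_V hα hz)
  have hxK5 : x ∈ Ker (r 5) := mem_Ker.2 ⟨by
    rw [← h.inf_eq h45.symm h56 (hr.2 4 (by omega))]
    exact ⟨h.Q_mem_E h45 hx4, h.Q_mem_E h56.symm (hxα _ h56)⟩, hxα⟩
  have hw6 : w ∉ Z (r 6) := fun hc =>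
    hwn (h.sib_inter (by omega) hB7 h78 h67.symm (hr.2 6 (by omega)) hw hc)
  have hu4 : u ∉ Z (r 4) := fun hc =>
    hun (h.sib_inter (by omega) hB3 h23.symm h34 (hr.2 2 (by omega)).symm hu hc)
  have hvia : ∀ {ν e}, Ad (r 6) ν → e ∈ V ν → e ∉ Z (r 6) → x * e = e * x → ∀ y ∈ V ν, x * y = y * x := by
    intro ν e hν he hen hxe y hy
    have hZ6 : ∀ z ∈ Z (r 6), x * z = z * x := fun z hz => hxV5 z (Z_le_V h56 hz)
    by_cases hy6 : y ∈ Z (r 6)
    · exact hZ6 y hy6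
    · have hm := hZ6 _ (h.V_split ho (by omega) ((A_adj hν).1 ((hA' 6 (by omega)).2 ⟨3, rfl⟩)) hν.symm he hy hen hy6)
      calc x * y = x * e * (e⁻¹ * y) := by group
        _ = e * (x * (e⁻¹ * y)) := by rw [hxe, mul_assoc]
        _ = y * x := by rw [hm]; group
  obtain ⟨g, hg, hgQ⟩ := h.exists_not_mem_Q h45
  have hg5 : g • r 5 = r 5 := hg.2
  have hg4 : g • r 4 = r 4 := hg.1
  have hO1 : Out (r 5) (r 4) u :=
    ⟨r 3, r 2, h45.symm, h34.symm, hr.2 3 (by omega), h23.symm, hr.2 2 (by omega), hu, hun⟩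
  have hO2 : Out (r 5) (r 4) (g * u * g⁻¹) := by
    have := h.out_conj g hO1
    rwa [hg5, hg4] at this
  set e2 := u * (g * u * g⁻¹) with he2
  have he2L : e2 ∈ L (r 5) := by
    refine h.mem_L_of hb5 hB5 (mul_mem (h.out_ker hb5 hO1) (h.out_ker hb5 hO2)) fun α y hy => ?_
    by_cases e : r 4 = α
    · subst e
      rw [mul_assoc, h.out_same hb5 hO2 hy, ← mul_assoc, h.out_same hb5 hO1 hy, mul_assoc]
    · obtain ⟨z, hz, hz1⟩ := h.exists_Zb (r 5)
      have e1 := mul_inv_eq_iff_eq_mul.1 (h.out_diff hb5 hB5 hO1 hy e hz hz1)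
      have e2' := mul_inv_eq_iff_eq_mul.1 (h.out_diff hb5 hB5 hO2 hy e hz hz1)
      have hzu : u * z = z * u := h.Zb_central hB5 hz (h.Q_le_S _ (Ker_le _ (h.out_ker hb5 hO1)))
      refine mul_inv_eq_iff_eq_mul.1 ?_
      calc u * (g * u * g⁻¹) * y * (u * (g * u * g⁻¹))⁻¹
          = u * (g * u * g⁻¹ * y * (g * u * g⁻¹)⁻¹) * u⁻¹ := by group
        _ = u * z * y * u⁻¹ := by rw [e2']; group
        _ = z * (u * y * u⁻¹) := by rw [hzu]; group
        _ = y := by rw [e1, ← mul_assoc, h.Z_sq hz, one_mul]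
  obtain ⟨n0, hn0, v0, hv0, he0, hn0c⟩ := hs'.split e2 he2L
  obtain ⟨τ, hτS, hτ4, hτn⟩ : ∃ τ ∈ S (r 5), τ • r 4 = r 6 ∧ τ * n0 = n0 * τ := by
    by_cases e : σ' • r 4 = r 6
    · exact ⟨σ', hs'.mem, e, hn0c⟩
    refine ⟨σ' * σ', mul_mem hs'.mem hs'.mem, ?_,
      (Commute.mul_left (show Commute σ' n0 from hn0c) (show Commute σ' n0 from hn0c)).eq⟩
    rw [mul_smul]
    have hne1 := hs'.move _ h45.symm
    have hne2 : σ' • σ' • r 4 ≠ r 4 := fun e' => hne1 (by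
      conv_rhs => rw [← one_smul G (r 4), ← hs'.cube, pow_succ, pow_two, mul_smul, mul_smul]
      exact (Cub.move_all.smul_comm_aux e').symm)
    have hm1 : Ad (r 5) (σ' • r 4) := h.adj_smul h45.symm hs'.mem
    rcases h.three h45.symm hm1 h56 hne1 (hr.2 4 (by omega)).symm (Ne.symm e)
      (h.adj_smul hm1 hs'.mem) with e' | e' | e'
    · exact absurd e' hne2
    · exact absurd (smul_left_cancel σ' e') hne1
    · exact e'
  have hτ5 : τ • r 5 = r 5 := hτS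
  have hxe2 : x * e2 = e2 * x := by
    have h1 : x * u = u * x := h.V_le_cent (fun ε hε => (mem_Ker.1 hxK).2 ε hε) (Z_le_V h23.symm hu)
    have hν : Ad (r 4) (g • r 3) := h.adj_smul h34.symm hg4
    have h2 : x * (g * u * g⁻¹) = g * u * g⁻¹ * x :=
      hxV _ _ h34 hν _ (h.conj_mem_V g (Z_le_V h23.symm hu))
    rw [he2, ← mul_assoc, h1, mul_assoc, h2, ← mul_assoc]
  have hτe : x * (τ * e2 * τ⁻¹) = τ * e2 * τ⁻¹ * x := by
    have hv0' : x * v0 = v0 * x := hxV5 v0 hv0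
    have hτv : x * (τ * v0 * τ⁻¹) = τ * v0 * τ⁻¹ * x :=
      hxV5 _ ((mem_normalizer_iff.1 (h.S_le_norm_V (r 5) hτS) v0).1 hv0)
    have e : τ * e2 * τ⁻¹ = e2 * v0⁻¹ * (τ * v0 * τ⁻¹) := by
      calc τ * e2 * τ⁻¹ = τ * n0 * τ⁻¹ * (τ * v0 * τ⁻¹) := by rw [he0]; group
        _ = e2 * v0⁻¹ * (τ * v0 * τ⁻¹) := by
          rw [hτn, mul_inv_cancel_right, he0, mul_inv_cancel_right]
    rw [e]
    exact (Commute.mul_right (Commute.mul_right (show Commute x e2 from hxe2)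
      (Commute.inv_right (show Commute x v0 from hv0'))) (show Commute x (τ * v0 * τ⁻¹) from hτv)).eq
  set f1 := τ * u * τ⁻¹ with hf1
  set f2 := τ * (g * u * g⁻¹) * τ⁻¹ with hf2
  have hff : x * (f1 * f2) = f1 * f2 * x := by
    rw [show f1 * f2 = τ * e2 * τ⁻¹ by rw [hf1, hf2, he2]; group]
    exact hτe
  have hm3 : Ad (r 6) (τ • r 3) := hτ4 ▸ H58.smul_adj τ h34.symm
  have hmg : Ad (r 6) (τ • g • r 3) := hτ4 ▸ H58.smul_adj τ (h.adj_smul h34.symm hg4)
  have hn3 : τ • r 3 ≠ r 5 := fun e => hr.2 3 (by omega) (smul_left_cancel τ (e.trans hτ5.symm))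
  have hng : τ • g • r 3 ≠ r 5 := fun e => by
    have e' := smul_left_cancel τ (e.trans hτ5.symm)
    exact hr.2 3 (by omega) (smul_left_cancel g (e'.trans hg5.symm))
  have hgne : τ • g • r 3 ≠ τ • r 3 := fun e =>
    h.not_mem_E h45 h34.symm (hr.2 3 (by omega)).symm hg hgQ (smul_left_cancel τ e)
  have hf1V : f1 ∈ V (τ • r 3) := h.conj_mem_V τ (Z_le_V h23.symm hu)
  have hf2V : f2 ∈ V (τ • g • r 3) := h.conj_mem_V τ (h.conj_mem_V g (Z_le_V h23.symm hu))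
  have hf1n : f1 ∉ Z (r 6) := fun hc => hu4 (by rw [← hτ4] at hc; exact h.conj_mem_Z_iff.1 hc)
  have hf2n : f2 ∉ Z (r 6) := fun hc => hu4 (by
    rw [← hτ4] at hc
    have h1 := h.conj_mem_Z_iff.1 hc
    rw [← hg4] at h1
    exact h.conj_mem_Z_iff.1 h1)
  have h6side : ∀ ν, Ad (r 6) ν → ∀ y ∈ V ν, x * y = y * x := by
    have hV7 := hvia h67 (Z_le_V h78 hw) hw6 hxw
    intro ν hν
    rcases h.three h56.symm hm3 hmg hn3 hng hgne hν with e | e | e
    · subst e; exact hxV5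
    all_goals
      rcases h.three h56.symm hm3 hmg hn3 hng hgne h67 with e' | e' | e'
      · exact absurd e' (hr.2 5 (by omega)).symm
      · subst e
        have h1 : x * f1 = f1 * x := by rw [e'] at hV7; exact hV7 _ hf1V
        first
          | exact hvia hν hf1V hf1n h1
          | refine hvia hν hf2V hf2n ?_
            have := (Commute.mul_right (Commute.inv_right (show Commute x f1 from h1)) (show Commute x (f1 * f2) from hff)).eq
            simpa using this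
      · subst e
        have h2 : x * f2 = f2 * x := by rw [e'] at hV7; exact hV7 _ hf2V
        first
          | exact hvia hν hf2V hf2n h2
          | refine hvia hν hf1V hf1n ?_
            have := (Commute.mul_right (show Commute x (f1 * f2) from hff) (Commute.inv_right (show Commute x f2 from h2))).eq
            simpa using this
  have hm' : Ad (r 5) (u' • r 6) := h.adj_smul h56 hu'E.1
  have hne' : u' • r 6 ≠ r 6 := h.not_mem_E h45.symm h56 (hr.2 4 (by omega)) hu'E hu'Q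
  have hxL : x ∈ L (r 5) := by
    refine mem_L.2 ⟨hxK5, fun α ν hα hν y hy => ?_⟩
    rcases h.three h45.symm h56 hm' (hr.2 4 (by omega)).symm (h.smul_ne hu'E (hr.2 4 (by omega)).symm)
      hne' hα with rfl | rfl | rfl
    · exact hxV _ _ h34 hν y hy
    · exact h6side ν hν y hy
    · have h1 : Ad (r 6) (u'⁻¹ • ν) := by
        have := H58.smul_adj u'⁻¹ hν
        rwa [inv_smul_smul] at this
      have h2 := h6side _ h1 _ (h.conj_mem_V u'⁻¹ hy)
      rw [inv_inv] at h2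
      calc x * y = u' * (u'⁻¹ * x * u' * (u'⁻¹ * y * u')) * u'⁻¹ := by group
        _ = u' * (x * (u'⁻¹ * y * u')) * u'⁻¹ := by rw [mul_assoc u'⁻¹ x u', hxu', inv_mul_cancel_left]
        _ = y * (u' * x * u'⁻¹) := by rw [h2]; group
        _ = y * x := by rw [← hxu', mul_inv_cancel_right]
  obtain ⟨n, hn, v, hv, hxe, hnc⟩ := hs'.split x hxL
  refine ⟨n, hn, hnc, v, h.V_fix_edge ho (by omega) hB5 h45.symm hu'E hu'Q hv ?_, hxe⟩
  have h3 : u' * n = n * u' := hs'.comm n hn hnc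
  have h4 : n * (u' * v) = n * (v * u') := by
    rw [← mul_assoc, ← h3, mul_assoc, ← hxe, ← hxu', hxe, mul_assoc]
  exact mul_left_cancel h4

theorem five_false : False := by
  have ho := h.odd_five hb5
  have hR := h.odd_rank ho (by omega)
  obtain ⟨p, hp⟩ := h.exists_crit
  obtain ⟨γ, u0, w, k⟩ := h.exists_bk hp ho (by omega)
  have hpa : Arc 6 fun i => if i ≤ 5 then p i else γ := by
    have hp5 : Arc 5 p := hb5 ▸ h.crit_arc hp
    have had : Ad (p 5) γ := hb5 ▸ k.adj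
    have hne : γ ≠ p 4 := by have := k.ne; rwa [hb5] at this
    refine ⟨fun i hi => ?_, fun i hi => ?_⟩
    · rcases i with _ | _ | _ | _ | _ | _ | i
      all_goals first
        | omega
        | simpa using had
        | simpa using hp5.1 _ (by omega)
    · rcases i with _ | _ | _ | _ | _ | i
      all_goals first
        | omega
        | simpa using hne.symm
        | simpa using hp5.2 _ (by omega)
  obtain ⟨μ, hμ, hμne⟩ := h.exists_other (hp.1 0 (by omega))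
  obtain ⟨ε, hε, hεne⟩ := h.exists_other hμ.symm
  set r := cons ε (cons μ fun i => if i ≤ 5 then p i else γ) with hrdef
  have hr : Arc 8 r := (hpa.cons (μ := μ) (by simpa using hμ) fun _ => by simpa using hμne).cons
    (μ := ε) (by simpa using hε) fun _ => by simpa using hεne
  have hA : A (r 0) := by
    simpa [hrdef] using (A_adj hε.symm).2 ((A_adj hμ).1 (h.crit_A hp))
  have hA' : ∀ i ≤ 8, A (r i) ↔ Even i := fun i hi => by rw [parity hr.1 i hi]; simp [hA]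
  clear_value r
  clear hrdef hpa hεne hε hμne hμ k
  have hpick : ∀ {i j : ℕ}, i ≤ 8 → j ≤ 8 → Even i → ¬ Even j → ∃ s ∈ Z (r i), s ∉ Z (r j) := by
    intro i j hi hj hei hej
    refine SetLike.not_le_iff_exists.1 fun hle => ?_
    haveI := h.finZ (r j)
    have := card_le_of_le hle
    rw [hR.four _ ((hA' i hi).2 hei), hR.two _ (mt (hA' j hj).1 hej)] at this
    omega
  obtain ⟨u', hu', hu'n⟩ := hpick (i := 0) (j := 1) (by omega) (by omega) (by decide) (by decide)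
  obtain ⟨u, hu, hun⟩ := hpick (i := 2) (j := 3) (by omega) (by omega) (by decide) (by decide)
  obtain ⟨v6, hv6, hv6n⟩ := hpick (i := 6) (j := 5) (by omega) (by omega) (by decide) (by decide)
  obtain ⟨w, hw, hwn⟩ := hpick (i := 8) (j := 7) (by omega) (by omega) (by decide) (by decide)
  obtain ⟨σ, hs⟩ := h.exists_sg hb5 (q := fun i => r (2 + i)) (hr.drop 2 (by omega))
    ((hA' 2 (by omega)).2 (by decide)) hu hun hw hwn
  obtain ⟨σ', hs'⟩ := h.exists_sg hb5 (q := fun i => r (6 - i)) ((hr.mono (by omega)).rev)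
    ((hA' 6 (by omega)).2 (by decide)) hv6 hv6n hu' hu'n
  simp only [show 2 + 1 = 3 from rfl, show 6 - 1 = 5 from rfl] at hs hs'
  have hB5 : ¬ A (r 5) := by rw [hA' 5 (by omega)]; decide
  have hB3 : ¬ A (r 3) := by rw [hA' 3 (by omega)]; decide
  have h34 : Ad (r 3) (r 4) := hr.1 3 (by omega)
  have h45 : Ad (r 4) (r 5) := hr.1 4 (by omega)
  have h56 : Ad (r 5) (r 6) := hr.1 5 (by omega)
  have hO1 : Out (r 5) (r 4) u := ⟨r 3, r 2, h45.symm, h34.symm, hr.2 3 (by omega),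
    (hr.1 2 (by omega)).symm, hr.2 2 (by omega), hu, hun⟩
  have hO2 : Out (r 5) (r 6) w := ⟨r 7, r 8, h56, hr.1 6 (by omega), (hr.2 5 (by omega)).symm,
    hr.1 7 (by omega), (hr.2 6 (by omega)).symm, hw, hwn⟩
  have hu'E : u' ∈ E (r 5) (r 4) := by
    have := h.Z_le_E (p := r) (hr.1.mono (by omega)) hu'
    rwa [hb5] at this
  have hu'Q : u' ∉ Q (r 5) := h.out_mover hb5 (hr.mono (by omega)) hA hu' hu'n
  set t := u' * w * u'⁻¹ with ht
  have hO3 : Out (r 5) (u' • r 6) t := by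
    have := h.out_conj u' hO2
    rwa [MulAction.mem_stabilizer_iff.1 hu'E.1] at this
  have n46 : r 4 ≠ r 6 := hr.2 4 (by omega)
  have n63 : r 6 ≠ u' • r 6 := (h.not_mem_E h45.symm h56 n46 hu'E hu'Q).symm
  have n43 : r 4 ≠ u' • r 6 := (h.smul_ne hu'E n46.symm).symm
  obtain ⟨z, hz, hz1⟩ := h.exists_Zb (r 5)
  have hz2 := h.Z_sq hz
  have hK : ∀ {α y}, Out (r 5) α y → y ∈ Ker (r 5) := fun hy => h.out_ker hb5 hy
  have hzc : ∀ {y}, y ∈ Ker (r 5) → y * z = z * y := fun hy =>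
    h.Zb_central hB5 hz (h.Q_le_S _ (Ker_le _ hy))
  have hrel : ∀ {α α' y y'}, Out (r 5) α y → Out (r 5) α' y' → α ≠ α' → y * y' = z * (y' * y) :=
    fun hy hy' hne => by
      rw [← mul_assoc]
      exact mul_inv_eq_iff_eq_mul.1 (mul_inv_eq_iff_eq_mul.1 (h.out_diff hb5 hB5 hy hy' hne hz hz1))
  have hu2 : u * u = 1 := h.Z_sq hu
  have hw2 : w * w = 1 := h.Z_sq hw
  have ht2 : t * t = 1 := by
    rw [ht, show u' * w * u'⁻¹ * (u' * w * u'⁻¹) = u' * (w * w) * u'⁻¹ by group, hw2, mul_one,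
      mul_inv_cancel]
  have hsq : u * w * t * (u * w * t) = z :=
    (prod_three hu2 hw2 ht2 hz2 (hzc (hK hO2)) (hzc (hK hO1)) (hzc (hK hO3))
      (hrel hO2 hO1 n46.symm) (hrel hO3 hO1 n43.symm) (hrel hO3 hO2 n63.symm)).1
  set s := u * w * t with hsdef
  have hsL : s ∈ L (r 5) := by
    refine h.mem_L_of hb5 hB5 (mul_mem (mul_mem (hK hO1) (hK hO2)) (hK hO3)) fun α y hy => ?_
    have hc := hzc (hK hy)
    have mv : ∀ {a b : G}, a * y = z * (y * a) → b * y = z * (y * b) → z * a = a * z →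
        a * b * y = y * (a * b) := fun {a b} ha hb hza => by
      rw [mul_assoc a b y, hb, ← mul_assoc a z, ← hza, mul_assoc, ← mul_assoc a y b, ha,
        ← mul_assoc z, ← mul_assoc z z, hz2, one_mul, mul_assoc]
    have hcm : ∀ {α y}, Out (r 5) α y → z * y = y * z := fun hy => (hzc (hK hy)).symm
    have hy0 := hy
    obtain ⟨-, -, hα, -⟩ := hy0
    rcases h.three h45.symm h56 (h.adj_smul h56 hu'E.1) n46.symm n43.symm n63.symm hα with rfl | rfl | rfl
    · have hy' : Out (r 5) (r 4) y := hy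
      rw [show s * y = u * ((w * t) * y) by rw [hsdef]; group,
        mv (hrel hO2 hy' n46.symm) (hrel hO3 hy' n43.symm) (hcm hO2), ← mul_assoc,
        h.out_same hb5 hO1 hy', hsdef]
      group
    · have hy' : Out (r 5) (r 6) y := hy
      have h1 := h.out_same hb5 hO2 hy'
      have h2 := hrel hO1 hy' n46
      have h3 := hrel hO3 hy' n63.symm
      calc s * y = u * w * (t * y) := by rw [hsdef]; group
        _ = u * (w * z) * y * t := by rw [h3]; group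
        _ = u * z * (w * y) * t := by rw [hzc (hK hO2)]; group
        _ = u * z * (y * w) * t := by rw [h1]
        _ = z * (u * y) * w * t := by rw [hzc (hK hO1)]; group
        _ = z * z * (y * u) * w * t := by rw [h2]; group
        _ = y * s := by rw [hz2, hsdef]; group
    · have hy' : Out (r 5) (u' • r 6) y := hy
      rw [show s * y = u * w * (t * y) by rw [hsdef]; group, h.out_same hb5 hO3 hy',
        show u * w * (y * t) = (u * w * y) * t by group,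
        mv (hrel hO1 hy' n43) (hrel hO2 hy' n63) (hcm hO1), hsdef]
      group
  obtain ⟨n, hn, v, hv, hsn, hnc⟩ := hs'.split s hsL
  have hnv : n * v = v * n := h.V_le_cent (fun ε hε => (mem_Ker.1 (mem_L.1 hn).1).2 ε hε) hv
  have hnn : n * n = z := by
    rw [← hsq, hsn, show n * v * (n * v) = n * (v * n) * v by group, ← hnv,
      show n * (n * v) * v = n * n * (v * v) by group, h.V_sq (by omega) hv, mul_one]
  obtain ⟨v2, hv2, hv2n⟩ := hpick (i := 6) (j := 5) (by omega) (by omega) (by decide) (by decide)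
  obtain ⟨x, hx, hxc, ζ, hζ, hne⟩ := h.L_incl hb5 hr.rev (by simpa using (hA' 8 le_rfl).2 (by decide))
    (u := v2) (u' := w) (w := u') (σ := σ') (σ' := σ) (by simpa using hv2) (by simpa using hv2n)
    (by simpa using hw) (by simpa using hwn) (by simpa using hu') (by simpa using hu'n)
    (by simpa using hs') (by simpa using hs) (x := n) (by simpa using hn) hnc
  simp only [show 8 - 5 = 3 from rfl, show 8 - 4 = 4 from rfl] at hx hζ
  have hxζ : ζ * x = x * ζ := h.Z_comm hζ ((mem_Ker.1 (mem_L.1 hx).1).2 _ h34)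
  have hxx : x * x = z := by
    rw [← hnn, hne, show x * ζ * (x * ζ) = x * (ζ * x) * ζ by group, hxζ,
      show x * (x * ζ) * ζ = x * x * (ζ * ζ) by group, h.Z_sq hζ, mul_one]
  have hσz : σ * z = z * σ := by rw [← hxx, ← mul_assoc, hxc, mul_assoc, hxc, mul_assoc]
  have hz3 : z ∈ Z (r 3) := h.V_fix_cycle ho (by omega) hB3 hs.mem hs.move
    (Z_le_V h34 (h.Zb_le hB5 h45.symm hz)) hσz
  exact hz1 (h.Zb_inf ((hA' 4 (by omega)).2 (by decide)) h34.symm h45 (hr.2 3 (by omega)) hz3 hz)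

end

end Side

end Cfsg.Agent.H88.Am
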