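import Cfsg.Agent.H88.GbBack

/-!
The commutator of the movers of a critical path lies in the centre of the third vertex, and the critical
length is at most five.
-/

set_option autoImplicit false
set_option linter.style.haveILetI false

namespace Cfsg.Agent.H88.Am

open Subgroup

variable {G : Type*} [Group G] {P₁ P₂ : Subgroup G}

namespace Side

variable (h : Side P₁ P₂)
include h

section

variable {p : ℕ → Vx P₁ P₂} {γ : Vx P₁ P₂} {u w : G} (k : Bk p γ u w) (hR : Rk P₁ P₂)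
include k hR

theorem bk_X (hb5 : 5 ≤ crit P₁ P₂) :
    ∀ x ∈ Q (p 1), x ∈ Q (p 2) → x * (u * w * u * w) = u * w * u * w * x := by
  have hb := k.three_le
  set b := crit P₁ P₂ with hbdef
  set a := u * w * u * w with ha
  have hp := k.isCrit
  have hpa := h.crit_arc hp
  have hA0 := h.crit_A hp
  have hB1 := h.bk_B1 k
  have hB3 : ¬ A (p 3) := by rw [h.A_iff hp (by omega)]; decide
  have hA2 : A (p 2) := (h.A_iff hp (by omega)).2 even_two_nat
  have h12 : Ad (p 1) (p 2) := hp.1 1 (by omega)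
  have h23 : Ad (p 2) (p 3) := hp.1 2 (by omega)
  have h34 : Ad (p 3) (p 4) := hp.1 3 (by omega)
  have hpar : ∀ {x}, x ∈ Q (p 1) → (x * a = a * x ↔ Par (p 1) (p 2) x) := fun hx => h.bk_par_iff k hR hx
  -- a mover of the third vertex commuting with `a`
  obtain ⟨μ, δ, hμ, hμne, hδ, hδne, hc⟩ := h.shift k.odd hb (h.bk_crit k)
  have hend : cons δ (cons μ (rv p γ)) b = p 3 := by
    rw [show b = b - 2 + 1 + 1 by omega, cons_succ, cons_succ]
    exact rv_of_pos p γ (by omega) (by omega)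
  have hend' : cons δ (cons μ (rv p γ)) (b - 1) = p 4 := by
    rw [show b - 1 = b - 3 + 1 + 1 by omega, cons_succ, cons_succ]
    exact rv_of_pos p γ (by omega) (by omega)
  have hc2 := hc.2
  rw [cons_zero, ← hbdef, hend] at hc2
  obtain ⟨s, hs, hsQ⟩ := SetLike.not_le_iff_exists.1 hc2
  have hsE : s ∈ E (p 3) (p 4) := by
    have := h.Z_le_E hc.1 (show s ∈ Z (cons δ (cons μ (rv p γ)) 0) from hs)
    rwa [← hbdef, hend, hend'] at this
  have hsa : s * a = a * s := by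
    refine h.V_le_cent (fun ε hε => ?_) (h.bk_a_mem' k)
    have hP : Pth 4 fun i => if i = 0 then δ else if i = 1 then μ else if i = 2 then γ else
        if i = 3 then p b else ε := by
      intro i hi
      rw [rv_zero] at hμ
      rcases i with _ | _ | _ | _ | i
      · simpa using hδ.symm
      · simpa using hμ.symm
      · simpa using k.adj.symm
      · simpa using hε
      · omega
    have := h.Z_le_Q_of_path hP (by omega)
    simp only [↓reduceIte, Nat.reduceEqDiff] at this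
    exact this hs
  set τ := s • p 2 with hτ
  have hτ3 : Ad (p 3) τ := h.adj_smul h23.symm hsE.1
  have hτ2 : τ ≠ p 2 := h.not_mem_E h34 h23.symm (hpa.2 2 (by omega)).symm hsE hsQ
  have hτ4 : τ ≠ p 4 := h.smul_ne hsE (hpa.2 2 (by omega))
  have hτ1 : Ad τ (s • p 1) := H58.smul_adj s h12.symm
  have hdir : ∀ x ∈ Q (p 1), x ∈ Q τ → x * a = a * x := by
    intro x hx hxτ
    have hz1 := h.bk_form k hR (h.Q_le_E h12 hx)
    rw [← ha] at hz1
    have hxE := h.Q_le_E hτ1 hxτ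
    have hx' : s⁻¹ * x * s ∈ E (p 1) (p 2) := by
      refine ⟨MulAction.mem_stabilizer_iff.2 ?_, MulAction.mem_stabilizer_iff.2 ?_⟩
      · rw [mul_smul, mul_smul, MulAction.mem_stabilizer_iff.1 hxE.2, inv_smul_smul]
      · rw [mul_smul, mul_smul, MulAction.mem_stabilizer_iff.1 hxE.1, hτ, inv_smul_smul]
    have hz2 := h.conj_mem_Z s (h.bk_form k hR hx')
    rw [← ha] at hz2
    have hfix : s⁻¹ * a * s = a := by rw [mul_assoc, ← hsa, inv_mul_cancel_left]
    have e : s * (s⁻¹ * x * s * a * (s⁻¹ * x * s)⁻¹ * a⁻¹) * s⁻¹ = x * a * x⁻¹ * a⁻¹ := by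
      calc s * (s⁻¹ * x * s * a * (s⁻¹ * x * s)⁻¹ * a⁻¹) * s⁻¹
          = x * (s * a * s⁻¹) * x⁻¹ * (s * a⁻¹ * s⁻¹) := by group
        _ = x * a * x⁻¹ * a⁻¹ := by
          rw [hsa, mul_inv_cancel_right, show s * a⁻¹ * s⁻¹ = (s * a * s⁻¹)⁻¹ by group, hsa,
            mul_inv_cancel_right]
    rw [e] at hz2
    set ζ := x * a * x⁻¹ * a⁻¹ with hζ
    have hB1' : ¬ A (s • p 1) := by simpa using hB1
    have h3 : ζ ∈ Z (p 3) := h.sib_inter (by omega) hB3 h23.symm hτ3 hτ2 (h.Zb_le hB1 h12 hz1)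
      (h.Zb_le hB1' hτ1.symm hz2)
    have h1 : ζ = 1 := h.Zb_inf hA2 h12.symm h23 (hpa.2 1 (by omega)) hz1 h3
    exact mul_inv_eq_iff_eq_mul.1 (mul_inv_eq_one.1 h1)
  -- a mover of the third vertex fixing the two before it
  have h32 : Ad (p (b - 2)) (p (b - 1)) := by
    have := hp.1 (b - 2) (by omega)
    rwa [show b - 2 + 1 = b - 1 by omega] at this
  obtain ⟨g, hg⟩ := h.trans_two (q := fun i => p (b - 2 + i)) (q' := fun i => p (1 + i))
    (by have := hpa.drop (b - 2) (by omega); rwa [show b - (b - 2) = 2 by omega] at this)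
    ((hpa.drop 1 (by omega)).mono (by omega))
    (iff_of_false (by
      rw [h.A_iff hp (by omega)]
      obtain ⟨m, hm⟩ := k.odd
      exact fun ⟨j, hj⟩ => by omega) (by simpa using hB1))
  have g1 : g • p (b - 2) = p 1 := by simpa using hg 0 (by omega)
  have g2 : g • p (b - 1) = p 2 := by
    have := hg 1 (by omega)
    rwa [show b - 2 + 1 = b - 1 by omega] at this
  have g3 : g • p b = p 3 := by
    have := hg 2 (by omega)
    rwa [show b - 2 + 2 = b by omega] at this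
  set t := g * u * g⁻¹ with ht
  have ht1 : t ∈ Q (p 1) := g1 ▸ h.conj_mem_Q g (h.Z_le_Q_of_path (hp.1.mono (Nat.sub_le b 2)) (by omega) k.hu)
  have ht2 : t ∈ Q (p 2) := g2 ▸ h.conj_mem_Q g (h.Z_le_Q_of_path (hp.1.mono (Nat.sub_le b 1)) (by omega) k.hu)
  have ht3 : t ∉ Q (p 3) := fun hc' => k.huQ (by
    rw [← g3] at hc'
    simpa [ht, mul_assoc] using h.mem_Q_smul.1 hc')
  have hta : t * a = a * t := by
    have hmem : g⁻¹ * a * g ∈ V (p (b - 2)) := by
      have := h.conj_mem_V g⁻¹ (h.bk_a_mem k)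
      rwa [inv_inv, inv_smul_eq_iff.2 g1.symm] at this
    have := h.V_le_cent (x := u) (fun ε hε => ?_) hmem
    · calc t * a = g * (u * (g⁻¹ * a * g)) * g⁻¹ := by rw [ht]; group
        _ = g * (g⁻¹ * a * g * u) * g⁻¹ := by rw [this]
        _ = a * t := by rw [ht]; group
    · have hP : Pth (b - 1) fun i => if i ≤ b - 2 then p i else ε := by
        intro i hi
        rcases Nat.lt_or_ge i (b - 2) with hlt | hge
        · simpa [hlt.le, show i + 1 ≤ b - 2 by omega] using hp.1 i (by omega)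
        · simpa [show i = b - 2 by omega] using hε
      have := h.Z_le_Q_of_path hP (by omega)
      simp only [Nat.zero_le, ↓reduceIte, show ¬ b - 1 ≤ b - 2 by omega] at this
      exact this k.hu
  have htE : t ∈ E (p 3) (p 2) := h.Q_mem_E h23 ht2
  have htτ : t • τ = p 4 := by
    rcases h.three h23.symm hτ3 h34 hτ2 (hpa.2 2 (by omega)).symm hτ4.symm (h.adj_smul hτ3 htE.1)
      with e | e | e
    · exact absurd e (h.smul_ne htE hτ2)
    · exact absurd e (h.not_mem_E h23.symm hτ3 hτ2.symm htE ht3)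
    · exact e
  have hX : ∀ x, x ∈ Q (p 1) → x ∈ Q (p 2) → x ∈ Q (p 3) → ∀ ν, Ad (p 3) ν → ν ≠ p 2 → x ∈ Q ν →
      Par (p 1) (p 2) x := by
    intro x hx1 hx2 hx3 ν hν hne hxν
    rcases h.three h23.symm hτ3 h34 hτ2 (hpa.2 2 (by omega)).symm hτ4.symm hν with rfl | rfl | rfl
    · exact absurd rfl hne
    · exact (hpar hx1).1 (hdir x hx1 hxν)
    · have h1 : t⁻¹ * x * t ∈ Q (p 1) := mul_mem (mul_mem (inv_mem ht1) hx1) ht1
      have h4 : t⁻¹ * x * t ∈ Q τ := h.mem_Q_smul.1 (htτ.symm ▸ hxν)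
      have := h.par_conj (g := t) (MulAction.mem_stabilizer_iff.1 (h.Q_le_S _ ht1))
        (MulAction.mem_stabilizer_iff.1 (h.Q_le_S _ ht2)) ((hpar h1).1 (hdir _ h1 h4))
      rwa [show t * (t⁻¹ * x * t) * t⁻¹ = x by group] at this
  -- the element reversing the short path
  obtain ⟨r, hr⟩ := h.trans_two (q := fun i => p (1 + i)) (q' := fun i => p (3 - i))
    ((hpa.drop 1 (by omega)).mono (by omega))
    (by
      have := (hpa.mono (m := 3) (by omega)).rev.mono (m := 2) (by omega)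
      exact this)
    (iff_of_false (by simpa using hB1) (by simpa using hB3))
  have r1 : r • p 1 = p 3 := by simpa using hr 0 (by omega)
  have r2 : r • p 2 = p 2 := by simpa using hr 1 (by omega)
  have r3 : r • p 3 = p 1 := by simpa using hr 2 (by omega)
  have hall : ∀ x, x ∈ Q (p 1) → x ∈ Q (p 2) → x ∈ Q (p 3) → Par (p 1) (p 2) x := by
    intro x hx1 hx2 hx3
    by_contra hn
    have hout : ∀ ν, Ad (p 3) ν → ν ≠ p 2 → x ∉ Q ν := fun ν hν hne hc' =>
      hn (hX x hx1 hx2 hx3 ν hν hne hc')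
    set y := r * x * r⁻¹ with hy
    have hy1 : y ∈ Q (p 1) := r3 ▸ h.conj_mem_Q r hx3
    have hy2 : y ∈ Q (p 2) := by have := h.conj_mem_Q r hx2; rwa [r2] at this
    have hy3 : y ∈ Q (p 3) := r1 ▸ h.conj_mem_Q r hx1
    have hyP : Par (p 1) (p 2) y :=
      h.par_conj r3 r2 fun ν ν' hν hν' hne hne' => iff_of_false (hout ν hν hne) (hout ν' hν' hne')
    have hyn : ¬ Par (p 3) (p 2) y := fun hc' => hn (by
      have := h.par_conj (g := r⁻¹) (inv_smul_eq_iff.2 r1.symm) (inv_smul_eq_iff.2 r2.symm) hc'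
      rwa [hy, show r⁻¹ * (r * x * r⁻¹) * r⁻¹⁻¹ = x by group] at this)
    have hxy : ¬ Par (p 1) (p 2) (x * y) := fun hc' => hn fun ν ν' hν hν' hne hne' => by
      have h1 := hc' ν ν' hν hν' hne hne'
      have h2 := hyP ν ν' hν hν' hne hne'
      rw [h.mul_iff hν.symm (h.Q_mem_E hν hx1) (h.Q_mem_E hν hy1),
        h.mul_iff hν'.symm (h.Q_mem_E hν' hx1) (h.Q_mem_E hν' hy1)] at h1
      tauto
    refine hyn fun ν ν' hν hν' hne hne' => ?_
    have key : ∀ ν, Ad (p 3) ν → ν ≠ p 2 → y ∈ Q ν := fun ν hν hne => by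
      by_contra hc'
      exact hxy (hX _ (mul_mem hx1 hy1) (mul_mem hx2 hy2) (mul_mem hx3 hy3) ν hν hne
        (h.mul_mem_Q hν.symm (h.Q_mem_E hν hx3) (h.Q_mem_E hν hy3) (hout ν hν hne) hc'))
    exact iff_of_true (key ν hν hne) (key ν' hν' hne')
  intro x hx1 hx2
  by_cases hx3 : x ∈ Q (p 3)
  · exact (hpar hx1).2 (hall x hx1 hx2 hx3)
  · have h3 : x * t ∈ Q (p 3) := h.mul_mem_Q h23.symm (h.Q_mem_E h23 hx2) htE hx3 ht3
    have h1 := (hpar (mul_mem hx1 ht1)).2 (hall _ (mul_mem hx1 ht1) (mul_mem hx2 ht2) h3)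
    calc x * a = x * t * (t⁻¹ * a) := by group
      _ = x * t * (a * t⁻¹) := by rw [(Commute.inv_left (hta : Commute t a)).eq]
      _ = x * t * a * t⁻¹ := by group
      _ = a * (x * t) * t⁻¹ := by rw [h1]
      _ = a * x := by group
where
  even_two_nat : Even (2 : ℕ) := ⟨1, rfl⟩

theorem bk_comm : ∀ x ∈ Q (p 1), x ∈ Q (p 2) → x * (u * w * u * w) = u * w * u * w * x := by
  have hb := k.three_le
  by_cases hb5 : 5 ≤ crit P₁ P₂
  · exact h.bk_X k hR hb5
  have hb3 : crit P₁ P₂ = 3 := by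
    obtain ⟨m, hm⟩ := k.odd
    omega
  intro x hx1 hx2
  have hpa := h.crit_arc k.isCrit
  have h12 : Ad (p 1) (p 2) := k.isCrit.1 1 (by omega)
  have h23 : Ad (p 2) (p 3) := k.isCrit.1 2 (by omega)
  have hz1 := h.bk_form k hR (h.Q_le_E h12 hx1)
  have hz3 := h.bk_form (h.bk_symm k) hR (x := x) (by
    rw [rv_of_pos p γ (j := 3) le_rfl (by omega), rv_of_pos p γ (j := 2) (by omega) (by omega)]
    exact h.Q_mem_E h23 hx2)
  rw [h.bk_a_symm k, rv_of_pos p γ (j := 3) le_rfl (by omega)] at hz3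
  have h1 := h.Zb_inf ((h.A_iff k.isCrit (i := 2) (by omega)).2 ⟨1, rfl⟩) h12.symm h23
    (hpa.2 1 (by omega)) hz1 hz3
  exact mul_inv_eq_iff_eq_mul.1 (mul_inv_eq_one.1 h1)

/-- the commutator of the movers lies in the centre of the third vertex -/
theorem bk_nat : u * w * u * w ∈ Z (p 2) := by
  have hb := k.three_le
  have hp := k.isCrit
  have hpa := h.crit_arc hp
  have hB1 := h.bk_B1 k
  have h10 : Ad (p 1) (p 0) := (hp.1 0 (by omega)).symm
  have h12 : Ad (p 1) (p 2) := hp.1 1 (by omega)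
  have h23 : Ad (p 2) (p 3) := hp.1 2 (by omega)
  have hα2 : Ad (p 1) (w • p 0) := h.adj_smul h10 (h.bk_hwE k).1
  have hne0 : p 0 ≠ p 2 := hpa.2 0 (by omega)
  have hA2 : A (p 2) := (h.A_iff hp (by omega)).2 ⟨1, rfl⟩
  set a := u * w * u * w with ha
  have hpar : ∀ x ∈ Q (p 1), x ∈ Q (p 2) → Par (p 1) (p 2) x := fun x hx1 hx2 =>
    (h.bk_par_iff k hR hx1).1 (h.bk_comm k hR x hx1 hx2)
  obtain ⟨g, hg, hgp⟩ := H58.exists_smul_eq_of_adj h12 h10
  have hodd : ∀ x ∈ Q (p 1), x ∉ Q (p 2) → ¬ Par (p 1) (p 2) x := by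
    intro x hx1 hx2 hP
    have hP0 := hP _ _ h10 hα2 hne0 (h.bk_ne2 k)
    have hconj : ∀ y ∈ Q (p 1), y ∈ Q (p 0) → Par (p 1) (p 0) y := fun y hy1 hy0 => by
      have e1 : g • p 1 = p 1 := hg
      have h1 := h.mem_Q_smul.1 (hgp.symm ▸ hy0)
      have h1' : g⁻¹ * y * g ∈ Q (p 1) := h.mem_Q_smul.1 (by rwa [e1])
      have := h.par_conj e1 hgp (hpar _ h1' h1)
      rwa [show g * (g⁻¹ * y * g) * g⁻¹ = y by group] at this
    by_cases hx0 : x ∈ Q (p 0)
    · exact hx2 ((hconj x hx1 hx0 _ _ h12 hα2 hne0.symm (h.bk_ne0 k)).2 (hP0.1 hx0))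
    · obtain ⟨z, hz1, hz0, hz2⟩ := h.not_flat (by omega) hB1 h10 h12 hne0.symm
      have hzα : z ∉ Q (w • p 0) := fun hc =>
        hz2 ((hconj z hz1 hz0 _ _ h12 hα2 hne0.symm (h.bk_ne0 k)).2 hc)
      have hxz2 : x * z ∈ Q (p 2) :=
        h.mul_mem_Q h12.symm (h.Q_mem_E h12 hx1) (h.Q_mem_E h12 hz1) hx2 hz2
      have hxzα : x * z ∈ Q (w • p 0) :=
        h.mul_mem_Q hα2.symm (h.Q_mem_E hα2 hx1) (h.Q_mem_E hα2 hz1) (fun hc => hx0 (hP0.2 hc)) hzα
      exact hx0 (((Q (p 0)).mul_mem_cancel_right hz0).1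
        ((hpar _ (mul_mem hx1 hz1) hxz2 _ _ h10 hα2 hne0 (h.bk_ne2 k)).2 hxzα))
  obtain ⟨c, hc, hc1⟩ := h.exists_Zb (p 3)
  have hB3 : ¬ A (p 3) := (A_adj h23).1 hA2
  have hc2 : c ∈ Z (p 2) := h.Zb_le hB3 h23.symm hc
  have hcn : c ∉ Z (p 1) := fun hh => hc1 (h.Zb_inf hA2 h12.symm h23 (hpa.2 1 (by omega)) hh hc)
  obtain ⟨z, hz, hz1⟩ := h.exists_Zb (p 1)
  have haV : a * c ∈ V (p 1) := mul_mem (h.bk_a_mem k) (Z_le_V h12 hc2)
  have hVQ := h.V_le_Q (by omega : 1 < crit P₁ P₂) (p 1)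
  have hzc : ∀ v ∈ V (p 1), z * v = v * z := fun v hv =>
    (h.Zb_central hB1 hz (h.Q_le_S _ (hVQ hv))).symm
  have hax : ∀ x ∈ Q (p 1), x ∉ Q (p 2) → x * a * x⁻¹ = a * z := by
    intro x hx1 hx2
    have hne : x * a * x⁻¹ * a⁻¹ ≠ 1 := fun e => hodd x hx1 hx2 ((h.bk_par_iff k hR hx1).1
      (mul_inv_eq_iff_eq_mul.1 (mul_inv_eq_one.1 e)))
    have e := h.Zb_eq_one hR hB1 (h.bk_form k hR (h.Q_le_E h12 hx1)) hz hne hz1
    rw [← ha, mul_inv_eq_iff_eq_mul] at e
    rw [e, hzc _ (h.bk_a_mem k)]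
  have hq : ∀ x ∈ Q (p 1), x * (a * c) = a * c * x := by
    intro x hx1
    refine mul_inv_eq_iff_eq_mul.1 ?_
    rw [show x * (a * c) * x⁻¹ = (x * a * x⁻¹) * (x * c * x⁻¹) by group]
    by_cases hx2 : x ∈ Q (p 2)
    · rw [h.bk_comm k hR x hx1 hx2, mul_inv_cancel_right, ← h.Z_comm hc2 hx2, mul_inv_cancel_right]
    · rw [hax x hx1 hx2, h.transv_Q hR hB1 h12 hx1 hx2 hc2 hcn hz hz1,
        show a * z * (c * z) = a * (z * c) * z by group, hzc _ (Z_le_V h12 hc2),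
        show a * (c * z) * z = a * c * (z * z) by group, h.Z_sq hz, mul_one]
  have hwac : w * (a * c) = a * c * w := by
    have hw2 : w * w = 1 := h.Z_sq k.hw
    have h1 : w * a = a * w := by
      rw [ha]
      calc w * (u * w * u * w) = w * u * w * u * w := by group
        _ = u * w * u * w * w := by rw [h.bk_a_symm k]
    have h2 : w * c = c * w := by
      have hQ : Z (rv p γ 0) ≤ Q (rv p γ (crit P₁ P₂ - 1)) :=
        h.Z_le_Q_of_path ((h.bk_crit k).1.mono (Nat.sub_le _ 1)) (by omega)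
      rw [rv_zero, rv_of_pos p γ (j := 2) (by omega) (by omega)] at hQ
      exact (h.Z_comm hc2 (hQ k.hw)).symm
    rw [← mul_assoc, h1, mul_assoc, h2, ← mul_assoc]
  have hmem : a * c ∈ Z (p 1) := by
    refine h.mem_Zb hB1 h12 (h.Q_le_E h12 (hVQ haV)) (h.V_sq (by omega) haV) fun e he => ?_
    by_cases heQ : e ∈ Q (p 1)
    · exact hq e heQ
    · have h3 := hq _ (h.mul_mem_Q h12 he (h.bk_hwE k) heQ k.hwQ)
      calc e * (a * c) = e * w * (w⁻¹ * (a * c)) := by group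
        _ = e * w * (a * c * w⁻¹) := by rw [(Commute.inv_left (hwac : Commute w (a * c))).eq]
        _ = e * w * (a * c) * w⁻¹ := by group
        _ = a * c * (e * w) * w⁻¹ := by rw [h3]
        _ = a * c * e := by group
  exact ((Z (p 2)).mul_mem_cancel_right hc2).1 (h.Zb_le hB1 h12 hmem)

theorem bk_nat' : u * w * u * w ∈ Z (p (crit P₁ P₂ - 1)) := by
  have hb := k.three_le
  have := h.bk_nat (h.bk_symm k) hR
  rwa [h.bk_a_symm k, rv_of_pos p γ (j := crit P₁ P₂ - 1) (by omega) (by omega)] at this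

theorem bk_mem_left (hb5 : 5 ≤ crit P₁ P₂) : u * w * u * w ∈ Z (p (crit P₁ P₂ - 2)) := by
  set b := crit P₁ P₂ with hbdef
  have hp := k.isCrit
  have hpa := h.crit_arc hp
  obtain ⟨μ, δ, hμ, hμne, hδ, hδne, hc⟩ := h.shift k.odd k.three_le hp
  have hend : cons δ (cons μ p) b = p (b - 2) := by
    rw [show b = b - 2 + 1 + 1 by omega, cons_succ, cons_succ]
    congr 1
  have hend' : cons δ (cons μ p) (b - 1) = p (b - 3) := by
    rw [show b - 1 = b - 3 + 1 + 1 by omega, cons_succ, cons_succ]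
  have hc2 := hc.2
  rw [cons_zero, ← hbdef, hend] at hc2
  obtain ⟨s, hs, hsQ⟩ := SetLike.not_le_iff_exists.1 hc2
  have hsE : s ∈ E (p (b - 2)) (p (b - 3)) := by
    have := h.Z_le_E hc.1 (show s ∈ Z (cons δ (cons μ p) 0) from hs)
    rwa [← hbdef, hend, hend'] at this
  set a := u * w * u * w with ha
  have hsa : s * a = a * s := (h.Z_comm (h.bk_nat k hR)
    (h.Z_le_Q_near hp.1 hμ hδ (i := 2) (by omega) (by omega) hs)).symm
  have h21 : Ad (p (b - 2)) (p (b - 1)) := by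
    have := hp.1 (b - 2) (by omega)
    rwa [show b - 2 + 1 = b - 1 by omega] at this
  have h32 : Ad (p (b - 3)) (p (b - 2)) := by
    have := hp.1 (b - 3) (by omega)
    rwa [show b - 3 + 1 = b - 2 by omega] at this
  have hne : p (b - 3) ≠ p (b - 1) := by
    have := hpa.2 (b - 3) (by omega)
    rwa [show b - 3 + 2 = b - 1 by omega] at this
  have hB2 : ¬ A (p (b - 2)) := by
    rw [h.A_iff hp (by omega)]
    obtain ⟨m, hm⟩ := k.odd
    exact fun ⟨j, hj⟩ => by omega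
  refine h.sib_inter (by omega) hB2 h21 (h.adj_smul h21 hsE.1)
    (h.not_mem_E h32.symm h21 hne hsE hsQ) (h.bk_nat' k hR) ?_
  have := h.conj_mem_Z s (h.bk_nat' k hR)
  rwa [← ha, hsa, mul_inv_cancel_right] at this

end

theorem centre_shift (ho : Odd (crit P₁ P₂)) (hb : 5 ≤ crit P₁ P₂) (hR : Rk P₁ P₂) {p : ℕ → Vx P₁ P₂}
    (hp : Crit p) : Z (p 3) = Z (p (crit P₁ P₂ - 2)) := by
  obtain ⟨γ, u, w, k⟩ := h.exists_bk hp ho (by omega)
  have h2 := h.bk_mem_left k hR hb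
  have h3 := h.bk_mem_left (h.bk_symm k) hR hb
  rw [h.bk_a_symm k, rv_of_pos p γ (j := 3) (by omega) (by omega)] at h3
  have ha : u * w * u * w ≠ 1 := fun e => h.bk_a_notin k (e ▸ one_mem _)
  have hB : ∀ i ≤ crit P₁ P₂, Odd i → ¬ A (p i) := fun i hi hio => by
    rw [h.A_iff hp hi]; exact Nat.not_even_iff_odd.2 hio
  have h3B := hB 3 (by omega) ⟨1, rfl⟩
  have h2B := hB (crit P₁ P₂ - 2) (by omega) (by obtain ⟨m, hm⟩ := ho; exact ⟨m - 1, by omega⟩)
  refine le_antisymm (fun x hx => ?_) fun x hx => ?_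
  · by_cases hx1 : x = 1
    · rw [hx1]; exact one_mem _
    · rw [h.Zb_eq_one hR h3B hx h3 hx1 ha]; exact h2
  · by_cases hx1 : x = 1
    · rw [hx1]; exact one_mem _
    · rw [h.Zb_eq_one hR h2B hx h2 hx1 ha]; exact h3

theorem odd_le_five (ho : Odd (crit P₁ P₂)) : crit P₁ P₂ ≤ 5 := by
  by_contra hlt
  have hb : 7 ≤ crit P₁ P₂ := by obtain ⟨m, hm⟩ := ho; omega
  have hR := h.odd_rank ho (by omega)
  obtain ⟨p, hp⟩ := h.exists_crit
  obtain ⟨μ, δ, hμ, hμne, hδ, hδne, hc⟩ := h.shift ho (by omega) hp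
  obtain ⟨μ', δ', hμ', hμne', hδ', hδne', hc'⟩ := h.shift ho (by omega) hc
  have e1 := h.centre_shift ho (by omega) hR hc
  have e2 := h.centre_shift ho (by omega) hR hc'
  set b := crit P₁ P₂ with hbdef
  rw [show (3 : ℕ) = 1 + 1 + 1 from rfl, cons_succ, cons_succ,
    show b - 2 = b - 4 + 1 + 1 by omega, cons_succ, cons_succ] at e1
  rw [show (3 : ℕ) = 1 + 1 + 1 from rfl, cons_succ, cons_succ, show (1 : ℕ) = 0 + 1 from rfl, cons_succ,
    cons_zero, show b - 2 = b - 6 + 1 + 1 + 1 + 1 by omega, cons_succ, cons_succ, cons_succ,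
    cons_succ] at e2
  have hA0 := h.crit_A hp
  refine hp.2 fun x hx => ?_
  obtain ⟨c, hc1, d, hd, rfl⟩ := h.Z_sup hR hA0 hμ (hp.1 0 (by omega)) hμne hx
  rw [e2] at hc1
  rw [e1] at hd
  have h64 : Ad (p (b - 6)) (p (b - 5)) := by
    have := hp.1 (b - 6) (by omega)
    rwa [show b - 6 + 1 = b - 5 by omega] at this
  have h45 : Ad (p (b - 5)) (p (b - 4)) := by
    have := hp.1 (b - 5) (by omega)
    rwa [show b - 5 + 1 = b - 4 by omega] at this
  have hA5 : A (p (b - 5)) := by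
    rw [h.A_iff hp (by omega)]
    obtain ⟨m, hm⟩ := ho
    exact ⟨m - 2, by omega⟩
  have hq := h.Z_le_Q_of_path (p := fun i => p (b - 5 + i)) (n := 5) (fun i hi => hp.1 (b - 5 + i) (by omega))
    (by omega)
  simp only [add_zero, show b - 5 + 5 = b by omega] at hq
  exact hq (mul_mem (h.Zb_le ((A_adj h64.symm).1 hA5) h64 hc1) (h.Zb_le ((A_adj h45).1 hA5) h45.symm hd))

end Side

end Cfsg.Agent.H88.Am
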