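import Cfsg.Agent.H88.GbEven
import Cfsg.Agent.H88.GbKer

/-!
An odd critical length at least three: the reversed critical pair and the orders of the centres.
-/

set_option autoImplicit false
set_option linter.style.haveILetI false

namespace Cfsg.Agent.H88.Am

open Subgroup
open scoped commutatorElement

variable {G : Type*} [Group G] {P₁ P₂ : Subgroup G}

namespace Cub

variable (h : Cub P₁ P₂)
include h

/-- the product of two outer elements at different edges permutes the edges cyclically -/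
theorem cycle {δ μ μ' : Vx P₁ P₂} (hm : Ad δ μ) (hm' : Ad δ μ') (hne : μ' ≠ μ) {t t' : G}
    (ht : t ∈ E δ μ) (htQ : t ∉ Q δ) (ht' : t' ∈ E δ μ') (ht'Q : t' ∉ Q δ) :
    t * t' ∈ S δ ∧ (t * t') • μ ≠ μ ∧ (t * t') • (t * t') • μ ≠ μ ∧ t * t' * (t * t') * (t * t') ∈ Q δ := by
  set μ'' := t • μ' with hμ''
  have hm'' : Ad δ μ'' := h.adj_smul hm' ht.1
  have h1 : μ'' ≠ μ' := h.not_mem_E hm hm' hne.symm ht htQ
  have h2 : μ'' ≠ μ := h.smul_ne ht hne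
  have h3 : t' • μ = μ'' := by
    rcases h.nbr_cases hm hm' hne ht htQ (h.adj_smul hm ht'.1) with e | e | e
    · exact absurd e (h.not_mem_E hm' hm hne ht' ht'Q)
    · exact absurd e (h.smul_ne ht' hne.symm)
    · exact e
  have h4 : t' • μ'' = μ := by
    rw [← h3, ← mul_smul]
    exact MulAction.mem_stabilizer_iff.1 (h.Q_le_E hm (h.sq_mem_Q hm' ht')).2
  have h5 : t • μ'' = μ' := by
    rw [hμ'', ← mul_smul]
    exact MulAction.mem_stabilizer_iff.1 (h.Q_le_E hm' (h.sq_mem_Q hm ht)).2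
  have e1 : (t * t') • μ = μ' := by rw [mul_smul, h3, h5]
  have e2 : (t * t') • μ' = μ'' := by rw [mul_smul, MulAction.mem_stabilizer_iff.1 ht'.2]
  have e3 : (t * t') • μ'' = μ := by rw [mul_smul, h4, MulAction.mem_stabilizer_iff.1 ht.2]
  have hS : t * t' ∈ S δ := (S δ).mul_mem ht.1 ht'.1
  refine ⟨hS, by rw [e1]; exact hne, by rw [e1, e2]; exact h2, ?_⟩
  rw [← h.inf_eq hm hm' hne.symm]
  exact ⟨⟨(S δ).mul_mem ((S δ).mul_mem hS hS) hS,
      MulAction.mem_stabilizer_iff.2 (by rw [mul_smul, mul_smul, e1, e2, e3])⟩,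
    (S δ).mul_mem ((S δ).mul_mem hS hS) hS,
      MulAction.mem_stabilizer_iff.2 (by rw [mul_smul, mul_smul, e2, e3, e1])⟩

/-- an element of order three inverted by an outer involution -/
theorem exists_sigma {δ μ : Vx P₁ P₂} (hm : Ad δ μ) {w : G} (hw : w ∈ E δ μ) (hwQ : w ∉ Q δ)
    (hw2 : w * w = 1) : ∃ σ ∈ S δ, σ • μ ≠ μ ∧ σ ^ 3 = 1 ∧ w * σ * w = σ⁻¹ ∧
      ∀ X : Subgroup G, (∀ g ∈ S δ, g * w * g⁻¹ ∈ X) → σ ∈ X := by
  haveI : Fact (Nat.Prime 2) := ⟨Nat.prime_two⟩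
  obtain ⟨μ', hm', hne⟩ := h.exists_other hm
  obtain ⟨g, hg, hgμ⟩ := H58.exists_smul_eq_of_adj hm hm'
  set w' := g * w * g⁻¹ with hw'
  have hw'S : w' ∈ S δ := (S δ).mul_mem ((S δ).mul_mem hg hw.1) ((S δ).inv_mem hg)
  have hw'μ : w' • μ' = μ' := by
    rw [hw', mul_smul, mul_smul, ← hgμ, inv_smul_smul, MulAction.mem_stabilizer_iff.1 hw.2]
  have hw'Q : w' ∉ Q δ := fun hc => hwQ (by
    have := (h.mem_Q_smul (g := g) (δ := δ) (x := w')).1 (by rwa [MulAction.mem_stabilizer_iff.1 hg])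
    simpa [hw', mul_assoc] using this)
  have hw'2 : w' * w' = 1 := by
    rw [hw', show g * w * g⁻¹ * (g * w * g⁻¹) = g * (w * w) * g⁻¹ by group, hw2]; group
  obtain ⟨hs, hs1, hs2, hs3⟩ := h.cycle hm hm' hne hw hwQ ⟨hw'S, hw'μ⟩ hw'Q
  set s := w * w' with hsdef
  haveI := h.finQ δ
  obtain ⟨k, hk⟩ := IsPGroup.iff_card.1 (h.pQ δ)
  set m := 2 ^ k with hm2
  have hσ3 : (s ^ m) ^ 3 = 1 := by
    have h1 : (⟨s * s * s, hs3⟩ : ↥(Q δ)) ^ m = 1 := by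
      rw [← hk]; exact pow_card_eq_one'
    rw [← pow_mul, mul_comm, pow_mul, show s ^ 3 = s * s * s by rw [pow_succ, pow_two]]
    exact congrArg Subtype.val h1
  refine ⟨s ^ m, (S δ).pow_mem hs m, ?_, hσ3, ?_, fun X hX => X.pow_mem (X.mul_mem ?_ (hX g hg)) m⟩
  · have hfix : (s * s * s) • μ = μ := MulAction.mem_stabilizer_iff.1 (h.Q_le_E hm hs3).2
    have hfix' : ∀ a : ℕ, (s ^ (3 * a)) • μ = μ := fun a => by
      induction a with
      | zero => simp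
      | succ a ih =>
        rw [show 3 * (a + 1) = 3 * a + 3 by ring, pow_add, mul_smul,
          show s ^ 3 = s * s * s by rw [pow_succ, pow_two], hfix, ih]
    have h3 : m % 3 = 1 ∨ m % 3 = 2 := by
      have : ¬ 3 ∣ m := fun hd => by
        have := Nat.prime_three.dvd_of_dvd_pow hd
        omega
      omega
    intro hc
    rcases h3 with h3 | h3 <;> rw [show m = m % 3 + 3 * (m / 3) by omega, pow_add, mul_smul, hfix',
      h3] at hc
    · rw [pow_one] at hc; exact hs1 hc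
    · rw [pow_two, mul_smul] at hc; exact hs2 hc
  · have hinv : w * s * w⁻¹ = s⁻¹ := by
      rw [hsdef, mul_inv_rev, inv_eq_of_mul_eq_one_left hw2, inv_eq_of_mul_eq_one_left hw'2,
        show w * (w * w') * w = (w * w) * w' * w by group, hw2, one_mul]
    have h1 : w * s ^ m * w⁻¹ = (w * s * w⁻¹) ^ m := by rw [conj_pow]
    rw [hinv, inv_pow, inv_eq_of_mul_eq_one_left hw2] at h1
    exact h1
  · simpa using hX 1 (one_mem _)

end Cub

namespace Side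

variable (h : Side P₁ P₂)
include h

theorem comm_Zb {α β : Vx P₁ P₂} (hA : A α) (hm : Ad α β) {y x : G} (hy : y ∈ E α β) (hx : x ∈ Z α) :
    y * x * y⁻¹ * x⁻¹ ∈ Z β := by
  by_cases hyQ : y ∈ Q α
  · rw [← h.Z_comm hx hyQ, mul_inv_cancel_right, mul_inv_cancel]; exact one_mem _
  set ζ := y * x * y⁻¹ * x⁻¹ with hζ
  have hζZ : ζ ∈ Z α :=
    mul_mem ((mem_normalizer_iff.1 (h.S_le_norm_Z α hy.1) x).1 hx) (inv_mem hx)
  have hyζ : y * ζ * y⁻¹ = ζ := by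
    have h1 : y * y * x * (y * y)⁻¹ = x := by
      rw [← h.Z_comm hx (h.sq_mem_Q hm hy), mul_inv_cancel_right]
    calc y * ζ * y⁻¹ = (y * y * x * (y * y)⁻¹) * (y * x * y⁻¹)⁻¹ := by rw [hζ]; group
      _ = (x⁻¹ * x) * x * (y * x * y⁻¹)⁻¹ := by rw [h1]; group
      _ = (y * x * y⁻¹ * x⁻¹)⁻¹ := by group
      _ = ζ := h.Z_inv hζZ
  refine h.mem_Zb ((A_adj hm).1 hA) hm.symm (E_comm α β ▸ h.Q_le_E hm (h.Z_le_Q α hζZ)) (h.Z_sq hζZ)
    fun e he => ?_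
  rw [E_comm] at he
  by_cases heQ : e ∈ Q α
  · exact (h.Z_comm hζZ heQ).symm
  · refine mul_inv_eq_iff_eq_mul.1 ?_
    rw [h.act_eq hm he hy heQ hyQ hζZ, hyζ]

/-- beyond the end of a critical path there is a critical pair in the other direction -/
theorem exists_back {p : ℕ → Vx P₁ P₂} (hp : Crit p) (ho : Odd (crit P₁ P₂)) (hb : 3 ≤ crit P₁ P₂) :
    ∃ γ w, Ad (p (crit P₁ P₂)) γ ∧ γ ≠ p (crit P₁ P₂ - 1) ∧ w ∈ Z γ ∧ w ∉ Q (p 1) ∧ w ∈ E (p 1) (p 2) ∧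
      Crit (cons γ fun i => p (crit P₁ P₂ - i)) := by
  set b := crit P₁ P₂ with hbdef
  set α' := p b with hα'
  have hA := h.crit_A hp
  have hB : ¬ A α' := by
    rw [hα', h.A_iff hp le_rfl]
    obtain ⟨k, hk⟩ := ho
    exact fun ⟨j, hj⟩ => by omega
  have hb1 : Ad (p (b - 1)) α' := by
    have := hp.1 (b - 1) (by omega)
    rwa [show b - 1 + 1 = b by omega] at this
  have hpa := h.crit_arc hp
  have hq : ∀ γ, Ad α' γ → γ ≠ p (b - 1) → Arc b (cons γ fun i => p (b - i)) := fun γ hγ hne => by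
    have := (hpa.rev.mono (Nat.sub_le b 1)).cons (μ := γ) (by simpa using hγ) fun _ => by simpa using hne
    rwa [show b - 1 + 1 = b by omega] at this
  have hq1 : ∀ γ, cons γ (fun i => p (b - i)) b = p 1 := fun γ => by
    conv_lhs => rw [show b = b - 1 + 1 by omega, cons_succ]
    congr 1; omega
  suffices hex : ∃ γ, Ad α' γ ∧ γ ≠ p (b - 1) ∧ ¬ Z γ ≤ Q (p 1) by
    obtain ⟨γ, hγ, hne, hn⟩ := hex
    have hc : Crit (cons γ fun i => p (b - i)) := ⟨(hq γ hγ hne).1, by rwa [cons_zero, hq1]⟩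
    obtain ⟨w, hw, hwQ⟩ := SetLike.not_le_iff_exists.1 hn
    refine ⟨γ, w, hγ, hne, hw, hwQ, ?_, hc⟩
    have := h.Z_le_E hc.1 (by rw [cons_zero]; exact hw)
    rw [← hbdef, hq1, show b - 1 = b - 2 + 1 by omega, cons_succ,
      show b - (b - 2) = 2 by omega] at this
    exact this
  by_contra hno
  push Not at hno
  have hp1 : ∀ γ, Ad α' γ → Z γ ≤ Q (p 1) := fun γ hγ => by
    by_cases e : γ = p (b - 1)
    · subst e
      have := h.Z_le_Q_of_path' (p := fun i => p (1 + i)) (n := b - 2) (fun i hi => hp.1 _ (by omega)) (by omega)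
      simpa [show 1 + (b - 2) = b - 1 by omega] using this
    · exact hno γ hγ e
  obtain ⟨u, hu, huQ⟩ := SetLike.not_le_iff_exists.1 hp.2
  have huE : u ∈ E α' (p (b - 1)) := h.Z_le_E hp.1 hu
  obtain ⟨γ, hγ, hγα⟩ : ∃ γ, Ad α' γ ∧ ¬ Z γ ≤ Q (p 0) := by
    by_contra hc
    push Not at hc
    obtain ⟨γ, hγ, hne⟩ := h.exists_other hb1.symm
    have hcm : ∀ {δ}, Ad α' δ → ∀ z ∈ Z δ, u * z * u⁻¹ = z := fun hδ z hz => by
      rw [h.Z_comm hu (hc _ hδ hz), mul_inv_cancel_right]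
    have hγ' : Ad α' (u • γ) := h.adj_smul hγ huE.1
    refine h.Z_ne hB hγ hγ' (h.not_mem_E hb1.symm hγ hne.symm huE huQ).symm
      (le_antisymm (fun z hz => ?_) fun z hz => ?_)
    · rw [← hcm hγ z hz]; exact h.conj_mem_Z u hz
    · have h1 := h.conj_mem_Z u⁻¹ hz
      rw [inv_smul_smul, inv_inv] at h1
      have h2 := hcm hγ _ h1
      rw [show u * (u⁻¹ * z * u) * u⁻¹ = z by group] at h2
      rwa [← h2] at h1
  obtain ⟨w, hw, hwQ⟩ := SetLike.not_le_iff_exists.1 hγα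
  have hmv : Mv b (fun i => p (b - i)) w := by
    refine ⟨fun i hi => ?_, by simpa using hwQ⟩
    rcases Nat.lt_or_ge i b with hlt | hge
    · have hP : Pth (i + 1) (cons γ fun j => p (b - j)) := by
        intro j hj
        rcases j with _ | j
        · simpa using hγ.symm
        · simpa using hp.1.rev j (by omega)
      simpa using h.Z_fix hP (by omega) hw
    · have hib : i = b := by omega
      subst hib
      simpa using MulAction.mem_stabilizer_iff.1 (h.Q_le_E (hp.1 0 (by omega)).symm (hp1 γ hγ hw)).2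
  obtain ⟨γ', hγ', hne'⟩ := h.exists_other hb1.symm
  have hqa := hq γ' hγ' hne'
  obtain ⟨g, hg⟩ := h.arc_trans (k := b) hpa.rev hmv (by simpa using hA) hpa
    (h.mover_of_crit hp hu huQ) hB (by omega) (by omega) b le_rfl p _ hpa hqa
    (iff_of_true hA (by rw [cons_zero]; exact (A_adj hγ'.symm).2 hB))
  have := (h.crit_of_trans hp hqa.1 hg).2
  rw [cons_zero, ← hbdef, hq1] at this
  exact this (hno γ' hγ' hne')

theorem not_flat (hb : 2 < crit P₁ P₂) {α α₂ β : Vx P₁ P₂} (hB : ¬ A β) (hm : Ad β α) (hm2 : Ad β α₂)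
    (hne : α₂ ≠ α) : ∃ x ∈ Q β, x ∈ Q α ∧ x ∉ Q α₂ := by
  by_contra hno
  push Not at hno
  obtain ⟨t, ht, htQ⟩ := h.exists_not_mem_Q hm
  set D := Q α ⊓ Q β with hD
  have hDall : ∀ x ∈ D, ∀ ν, Ad β ν → x ∈ Q ν := by
    intro x hx ν hν
    rcases h.nbr_cases hm hm2 hne ht htQ hν with rfl | rfl | rfl
    · exact hx.1
    · exact hno x hx.2 hx.1
    · rw [h.mem_Q_smul]
      refine hno _ ?_ ?_
      · simpa using (mem_normalizer_iff.1 (h.S_le_norm_Q β (inv_mem ht.1)) x).1 hx.2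
      · simpa using (mem_normalizer_iff.1 (h.S_le_norm_Q α (inv_mem ht.2)) x).1 hx.1
  obtain ⟨y, hy, hyA⟩ : ∃ y ∈ Q β, y ∉ Q α :=
    SetLike.not_le_iff_exists.1 (h.Q_ne_le hm fun hb0 => h.Z_ne_bot β (le_bot_iff.1 (hb0 ▸ h.Z_le_Q β)))
  have hy_out : ∀ ν, Ad β ν → y ∉ Q ν := by
    intro ν hν hc
    refine h.Q_ne_le hν (fun hb0 => h.Z_ne_bot β (le_bot_iff.1 (hb0 ▸ h.Z_le_Q β))) fun q hq => ?_
    by_cases hqA : q ∈ Q α
    · exact hDall q ⟨hqA, hq⟩ ν hν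
    · have h1 : y⁻¹ * q ∈ D :=
        ⟨h.inf_Q_cases hm hy hq (iff_of_false hyA hqA), (Q β).mul_mem ((Q β).inv_mem hy) hq⟩
      simpa using mul_mem hc (hDall _ h1 ν hν)
  have hDV : ∀ x ∈ D, ∀ z ∈ V β, x * z = z * x := by
    intro x hx z hz
    have hle : V β ≤ centralizer ({x} : Set G) := iSup_le fun ν z' hz' =>
      mem_centralizer_singleton_iff.2 (h.Z_comm hz' (hDall x hx ν.1 ν.2))
    exact (mem_centralizer_singleton_iff.1 (hle hz)).symm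
  have hqV : ∀ q ∈ Q β, ∀ z ∈ V β, q * z * q⁻¹ * z⁻¹ ∈ Z β := by
    intro q hq
    let X : Subgroup G :=
      { carrier := {z | q * z * q⁻¹ * z⁻¹ ∈ Z β ∧ z ∈ V β}
        one_mem' := ⟨by simp, one_mem _⟩
        mul_mem' := fun {a b} ha hb' => ⟨by
          have hc : a * (q * b * q⁻¹ * b⁻¹) = q * b * q⁻¹ * b⁻¹ * a :=
            h.Zb_central hB hb'.1 (h.Q_le_S β (h.V_le_Q (by omega) β ha.2))
          rw [show q * (a * b) * q⁻¹ * (a * b)⁻¹ =
            (q * a * q⁻¹ * a⁻¹) * (a * (q * b * q⁻¹ * b⁻¹)) * a⁻¹ by group, hc]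
          simpa [mul_assoc] using mul_mem ha.1 hb'.1, mul_mem ha.2 hb'.2⟩
        inv_mem' := fun {a} ha => by
          have : a⁻¹ = a := inv_eq_of_mul_eq_one_left (h.V_sq hb ha.2)
          rw [this]; exact ha }
    exact fun z hz => ((iSup_le fun ν z' hz' =>
      ⟨h.comm_Zb ((A_adj ν.2.symm).2 hB) ν.2.symm (E_comm β ν.1 ▸ h.Q_le_E ν.2 hq) hz', Z_le_V ν.2 hz'⟩ : V β ≤ X)
      hz).1
  have hqy : ∀ q ∈ Q β, q ∉ Q α → ∀ z ∈ V β, q * z * q⁻¹ = y * z * y⁻¹ := by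
    intro q hq hqA z hz
    have h1 : y⁻¹ * q ∈ D :=
      ⟨h.inf_Q_cases hm hy hq (iff_of_false hyA hqA), (Q β).mul_mem ((Q β).inv_mem hy) hq⟩
    calc q * z * q⁻¹ = y * ((y⁻¹ * q) * z * (y⁻¹ * q)⁻¹) * y⁻¹ := by group
      _ = y * z * y⁻¹ := by rw [hDV _ h1 z hz, mul_inv_cancel_right]
  set K₀ : Subgroup G := V β ⊓ centralizer (Q β : Set G) with hK0
  have hyK : ∀ z ∈ V β, y * z = z * y → z ∈ K₀ := by
    intro z hz hyz
    refine ⟨hz, mem_centralizer_iff.2 fun q hq => ?_⟩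
    by_cases hqA : q ∈ Q α
    · exact hDV q ⟨hqA, hq⟩ z hz
    · refine mul_inv_eq_iff_eq_mul.1 ?_
      rw [hqy q hq hqA z hz, hyz, mul_inv_cancel_right]
  obtain ⟨g, hg, hgα⟩ := H58.exists_smul_eq_of_adj hm hm2
  set t' := g * t * g⁻¹ with ht'
  have ht'S : t' ∈ S β := (S β).mul_mem ((S β).mul_mem hg ht.1) ((S β).inv_mem hg)
  have ht'2 : t' • α₂ = α₂ := by
    rw [ht', mul_smul, mul_smul, ← hgα, inv_smul_smul, MulAction.mem_stabilizer_iff.1 ht.2]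
  have ht'Q : t' ∉ Q β := fun hc => htQ (by
    have := (h.mem_Q_smul (g := g) (δ := β) (x := t')).1 (by rwa [MulAction.mem_stabilizer_iff.1 hg])
    simpa [ht', mul_assoc] using this)
  obtain ⟨hsS, hs1, hs2, hs3⟩ := h.cycle hm hm2 hne ht htQ ⟨ht'S, ht'2⟩ ht'Q
  set s := t * t'
  have hout : ∀ {ν}, Ad β ν → ∀ {a}, a ∈ E β ν → a ∉ Q β → ∀ x ∈ K₀, a * x * a⁻¹ * x⁻¹ ∈ Z β := by
    intro ν hν a ha haQ x hx
    set ζ := a * x * a⁻¹ * x⁻¹ with hζ
    have hζV : ζ ∈ V β := mul_mem ((mem_normalizer_iff.1 (h.S_le_norm_V β ha.1) x).1 hx.1) (inv_mem hx.1)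
    have hζQ : ∀ q ∈ Q β, q * ζ = ζ * q := fun q hq => by
      have hq' : a⁻¹ * q * a ∈ Q β := by
        simpa using (mem_normalizer_iff.1 (h.S_le_norm_Q β (inv_mem ha.1)) q).1 hq
      have h1 : q * (a * x * a⁻¹) = a * x * a⁻¹ * q := by
        calc q * (a * x * a⁻¹) = a * ((a⁻¹ * q * a) * x) * a⁻¹ := by group
          _ = a * (x * (a⁻¹ * q * a)) * a⁻¹ := by rw [mem_centralizer_iff.1 hx.2 _ hq']
          _ = a * x * a⁻¹ * q := by group
      have h2 : q * x⁻¹ = x⁻¹ * q := (Commute.inv_right (mem_centralizer_iff.1 hx.2 q hq)).eq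
      rw [hζ, ← mul_assoc, h1, mul_assoc _ q, h2, ← mul_assoc]
    have hfix : a * ζ * a⁻¹ = ζ := by
      have h1 : a * a * x * (a * a)⁻¹ = x := by
        rw [mem_centralizer_iff.1 hx.2 _ (h.sq_mem_Q hν ha), mul_inv_cancel_right]
      calc a * ζ * a⁻¹ = (a * a * x * (a * a)⁻¹) * (a * x * a⁻¹)⁻¹ := by rw [hζ]; group
        _ = (x⁻¹ * x) * x * (a * x * a⁻¹)⁻¹ := by rw [h1]; group
        _ = (a * x * a⁻¹ * x⁻¹)⁻¹ := by group
        _ = ζ := inv_eq_of_mul_eq_one_left (h.V_sq hb hζV)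
    refine h.mem_Zb hB hν (h.Q_le_E hν (h.V_le_Q (by omega) β hζV)) (h.V_sq hb hζV) fun e he => ?_
    by_cases heQ : e ∈ Q β
    · exact hζQ e heQ
    · have h3 := hζQ _ (h.mul_mem_Q hν he ha heQ haQ)
      have h4 : a * ζ = ζ * a := mul_inv_eq_iff_eq_mul.1 hfix
      calc e * ζ = (e * a) * (a⁻¹ * (ζ * a)) * a⁻¹ := by group
        _ = (e * a) * ζ * a⁻¹ := by rw [← h4, inv_mul_cancel_left]
        _ = ζ * e := by rw [h3]; group
  have hσK : ∀ x ∈ K₀, s * s * x * (s * s)⁻¹ = x := by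
    intro x hx
    have ha := hout hm ht htQ x hx
    have ha' := hout hm2 ⟨ht'S, ht'2⟩ ht'Q x hx
    set ζ := t * x * t⁻¹ * x⁻¹ with hζ
    set ζ' := t' * x * t'⁻¹ * x⁻¹ with hζ'
    have e1 : t * x * t⁻¹ = ζ * x := by rw [hζ, inv_mul_cancel_right]
    have e2 : t' * x * t'⁻¹ = ζ' * x := by rw [hζ', inv_mul_cancel_right]
    have e3 : s * x * s⁻¹ = ζ' * ζ * x := by
      calc s * x * s⁻¹ = t * (t' * x * t'⁻¹) * t⁻¹ := by
            show t * t' * x * (t * t')⁻¹ = _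
            group
        _ = (t * ζ') * x * t⁻¹ := by rw [e2]; group
        _ = ζ' * (t * x * t⁻¹) := by rw [h.Zb_central hB ha' ht.1]; group
        _ = ζ' * ζ * x := by rw [e1, ← mul_assoc]
    have hzz : ζ' * ζ ∈ Z β := mul_mem ha' ha
    calc s * s * x * (s * s)⁻¹ = s * (s * x * s⁻¹) * s⁻¹ := by group
      _ = (s * (ζ' * ζ)) * x * s⁻¹ := by rw [e3]; group
      _ = (ζ' * ζ) * (s * x * s⁻¹) := by rw [h.Zb_central hB hzz hsS]; group
      _ = x := by rw [e3, ← mul_assoc, h.Z_sq hzz, one_mul]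
  set σ := s * s with hσ
  have hσS : σ ∈ S β := (S β).mul_mem hsS hsS
  have hK : ∀ x ∈ V β, x⁻¹ * (σ * x * σ⁻¹) ∈ K₀ := by
    intro x hx
    have hσx : σ * x * σ⁻¹ ∈ V β := (mem_normalizer_iff.1 (h.S_le_norm_V β hσS) x).1 hx
    refine hyK _ (mul_mem (inv_mem hx) hσx) ?_
    have hy' : σ⁻¹ * y * σ ∈ Q β := by
      simpa using (mem_normalizer_iff.1 (h.S_le_norm_Q β (inv_mem hσS)) y).1 hy
    have hy'A : σ⁻¹ * y * σ ∉ Q α := fun hc => hy_out (σ • α) (h.adj_smul hm hσS) (h.mem_Q_smul.2 hc)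
    have e1 := hqy _ hy' hy'A x hx
    set ζ := y * x * y⁻¹ * x⁻¹ with hζ
    have hζZ : ζ ∈ Z β := hqV y hy x hx
    have e2 : y * x * y⁻¹ = ζ * x := by rw [hζ, inv_mul_cancel_right]
    have e3 : y * (σ * x * σ⁻¹) * y⁻¹ = ζ * (σ * x * σ⁻¹) := by
      calc y * (σ * x * σ⁻¹) * y⁻¹ = σ * ((σ⁻¹ * y * σ) * x * (σ⁻¹ * y * σ)⁻¹) * σ⁻¹ := by group
        _ = (σ * ζ) * x * σ⁻¹ := by rw [e1, e2]; group
        _ = ζ * (σ * x * σ⁻¹) := by rw [h.Zb_central hB hζZ hσS]; group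
    refine mul_inv_eq_iff_eq_mul.1 ?_
    calc y * (x⁻¹ * (σ * x * σ⁻¹)) * y⁻¹ = (y * x * y⁻¹)⁻¹ * (y * (σ * x * σ⁻¹) * y⁻¹) := by group
      _ = x⁻¹ * (σ * x * σ⁻¹) := by rw [e2, e3]; group
  have hA : A α := (A_adj hm.symm).2 hB
  refine h.Z_ne hB hm (h.adj_smul hm hσS) (fun e => hs2 (by rw [← mul_smul]; exact e.symm)) ?_
  have hval : ∀ x ∈ Z α, σ * x * σ⁻¹ ∈ Z α := by
    intro x hx
    have hxV : x ∈ V β := Z_le_V hm hx
    have hk := hK x hxV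
    set k := x⁻¹ * (σ * x * σ⁻¹) with hkdef
    have e1 : σ * x * σ⁻¹ = x * k := by rw [hkdef, mul_inv_cancel_left]
    have e2 : σ * k * σ⁻¹ = k := hσK k hk
    have hq : σ * σ * σ ∈ Q β := by
      rw [hσ, show s * s * (s * s) * (s * s) = (s * s * s) * (s * s * s) by group]
      exact mul_mem hs3 hs3
    have e3 : σ * σ * σ * x * (σ * σ * σ)⁻¹ = x * k := by
      calc σ * σ * σ * x * (σ * σ * σ)⁻¹ = σ * (σ * (σ * x * σ⁻¹) * σ⁻¹) * σ⁻¹ := by group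
        _ = σ * (σ * (x * k) * σ⁻¹) * σ⁻¹ := by rw [e1]
        _ = σ * ((σ * x * σ⁻¹) * (σ * k * σ⁻¹)) * σ⁻¹ := by group
        _ = σ * (x * k * k) * σ⁻¹ := by rw [e1, e2]
        _ = (σ * x * σ⁻¹) * (σ * k * σ⁻¹) * (σ * k * σ⁻¹) := by group
        _ = x * k := by rw [e1, e2, mul_assoc (x * k), h.V_sq hb hk.1, mul_one]
    rw [e1, ← e3]
    exact (mem_normalizer_iff.1 (h.S_le_norm_Z α (h.Q_le_E hm hq).2) x).1 hx
  haveI := h.finZ α
  refine (eq_of_le_of_card_ge ?_ (h.card_Z_smul σ α).ge).symm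
  intro x hx
  have h1 := h.conj_mem_Z σ⁻¹ hx
  rw [inv_smul_smul, inv_inv] at h1
  have h2 := hval _ h1
  rwa [show σ * (σ⁻¹ * x * σ) * σ⁻¹ = x by group] at h2

end Side

end Cfsg.Agent.H88.Am
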