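import Cfsg.Agent.H88.GbArc

/-!
Vertices with four-groups as centres, and the subgroups generated by neighbouring centres.
-/

set_option autoImplicit false
set_option linter.style.haveILetI false

namespace Cfsg.Agent.H88.Am

open Subgroup

variable {G : Type*} [Group G] {P₁ P₂ : Subgroup G}

/-- centres of order four and two -/
structure Rk (P₁ P₂ : Subgroup G) : Prop where
  four : ∀ δ : Vx P₁ P₂, A δ → Nat.card (Z δ) = 4
  two : ∀ δ : Vx P₁ P₂, ¬ A δ → Nat.card (Z δ) = 2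

/-- the join of the centres of the neighbours -/
def V (ν : Vx P₁ P₂) : Subgroup G := ⨆ μ : {μ // Ad ν μ}, Z μ.1

theorem Z_le_V {ν μ : Vx P₁ P₂} (hm : Ad ν μ) : Z μ ≤ V ν :=
  le_iSup (fun μ : {μ // Ad ν μ} => Z μ.1) ⟨μ, hm⟩

namespace C2

variable (h : C2 P₁ P₂)
include h

theorem finZ (δ : Vx P₁ P₂) : Finite (Z δ) :=
  haveI := h.finQ δ
  Finite.of_injective _ (inclusion_injective (h.Z_le_Q δ))

theorem V_le_Q (hb : 1 < crit P₁ P₂) (ν : Vx P₁ P₂) : V ν ≤ Q ν :=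
  iSup_le fun μ => h.Z_le_Q_adj μ.2.symm hb

theorem conj_mem_V {ν : Vx P₁ P₂} (g : G) {x : G} (hx : x ∈ V ν) : g * x * g⁻¹ ∈ V (g • ν) := by
  have hle : (V ν).map (MulAut.conj g).toMonoidHom ≤ V (g • ν) := by
    rw [V, Subgroup.map_iSup]
    refine iSup_le fun μ => ?_
    rintro _ ⟨y, hy, rfl⟩
    exact Z_le_V (H58.smul_adj g μ.2) (h.conj_mem_Z g hy)
  exact hle ⟨x, hx, rfl⟩

theorem S_le_norm_V (ν : Vx P₁ P₂) : S ν ≤ normalizer (V ν : Set G) := by
  rw [le_normalizer_iff]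
  intro g hg x hx
  have := h.conj_mem_V g hx
  rwa [MulAction.mem_stabilizer_iff.1 hg] at this

theorem V_comm (hb : 2 < crit P₁ P₂) {ν : Vx P₁ P₂} {x y : G} (hx : x ∈ V ν) (hy : y ∈ V ν) :
    x * y = y * x := by
  have h1 : ∀ μ : {μ // Ad ν μ}, V ν ≤ centralizer (Z μ.1 : Set G) := fun μ => by
    refine iSup_le fun μ' => ?_
    intro a ha
    refine mem_centralizer_iff.2 fun b hb' => h.Z_comm hb' ?_
    have := h.Z_le_Q_of_path (p := fun i => if i = 0 then μ'.1 else if i = 1 then ν else μ.1) (n := 2)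
      (fun i hi => by
        rcases i with _ | _ | i
        · simpa using μ'.2.symm
        · simpa using μ.2
        · omega) hb
    simpa using this (by simpa using ha)
  have h2 : V ν ≤ centralizer (V ν : Set G) := by
    rw [le_centralizer_iff]
    exact iSup_le fun μ => by
      rw [le_centralizer_iff]
      exact h1 μ
  exact (mem_centralizer_iff.1 (h2 hy) x hx)

theorem V_sq (hb : 2 < crit P₁ P₂) {ν : Vx P₁ P₂} {x : G} (hx : x ∈ V ν) : x * x = 1 := by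
  let X : Subgroup G :=
    { carrier := {z | z ∈ V ν ∧ z * z = 1}
      one_mem' := ⟨one_mem _, one_mul 1⟩
      mul_mem' := fun {a b} ha hb' => ⟨mul_mem ha.1 hb'.1, by
        calc a * b * (a * b) = a * (b * a) * b := by group
          _ = a * a * (b * b) := by rw [← h.V_comm hb ha.1 hb'.1]; group
          _ = 1 := by rw [ha.2, hb'.2, one_mul]⟩
      inv_mem' := fun {a} ha => ⟨inv_mem ha.1, by rw [← mul_inv_rev, ha.2, inv_one]⟩ }
  exact ((iSup_le fun μ => fun y hy => ⟨Z_le_V μ.2 hy, h.Z_sq hy⟩ : V ν ≤ X) hx).2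

end C2

namespace Side

variable (h : Side P₁ P₂)
include h

/-- two neighbours of a vertex of the second kind have different centres -/
theorem Z_ne {β α α' : Vx P₁ P₂} (hB : ¬ A β) (hm : Ad β α) (hm' : Ad β α') (hne : α ≠ α') :
    Z α ≠ Z α' := fun he => by
  have hA : A α := (A_adj hm.symm).2 hB
  refine h.Z_ne_bot α (h.killN hm.symm ((h.Z_le_Q α).trans (h.Q_le_E hm.symm)) (h.S_le_norm_Z α) ?_)
  exact h.S_le' hm hm' hne (inf_le_right.trans (h.S_le_norm_Z α))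
    (inf_le_right.trans (he ▸ h.S_le_norm_Z α'))

/-- two neighbours of a vertex of the first kind span different subgroups -/
theorem V_ne (hb : 1 < crit P₁ P₂) {α ν ν' : Vx P₁ P₂} (hm : Ad α ν) (hm' : Ad α ν') (hne : ν ≠ ν') :
    V ν ≠ V ν' := fun he => by
  refine h.Z_ne_bot α (le_bot_iff.1 ?_)
  rw [← h.killN hm.symm ((h.V_le_Q hb ν).trans (h.Q_le_E hm.symm)) (h.S_le_norm_V ν)
    (h.S_le' hm hm' hne (inf_le_right.trans (h.S_le_norm_V ν)) (inf_le_right.trans (he ▸ h.S_le_norm_V ν')))]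
  exact Z_le_V hm.symm

theorem Z_sup {α ν ν' : Vx P₁ P₂} (hR : Rk P₁ P₂) (hA : A α) (hm : Ad α ν) (hm' : Ad α ν')
    (hne : ν ≠ ν') {x : G} (hx : x ∈ Z α) : ∃ a ∈ Z ν, ∃ b ∈ Z ν', a * b = x := by
  haveI := h.finZ ν
  haveI := h.finZ ν'
  haveI := h.finZ α
  have hB : ¬ A ν := (A_adj hm).1 hA
  have hB' : ¬ A ν' := (A_adj hm').1 hA
  have hf : Function.Bijective fun q : Z ν × Z ν' => (⟨(q.1 : G) * q.2,
      mul_mem (h.Zb_le hB hm.symm q.1.2) (h.Zb_le hB' hm'.symm q.2.2)⟩ : ↥(Z α)) := by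
    rw [Nat.bijective_iff_injective_and_card]
    refine ⟨?_, by rw [Nat.card_prod, hR.two ν hB, hR.two ν' hB', hR.four α hA]⟩
    rintro ⟨a, b⟩ ⟨a', b'⟩ hab
    have hab' : (a : G) * b = a' * b' := congrArg Subtype.val hab
    have he : (a' : G)⁻¹ * a = b' * (b : G)⁻¹ := by
      rw [eq_mul_inv_iff_mul_eq, mul_assoc, hab', inv_mul_cancel_left]
    have h1 := h.Zb_inf hA hm hm' hne (mul_mem (inv_mem a'.2) a.2) (he ▸ mul_mem b'.2 (inv_mem b.2))
    have ha' : a = a' := Subtype.ext (inv_mul_eq_one.1 h1).symm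
    subst ha'
    exact Prod.ext rfl (Subtype.ext (mul_left_cancel hab'))
  obtain ⟨⟨a, b⟩, hab⟩ := hf.2 ⟨x, hx⟩
  exact ⟨a, a.2, b, b.2, congrArg Subtype.val hab⟩

theorem Zb_eq_one (hR : Rk P₁ P₂) {ν : Vx P₁ P₂} (hB : ¬ A ν) {x y : G} (hx : x ∈ Z ν) (hy : y ∈ Z ν)
    (hx1 : x ≠ 1) (hy1 : y ≠ 1) : x = y := by
  haveI := h.finZ ν
  obtain ⟨c, -, hc⟩ := (Nat.card_eq_two_iff' (1 : ↥(Z ν))).1 (hR.two ν hB)
  exact congrArg Subtype.val ((hc ⟨x, hx⟩ fun e => hx1 (congrArg Subtype.val e)).trans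
    (hc ⟨y, hy⟩ fun e => hy1 (congrArg Subtype.val e)).symm)

theorem exists_Zb (ν : Vx P₁ P₂) : ∃ z ∈ Z ν, z ≠ 1 :=
  (Subgroup.ne_bot_iff_exists_ne_one.1 (h.Z_ne_bot ν)).elim fun z hz =>
    ⟨z, z.2, fun e => hz (Subtype.ext e)⟩

/-- the centres of two neighbours of a vertex of the second kind meet in its centre -/
theorem Z_inf (hR : Rk P₁ P₂) {β α α' : Vx P₁ P₂} (hB : ¬ A β) (hm : Ad β α) (hm' : Ad β α')
    (hne : α ≠ α') {x : G} (hx : x ∈ Z α) (hx' : x ∈ Z α') : x ∈ Z β := by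
  by_contra hxn
  obtain ⟨ν, hν, hνne⟩ := h.exists_other hm.symm
  refine h.Z_ne hB hm hm' hne (le_antisymm ?_ ?_)
  · intro y hy
    obtain ⟨c, hc, hc1⟩ := h.exists_Zb β
    have hc' : c ∈ Z α' := h.Zb_le hB hm' hc
    have hA : A α := (A_adj hm.symm).2 hB
    obtain ⟨a, ha, b, hb, rfl⟩ := h.Z_sup hR hA hm.symm hν hνne.symm hy
    obtain ⟨a', ha', b', hb', rfl⟩ := h.Z_sup hR hA hm.symm hν hνne.symm hx
    have hb1 : b' ≠ 1 := fun e => hxn (by rw [e, mul_one]; exact ha')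
    have ha'' : a' ∈ Z α' := h.Zb_le hB hm' ha'
    have hbm : b' ∈ Z α' := by simpa using mul_mem (inv_mem ha'') hx'
    refine mul_mem (h.Zb_le hB hm' ha) ?_
    by_cases hb0 : b = 1
    · rw [hb0]; exact one_mem _
    · rw [h.Zb_eq_one hR ((A_adj hν).1 hA) hb hb' hb0 hb1]; exact hbm
  · intro y hy
    have hA : A α' := (A_adj hm'.symm).2 hB
    obtain ⟨ν', hν', hνne'⟩ := h.exists_other hm'.symm
    obtain ⟨a, ha, b, hb, rfl⟩ := h.Z_sup hR hA hm'.symm hν' hνne'.symm hy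
    obtain ⟨a', ha', b', hb', rfl⟩ := h.Z_sup hR hA hm'.symm hν' hνne'.symm hx'
    have hb1 : b' ≠ 1 := fun e => hxn (by rw [e, mul_one]; exact ha')
    have ha'' : a' ∈ Z α := h.Zb_le hB hm ha'
    have hbm : b' ∈ Z α := by simpa using mul_mem (inv_mem ha'') hx
    refine mul_mem (h.Zb_le hB hm ha) ?_
    by_cases hb0 : b = 1
    · rw [hb0]; exact one_mem _
    · rw [h.Zb_eq_one hR ((A_adj hν').1 hA) hb hb' hb0 hb1]; exact hbm

/-- elements outside the core act as transvections -/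
theorem transv (hR : Rk P₁ P₂) {α β : Vx P₁ P₂} (hA : A α) (hm : Ad α β) {a x : G} (ha : a ∈ E α β)
    (hx : x ∈ Z α) : ∃ z ∈ Z β, a * x * a⁻¹ = x * z ∧ (z = 1 → a ∈ Q α ∨ x ∈ Z β) := by
  have hB : ¬ A β := (A_adj hm).1 hA
  have hy : a * x * a⁻¹ ∈ Z α := (mem_normalizer_iff.1 (h.S_le_norm_Z α ha.1) x).1 hx
  have hfix : ∀ w ∈ Z β, a * w * a⁻¹ = w := fun w hw => by
    rw [h.Zb_central hB hw ha.2, mul_inv_cancel_right]
  obtain ⟨ν, hν, hνne⟩ := h.exists_other hm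
  obtain ⟨c, hc, d, hd, hcd⟩ := h.Z_sup hR hA hm hν hνne.symm hy
  obtain ⟨c', hc', d', hd', hcd'⟩ := h.Z_sup hR hA hm hν hνne.symm hx
  have hdd : d' = 1 → d = 1 := fun e => by
    rw [e, mul_one] at hcd'
    subst hcd'
    rw [hfix c' hc'] at hcd
    have : d = c⁻¹ * c' := by rw [← hcd, inv_mul_cancel_left]
    exact h.Zb_inf hA hν hm hνne hd (this ▸ mul_mem (inv_mem hc) hc')
  by_cases hd1 : d' = 1
  · refine ⟨1, one_mem _, ?_, fun _ => Or.inr ?_⟩
    · rw [mul_one, ← hcd', hd1, mul_one]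
      exact hfix c' hc'
    · rw [← hcd', hd1, mul_one]; exact hc'
  · have hdne : d ≠ 1 := fun e => by
      rw [e, mul_one] at hcd
      have h1 : x = a⁻¹ * c * a := by rw [hcd]; group
      have h2 : x = c := by rw [h1, mul_assoc, ← h.Zb_central hB hc ha.2, inv_mul_cancel_left]
      refine hd1 (h.Zb_inf hA hν hm hνne hd' ?_)
      have : d' = c'⁻¹ * c := by rw [← h2, ← hcd', inv_mul_cancel_left]
      exact this ▸ mul_mem (inv_mem hc') hc
    have hde : d = d' := h.Zb_eq_one hR ((A_adj hν).1 hA) hd hd' hdne hd1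
    refine ⟨c'⁻¹ * c, mul_mem (inv_mem hc') hc, ?_, fun hz => ?_⟩
    · rw [← hcd, ← hcd', hde]
      have h1 : c * d' = d' * c := h.Z_comm (h.Zb_le hB hm.symm hc) (h.Z_le_Q α (h.Zb_le ((A_adj hν).1 hA) hν.symm hd'))
      have h2 : c' * d' = d' * c' := h.Z_comm (h.Zb_le hB hm.symm hc') (h.Z_le_Q α (h.Zb_le ((A_adj hν).1 hA) hν.symm hd'))
      rw [h1, h2, mul_assoc, mul_inv_cancel_left]
    · have hcc : c' = c := inv_mul_eq_one.1 hz
      have hfx : a * x * a⁻¹ = x := by rw [← hcd, ← hcd', hde, hcc]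
      left
      refine h.cent_Z (h.act hA) ha.1 fun y hy' => ?_
      obtain ⟨p, hp, q, hq, rfl⟩ := h.Z_sup hR hA hm hν hνne.symm hy'
      have hd'fix : a * d' * a⁻¹ = d' := by
        have := hfx
        rw [← hcd', show a * (c' * d') * a⁻¹ = (a * c' * a⁻¹) * (a * d' * a⁻¹) by group, hfix c' hc'] at this
        exact mul_left_cancel this
      have hqfix : a * q * a⁻¹ = q := by
        by_cases hq1 : q = 1
        · rw [hq1, mul_one, mul_inv_cancel]
        · rw [h.Zb_eq_one hR ((A_adj hν).1 hA) hq hd' hq1 hd1]; exact hd'fix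
      refine mul_inv_eq_iff_eq_mul.1 ?_
      rw [show a * (p * q) * a⁻¹ = (a * p * a⁻¹) * (a * q * a⁻¹) by group, hfix p hp, hqfix]

end Side

end Cfsg.Agent.H88.Am
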