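import Cfsg.Agent.H88.GbOdd

/-!
An odd critical length at least three: the orders of the centres and the shift of a critical path.
-/

set_option autoImplicit false
set_option linter.style.haveILetI false

namespace Cfsg.Agent.H88.Am

open Subgroup

variable {G : Type*} [Group G] {P₁ P₂ : Subgroup G}

namespace Cub

variable (h : Cub P₁ P₂)
include h

/-- three different neighbours are all of them -/
theorem three {δ μ ν ν' ξ : Vx P₁ P₂} (hm : Ad δ μ) (hn : Ad δ ν) (hn' : Ad δ ν') (h1 : ν ≠ μ)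
    (h2 : ν' ≠ μ) (h3 : ν' ≠ ν) (hx : Ad δ ξ) : ξ = μ ∨ ξ = ν ∨ ξ = ν' := by
  obtain ⟨a, ha, haQ⟩ := h.exists_not_mem_Q hm
  have e : ν' = a • ν := by
    rcases h.nbr_cases hm hn h1 ha haQ hn' with e | e | e
    exacts [absurd e h2, absurd e h3, e]
  rw [e]
  exact h.nbr_cases hm hn h1 ha haQ hx

/-- membership of a product in the core of an edge -/
theorem mul_iff {δ μ : Vx P₁ P₂} (hm : Ad δ μ) {a b : G} (ha : a ∈ E δ μ) (hb : b ∈ E δ μ) :
    a * b ∈ Q δ ↔ (a ∈ Q δ ↔ b ∈ Q δ) := by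
  by_cases haQ : a ∈ Q δ
  · rw [(Q δ).mul_mem_cancel_left haQ]; tauto
  · by_cases hbQ : b ∈ Q δ
    · rw [(Q δ).mul_mem_cancel_right hbQ]; tauto
    · exact iff_of_true (h.mul_mem_Q hm ha hb haQ hbQ) (iff_of_false haQ hbQ)

theorem Q_mem_E {δ μ : Vx P₁ P₂} (hm : Ad δ μ) {x : G} (hx : x ∈ Q δ) : x ∈ E μ δ :=
  E_comm δ μ ▸ h.Q_le_E hm hx

theorem inv_mul_mem_Q {δ μ : Vx P₁ P₂} (hm : Ad δ μ) {a b : G} (ha : a ∈ E δ μ) (hb : b ∈ E δ μ)
    (hab : a ∈ Q δ ↔ b ∈ Q δ) : a⁻¹ * b ∈ Q δ :=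
  (h.mul_iff hm (inv_mem ha) hb).2 (by rwa [inv_mem_iff])

end Cub

namespace C2

variable (h : C2 P₁ P₂)
include h

theorem Z_le_Q_two {δ μ ν : Vx P₁ P₂} (hm : Ad δ μ) (hn : Ad μ ν) (hb : 2 < crit P₁ P₂) :
    Z δ ≤ Q ν := by
  have := h.Z_le_Q_of_path (p := cons δ (cons μ fun _ => ν)) (n := 2) (fun i hi => by
    rcases i with _ | _ | i
    · simpa using hm
    · simpa using hn
    · omega) hb
  simpa using this

/-- a centre near the start of a critical path -/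
theorem Z_le_Q_near {n : ℕ} {p : ℕ → Vx P₁ P₂} (hp : Pth n p) {μ δ : Vx P₁ P₂} (hμ : Ad (p 0) μ)
    (hδ : Ad μ δ) {i : ℕ} (hi : i ≤ n) (hb : i + 2 < crit P₁ P₂) : Z δ ≤ Q (p i) := by
  have hP : Pth (i + 1 + 1) (cons δ (cons μ p)) := by
    intro j hj
    rcases j with _ | _ | j
    · simpa using hδ.symm
    · simpa using hμ.symm
    · simpa using hp j (by omega)
  have := h.Z_le_Q_of_path hP (by omega)
  simpa using this

end C2

namespace Side

variable (h : Side P₁ P₂)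
include h

theorem sib_inter (hb : 2 < crit P₁ P₂) {α α₂ β : Vx P₁ P₂} (hB : ¬ A β) (hm : Ad β α) (hm2 : Ad β α₂)
    (hne : α₂ ≠ α) {x : G} (hx : x ∈ Z α) (hx2 : x ∈ Z α₂) : x ∈ Z β := by
  have hQ0 : Q α ≠ ⊥ := fun e => h.Z_ne_bot α (le_bot_iff.1 (e ▸ h.Z_le_Q α))
  obtain ⟨t, ht, htQ⟩ := SetLike.not_le_iff_exists.1 (h.Q_ne_le hm.symm hQ0)
  have htE : t ∈ E β α := h.Q_mem_E hm.symm ht
  obtain ⟨z, hzb, hza, hz2⟩ := h.not_flat hb hB hm hm2 hne
  have hq : ∀ q ∈ Q β, q * x = x * q := by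
    intro q hq
    by_cases hqA : q ∈ Q α
    · exact (h.Z_comm hx hqA).symm
    by_cases hq2 : q ∈ Q α₂
    · exact (h.Z_comm hx2 hq2).symm
    have hqz : q * z ∈ Q α₂ := h.mul_mem_Q hm2.symm (h.Q_mem_E hm2 hq) (h.Q_mem_E hm2 hzb) hq2 hz2
    calc q * x = q * z * (z⁻¹ * x) := by group
      _ = q * z * (x * z⁻¹) := by rw [h.Z_comm hx ((Q α).inv_mem hza)]
      _ = q * z * x * z⁻¹ := by group
      _ = x * (q * z) * z⁻¹ := by rw [h.Z_comm hx2 hqz]
      _ = x * q := by group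
  refine h.mem_Zb hB hm (h.Q_le_E hm (h.Z_le_Q_adj hm.symm (by omega) hx)) (h.Z_sq hx) fun e he => ?_
  by_cases heQ : e ∈ Q β
  · exact hq e heQ
  calc e * x = e * t * (t⁻¹ * x) := by group
    _ = e * t * (x * t⁻¹) := by rw [h.Z_comm hx ((Q α).inv_mem ht)]
    _ = e * t * x * t⁻¹ := by group
    _ = x * (e * t) * t⁻¹ := by rw [hq _ (h.mul_mem_Q hm he htE heQ htQ)]
    _ = x * e := by group

theorem odd_rank (ho : Odd (crit P₁ P₂)) (hb : 3 ≤ crit P₁ P₂) : Rk P₁ P₂ := by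
  classical
  obtain ⟨p, hp⟩ := h.exists_crit
  obtain ⟨γ, w, hγ, hγne, hw, hwQ, hwE, hback⟩ := h.exists_back hp ho hb
  obtain ⟨u, hu, huQ⟩ := SetLike.not_le_iff_exists.1 hp.2
  set b := crit P₁ P₂ with hbdef
  have hpa := h.crit_arc hp
  have hA0 : A (p 0) := h.crit_A hp
  have hbB : ¬ A (p b) := by rw [h.A_iff hp le_rfl]; exact Nat.not_even_iff_odd.2 ho
  have hB1 : ¬ A (p 1) := by rw [h.A_iff hp (by omega)]; simp
  have hAγ : A γ := (A_adj hγ.symm).2 hbB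
  have h01 : Ad (p 0) (p 1) := hp.1 0 (by omega)
  have h12 : Ad (p 1) (p 2) := hp.1 1 (by omega)
  have h10 : Ad (p (b - 1)) (p b) := by
    have := hp.1 (b - 1) (by omega)
    rwa [show b - 1 + 1 = b by omega] at this
  have hw0 : w • p 0 ≠ p 0 := h.not_mem_E h12 h01.symm (hpa.2 0 (by omega)).symm hwE hwQ
  have hin : ∀ x ∈ Z (p 0), x ∈ Q γ → x ∈ Z (p 1) := by
    intro x hx hxγ
    refine h.sib_inter (by omega) hB1 h01.symm (h.adj_smul h01.symm hwE.1) hw0 hx ?_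
    have := h.conj_mem_Z w hx
    rwa [h.Z_comm hw hxγ, mul_inv_cancel_right] at this
  obtain ⟨β₁, hβ1, hne1⟩ := h.exists_other h01
  obtain ⟨g1, hg1, hgβ⟩ := H58.exists_smul_eq_of_adj h01 hβ1
  haveI := h.finZ (p 0)
  haveI := h.finZ (p 1)
  set c := Nat.card (Z (p 1)) with hc
  have hsq : c * c ≤ Nat.card (Z (p 0)) := by
    rw [hc, ← Nat.card_prod]
    refine Nat.card_le_card_of_injective (fun q => (⟨(q.1 : G) * (g1 * q.2 * g1⁻¹),
      mul_mem (h.Zb_le hB1 h01.symm q.1.2) (h.Zb_le ((A_adj hβ1).1 hA0) hβ1.symm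
        (hgβ ▸ h.conj_mem_Z g1 q.2.2))⟩ : ↥(Z (p 0)))) ?_
    rintro ⟨x, y⟩ ⟨x', y'⟩ he'
    have he2 : (x : G) * (g1 * y * g1⁻¹) = x' * (g1 * y' * g1⁻¹) := congrArg Subtype.val he'
    have h5 : (x' : G)⁻¹ * x = (g1 * y' * g1⁻¹) * (g1 * (y : G) * g1⁻¹)⁻¹ := by
      rw [eq_mul_inv_iff_mul_eq, mul_assoc, he2, inv_mul_cancel_left]
    have h6 := h.Zb_inf hA0 h01 hβ1 hne1.symm (mul_mem (inv_mem x'.2) x.2)
      (h5 ▸ mul_mem (hgβ ▸ h.conj_mem_Z g1 y'.2) (inv_mem (hgβ ▸ h.conj_mem_Z g1 y.2)))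
    have hx : x = x' := Subtype.ext (inv_mul_eq_one.1 h6).symm
    subst hx
    exact Prod.ext rfl (Subtype.ext (by simpa using mul_left_cancel he2))
  suffices hle : Nat.card (Z (p 0)) ≤ 2 * c by
    have h1 : 2 ≤ c := (Subgroup.one_lt_card_iff_ne_bot _).2 (h.Z_ne_bot (p 1))
    have h2 : c ≤ 2 := Nat.le_of_mul_le_mul_right (hsq.trans hle) (by omega)
    refine Rk.of h.toC2 hA0 hB1 ?_ (by omega)
    rw [show c = 2 by omega] at hle hsq
    omega
  by_contra hlt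
  have hbool : Nat.card Bool = 2 := by simp
  obtain ⟨z, hz, hzb, hzγ⟩ : ∃ z ∈ Z (p 0), z ∈ Q (p b) ∧ z ∉ Q γ := by
    by_contra hno
    push Not at hno
    refine hlt ?_
    refine (card_le_fibres (H := Z (p 0)) (K := Z (p 1)) (fun x => decide (x ∈ Q (p b))) ?_).trans
      (by rw [hbool])
    intro x hx y hy hxy
    exact hin _ (mul_mem (inv_mem hx) hy) (hno _ (mul_mem (inv_mem hx) hy)
      (h.inv_mul_mem_Q h10.symm (h.Z_le_E hp.1 hx) (h.Z_le_E hp.1 hy) (decide_eq_decide.1 hxy)))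
  have hzE : z ∈ E γ (p b) := h.Q_mem_E hγ hzb
  obtain ⟨x, hx, hx1, hxz⟩ : ∃ x ∈ Z γ, x ∈ Q (p 1) ∧ z * x ≠ x * z := by
    by_contra hno
    push Not at hno
    refine hlt ?_
    haveI := h.finZ (p b)
    obtain ⟨g, hg⟩ := exists_smul_of_iff (δ := γ) (μ := p 0) (iff_of_true hAγ hA0)
    obtain ⟨g', hg'⟩ := exists_smul_of_iff (δ := p b) (μ := p 1) (iff_of_false hbB hB1)
    rw [hc, ← hg, ← hg', h.card_Z_smul, h.card_Z_smul]
    refine (card_le_fibres (H := Z γ) (K := Z (p b)) (fun x => decide (x ∈ Q (p 1))) ?_).trans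
      (by rw [hbool])
    intro x hx y hy hxy
    have hm := mul_mem (inv_mem hx) hy
    have hwE' : ∀ y ∈ Z γ, y ∈ E (p 1) (p 2) := fun y hy => by
      have := h.Z_le_E hback.1 (by rw [cons_zero]; exact hy)
      rw [← hbdef, show b - 1 = b - 2 + 1 by omega] at this
      rw [cons_succ, show b - (b - 2) = 2 by omega] at this
      rwa [show b = b - 1 + 1 by omega, cons_succ, show b - 1 + 1 - (b - 1) = 1 by omega] at this
    have hm1 : x⁻¹ * y ∈ Q (p 1) := h.inv_mul_mem_Q h12 (hwE' x hx) (hwE' y hy) (decide_eq_decide.1 hxy)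
    refine h.mem_Zb hbB hγ (h.Q_mem_E hγ.symm (h.Z_le_Q γ hm)) (h.Z_sq hm) fun e he => ?_
    rw [E_comm] at he
    by_cases heQ : e ∈ Q γ
    · exact (h.Z_comm hm heQ).symm
    · refine mul_inv_eq_iff_eq_mul.1 ?_
      rw [h.act_eq hγ.symm he hzE heQ hzγ hm, hno _ hm hm1, mul_inv_cancel_right]
  have hxE : x ∈ E (p 0) (p 1) := h.Q_mem_E h01.symm hx1
  set ζ := x * z * x⁻¹ * z⁻¹ with hζ
  have hζ1 : ζ ∈ Z (p 1) := h.comm_Zb hA0 h01 hxE hz
  have hζb : ζ ∈ Z (p b) := by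
    have := inv_mem (h.comm_Zb hAγ hγ.symm hzE hx)
    rwa [show (z * x * z⁻¹ * x⁻¹)⁻¹ = ζ by rw [hζ]; group] at this
  have hζne : ζ ≠ 1 := fun e => hxz (by
    rw [hζ] at e
    exact (mul_inv_eq_iff_eq_mul.1 (mul_inv_eq_one.1 e)).symm)
  have hζ10 : ζ ∈ Z (p (b - 1)) := h.Zb_le hbB h10.symm hζb
  rcases eq_or_lt_of_le hb with e | hb5
  · refine hζne (h.Zb_inf ((h.A_iff hp (i := 2) (by omega)).2 ⟨1, rfl⟩) h12.symm (hp.1 2 (by omega))
      (hpa.2 1 (by omega)) hζ1 ?_)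
    rwa [show 2 + 1 = b by omega]
  have harc : Arc (b + 1) fun i => if i ≤ b then p i else γ := by
    refine ⟨fun i hi => ?_, fun i hi => ?_⟩
    · rcases Nat.lt_or_ge i b with hlt' | hge
      · simpa [hlt'.le, show i + 1 ≤ b by omega] using hp.1 i hlt'
      · simpa [show i = b by omega] using hγ
    · rcases Nat.lt_or_ge (i + 1) b with hlt' | hge
      · simpa [show i ≤ b by omega, show i + 2 ≤ b by omega] using hpa.2 i (by omega)
      · simpa [show i = b - 1 by omega, show ¬ b - 1 + 2 ≤ b by omega] using hγne.symm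
  have hmv : Mv (b + 1) (fun i => if i ≤ b then p i else γ) z := by
    refine ⟨fun i hi => ?_, by simpa using hzγ⟩
    rcases Nat.lt_or_ge i (b + 1) with hlt' | hge
    · simpa [show i ≤ b by omega] using h.Z_fix (hp.1.mono (by omega)) (by omega : i ≤ crit P₁ P₂) hz
    · simpa [show i = b + 1 by omega] using MulAction.mem_stabilizer_iff.1 hzE.1
  have hq1 : Arc (b - 3) fun i => p (3 + i) := hpa.drop 3 (by omega)
  have hq2 : Arc (b - 3) fun i => p (1 + i) := (hpa.drop 1 (by omega)).mono (by omega)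
  obtain ⟨g, hg⟩ := h.arc_trans (k := b) harc hmv (by simpa using hAγ) hpa
    (h.mover_of_crit hp hu huQ) hbB (by omega) (by omega) (b - 3) (by omega) _ _ hq1 hq2
    (iff_of_false (by rw [h.A_iff hp (by omega)]; decide) (by simpa using hB1))
  set k := g * u * g⁻¹ with hk
  have hkfix : ∀ j ≤ b - 3, k • p (1 + j) = p (1 + j) := fun j hj => by
    rw [← hg j hj, hk, mul_smul, mul_smul, inv_smul_smul,
      h.Z_fix (hp.1.mono (by omega)) (by omega : 3 + j ≤ crit P₁ P₂) hu]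
  have h32 : Ad (p (b - 3)) (p (b - 2)) := by
    have := hp.1 (b - 3) (by omega)
    rwa [show b - 3 + 1 = b - 2 by omega] at this
  have h21 : Ad (p (b - 2)) (p (b - 1)) := by
    have := hp.1 (b - 2) (by omega)
    rwa [show b - 2 + 1 = b - 1 by omega] at this
  have hk2 : k • p (b - 2) = p (b - 2) := by
    have := hkfix (b - 3) le_rfl
    rwa [show 1 + (b - 3) = b - 2 by omega] at this
  have hk3 : k • p (b - 3) = p (b - 3) := by
    have := hkfix (b - 4) (by omega)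
    rwa [show 1 + (b - 4) = b - 3 by omega] at this
  have hkQ : k ∉ Q (p (b - 2)) := fun hc' => huQ (by
    have e := hg (b - 3) le_rfl
    rw [show 3 + (b - 3) = b by omega, show 1 + (b - 3) = b - 2 by omega] at e
    rw [← e] at hc'
    simpa [hk, mul_assoc] using h.mem_Q_smul.1 hc')
  have hkne : k • p (b - 1) ≠ p (b - 1) := h.not_mem_E h32.symm h21 (by
    have := hpa.2 (b - 3) (by omega)
    rwa [show b - 3 + 2 = b - 1 by omega] at this) ⟨hk2, hk3⟩ hkQ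
  have hk1 : k • p 1 = p 1 := by simpa using hkfix 0 (by omega)
  have hB2 : ¬ A (p (b - 2)) := by
    rw [h.A_iff hp (by omega)]
    obtain ⟨m, hm⟩ := ho
    exact fun ⟨j, hj⟩ => by omega
  have hζ2 : ζ ∈ Z (p (b - 2)) := by
    refine h.sib_inter (by omega) hB2 h21 (h.adj_smul h21 hk2) hkne hζ10 ?_
    have := h.conj_mem_Z k hζ10
    rwa [h.Zb_central hB1 hζ1 hk1, mul_inv_cancel_right] at this
  refine hζne (h.Zb_inf ((A_adj h21.symm).2 hB2) h21.symm h10 ?_ hζ2 hζb)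
  have := hpa.2 (b - 2) (by omega)
  rwa [show b - 2 + 2 = b by omega] at this

theorem shift (ho : Odd (crit P₁ P₂)) (hb : 3 ≤ crit P₁ P₂) {p : ℕ → Vx P₁ P₂} (hp : Crit p) :
    ∃ μ δ, Ad (p 0) μ ∧ μ ≠ p 1 ∧ Ad μ δ ∧ δ ≠ p 0 ∧ Crit (cons δ (cons μ p)) := by
  obtain ⟨γ, w, hγ, hγne, hw, hwQ, hwE, -⟩ := h.exists_back hp ho hb
  obtain ⟨u, hu, huQ⟩ := SetLike.not_le_iff_exists.1 hp.2
  set b := crit P₁ P₂ with hbdef
  have hpa := h.crit_arc hp
  have hA0 : A (p 0) := h.crit_A hp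
  have h01 : Ad (p 0) (p 1) := hp.1 0 (by omega)
  have hbB : ¬ A (p b) := by rw [h.A_iff hp le_rfl]; exact Nat.not_even_iff_odd.2 ho
  have h10 : Ad (p (b - 1)) (p b) := by
    have := hp.1 (b - 1) (by omega)
    rwa [show b - 1 + 1 = b by omega] at this
  have h21 : Ad (p (b - 2)) (p (b - 1)) := by
    have := hp.1 (b - 2) (by omega)
    rwa [show b - 2 + 1 = b - 1 by omega] at this
  have hend : ∀ μ δ : Vx P₁ P₂, cons δ (cons μ p) b = p (b - 2) := fun μ δ => by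
    rw [show b = b - 2 + 1 + 1 by omega, cons_succ, cons_succ]
    congr 1
  have hq : ∀ μ δ, Ad (p 0) μ → μ ≠ p 1 → Ad μ δ → δ ≠ p 0 → Arc b (cons δ (cons μ p)) :=
    fun μ δ hμ hne hδ hne' => by
      have := ((hpa.mono (Nat.sub_le b 2)).cons hμ fun _ => hne).cons (μ := δ) (by simpa using hδ)
        fun _ => by simpa using hne'
      rwa [show b - 2 + 1 + 1 = b by omega] at this
  suffices hex : ∃ μ δ, Ad (p 0) μ ∧ μ ≠ p 1 ∧ Ad μ δ ∧ δ ≠ p 0 ∧ ¬ Z δ ≤ Q (p (b - 2)) by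
    obtain ⟨μ, δ, hμ, hne, hδ, hne', hn⟩ := hex
    exact ⟨μ, δ, hμ, hne, hδ, hne', (hq μ δ hμ hne hδ hne').1, by rwa [cons_zero, ← hbdef, hend]⟩
  by_contra hno
  push Not at hno
  obtain ⟨μ₀, hμ0, hμ0ne⟩ := h.exists_other h01
  obtain ⟨δ₀, hδ0, hδ0ne⟩ := h.exists_other hμ0.symm
  -- transitivity on paths of the critical length gives a contradiction
  have fin : ∀ nA (rA : ℕ → Vx P₁ P₂) gA, Arc nA rA → Mv nA rA gA → A (rA nA) → b ≤ nA + 1 → False := by
    intro nA rA gA hr hmv hA hk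
    obtain ⟨g, hg⟩ := h.arc_trans (k := b) hr hmv hA hpa (h.mover_of_crit hp hu huQ) hbB hk (by omega)
      b le_rfl p _ hpa (hq μ₀ δ₀ hμ0 hμ0ne hδ0 hδ0ne) (iff_of_true hA0 (by
        rw [cons_zero]
        exact (A_adj hδ0.symm).2 ((A_adj hμ0).1 hA0)))
    have := (h.crit_of_trans hp (hq μ₀ δ₀ hμ0 hμ0ne hδ0 hδ0ne).1 hg).2
    rw [cons_zero, ← hbdef, hend] at this
    exact this (hno μ₀ δ₀ hμ0 hμ0ne hδ0 hδ0ne)
  set U := ⨆ μ : {μ // Ad (p 0) μ}, V μ.1 with hU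
  have hUle : ∀ X : Subgroup G, (∀ μ δ, Ad (p 0) μ → Ad μ δ → Z δ ≤ X) → U ≤ X := fun X hX =>
    iSup_le fun μ => iSup_le fun δ => hX μ.1 δ.1 μ.2 δ.2
  have hU2 : U ≤ Q (p (b - 2)) := hUle _ fun μ δ hμ hδ => by
    by_cases e : μ = p 1
    · subst e
      have hP : Pth (b - 2) (cons δ fun i => p (1 + i)) := by
        intro j hj
        rcases j with _ | j
        · simpa using hδ.symm
        · simpa [add_assoc] using hp.1 (1 + j) (by omega)
      have := h.Z_le_Q_of_path hP (by omega)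
      rw [cons_zero, show b - 2 = b - 3 + 1 by omega] at this
      rw [cons_succ] at this
      rwa [show 1 + (b - 3) = b - 2 by omega] at this
    by_cases e' : δ = p 0
    · subst e'
      exact h.Z_le_Q_of_path (hp.1.mono (Nat.sub_le b 2)) (by omega)
    exact hno μ δ hμ e hδ e'
  have hUfix : ∀ x ∈ U, ∀ i ≤ b - 1, x • p i = p i := by
    intro x hx i hi
    rcases Nat.lt_or_ge i (b - 1) with hlt | hge
    · refine MulAction.mem_stabilizer_iff.1 ((hUle (S (p i)) fun μ δ hμ hδ z hz => ?_) hx)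
      have hP : Pth (i + 1 + 1) (cons δ (cons μ p)) := by
        intro j hj
        rcases j with _ | _ | j
        · simpa using hδ.symm
        · simpa using hμ.symm
        · simpa using hp.1 j (by omega)
      have := h.Z_fix hP (by omega) (by rw [cons_zero]; exact hz)
      simpa using this
    · rw [show i = b - 1 by omega]
      exact MulAction.mem_stabilizer_iff.1 (h.Q_le_E h21 (hU2 hx)).2
  by_cases hU1 : U ≤ Q (p (b - 1))
  swap
  · obtain ⟨x, hx, hxQ⟩ := SetLike.not_le_iff_exists.1 hU1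
    exact fin (b - 1) p x (hpa.mono (Nat.sub_le _ 1)) ⟨fun i hi => hUfix x hx i hi, hxQ⟩
      ((A_adj h10).2 hbB) (by omega)
  have hfix : ∀ x ∈ U, x ∈ Q (p b) → x ∈ Q γ := by
    intro x hx hxb
    by_contra hxγ
    refine fin (b + 1) (fun i => if i ≤ b then p i else γ) x ⟨fun i hi => ?_, fun i hi => ?_⟩
      ⟨fun i hi => ?_, by simpa using hxγ⟩ (by simpa using (A_adj hγ.symm).2 hbB) (by omega)
    · rcases Nat.lt_or_ge i b with hlt' | hge
      · simpa [hlt'.le, show i + 1 ≤ b by omega] using hp.1 i hlt'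
      · simpa [show i = b by omega] using hγ
    · rcases Nat.lt_or_ge (i + 1) b with hlt' | hge
      · simpa [show i ≤ b by omega, show i + 2 ≤ b by omega] using hpa.2 i (by omega)
      · simpa [show i = b - 1 by omega, show ¬ b - 1 + 2 ≤ b by omega] using hγne.symm
    · rcases Nat.lt_or_ge i b with hlt' | hge
      · simpa [hlt'.le] using hUfix x hx i (by omega)
      · rcases eq_or_lt_of_le hge with e | hlt'
        · simpa [← e] using MulAction.mem_stabilizer_iff.1 (h.Q_le_S _ hxb)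
        · simpa [show ¬ i ≤ b by omega] using MulAction.mem_stabilizer_iff.1 (h.Q_le_E hγ hxb).2
  have hUE : ∀ x ∈ U, x ∈ E (p b) (p (b - 1)) := fun x hx => h.Q_mem_E h10 (hU1 hx)
  have huU : u ∈ U :=
    (le_iSup (fun μ : {μ // Ad (p 0) μ} => V μ.1) ⟨p 1, h01⟩) (Z_le_V h01.symm hu)
  have hwu : w * u * w⁻¹ ∈ U :=
    (le_iSup (fun μ : {μ // Ad (p 0) μ} => V μ.1) ⟨p 1, h01⟩)
      (Z_le_V (h.adj_smul h01.symm hwE.1) (h.conj_mem_Z w hu))
  have hwU : ∀ x ∈ U, w * x * w⁻¹ ∈ U := by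
    intro x hx
    by_cases hxb : x ∈ Q (p b)
    · rwa [h.Z_comm hw (hfix x hx hxb), mul_inv_cancel_right]
    have h1 : u⁻¹ * x ∈ Q (p b) :=
      h.inv_mul_mem_Q h10.symm (h.Z_le_E hp.1 hu) (hUE x hx) (iff_of_false huQ hxb)
    have hm := U.mul_mem (U.inv_mem huU) hx
    rw [show w * x * w⁻¹ = (w * u * w⁻¹) * (w * (u⁻¹ * x) * w⁻¹) by group,
      h.Z_comm hw (hfix _ hm h1), mul_inv_cancel_right]
    exact mul_mem hwu hm
  have hw2 : w * w = 1 := h.Z_sq hw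
  have hn0 : S (p 0) ≤ normalizer (U : Set G) := by
    rw [le_normalizer_iff]
    intro g hg x hx
    have hle : U.map (MulAut.conj g).toMonoidHom ≤ U := by
      rw [hU, Subgroup.map_iSup]
      refine iSup_le fun μ => ?_
      rintro _ ⟨y, hy, rfl⟩
      exact (le_iSup (fun μ : {μ // Ad (p 0) μ} => V μ.1)
        ⟨g • μ.1, h.adj_smul μ.2 hg⟩) (h.conj_mem_V g hy)
    exact hle ⟨x, hx, rfl⟩
  have hwN : w ∈ normalizer (U : Set G) := mem_normalizer_iff.2 fun x => ⟨hwU x, fun hx => by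
    have := hwU _ hx
    rwa [show w * (w * x * w⁻¹) * w⁻¹ = (w * w) * x * (w * w)⁻¹ by group, hw2, one_mul, inv_one,
      mul_one] at this⟩
  have hwne : w ∉ E (p 1) (p 0) := fun hc =>
    h.not_mem_E (hp.1 1 (by omega)) h01.symm (hpa.2 0 (by omega)).symm hwE hwQ hc.2
  have hUbot : U = ⊥ := h.killN h01 (hUle _ fun μ δ hμ hδ =>
    (h.Z_le_Q_two hδ.symm hμ.symm (by omega)).trans (h.Q_le_E h01)) hn0
    (h.S_le h01.symm (inf_le_right.trans hn0) hwN hwE.1 hwne)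
  refine h.Z_ne_bot (p 0) (le_bot_iff.1 ?_)
  rw [← hUbot]
  exact (Z_le_V h01.symm).trans (le_iSup (fun μ : {μ // Ad (p 0) μ} => V μ.1) ⟨p 1, h01⟩)

end Side

end Cfsg.Agent.H88.Am
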