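import Cfsg.Agent.H88.GbBase
import Cfsg.Agent.H88.AmFlat
import Cfsg.Agent.PGroups.Basic

/-!
A characteristic-two cubic pair in which exactly one side centralises the central involutions.
-/

set_option autoImplicit false
set_option linter.style.haveILetI false

namespace Cfsg.Agent.H88.Am

open Subgroup

variable {G : Type*} [Group G] {P₁ P₂ : Subgroup G}

/-- the second group centralises the central involutions, the first does not -/
structure Side (P₁ P₂ : Subgroup G) : Prop extends C2 P₁ P₂ where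
  nc₁ : ¬ P₁ ≤ centralizer (H58.omegaCenter 2 (P₁ ⊓ P₂) : Set G)
  c₂ : P₂ ≤ centralizer (H58.omegaCenter 2 (P₁ ⊓ P₂) : Set G)

/-- the vertices of the first kind -/
def A (δ : Vx P₁ P₂) : Prop := δ.isLeft = true

theorem A_adj {δ μ : Vx P₁ P₂} (hm : Ad δ μ) : A δ ↔ ¬ A μ := by
  obtain ⟨x, ⟨rfl, rfl⟩ | ⟨rfl, rfl⟩⟩ := (H58.adj_iff _ _).1 hm <;> simp [A]

@[simp] theorem A_smul {g : G} {δ : Vx P₁ P₂} : A (g • δ) ↔ A δ := by
  rcases δ with q | q <;> induction q using QuotientGroup.induction_on with | _ x => ?_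
  · simp [A, H58.smul_inl_coe]
  · simp [A, H58.smul_inr_coe]

/-- vertices of one kind are conjugate -/
theorem exists_smul_of_iff {δ μ : Vx P₁ P₂} (h : A δ ↔ A μ) : ∃ g : G, g • δ = μ := by
  rcases δ with q | q <;> induction q using QuotientGroup.induction_on with | _ x => ?_ <;>
    rcases μ with q' | q' <;> induction q' using QuotientGroup.induction_on with | _ y => ?_
  · exact ⟨y * x⁻¹, by rw [H58.smul_inl_coe, inv_mul_cancel_right]⟩
  · simp [A] at h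
  · simp [A] at h
  · exact ⟨y * x⁻¹, by rw [H58.smul_inr_coe, inv_mul_cancel_right]⟩

namespace Side

variable (h : Side P₁ P₂)
include h

theorem act {δ : Vx P₁ P₂} (hA : A δ) : Act δ := by
  obtain ⟨μ, hm⟩ := H58.exists_adj δ
  refine ⟨μ, hm, fun hle => h.nc₁ fun p hp => mem_centralizer_iff.2 fun z hz => ?_⟩
  obtain ⟨x, ⟨rfl, rfl⟩ | ⟨rfl, rfl⟩⟩ := (H58.adj_iff _ _).1 hm
  · rw [E, S, Cfsg.edgeStabilizer, H58.stabilizer_inl, H58.stabilizer_inr,
      ← Subgroup.map_inf _ _ _ (MulAut.conj x).injective] at hle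
    apply (MulAut.conj x).injective
    rw [map_mul, map_mul]
    exact mem_centralizer_iff.1 (hle ⟨p, hp, rfl⟩) _ (H58.omegaCenter_map_conj_le _ x ⟨z, hz, rfl⟩)
  · simp [A] at hA

theorem central {ν μ : Vx P₁ P₂} (hB : ¬ A ν) (hm : Ad ν μ) :
    S ν ≤ centralizer (H58.omegaCenter 2 (E ν μ) : Set G) := by
  obtain ⟨x, ⟨rfl, rfl⟩ | ⟨rfl, rfl⟩⟩ := (H58.adj_iff _ _).1 hm
  · simp [A] at hB
  rw [E, S, Cfsg.edgeStabilizer, H58.stabilizer_inl, H58.stabilizer_inr, inf_comm,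
    ← Subgroup.map_inf _ _ _ (MulAut.conj x).injective]
  rintro g ⟨p, hp, rfl⟩
  refine mem_centralizer_iff.2 fun z hz => ?_
  have h1 := H58.omegaCenter_map_conj_le ((P₁ ⊓ P₂).map (MulAut.conj x).toMonoidHom) x⁻¹ ⟨z, hz, rfl⟩
  rw [H58.map_conj_map_conj, inv_mul_cancel] at h1
  have h2 : (P₁ ⊓ P₂).map (MulAut.conj (1 : G)).toMonoidHom = P₁ ⊓ P₂ := by
    ext y; rw [H58.mem_map_conj]; simp
  rw [h2] at h1
  have h3 := congrArg (MulAut.conj x) (mem_centralizer_iff.1 (h.c₂ hp) _ h1)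
  simp only [map_mul, MulEquiv.coe_toMonoidHom] at h3 ⊢
  simpa [mul_assoc] using h3

theorem Zb_eq {ν μ : Vx P₁ P₂} (hB : ¬ A ν) (hm : Ad ν μ) : Z ν = H58.omegaCenter 2 (E ν μ) := by
  haveI : Fact (Nat.Prime 2) := ⟨Nat.prime_two⟩
  haveI := h.finS ν
  refine le_antisymm (H58.sylowCenterClosure_le fun T hT => ?_) (h.omega_le_Z hm)
  obtain ⟨k, hk, hkT⟩ := H58.exists_conj_of_isSylIn (h.syl hm) hT
  intro z hz
  have h1 := H58.omegaCenter_map_conj_le T k⁻¹ ⟨z, hz, rfl⟩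
  rw [← hkT, H58.map_conj_map_conj, inv_mul_cancel] at h1
  have h2 : (E ν μ).map (MulAut.conj (1 : G)).toMonoidHom = E ν μ := by
    ext y; rw [H58.mem_map_conj]; simp
  rw [h2] at h1
  have h3 : k⁻¹ * z * k ∈ H58.omegaCenter 2 (E ν μ) := by simpa using h1
  have h4 := mem_centralizer_iff.1 (h.central hB hm hk) _ h3
  have h5 : k⁻¹ * z * k = z := by
    calc k⁻¹ * z * k = k⁻¹ * z * k * k * k⁻¹ := by group
      _ = k * (k⁻¹ * z * k) * k⁻¹ := by rw [h4]
      _ = z := by group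
  rwa [h5] at h3

theorem Zb_central {ν : Vx P₁ P₂} (hB : ¬ A ν) {z g : G} (hz : z ∈ Z ν) (hg : g ∈ S ν) : g * z = z * g := by
  obtain ⟨μ, hm⟩ := H58.exists_adj ν
  exact (mem_centralizer_iff.1 (h.central hB hm hg) z (h.Zb_eq hB hm ▸ hz)).symm

theorem Zb_le {ν μ : Vx P₁ P₂} (hB : ¬ A ν) (hm : Ad ν μ) : Z ν ≤ Z μ := by
  rw [h.Zb_eq hB hm, E_comm]
  exact h.omega_le_Z hm.symm

theorem mem_Zb {ν μ : Vx P₁ P₂} (hB : ¬ A ν) (hm : Ad ν μ) {x : G} (hx : x ∈ E ν μ) (h2 : x * x = 1)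
    (hc : ∀ e ∈ E ν μ, e * x = x * e) : x ∈ Z ν :=
  h.Zb_eq hB hm ▸ H58.mem_omegaCenter_of hx hc (by rw [pow_two, h2])

/-- nothing in the core of a vertex of the first kind is central in the vertex group -/
theorem fix_one {α : Vx P₁ P₂} (hA : A α) {x : G} (hx : x ∈ Q α) (h2 : x * x = 1)
    (hc : S α ≤ centralizer ({x} : Set G)) : x = 1 := by
  obtain ⟨β, hm⟩ := H58.exists_adj α
  have hB : ¬ A β := (A_adj hm).1 hA
  have hxE : x ∈ E β α := E_comm α β ▸ h.Q_le_E hm hx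
  have hxb := h.mem_Zb hB hm.symm hxE h2 fun e he => mem_centralizer_singleton_iff.1 (hc he.2)
  exact h.kill hm (E_comm β α ▸ hxE) hc fun g hg => mem_centralizer_singleton_iff.2 (h.Zb_central hB hxb hg)

theorem Zb_inf {α ν ν' : Vx P₁ P₂} (hA : A α) (hm : Ad α ν) (hm' : Ad α ν') (hne : ν ≠ ν') {x : G}
    (hx : x ∈ Z ν) (hx' : x ∈ Z ν') : x = 1 := by
  have hB : ¬ A ν := (A_adj hm).1 hA
  have hB' : ¬ A ν' := (A_adj hm').1 hA
  have hxα := h.Zb_le hB hm.symm hx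
  refine h.fix_one hA (h.Z_le_Q α hxα) (h.Z_sq hxα) (h.S_le' hm hm' hne ?_ ?_)
  · exact fun g hg => mem_centralizer_singleton_iff.2 (h.Zb_central hB hx hg.2)
  · exact fun g hg => mem_centralizer_singleton_iff.2 (h.Zb_central hB' hx' hg.2)

/-- a non-trivial normal subgroup in the core meets the centre at every edge -/
theorem exists_fixed {α ν : Vx P₁ P₂} (hA : A α) (hm : Ad α ν) {W : Subgroup G} (hW : W ≤ Q α)
    (hn : S α ≤ normalizer (W : Set G)) (hne : W ≠ ⊥) : ∃ x ∈ W, x ≠ 1 ∧ x ∈ Z ν := by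
  haveI : Fact (Nat.Prime 2) := ⟨Nat.prime_two⟩
  haveI := h.finE α ν
  have hWE : W ≤ E α ν := hW.trans (h.Q_le_E hm)
  have hp : IsPGroup 2 (E α ν) := (h.syl hm).isPGroup
  haveI : (W.subgroupOf (E α ν)).Normal :=
    normal_subgroupOf_of_le_normalizer ((inf_le_left : E α ν ≤ S α).trans hn)
  obtain ⟨z, hz, hzc, ho⟩ := PGroups.exists_mem_center_orderOf_eq hp (W.subgroupOf (E α ν)) fun hb =>
    hne (by
      have := congrArg (Subgroup.map (E α ν).subtype) hb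
      rwa [subgroupOf_map_subtype, inf_eq_left.2 hWE, Subgroup.map_bot] at this)
  refine ⟨z, hz, fun h1 => ?_, ?_⟩
  · rw [show z = 1 from Subtype.ext h1, orderOf_one] at ho
    omega
  · refine h.mem_Zb ((A_adj hm).1 hA) hm.symm (E_comm α ν ▸ z.2) ?_ fun e he => ?_
    · have h2 : z ^ 2 = 1 := ho ▸ pow_orderOf_eq_one z
      rw [pow_two] at h2
      exact congrArg Subtype.val h2
    · exact congrArg Subtype.val (Subgroup.mem_center_iff.1 hzc ⟨e, E_comm ν α ▸ he⟩)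

end Side

end Cfsg.Agent.H88.Am
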