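import Cfsg.Agent.H88.GbFive

/-!
Critical length three with one central side: the edge group has order at most 128.
-/

set_option autoImplicit false
set_option linter.style.haveILetI false

namespace Cfsg.Agent.H88.Am

open Subgroup

variable {G : Type*} [Group G] {P₁ P₂ : Subgroup G}

/-- the commutator with an inverting element of a fixed element is fixed -/
theorem comm_fixed {σ w n : G} (hw : w * w = 1) (hσw : w * σ * w = σ⁻¹) (hc : σ * n = n * σ) :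
    σ * (w⁻¹ * n * w * n⁻¹) = w⁻¹ * n * w * n⁻¹ * σ := by
  have e : σ * w = w * σ⁻¹ := by
    calc σ * w = w * w * σ * w := by rw [hw, one_mul]
      _ = w * (w * σ * w) := by group
      _ = w * σ⁻¹ := by rw [hσw]
  have e' : σ * w⁻¹ = w⁻¹ * σ⁻¹ := by rw [inv_eq_of_mul_eq_one_left hw]; exact e
  have e'' : σ⁻¹ * n = n * σ⁻¹ := (Commute.inv_left (hc : Commute σ n)).eq
  have e4 : σ⁻¹ * w = w * σ := by
    calc σ⁻¹ * w = σ⁻¹ * (w * σ⁻¹) * σ := by group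
      _ = w * σ := by rw [← e, inv_mul_cancel_left]
  have e5 : σ * n⁻¹ = n⁻¹ * σ := (Commute.inv_right (hc : Commute σ n)).eq
  calc σ * (w⁻¹ * n * w * n⁻¹) = (σ * w⁻¹) * n * w * n⁻¹ := by group
    _ = w⁻¹ * (σ⁻¹ * n) * w * n⁻¹ := by rw [e']; group
    _ = w⁻¹ * n * (σ⁻¹ * w) * n⁻¹ := by rw [e'']; group
    _ = w⁻¹ * n * w * (σ * n⁻¹) := by rw [e4]; group
    _ = w⁻¹ * n * w * n⁻¹ * σ := by rw [e5]; group

/-- an element of order three splitting the kernel at the second vertex of a critical path -/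
structure Sp (β : Vx P₁ P₂) (σ w : G) : Prop where
  mem : σ ∈ S β
  cube : σ ^ 3 = 1
  move : ∀ ν, Ad β ν → σ • ν ≠ ν
  inv : w * σ * w = σ⁻¹
  split : ∀ x ∈ Ker β, ∃ v ∈ V β, σ * (x * v) = x * v * σ

namespace Side

variable (h : Side P₁ P₂)
include h

theorem exists_third {α β β' : Vx P₁ P₂} (hm : Ad α β) (hm' : Ad α β') (hne : β' ≠ β) :
    ∃ ν g, Ad α ν ∧ ν ≠ β ∧ ν ≠ β' ∧ g ∈ E α β ∧ g ∉ Q α ∧ g • β' = ν ∧ g • ν = β' := by
  obtain ⟨g, hg, hgQ⟩ := h.exists_not_mem_Q hm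
  have h1 : Ad α (g • β') := h.adj_smul hm' hg.1
  have h2 : g • β' ≠ β := h.smul_ne hg hne
  have h3 : g • β' ≠ β' := h.not_mem_E hm hm' hne.symm hg hgQ
  refine ⟨g • β', g, h1, h2, h3, hg, hgQ, rfl, ?_⟩
  rcases h.three hm hm' h1 hne h2 h3 (h.adj_smul h1 hg.1) with e | e | e
  · exact absurd e (h.smul_ne hg h2)
  · exact e
  · exact absurd (smul_left_cancel g e) h3

section

variable (hb3 : crit P₁ P₂ = 3)
include hb3

theorem odd_three : Odd (crit P₁ P₂) := ⟨1, by omega⟩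

theorem exists_split {β α : Vx P₁ P₂} (hm : Ad β α) {w : G} (hw : w ∈ E β α) (hwQ : w ∉ Q β)
    (hw2 : w * w = 1) (hfar : ∀ x ∈ Ker β, x⁻¹ * (w * x * w⁻¹) ∈ V β) :
    ∃ σ, Sp β σ w ∧ ∀ g ∈ S β, ∀ g' ∈ S β, ∀ x ∈ Ker β,
      x⁻¹ * (g * w * g⁻¹ * (g' * w * g'⁻¹) * x * (g * w * g⁻¹ * (g' * w * g'⁻¹))⁻¹) ∈ V β := by
  obtain ⟨σ, hσ, hσm, hσ3, hσw, hσX⟩ := h.exists_sigma hm hw hwQ hw2
  have hnV : ∀ {g}, g ∈ S β → ∀ {y}, y ∈ V β → g * y * g⁻¹ ∈ V β := fun hg _ hy =>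
    (mem_normalizer_iff.1 (h.S_le_norm_V β hg) _).1 hy
  have hnK : ∀ {g}, g ∈ S β → ∀ {y}, y ∈ Ker β → g⁻¹ * y * g ∈ Ker β := fun hg _ hy => by
    simpa using (mem_normalizer_iff.1 (h.S_le_norm_Ker β (inv_mem hg)) _).1 hy
  let X : Subgroup G :=
    { carrier := {g | g ∈ S β ∧ ∀ x ∈ Ker β, x⁻¹ * (g * x * g⁻¹) ∈ V β}
      one_mem' := ⟨one_mem _, fun x _ => by simp⟩
      mul_mem' := fun {a b} ha hb => ⟨mul_mem ha.1 hb.1, fun x hx => by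
        rw [show x⁻¹ * (a * b * x * (a * b)⁻¹) =
          (x⁻¹ * (a * x * a⁻¹)) * (a * (x⁻¹ * (b * x * b⁻¹)) * a⁻¹) by group]
        exact mul_mem (ha.2 x hx) (hnV ha.1 (hb.2 x hx))⟩
      inv_mem' := fun {a} ha => ⟨inv_mem ha.1, fun x hx => by
        have h2 := inv_mem (ha.2 _ (hnK ha.1 hx))
        rw [show x⁻¹ * (a⁻¹ * x * a⁻¹⁻¹) = ((a⁻¹ * x * a)⁻¹ * (a * (a⁻¹ * x * a) * a⁻¹))⁻¹ by group]
        exact h2⟩ }
  have hwX : ∀ g ∈ S β, g * w * g⁻¹ ∈ X := by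
    intro g hg
    refine ⟨mul_mem (mul_mem hg hw.1) (inv_mem hg), fun x hx => ?_⟩
    have := hnV hg (hfar _ (hnK hg hx))
    rwa [show g * ((g⁻¹ * x * g)⁻¹ * (w * (g⁻¹ * x * g) * w⁻¹)) * g⁻¹ =
      x⁻¹ * (g * w * g⁻¹ * x * (g * w * g⁻¹)⁻¹) by group] at this
  refine ⟨σ, ⟨hσ, hσ3, h.move_all hm hσ hσ3 hσm, hσw, fun x hx => ?_⟩,
    fun g hg g' hg' x hx => (mul_mem (hwX g hg) (hwX g' hg')).2 x hx⟩
  set v := x⁻¹ * (σ * x * σ⁻¹) with hv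
  have hvV : v ∈ V β := (hσX X hwX).2 x hx
  set v1 := σ * v * σ⁻¹ with hv1
  set v2 := σ * v1 * σ⁻¹ with hv2
  have h1V : v1 ∈ V β := by rw [hv1]; exact hnV hσ hvV
  have h2V : v2 ∈ V β := by rw [hv2]; exact hnV hσ h1V
  have e1 : σ * x * σ⁻¹ = x * v := by rw [hv, mul_inv_cancel_left]
  have e2 : v * v1 * v2 = 1 := by
    have : σ ^ 3 * x * (σ ^ 3)⁻¹ = x * (v * v1 * v2) := by
      calc σ ^ 3 * x * (σ ^ 3)⁻¹ = σ * (σ * (σ * x * σ⁻¹) * σ⁻¹) * σ⁻¹ := by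
            rw [show σ ^ 3 = σ * σ * σ by rw [pow_succ, pow_two]]
            group
        _ = σ * (σ * (x * v) * σ⁻¹) * σ⁻¹ := by rw [e1]
        _ = σ * ((σ * x * σ⁻¹) * v1) * σ⁻¹ := by rw [hv1]; group
        _ = σ * (x * v * v1) * σ⁻¹ := by rw [e1]
        _ = (σ * x * σ⁻¹) * v1 * v2 := by rw [hv2, hv1]; group
        _ = x * (v * v1 * v2) := by rw [e1]; group
    rw [hσ3, one_mul, inv_one, mul_one] at this
    exact mul_eq_left.1 this.symm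
  have e3 : v * v2 = v1 := by
    calc v * v2 = v * v2 * (v1 * v1) := by rw [h.V_sq (by omega) h1V, mul_one]
      _ = v * (v2 * v1) * v1 := by group
      _ = v * v1 * v2 * v1 := by rw [h.V_comm (by omega) h2V h1V]; group
      _ = v1 := by rw [e2, one_mul]
  refine ⟨v1, h1V, mul_inv_eq_iff_eq_mul.1 ?_⟩
  calc σ * (x * v1) * σ⁻¹ = (σ * x * σ⁻¹) * v2 := by rw [hv2]; group
    _ = x * (v * v2) := by rw [e1, mul_assoc]
    _ = x * v1 := by rw [e3]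

section

variable {p : ℕ → Vx P₁ P₂} {γ : Vx P₁ P₂} {u w : G} (k : Bk p γ u w)
include k

theorem three_adj : Ad (p 3) γ := hb3 ▸ k.adj

theorem three_symm : rv p γ 1 = p 3 ∧ rv p γ 2 = p 2 ∧ rv p γ 3 = p 1 :=
  ⟨rv_of_pos p γ le_rfl (by omega), rv_of_pos p γ (by omega) (by omega), rv_of_pos p γ (by omega) (by omega)⟩

theorem three_w : w ∈ Q (p 2) ∧ w ∈ V (p 3) ∧ w ∉ Z (p 2) := by
  have h23 : Ad (p 2) (p 3) := k.isCrit.1 2 (by omega)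
  refine ⟨h.Z_le_Q_two (h.three_adj hb3 k).symm h23.symm (by omega) k.hw,
    Z_le_V (h.three_adj hb3 k) k.hw, fun hc => k.hwQ ?_⟩
  exact h.Z_le_Q_adj (k.isCrit.1 1 (by omega)).symm (by omega) hc

theorem three_V_Q {β : Vx P₁ P₂} (hm : Ad (p 2) β) {e : G} (he : e ∈ V β) : e ∈ Q (p 2) :=
  (mem_Ker.1 (h.V_le_Ker (by omega) β he)).2 _ hm.symm

theorem three_far {x : G} (hx : x ∈ Ker (p 1)) :
    w⁻¹ * x * w * x⁻¹ ∈ Z (p 2) ∧ x⁻¹ * (w * x * w⁻¹) ∈ V (p 1) := by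
  have ho := h.odd_three hb3
  have h12 : Ad (p 1) (p 2) := k.isCrit.1 1 (by omega)
  have h23 : Ad (p 2) (p 3) := k.isCrit.1 2 (by omega)
  have hB3 : ¬ A (p 3) := by rw [h.A_iff k.isCrit (by omega)]; decide
  obtain ⟨hwQ, hwV, hwn⟩ := h.three_w hb3 k
  have key : ∀ x ∈ Ker (p 1), w⁻¹ * x * w * x⁻¹ ∈ Z (p 2) := by
    intro x hx
    have hxE := h.Q_le_E h23 ((mem_Ker.1 hx).2 _ h12)
    have hn : x * w * x⁻¹ ∉ Z (p 2) := fun hc => hwn (by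
      rw [← MulAction.mem_stabilizer_iff.1 hxE.1] at hc
      exact h.conj_mem_Z_iff.1 hc)
    have := h.V_split ho (by omega) hB3 h23.symm hwV
      ((mem_normalizer_iff.1 (h.S_le_norm_V _ hxE.2) w).1 hwV) hwn hn
    rwa [show w⁻¹ * (x * w * x⁻¹) = w⁻¹ * x * w * x⁻¹ by group] at this
  refine ⟨key x hx, Z_le_V h12 ?_⟩
  have h1 := inv_mem (key _ (inv_mem hx))
  rw [h.Z_inv k.hw] at h1
  rw [show x⁻¹ * (w * x * w⁻¹) = (w * x⁻¹ * w * x⁻¹⁻¹)⁻¹ * (1 : G) by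
    rw [mul_one, mul_inv_rev, mul_inv_rev, mul_inv_rev, inv_inv, inv_inv, h.Z_inv k.hw]; group]
  rw [mul_one]
  exact h1

/-- fixed elements commute with the mover up to the centre -/
theorem three_fixed {σ : G} (hs : Sp (p 1) σ w) {n : G} (hn : n ∈ Ker (p 1)) (hc : σ * n = n * σ) :
    w⁻¹ * n * w * n⁻¹ ∈ Z (p 1) := by
  refine h.V_fix_cycle (h.odd_three hb3) (by omega) (h.bk_B1 k) hs.mem hs.move ?_
    (comm_fixed (h.Z_sq k.hw) hs.inv hc)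
  exact Z_le_V (k.isCrit.1 1 (by omega)) (h.three_far hb3 k hn).1

theorem three_sigma : ∃ σ, Sp (p 1) σ w ∧ ∀ g ∈ S (p 1), ∀ g' ∈ S (p 1), ∀ x ∈ Ker (p 1),
      x⁻¹ * (g * w * g⁻¹ * (g' * w * g'⁻¹) * x * (g * w * g⁻¹ * (g' * w * g'⁻¹))⁻¹) ∈ V (p 1) :=
  h.exists_split hb3 (k.isCrit.1 1 (by omega)) (h.bk_hwE k) k.hwQ (h.Z_sq k.hw)
    fun _ hx => (h.three_far hb3 k hx).2

/-- commutators of the joins at neighbouring edges -/
theorem three_V_comm {ν : Vx P₁ P₂} (hν : Ad (p 2) ν) (h1 : ν ≠ p 1) (h3 : ν ≠ p 3) :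
    u * w * u * w ∈ Z ν ∧ ∀ v ∈ V (p 1), ∀ e ∈ V (p 3), v * e * v⁻¹ * e⁻¹ ∈ Z ν := by
  have ho := h.odd_three hb3
  have hR := h.odd_rank ho (by omega)
  have hb := k.three_le
  have h12 : Ad (p 1) (p 2) := k.isCrit.1 1 (by omega)
  have h23 : Ad (p 2) (p 3) := k.isCrit.1 2 (by omega)
  have hB1 := h.bk_B1 k
  have hA2 : A (p 2) := (A_adj h12.symm).2 hB1
  have hB3 : ¬ A (p 3) := (A_adj h23).1 hA2
  have hBν : ¬ A ν := (A_adj hν).1 hA2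
  set a := u * w * u * w with ha
  have ha2 : a ∈ Z (p 2) := h.bk_nat k hR
  have ha1 : a ∉ Z (p 1) := h.bk_a_notin k
  have ha3 : a ∉ Z (p 3) := by
    have := h.bk_a_notin (h.bk_symm k)
    rwa [h.bk_a_symm k, (h.three_symm hb3 k).1] at this
  obtain ⟨z, hz, hz1⟩ := h.exists_Zb ν
  have hz2 : z ∈ Z (p 2) := h.Zb_le hBν hν.symm hz
  have hzn1 : z ∉ Z (p 1) := fun hc => hz1 (h.Zb_inf hA2 h12.symm hν h1.symm hc hz)
  have hzn3 : z ∉ Z (p 3) := fun hc => hz1 (h.Zb_inf hA2 h23 hν h3.symm hc hz)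
  have haν : a ∈ Z ν := by
    have := h.Zb_inf hA2 h12.symm h23 ((h.crit_arc k.isCrit).2 1 (by omega))
      (h.za_index hR hA2 h12.symm ha2 hz2 ha1 hzn1) (h.za_index hR hA2 h23 ha2 hz2 ha3 hzn3)
    rwa [inv_mul_eq_one.1 this]
  refine ⟨haν, fun v hv e he => ?_⟩
  have hcm : ∀ {c y}, c ∈ Z (p 2) → y ∈ Q (p 2) → c * y = y * c := fun hc hy => h.Z_comm hc hy
  have hvQ := h.three_V_Q hb3 k h12.symm hv
  have heQ := h.three_V_Q hb3 k h23 he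
  by_cases hv2 : v ∈ Z (p 2)
  · rw [hcm hv2 heQ, mul_inv_cancel_right, mul_inv_cancel]; exact one_mem _
  by_cases he2 : e ∈ Z (p 2)
  · rw [← hcm he2 hvQ, mul_inv_cancel_right, mul_inv_cancel]; exact one_mem _
  obtain ⟨huV, -, -⟩ := h.bk_uV k
  have hun : u ∉ Z (p 2) := by
    have := (h.three_w hb3 (h.bk_symm k)).2.2
    rwa [(h.three_symm hb3 k).2.1] at this
  obtain ⟨hwQ, hwV, hwn⟩ := h.three_w hb3 k
  have hc1 := h.V_split ho (by omega) hB1 h12 huV hv hun hv2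
  have hc2 := h.V_split ho (by omega) hB3 h23.symm hwV he hwn he2
  have huQ := h.three_V_Q hb3 k h12.symm huV
  obtain ⟨c, hc, rfl⟩ : ∃ c ∈ Z (p 2), v = u * c := ⟨_, hc1, (mul_inv_cancel_left u v).symm⟩
  obtain ⟨d, hd, rfl⟩ : ∃ d ∈ Z (p 2), e = w * d := ⟨_, hc2, (mul_inv_cancel_left w e).symm⟩
  have e1 : u * c * (w * d) * (u * c)⁻¹ * (w * d)⁻¹ = u * w * u⁻¹ * w⁻¹ := by
    have f1 : c * (w * d) = w * d * c := hcm hc (mul_mem hwQ (h.Z_le_Q _ hd))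
    have f2 : d * u⁻¹ = u⁻¹ * d := hcm hd (inv_mem huQ)
    calc u * c * (w * d) * (u * c)⁻¹ * (w * d)⁻¹
        = u * (c * (w * d)) * c⁻¹ * u⁻¹ * d⁻¹ * w⁻¹ := by group
      _ = u * w * (d * u⁻¹) * d⁻¹ * w⁻¹ := by rw [f1]; group
      _ = u * w * u⁻¹ * w⁻¹ := by rw [f2]; group
  rw [e1, h.Z_inv k.hu, h.Z_inv k.hw]
  exact haν

/-- a fixed element centralising the mover meets the third join in the centre -/
theorem three_side {x : G} (hx : x ∈ Ker (p 1)) (hxw : x * w = w * x)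
    {ν : Vx P₁ P₂} (hν : Ad (p 2) ν) (h1 : ν ≠ p 1) (h3 : ν ≠ p 3) {e : G} (he : e ∈ V ν) :
    x * e * x⁻¹ * e⁻¹ ∈ Z (p 3) := by
  have ho := h.odd_three hb3
  have hb := k.three_le
  have h12 : Ad (p 1) (p 2) := k.isCrit.1 1 (by omega)
  have h23 : Ad (p 2) (p 3) := k.isCrit.1 2 (by omega)
  have h10 : Ad (p 1) (p 0) := (k.isCrit.1 0 (by omega)).symm
  have h31 : p 3 ≠ p 1 := ((h.crit_arc k.isCrit).2 1 (by omega)).symm
  have hA2 : A (p 2) := (A_adj h12.symm).2 (h.bk_B1 k)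
  have hB3 : ¬ A (p 3) := (A_adj h23).1 hA2
  obtain ⟨-, -, hX⟩ : ∃ σ', Sp (p 1) σ' w ∧ ∀ g ∈ S (p 1), ∀ g' ∈ S (p 1), ∀ x ∈ Ker (p 1),
      x⁻¹ * (g * w * g⁻¹ * (g' * w * g'⁻¹) * x * (g * w * g⁻¹ * (g' * w * g'⁻¹))⁻¹) ∈ V (p 1) :=
    h.three_sigma hb3 k
  obtain ⟨ν', g, hν', n1, n3, hg, hgQ, hg3, hgν⟩ := h.exists_third h12.symm h23 h31
  have hνν : ν' = ν := by
    rcases h.three h12.symm h23 hν h31 h1 h3 hν' with e | e | e
    exacts [absurd e n1, absurd e n3, e]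
  subst hνν
  obtain ⟨haν, hcomm⟩ := h.three_V_comm hb3 k hν h1 h3
  have hg1 : g • p 1 = p 1 := hg.2
  have hg2 : g • p 2 = p 2 := hg.1
  have hcomm' : ∀ v ∈ V (p 1), ∀ e ∈ V ν', v * e * v⁻¹ * e⁻¹ ∈ Z (p 3) := by
    intro v hv e he
    have e1 := h.conj_mem_V g⁻¹ hv
    rw [inv_inv, inv_smul_eq_iff.2 hg1.symm] at e1
    have e2 := h.conj_mem_V g⁻¹ he
    rw [inv_inv, inv_smul_eq_iff.2 hg3.symm] at e2
    have := h.conj_mem_Z g (hcomm _ e1 _ e2)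
    rw [hgν] at this
    rwa [show g * (g⁻¹ * v * g * (g⁻¹ * e * g) * (g⁻¹ * v * g)⁻¹ * (g⁻¹ * e * g)⁻¹) * g⁻¹ =
      v * e * v⁻¹ * e⁻¹ by group] at this
  obtain ⟨hwQ, hwV, hwn⟩ := h.three_w hb3 k
  set w2 := g * w * g⁻¹ with hw2def
  have hw2V : w2 ∈ V ν' := hg3 ▸ h.conj_mem_V g hwV
  have hw2Q : w2 ∈ Q (p 2) := hg2 ▸ h.conj_mem_Q g hwQ
  have hw2n : w2 ∉ Q (p 1) := fun hc => k.hwQ (by
    rw [← hg1] at hc
    simpa [hw2def, mul_assoc] using h.mem_Q_smul.1 hc)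
  have huV := (h.bk_uV k).1
  set y := w * w2 with hy
  have hy1 : y ∈ Q (p 1) :=
    h.mul_mem_Q h12 (h.bk_hwE k) (h.Q_mem_E h12.symm hw2Q) k.hwQ hw2n
  have hy0 : y ∉ Q (p 0) := by
    intro hc
    have ha3 : u * w * u * w ∉ Z (p 3) := by
      have := h.bk_a_notin (h.bk_symm k)
      rwa [h.bk_a_symm k, (h.three_symm hb3 k).1] at this
    have hz := hcomm' u huV w2 hw2V
    set ζ := u * w2 * u⁻¹ * w2⁻¹ with hζ
    have huy : u * y * u⁻¹ = y := by rw [h.Z_comm k.hu hc, mul_inv_cancel_right]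
    have ea : u * w * u * w = u * w * u⁻¹ * w⁻¹ := by rw [h.Z_inv k.hu, h.Z_inv k.hw]
    have hζ2 : ζ ∈ Z (p 2) := h.Zb_le hB3 h23.symm hz
    have e : u * y * u⁻¹ = (u * w * u * w) * ζ * y := by
      calc u * y * u⁻¹ = (u * w * u⁻¹ * w⁻¹) * (w * ζ) * w2 := by rw [hζ, hy]; group
        _ = (u * w * u * w) * ζ * y := by rw [← h.Z_comm hζ2 hwQ, ← ea, hy]; group
    rw [huy] at e
    refine ha3 ?_
    rw [eq_inv_of_mul_eq_one_left (mul_eq_right.1 e.symm)]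
    exact inv_mem hz
  obtain ⟨s, hs1, hs0⟩ := H58.exists_smul_eq_of_adj h10 h12
  set y' := s * y * s⁻¹ with hy'
  have e1 : s • p 1 = p 1 := hs1
  have hy'1 : y' ∈ Q (p 1) := e1 ▸ h.conj_mem_Q s hy1
  have hy'2 : y' ∉ Q (p 2) := fun hc => hy0 (by
    rw [← hs0] at hc
    simpa [hy', mul_assoc] using h.mem_Q_smul.1 hc)
  have hy'E : y' ∈ E (p 2) (p 1) := h.Q_mem_E h12 hy'1
  have hy'3 : y' • p 3 = ν' := by
    rcases h.three h12.symm h23 hν h31 h1 h3 (h.adj_smul h23 hy'E.1) with e | e | e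
    · exact absurd e (h.smul_ne hy'E h31)
    · exact absurd e (h.not_mem_E h12.symm h23 h31.symm hy'E hy'2)
    · exact e
  set v := x⁻¹ * (y' * x * y'⁻¹) with hv
  have hvV : v ∈ V (p 1) := by
    have h0 := hX s hs1 (s * g) (mul_mem hs1 hg.2) x hx
    rwa [show s * w * s⁻¹ * (s * g * w * (s * g)⁻¹) = y' by rw [hy', hy, hw2def]; group] at h0
  set e0 := y' * w * y'⁻¹ with he0
  have he0V : e0 ∈ V ν' := hy'3 ▸ h.conj_mem_V y' hwV
  have he0n : e0 ∉ Z (p 2) := fun hc => hwn (by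
    rw [← MulAction.mem_stabilizer_iff.1 hy'E.1] at hc
    exact h.conj_mem_Z_iff.1 hc)
  have hxv : x * v * e0 = e0 * (x * v) := by
    rw [hv, mul_inv_cancel_left, he0]
    calc y' * x * y'⁻¹ * (y' * w * y'⁻¹) = y' * (x * w) * y'⁻¹ := by group
      _ = y' * (w * x) * y'⁻¹ := by rw [hxw]
      _ = y' * w * y'⁻¹ * (y' * x * y'⁻¹) := by group
  have hζ := hcomm' v hvV e0 he0V
  set ζ := v * e0 * v⁻¹ * e0⁻¹ with hζdef
  have hxQ : x ∈ Q (p 2) := (mem_Ker.1 hx).2 _ h12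
  have hζc : ζ * x = x * ζ := h.Z_comm (h.Zb_le hB3 h23.symm hζ) hxQ
  have hmain : x * e0 * x⁻¹ * e0⁻¹ = ζ⁻¹ := by
    have e2 : ζ * (x * e0 * x⁻¹) = e0 := by
      calc ζ * (x * e0 * x⁻¹) = (ζ * x) * e0 * x⁻¹ := by group
        _ = (x * v * e0) * (x * v)⁻¹ := by rw [hζc, hζdef]; group
        _ = e0 := by rw [hxv, mul_inv_cancel_right]
    calc x * e0 * x⁻¹ * e0⁻¹ = ζ⁻¹ * (ζ * (x * e0 * x⁻¹)) * e0⁻¹ := by group
      _ = ζ⁻¹ := by rw [e2, mul_inv_cancel_right]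
  by_cases he2 : e ∈ Z (p 2)
  · rw [← h.Z_comm he2 hxQ, mul_inv_cancel_right, mul_inv_cancel]; exact one_mem _
  have hBν : ¬ A ν' := (A_adj hν).1 hA2
  have hc := h.V_split ho (by omega) hBν hν.symm he0V he he0n he2
  obtain ⟨c, hc0, rfl⟩ : ∃ c ∈ Z (p 2), e = e0 * c := ⟨_, hc, (mul_inv_cancel_left e0 e).symm⟩
  have e3 : c * x⁻¹ = x⁻¹ * c := h.Z_comm hc0 (inv_mem hxQ)
  rw [show x * (e0 * c) * x⁻¹ * (e0 * c)⁻¹ = x * e0 * (c * x⁻¹) * c⁻¹ * e0⁻¹ by group, e3,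
    show x * e0 * (x⁻¹ * c) * c⁻¹ * e0⁻¹ = x * e0 * x⁻¹ * e0⁻¹ by group, hmain]
  exact inv_mem hζ

/-- a fixed element centralising the mover is one at the far end times a central one -/
theorem three_incl {σ' : G} (hs' : Sp (p 3) σ' u) {x : G} (hx : x ∈ Ker (p 1))
    (hxw : x * w = w * x) : ∃ n ∈ Ker (p 3), n * u = u * n ∧ σ' * n = n * σ' ∧ ∃ c ∈ Z (p 2), x = n * c := by
  have ho := h.odd_three hb3
  have hR := h.odd_rank ho (by omega)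
  have h12 : Ad (p 1) (p 2) := k.isCrit.1 1 (by omega)
  have h23 : Ad (p 2) (p 3) := k.isCrit.1 2 (by omega)
  have hA2 : A (p 2) := (A_adj h12.symm).2 (h.bk_B1 k)
  have hB3 : ¬ A (p 3) := (A_adj h23).1 hA2
  obtain ⟨hwQ, hwV, hwn⟩ := h.three_w hb3 k
  have hxQ : x ∈ Q (p 2) := (mem_Ker.1 hx).2 _ h12
  have hxV : ∀ y ∈ V (p 3), x * y = y * x := by
    intro y hy
    by_cases hy2 : y ∈ Z (p 2)
    · exact (h.Z_comm hy2 hxQ).symm
    · have hc := h.V_split ho (by omega) hB3 h23.symm hwV hy hwn hy2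
      calc x * y = x * w * (w⁻¹ * y) := by group
        _ = w * (x * (w⁻¹ * y)) := by rw [hxw, mul_assoc]
        _ = y * x := by rw [← h.Z_comm hc hxQ]; group
  have hxS : x ∈ S (p 3) := (h.Q_le_E h23 hxQ).2
  have hxα : ∀ α, Ad (p 3) α → x ∈ Q α := fun α hα =>
    h.Q_of_comm hB3 hα hxS fun z hz => hxV z (Z_le_V hα hz)
  obtain ⟨α, hα, hαne⟩ := h.exists_other h23.symm
  have hxK : x ∈ Ker (p 3) := mem_Ker.2 ⟨by
    rw [← h.inf_eq h23.symm hα hαne.symm]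
    exact ⟨h.Q_mem_E h23 hxQ, h.Q_mem_E hα.symm (hxα _ hα)⟩, hxα⟩
  obtain ⟨v, hv, hvc⟩ := hs'.split x hxK
  have hn : x * v ∈ Ker (p 3) := mul_mem hxK (h.V_le_Ker (by omega) _ hv)
  have k' := h.bk_symm k
  obtain ⟨e1, e2, e3⟩ := h.three_symm hb3 k
  have hfix := h.three_fixed hb3 k' (σ := σ') (by rw [e1]; exact hs') (n := x * v) (by rw [e1]; exact hn) hvc
  rw [e1] at hfix
  have huV := (h.bk_uV k).1
  have hxu : x * u = u * x := h.V_le_cent (fun ε hε => (mem_Ker.1 hx).2 ε hε) huV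
  obtain ⟨ν, g, hν, n1, n3, -, -, -, -⟩ := h.exists_third h12.symm h23 ((h.crit_arc k.isCrit).2 1 (by omega)).symm
  obtain ⟨-, hcomm⟩ := h.three_V_comm hb3 k hν n1 n3
  have hζ : u * v * u⁻¹ * v⁻¹ ∈ Z ν := hcomm u huV v hv
  set ζ := u * v * u⁻¹ * v⁻¹ with hζdef
  have hζ2 : ζ ∈ Z (p 2) := h.Zb_le ((A_adj hν).1 hA2) hν.symm hζ
  have hc1 : u⁻¹ * (x * v) * u * (x * v)⁻¹ = ζ := by
    calc u⁻¹ * (x * v) * u * (x * v)⁻¹ = u⁻¹ * x * v * u * v⁻¹ * x⁻¹ := by group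
      _ = u * x * v * u * v⁻¹ * x⁻¹ := by rw [h.Z_inv k.hu]
      _ = x * ζ * x⁻¹ := by rw [← hxu, hζdef, h.Z_inv k.hu]; group
      _ = ζ := by rw [← h.Z_comm hζ2 hxQ, mul_inv_cancel_right]
  rw [hc1] at hfix
  have hζ1 : ζ = 1 := h.Zb_inf hA2 h23 hν n3.symm hfix hζ
  have hun : u * v = v * u := mul_inv_eq_iff_eq_mul.1 (mul_inv_eq_one.1 hζ1)
  have huE : u ∈ E (p 3) (p 2) := by
    have := h.bk_huE k
    rwa [hb3] at this
  have huQ : u ∉ Q (p 3) := hb3 ▸ k.huQ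
  refine ⟨x * v, hn, ?_, hvc, v, h.V_fix_edge ho (by omega) hB3 h23.symm huE huQ hv hun, ?_⟩
  · rw [mul_assoc, ← hun, ← mul_assoc, hxu, mul_assoc]
  · rw [mul_assoc, h.V_sq (by omega) hv, mul_one]

/-- the fixed elements centralising the mover make up `L` -/
theorem three_L {σ σ' : G} (hs : Sp (p 1) σ w) (hs' : Sp (p 3) σ' u) {x : G} (hx : x ∈ Ker (p 1))
    (hxσ : σ * x = x * σ) (hxw : x * w = w * x) : x ∈ L (p 1) := by
  have hb := k.three_le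
  have h12 : Ad (p 1) (p 2) := k.isCrit.1 1 (by omega)
  have h23 : Ad (p 2) (p 3) := k.isCrit.1 2 (by omega)
  have h31 : p 3 ≠ p 1 := ((h.crit_arc k.isCrit).2 1 (by omega)).symm
  have hA2 : A (p 2) := (A_adj h12.symm).2 (h.bk_B1 k)
  have hB3 : ¬ A (p 3) := (A_adj h23).1 hA2
  obtain ⟨n, hn, hnu, hnc, c, hc, hxe⟩ := h.three_incl hb3 k hs' hx hxw
  obtain ⟨hwQ, hwV, hwn⟩ := h.three_w hb3 k
  have hxQ : x ∈ Q (p 2) := (mem_Ker.1 hx).2 _ h12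
  -- the joins of the neighbours of the third vertex
  have hside : ∀ ν, Ad (p 2) ν → ∀ y ∈ V ν, x * y = y * x := by
    intro ν hν y hy
    by_cases n1 : ν = p 1
    · exact h.V_le_cent (fun ε hε => (mem_Ker.1 hx).2 ε hε) (n1 ▸ hy)
    by_cases n3 : ν = p 3
    · subst n3
      by_cases hy2 : y ∈ Z (p 2)
      · exact (h.Z_comm hy2 hxQ).symm
      · have hd := h.V_split (h.odd_three hb3) (by omega) hB3 h23.symm hwV hy hwn hy2
        calc x * y = x * w * (w⁻¹ * y) := by group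
          _ = w * (x * (w⁻¹ * y)) := by rw [hxw, mul_assoc]
          _ = y * x := by rw [← h.Z_comm hd hxQ]; group
    have e3 := h.three_side hb3 k hx hxw hν n1 n3 hy
    obtain ⟨r1, r2, r3⟩ := h.three_symm hb3 k
    have e1 := h.three_side hb3 (h.bk_symm k) (x := n)
      (by rw [r1]; exact hn) hnu (ν := ν) (by rw [r2]; exact hν) (by rw [r1]; exact n3)
      (by rw [r3]; exact n1) hy
    rw [r3] at e1
    have hyQ := h.three_V_Q hb3 k hν hy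
    have hcy : c * y = y * c := h.Z_comm hc hyQ
    have e : x * y * x⁻¹ * y⁻¹ = n * y * n⁻¹ * y⁻¹ := by
      rw [hxe, show n * c * y * (n * c)⁻¹ = n * (c * y) * c⁻¹ * n⁻¹ by group, hcy]
      group
    rw [← e] at e1
    have h1 : x * y * x⁻¹ * y⁻¹ = 1 := h.Zb_inf hA2 h12.symm h23 h31.symm e1 e3
    exact mul_inv_eq_iff_eq_mul.1 (mul_inv_eq_one.1 h1)
  refine mem_L.2 ⟨hx, fun α ν hα hν y hy => ?_⟩
  obtain ⟨τ, hτS, hτα, hτx⟩ : ∃ τ, τ ∈ S (p 1) ∧ τ • p 2 = α ∧ τ * x = x * τ := by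
    have hm1 : Ad (p 1) (σ • p 2) := h.adj_smul h12 hs.mem
    have hm2 : Ad (p 1) (σ • σ • p 2) := h.adj_smul hm1 hs.mem
    have hn1 := hs.move _ h12
    have hn2 : σ • σ • p 2 ≠ p 2 := fun e' => hn1 (by
      conv_rhs => rw [← one_smul G (p 2), ← hs.cube, pow_succ, pow_two, mul_smul, mul_smul]
      exact (Cub.move_all.smul_comm_aux e').symm)
    rcases h.three h12 hm1 hm2 hn1 hn2 (hs.move _ hm1) hα with e | e | e
    · exact ⟨1, one_mem _, by rw [one_smul, e], by simp⟩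
    · exact ⟨σ, hs.mem, e.symm, hxσ⟩
    · exact ⟨σ * σ, mul_mem hs.mem hs.mem, by rw [mul_smul, e],
        (Commute.mul_left (show Commute σ x from hxσ) (show Commute σ x from hxσ)).eq⟩
  have h1 : Ad (p 2) (τ⁻¹ • ν) := by
    have := H58.smul_adj τ⁻¹ hν
    rwa [inv_smul_eq_iff.2 hτα.symm] at this
  have h2 := h.conj_mem_V τ⁻¹ hy
  rw [inv_inv] at h2
  have h3 := hside _ h1 _ h2
  calc x * y = x * τ * (τ⁻¹ * y * τ) * τ⁻¹ := by group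
    _ = τ * (x * (τ⁻¹ * y * τ)) * τ⁻¹ := by rw [← hτx]; group
    _ = y * (τ * x) * τ⁻¹ := by rw [h3]; group
    _ = y * x := by rw [hτx, mul_assoc, mul_inv_cancel_right]

end

end

end Side

end Cfsg.Agent.H88.Am
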