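/-
Normal subgroups of index two: cyclic Sylow subgroups, regular semilinear groups.
-/
import Cfsg.Agent.H88.NBase
set_option autoImplicit false
set_option maxHeartbeats 400000

open Cfsg

namespace Cfsg.Agent.H88

lemma exists_index_two_of_hom {G C : Type*} [Group G] [Finite G] [Group C] (φ : G →* C)
    (hc : ∀ a ∈ φ.range, ∀ b ∈ φ.range, a * b = b * a) (h2 : 2 ∣ Nat.card φ.range) :
    ∃ N : Subgroup G, N.Normal ∧ N.index = 2 := by
  haveI : Finite φ.range := Nat.finite_of_card_ne_zero fun e => by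
    haveI := Finite.of_surjective φ.rangeRestrict φ.rangeRestrict_surjective
    exact Nat.card_pos.ne' e
  letI : CommGroup φ.range := { (inferInstance : Group φ.range) with
    mul_comm := fun a b => Subtype.ext (hc a a.2 b b.2) }
  let S : Subgroup φ.range := (powMonoidHom 2 : φ.range →* φ.range).range
  haveI : Fact (Nat.Prime 2) := ⟨Nat.prime_two⟩
  obtain ⟨x, hx⟩ := exists_prime_orderOf_dvd_card' (G := φ.range) 2 h2
  have hS : S ≠ ⊤ := by
    intro hS
    have hsurj : Function.Surjective (powMonoidHom 2 : φ.range →* φ.range) := MonoidHom.range_eq_top.1 hS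
    have := (Finite.injective_iff_surjective.2 hsurj) (a₁ := x) (a₂ := 1) (by
      simp only [powMonoidHom_apply, one_pow]
      rw [← hx, pow_orderOf_eq_one])
    rw [this, orderOf_one] at hx
    norm_num at hx
  have hW : IsPGroup 2 (φ.range ⧸ S) := fun w => by
    induction w using QuotientGroup.induction_on with
    | H a =>
      refine ⟨1, ?_⟩
      rw [pow_one, ← QuotientGroup.mk_pow, QuotientGroup.eq_one_iff]
      exact ⟨a, rfl⟩
  obtain ⟨n, hn⟩ := IsPGroup.iff_card.1 hW
  have hn0 : n ≠ 0 := fun e => hS (Subgroup.index_eq_one.1 (by rw [Subgroup.index, hn, e, pow_zero]))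
  obtain ⟨K, hK⟩ := Sylow.exists_subgroup_card_pow_prime 2 (hn ▸ pow_dvd_pow 2 (Nat.sub_le n 1) :
    2 ^ (n - 1) ∣ Nat.card (φ.range ⧸ S))
  have hKi : K.index = 2 := by
    have h1 := K.card_mul_index
    rw [hK, hn] at h1
    have h3 : (2 : ℕ) ^ n = 2 ^ (n - 1) * 2 := by rw [← pow_succ, Nat.sub_add_cancel (Nat.pos_of_ne_zero hn0)]
    exact Nat.eq_of_mul_eq_mul_left (pow_pos (by norm_num) _) (h1.trans h3)
  refine ⟨K.comap ((QuotientGroup.mk' S).comp φ.rangeRestrict), ?_, ?_⟩
  · exact Subgroup.Normal.comap inferInstance _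
  · rw [Subgroup.index_comap_of_surjective K
      (f := (QuotientGroup.mk' S).comp φ.rangeRestrict)
      ((QuotientGroup.mk'_surjective S).comp φ.rangeRestrict_surjective), hKi]

lemma exists_index_two_of_cyclic_sylow {G : Type*} [Group G] [Finite G] (P : Sylow 2 G) [IsCyclic P]
    (h2 : 2 ∣ Nat.card G) : ∃ N : Subgroup G, N.Normal ∧ N.index = 2 := by
  haveI : Fact (Nat.Prime 2) := ⟨Nat.prime_two⟩
  have hP : Subgroup.normalizer (P : Set G) ≤ Subgroup.centralizer (P : Set G) :=
    IsCyclic.normalizer_le_centralizer ((Nat.minFac_eq_two_iff _).2 h2) inferInstance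
  haveI : (P : Subgroup G).FiniteIndex := inferInstance
  set φ := MonoidHom.transferSylow P hP
  have hsurj : φ.range = ⊤ := by
    refine MonoidHom.range_eq_top.2 fun y => ?_
    have hcop : (P : Subgroup G).index.Coprime (Nat.card P) := by
      obtain ⟨n, hn⟩ := IsPGroup.iff_card.1 P.isPGroup'
      rw [hn]
      exact ((Nat.prime_two.coprime_iff_not_dvd).2 P.not_dvd_index).symm.pow_right n
    obtain ⟨x, hx⟩ := (Finite.surjective_of_injective (powCoprime (G := P) hcop.symm).injective) y
    exact ⟨x, (congrFun (MonoidHom.transferSylow_domRestrict_eq_pow P hP) x).trans hx⟩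
  refine exists_index_two_of_hom φ (fun a _ b _ => (IsCyclic.isMulCommutative (α := P)).is_comm.comm a b) ?_
  rw [hsurj, Subgroup.card_top]
  exact P.dvd_card_of_dvd_card h2

variable {q : ℕ} [Fact q.Prime] {V : Type*} [AddCommGroup V] [Module (ZMod q) V] [Finite V]
  {G : Type*} [Group G] [Finite G] {ρ : G →* (V ≃ₗ[ZMod q] V)}

lemma Semilinear.exists_index_two (hρ : Function.Injective ρ) (h : Semilinear ρ) (h2 : 2 ∣ Nat.card G) :
    ∃ N : Subgroup G, N.Normal ∧ N.index = 2 := by
  obtain ⟨F, _, _, e, he⟩ := h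
  choose a σ hσ using he
  have hone : ∀ g, e (ρ g (e.symm 1)) = a g := fun g => by
    rw [hσ, e.apply_symm_apply, map_one, mul_one]
  have ha : ∀ g, a g ≠ 0 := by
    intro g hg
    rw [← hone, map_eq_zero_iff e e.injective, LinearEquiv.map_eq_zero_iff,
      map_eq_zero_iff e.symm e.symm.injective] at hg
    exact one_ne_zero hg
  have hmul : ∀ g h, a (g * h) = a g * σ g (a h) ∧ ∀ x, σ (g * h) x = σ g (σ h x) := by
    intro g h
    have key : ∀ x, a (g * h) * σ (g * h) x = a g * σ g (a h) * σ g (σ h x) := by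
      intro x
      have h1 := hσ (g * h) (e.symm x)
      rw [map_mul, LinearEquiv.mul_apply, hσ, hσ, e.apply_symm_apply, map_mul] at h1
      rw [← h1, mul_assoc]
    have h1 : a (g * h) = a g * σ g (a h) := by simpa only [map_one, mul_one] using key 1
    refine ⟨h1, fun x => ?_⟩
    have h3 := key x
    rw [← h1] at h3
    exact mul_left_cancel₀ (ha _) h3
  let θ : G →* (F ≃+* F) := MonoidHom.mk' σ fun g h => RingEquiv.ext fun x => (hmul g h).2 x
  have hcomm : ∀ s t : F ≃+* F, s * t = t * s := by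
    intro s t
    obtain ⟨γ, hγ⟩ := IsCyclic.exists_generator (α := Fˣ)
    have hgen : ∀ x : F, x ≠ 0 → ∃ i : ℤ, x = ((γ ^ i : Fˣ) : F) := fun x hx => by
      obtain ⟨i, hi⟩ := hγ (Units.mk0 x hx)
      exact ⟨i, (congrArg Units.val hi).symm⟩
    obtain ⟨i, hi⟩ := hgen (s γ) (by simp)
    obtain ⟨j, hj⟩ := hgen (t γ) (by simp)
    rw [Units.val_zpow_eq_zpow_val] at hi hj
    have hsγ : s (t γ) = t (s γ) := by
      rw [hj, hi, map_zpow₀, map_zpow₀, hi, hj, ← zpow_mul, ← zpow_mul, mul_comm]
    refine RingEquiv.ext fun x => ?_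
    show s (t x) = t (s x)
    rcases eq_or_ne x 0 with rfl | hx
    · simp
    obtain ⟨k, hk⟩ := hgen x hx
    rw [hk, Units.val_zpow_eq_zpow_val, map_zpow₀, map_zpow₀, hsγ, map_zpow₀, map_zpow₀]
  by_cases hr : 2 ∣ Nat.card θ.range
  · exact exists_index_two_of_hom θ (fun s _ t _ => hcomm s t) hr
  -- the Sylow subgroup lies in the multiplications
  obtain ⟨P⟩ : Nonempty (Sylow 2 G) := inferInstance
  haveI : Fact (Nat.Prime 2) := ⟨Nat.prime_two⟩
  have hPK : ∀ p : P, σ (p : G) = 1 := by
    intro p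
    obtain ⟨k, hk⟩ := P.isPGroup' p
    have h1 : orderOf (θ.rangeRestrict p) ∣ 2 ^ k := orderOf_dvd_of_pow_eq_one (by
      rw [← map_pow, show (p : G) ^ 2 ^ k = 1 from congrArg Subtype.val hk, map_one])
    have h3 : orderOf (θ.rangeRestrict p) ∣ Nat.card θ.range := orderOf_dvd_natCard _
    have h4 := Nat.dvd_gcd h1 h3
    rw [(((Nat.prime_two.coprime_iff_not_dvd).2 hr).pow_left k).gcd_eq_one, Nat.dvd_one, orderOf_eq_one_iff] at h4
    exact congrArg Subtype.val h4
  haveI : IsCyclic P := by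
    have hP1 : ∀ p : P, ∀ v, e (ρ (p : G) v) = a (p : G) * e v := fun p v => by rw [hσ, hPK]; rfl
    refine isCyclic_of_injective_ringHom (R := F) (G := P)
      { toFun := fun p => a (p : G)
        map_one' := by rw [← hone, OneMemClass.coe_one, map_one]; simp
        map_mul' := fun p p' => by rw [Subgroup.coe_mul, (hmul _ _).1, hPK]; rfl } ?_
    intro p p' hpp
    refine Subtype.ext (hρ (LinearEquiv.ext fun v => e.injective ?_))
    rw [hP1, hP1, show a (p : G) = a (p' : G) from hpp]
  exact exists_index_two_of_cyclic_sylow P h2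

end Cfsg.Agent.H88
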