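/-
Zassenhaus' theorem on solvable regular linear groups.
-/
import Cfsg.Agent.H88.NHuppert
import Cfsg.Agent.H88.NIndexTwo
import Cfsg.Agent.H25.SL23
set_option autoImplicit false
set_option maxHeartbeats 1000000

open Cfsg

namespace Cfsg.Agent.H88

open scoped commutatorElement

variable {q : ℕ} [Fact q.Prime] {V : Type*} [AddCommGroup V] [Module (ZMod q) V] [Finite V] [Nontrivial V]
  {G : Type*} [Group G] [Finite G] {ρ : G →* (V ≃ₗ[ZMod q] V)}

omit [Finite G] in
lemma card_regular (htrans : ∀ v w : V, v ≠ 0 → w ≠ 0 → ∃ g : G, ρ g v = w)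
    (hreg : ∀ v : V, v ≠ 0 → ∀ g : G, ρ g v = v → g = 1) : Nat.card G = Nat.card V - 1 := by
  classical
  haveI := Fintype.ofFinite V
  obtain ⟨v, hv⟩ := exists_ne (0 : V)
  have hb : Function.Bijective (fun g : G => (⟨ρ g v, fun e => hv ((ρ g).map_eq_zero_iff.1 e)⟩ : {w : V // w ≠ 0})) := by
    refine ⟨fun g h e => ?_, fun w => ?_⟩
    · have e' : ρ g v = ρ h v := congrArg Subtype.val e
      have := hreg v hv (h⁻¹ * g) (by
        rw [map_mul, LinearEquiv.mul_apply, e', ← LinearEquiv.mul_apply, ← map_mul, inv_mul_cancel, map_one]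
        rfl)
      exact (inv_mul_eq_one.1 this).symm
    · obtain ⟨g, hg⟩ := htrans v w hv w.2
      exact ⟨g, Subtype.ext hg⟩
  rw [Nat.card_congr (Equiv.ofBijective _ hb), Nat.card_eq_fintype_card, Nat.card_eq_fintype_card,
    Fintype.card_subtype_compl, Fintype.card_subtype_eq]

omit [Finite V] [Nontrivial V] [Finite G] in
lemma neg_of_involution (hreg : ∀ v : V, v ≠ 0 → ∀ g : G, ρ g v = v → g = 1) {x : G} (hx : x * x = 1)
    (hx1 : x ≠ 1) : (ρ x : Module.End (ZMod q) V) = -1 := by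
  refine LinearMap.ext fun v => ?_
  show ρ x v = -v
  by_contra hne
  refine hx1 (hreg (v + ρ x v) (fun e => hne (eq_neg_of_add_eq_zero_right e)) x ?_)
  rw [map_add, ← LinearEquiv.mul_apply, ← map_mul, hx, map_one, add_comm]
  rfl

/-- Nine vectors. -/
lemma semilinear_nine (hρ : Function.Injective ρ) (htrans : ∀ v w : V, v ≠ 0 → w ≠ 0 → ∃ g : G, ρ g v = w)
    (hreg : ∀ v : V, v ≠ 0 → ∀ g : G, ρ g v = v → g = 1) (hq : q = 3)
    (hd : Module.finrank (ZMod q) V = 2) : Semilinear ρ := by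
  subst hq
  have hV : Nat.card V = 9 := by
    rw [Module.natCard_eq_pow_finrank (K := ZMod 3), Nat.card_zmod, hd]
    norm_num
  have hG : Nat.card G = 8 := by rw [card_regular htrans hreg, hV]
  have hs : Nat.card (scal ρ) ≤ 2 := Nat.le_of_dvd (by norm_num) (card_scal_dvd hρ)
  obtain ⟨x, hx⟩ : ∃ x : G, x ∉ scal ρ := by
    by_contra h
    push Not at h
    have e : scal ρ = ⊤ := eq_top_iff.2 fun x _ => h x
    rw [e, Subgroup.card_top, hG] at hs
    omega
  have ho : orderOf x ∣ 8 := hG ▸ orderOf_dvd_natCard x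
  have ho4 : 4 ≤ orderOf x := by
    by_contra hlt
    have hle : orderOf x ∣ 2 := by
      obtain ⟨j, hj, hjo⟩ := (Nat.dvd_prime_pow Nat.prime_two).1 (show orderOf x ∣ 2 ^ 3 from ho)
      rw [hjo]
      have : j ≤ 1 := by
        by_contra hj2
        exact hlt (hjo ▸ le_trans (le_of_eq (by norm_num)) (Nat.pow_le_pow_right (by norm_num) (show 2 ≤ j by omega)))
      simpa using pow_dvd_pow 2 this
    have hxx : x * x = 1 := by rw [← sq]; exact orderOf_dvd_iff_pow_eq_one.1 hle
    have hx1 : x ≠ 1 := fun e => hx (e ▸ (scal ρ).one_mem)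
    exact hx ⟨-1, by rw [neg_of_involution hreg hxx hx1, map_neg, map_one]⟩
  set A := Subgroup.zpowers x
  have hidx : A.index = 1 ∨ A.index = 2 := by
    have h1 := A.card_mul_index
    rw [Nat.card_zpowers, hG] at h1
    have h2 : 4 * A.index ≤ 8 := h1 ▸ Nat.mul_le_mul_right _ ho4
    have h3 : A.index ≠ 0 := Subgroup.index_ne_zero_of_finite
    omega
  haveI : A.Normal := by
    rcases hidx with h | h
    · rw [Subgroup.index_eq_one.1 h]; infer_instance
    · exact Subgroup.normal_of_index_eq_two h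
  refine semilinear_normal_abelian hρ htrans A ?_ ?_
  · rintro _ ⟨i, rfl⟩ _ ⟨j, rfl⟩
    show x ^ i * x ^ j = x ^ j * x ^ i
    rw [← zpow_add, ← zpow_add, add_comm]
  · rw [hV]
    have := sq_le_card_spanAlg (ρ := ρ) (A := (A : Set G)) (Subgroup.mem_zpowers x) hx
    simpa using this

/-- Eighty-one vectors. -/
lemma semilinear_eighty_one (hρ : Function.Injective ρ) (htrans : ∀ v w : V, v ≠ 0 → w ≠ 0 → ∃ g : G, ρ g v = w)
    (hreg : ∀ v : V, v ≠ 0 → ∀ g : G, ρ g v = v → g = 1) (hV : Nat.card V = 81) : Semilinear ρ := by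
  classical
  have hq : q.Prime := Fact.out
  have hpow : Nat.card V = q ^ Module.finrank (ZMod q) V := by
    rw [Module.natCard_eq_pow_finrank (K := ZMod q), Nat.card_zmod]
  have hq3 : q = 3 := by
    haveI : FiniteDimensional (ZMod q) V := Module.Finite.of_finite
    have h1 : q ∣ 3 ^ 4 := by
      show q ∣ 81
      rw [← hV, hpow]
      exact dvd_pow_self q Module.finrank_pos.ne'
    exact (Nat.prime_dvd_prime_iff_eq hq Nat.prime_three).1 (hq.dvd_of_dvd_pow h1)
  subst hq3
  have hd : Module.finrank (ZMod 3) V = 4 :=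
    Nat.pow_right_injective (le_of_lt (by norm_num)) (hpow.symm.trans (hV.trans (by norm_num : (81 : ℕ) = 3 ^ 4)))
  have hG : Nat.card G = 80 := by rw [card_regular htrans hreg, hV]
  haveI : Fact (Nat.Prime 5) := ⟨by norm_num⟩
  haveI : Fact (Nat.Prime 2) := ⟨by norm_num⟩
  obtain ⟨g, hg⟩ := exists_prime_orderOf_dvd_card' (G := G) 5 (by rw [hG]; norm_num)
  obtain ⟨i, hi⟩ := exists_prime_orderOf_dvd_card' (G := G) 2 (by rw [hG]; norm_num)
  have hi2 : i * i = 1 := by rw [← sq, ← hi, pow_orderOf_eq_one]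
  have hi1 : i ≠ 1 := fun e => by rw [e, orderOf_one] at hi; norm_num at hi
  have hic : ∀ u : G, u * i = i * u := fun u => eq_of_rho_eq hρ (by
    rw [rho_mul, rho_mul, neg_of_involution hreg hi2 hi1, mul_neg, mul_one, neg_one_mul])
  obtain ⟨hfl, hcard⟩ := primitive_fieldLike hρ (ℓ := 5) (by norm_num) (by norm_num) (fun k hk hk4 => by
    rw [hd] at hk4
    interval_cases k <;> norm_num) hg
  set S := Subgroup.zpowers g with hS
  have hS5 : Nat.card S = 5 := by rw [Nat.card_zpowers, hg]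
  have hSp : IsPGroup 5 S := IsPGroup.of_card (n := 1) (by rw [hS5, pow_one])
  obtain ⟨P, hP⟩ := hSp.exists_le_sylow
  have hPS : (P : Subgroup G) = S := by
    refine (Subgroup.eq_of_le_of_card_ge hP ?_).symm
    obtain ⟨n, hn⟩ := IsPGroup.iff_card.1 P.isPGroup'
    have h1 : (5 : ℕ) ^ n ∣ 80 := hn ▸ hG ▸ Subgroup.card_subgroup_dvd_card _
    have hn1 : n ≤ 1 := by
      by_contra h
      exact absurd ((pow_dvd_pow 5 (show 2 ≤ n by omega)).trans h1) (by norm_num)
    rw [hn, hS5]
    exact (Nat.pow_le_pow_right (by norm_num) hn1).trans (le_of_eq (pow_one 5))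
  -- the normaliser contains the involution
  have hN : (Subgroup.normalizer (P : Set G)).index = 1 := by
    set N := Subgroup.normalizer (P : Set G) with hN
    have hiN : i ∈ N := by
      refine Subgroup.mem_normalizer_iff.2 fun u => ?_
      rw [← hic u, mul_inv_cancel_right]
    have h2 : 2 ∣ Nat.card N := by
      have := orderOf_dvd_natCard (⟨i, hiN⟩ : N)
      rwa [← Subgroup.orderOf_coe, hi] at this
    have h5 : 5 ∣ Nat.card N := by
      rw [← hS5, ← hPS]
      exact Subgroup.card_dvd_of_le Subgroup.le_normalizer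
    have h10 : 10 ∣ Nat.card N := Nat.Coprime.mul_dvd_of_dvd_of_dvd (by norm_num : Nat.Coprime 2 5) h2 h5
    have hmul := N.card_mul_index
    rw [hG] at hmul
    obtain ⟨c, hc⟩ := h10
    rw [hc, mul_assoc] at hmul
    have h8 : c * N.index = 8 := by omega
    have hle : N.index ≤ 8 := Nat.le_of_dvd (by norm_num) (h8 ▸ dvd_mul_left _ _)
    have hdiv : N.index ∣ 2 ^ 3 := (dvd_mul_left _ c).trans (dvd_of_eq h8)
    have hmod : N.index % 5 = 1 := by
      rw [hN, ← P.card_eq_index_normalizer]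
      exact card_sylow_modEq_one 5 G
    obtain ⟨j, hj, hjo⟩ := (Nat.dvd_prime_pow Nat.prime_two).1 hdiv
    interval_cases j <;> simp_all
  haveI : (P : Subgroup G).Normal := Subgroup.normalizer_eq_top_iff.1 (Subgroup.index_eq_one.1 hN)
  have hgc : ∀ a ∈ ({g} : Set G), ∀ b ∈ ({g} : Set G), a * b = b * a := by rintro a rfl b rfl; rfl
  refine semilinear_of_le hgc hfl hcard (B := (S : Set G)) ?_ ?_ ?_ hρ
  · intro b hb
    obtain ⟨j, -, rfl⟩ := (IsOfFinOrder.mem_zpowers_iff_mem_range_orderOf (isOfFinOrder_of_finite g)).1 hb |> Finset.mem_image.1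
    induction j with
    | zero => rw [pow_zero, rho_one]; exact Subalgebra.one_mem _
    | succ j ih => rw [pow_succ, rho_mul]; exact Subalgebra.mul_mem _ (ih (Subgroup.pow_mem _ (Subgroup.mem_zpowers g) j)) (mem_spanAlg rfl)
  · rintro a rfl
    exact mem_spanAlg (Subgroup.mem_zpowers _)
  · intro u b hb
    have h1 : (P : Subgroup G).Normal := inferInstance
    rw [hPS] at h1
    exact h1.conj_mem b hb u

/-- Relations of `SL(2,3)` inside an exceptional group. -/
lemma TwoExc.exists_rel {A : Subgroup G} (hA : TwoExc ρ A)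
    (hreg : ∀ v : V, v ≠ 0 → ∀ g : G, ρ g v = v → g = 1) {j : ℕ} (hs : Nat.card (scal ρ) = 2 * (2 * j + 1))
    {g : G} (hg3 : g ^ 3 = 1) (hgA : g ∉ A) :
    ∃ c : G, H25.SL23Rel c g ∧ c ^ 2 ≠ 1 ∧ g ∉ Subgroup.closure ({c, g * c * g⁻¹} : Set G) := by
  classical
  obtain ⟨m, x, y, hP, hx, hy⟩ := hA.pair
  haveI := hA.normal
  haveI : (scal ρ).Normal := scal_normal hP.inj
  set k := 2 * j + 1 with hk
  -- an element with square `m`
  obtain ⟨c, hcA, hcs, hcc⟩ : ∃ c, c ∈ A ∧ c ∉ scal ρ ∧ c * c = m := by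
    refine ⟨x * (x * x) ^ j, A.mul_mem hx (A.pow_mem (A.mul_mem hx hx) j), ?_, ?_⟩
    · intro h
      exact hP.not_mem_left ((Subgroup.mul_mem_cancel_right _ ((scal ρ).pow_mem hP.sq_mem j)).1 h)
    · set c := x * (x * x) ^ j with hc
      have hcx : c = x ^ k := by rw [hc, ← sq, ← pow_mul, ← pow_succ', hk]
      have hc2 : c * c = (x * x) ^ k := by rw [hcx, ← sq, ← sq, ← pow_mul, ← pow_mul, mul_comm]
      have hsq : (c * c) * (c * c) = 1 := by
        rw [hc2, ← sq, ← pow_mul, mul_comm k 2, ← hs]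
        exact congrArg Subtype.val (pow_card_eq_one' (x := (⟨x * x, hP.sq_mem⟩ : scal ρ)))
      have hne : c * c ≠ 1 := by
        intro h
        have hmem : c ∈ scal ρ := by
          rcases eq_or_ne c 1 with e | e
          · rw [e]; exact (scal ρ).one_mem
          · exact ⟨-1, by rw [neg_of_involution hreg h e, map_neg, map_one]⟩
        rw [hc] at hmem
        exact hP.not_mem_left ((Subgroup.mul_mem_cancel_right _ ((scal ρ).pow_mem hP.sq_mem j)).1 hmem)
      exact eq_of_rho_eq hP.inj (by rw [neg_of_involution hreg hsq hne, hP.neg])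
  -- a partner
  obtain ⟨t, htA, hct⟩ : ∃ t, t ∈ A ∧ ⁅c, t⁆ = m := by
    rcases hP.eq_one_or (hA.commutator hcA hx) with e1 | e1
    · rcases hP.eq_one_or (hA.commutator hcA hy) with e2 | e2
      · exact absurd (hP.mem_scal_of_commute (commutatorElement_eq_one_iff_mul_comm.1 e1)
          (commutatorElement_eq_one_iff_mul_comm.1 e2)) hcs
      · exact ⟨y, hy, e2⟩
    · exact ⟨x, hx, e1⟩
  have hPc : AntiPair ρ m c t := ⟨hP.inj, hP.neg, hct, hP.dim, hP.odd⟩
  set y₀ := g * c * g⁻¹ with hy₀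
  have hy₀A : y₀ ∈ A := hA.normal.conj_mem c hcA g
  let mk := QuotientGroup.mk' (scal ρ)
  have hmk1 : ∀ {u : G}, u ∈ scal ρ → mk u = 1 := fun hu => (QuotientGroup.eq_one_iff _).2 hu
  have hmk1' : ∀ {u : G}, mk u = 1 → u ∈ scal ρ := fun hu => (QuotientGroup.eq_one_iff _).1 hu
  have hcc' : mk c * mk c = 1 := by rw [← map_mul, hcc]; exact hmk1 hP.m_mem
  have htt' : mk t * mk t = 1 := by rw [← map_mul]; exact hmk1 hPc.symm.sq_mem
  have hG3 : mk g * (mk g * mk g) = 1 := by rw [← map_mul, ← map_mul, ← mul_assoc, ← pow_three', hg3, map_one]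
  have hcomm : ⁅c, y₀⁆ = m := by
    refine (hP.eq_one_or (hA.commutator hcA hy₀A)).resolve_left fun e => ?_
    -- then `g` fixes the coset of `c`
    have hfix : mk y₀ = mk c := by
      have e' : ⁅y₀, c⁆ = 1 := by rw [← commutatorElement_inv, e, inv_one]
      rcases hPc.cases4 (hA.commutator hy₀A hcA) (hA.commutator hy₀A htA) with h | h | h | h
      · exact absurd (by have h' := (inferInstance : (scal ρ).Normal).conj_mem _ h g⁻¹; rw [hy₀] at h'; simpa [mul_assoc] using h') hcs
      · have h1 : mk y₀ * mk c = 1 := by rw [← map_mul]; exact hmk1 h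
        rw [eq_inv_of_mul_eq_one_left h1, ← eq_inv_of_mul_eq_one_left hcc']
      · exfalso
        have h1 : ⁅y₀ * t, c⁆ = 1 := commutatorElement_eq_one_iff_mul_comm.2 (scal_comm hP.inj h c).symm
        rw [hP.commutator_mul_left (hA.commutator htA hcA), e', one_mul, hPc.symm.comm] at h1
        exact hP.m_ne h1
      · exfalso
        have h1 : ⁅y₀ * (c * t), c⁆ = 1 := commutatorElement_eq_one_iff_mul_comm.2 (scal_comm hP.inj h c).symm
        rw [hP.commutator_mul_left (hA.commutator (A.mul_mem hcA htA) hcA), e', one_mul,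
          hP.commutator_mul_left (hA.commutator htA hcA), commutatorElement_self, one_mul, hPc.symm.comm] at h1
        exact hP.m_ne h1
    have hgc : mk g * mk c = mk c * mk g := by
      rw [hy₀, map_mul, map_mul, map_inv, mul_inv_eq_iff_eq_mul] at hfix
      exact hfix
    have htwice : mk g * mk g * mk t = mk t * (mk g * mk g) := by
      set u := g * t * g⁻¹ with hu
      have huA : u ∈ A := hA.normal.conj_mem t htA g
      have hgt : mk g * mk t = mk u * mk g := by rw [hu, map_mul, map_mul, map_inv, inv_mul_cancel_right]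
      rcases hPc.cases4 (hA.commutator huA hcA) (hA.commutator huA htA) with h | h | h | h
      · exact absurd (by have h' := (inferInstance : (scal ρ).Normal).conj_mem _ h g⁻¹; rw [hu] at h'; simpa [mul_assoc] using h') hPc.symm.not_mem_left
      · exfalso
        have h1 : mk u = mk c := by
          have h1 : mk u * mk c = 1 := by rw [← map_mul]; exact hmk1 h
          rw [eq_inv_of_mul_eq_one_left h1, ← eq_inv_of_mul_eq_one_left hcc']
        rw [h1, ← hgc] at hgt
        have h2 := hmk1' (show mk (c⁻¹ * t) = 1 by rw [map_mul, map_inv, mul_left_cancel hgt, inv_mul_cancel])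
        have h3 := scal_comm hP.inj h2 c
        refine hP.m_ne (hct.symm.trans (commutatorElement_eq_one_iff_mul_comm.2 ?_))
        calc c * t = c * (c * (c⁻¹ * t)) := by group
          _ = c * ((c⁻¹ * t) * c) := by rw [h3]
          _ = t * c := by group
      · have h1 : mk u = mk t := by
          have h1 : mk u * mk t = 1 := by rw [← map_mul]; exact hmk1 h
          rw [eq_inv_of_mul_eq_one_left h1, ← eq_inv_of_mul_eq_one_left htt']
        rw [h1] at hgt
        rw [mul_assoc, hgt, ← mul_assoc, hgt, mul_assoc]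
      · have h1 : mk u = mk t * mk c := by
          have h1 : mk u * (mk c * mk t) = 1 := by rw [← map_mul, ← map_mul]; exact hmk1 h
          rw [eq_inv_of_mul_eq_one_left h1, mul_inv_rev, ← eq_inv_of_mul_eq_one_left hcc',
            ← eq_inv_of_mul_eq_one_left htt']
        rw [h1] at hgt
        calc mk g * mk g * mk t = mk g * (mk g * mk t) := mul_assoc _ _ _
          _ = (mk g * mk t) * (mk c * mk g) :=
            (congrArg (mk g * ·) hgt).trans (by simp only [mul_assoc])
          _ = mk t * (mk c * mk g) * (mk c * mk g) := by rw [hgt]; simp only [mul_assoc]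
          _ = mk t * (mk c * (mk g * mk c) * mk g) := by simp only [mul_assoc]
          _ = mk t * (mk g * mk g) := by rw [hgc, ← mul_assoc (mk c), hcc', one_mul]
    have h2 : g * g ∈ A := hA.mem hPc hcA htA
      (hmk1' (by rw [map_commutatorElement, commutatorElement_eq_one_iff_mul_comm, map_mul, mul_assoc, hgc,
        ← mul_assoc, hgc, mul_assoc]))
      (hmk1' (by rw [map_commutatorElement, commutatorElement_eq_one_iff_mul_comm, map_mul]; exact htwice))
    refine hgA ?_
    rw [show g = (g * g) * (g * g) by rw [← sq, ← sq, ← pow_mul, show 2 * 2 = 3 + 1 from rfl, pow_succ, hg3, one_mul]]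
    exact A.mul_mem h2 h2
  have hPy : AntiPair ρ m c y₀ := ⟨hP.inj, hP.neg, hcomm, hP.dim, hP.odd⟩
  set u := g * y₀ * g⁻¹ with hu
  have huA : u ∈ A := hA.normal.conj_mem y₀ hy₀A g
  have hy₀m : y₀ * y₀ = m := by
    rw [hy₀, show g * c * g⁻¹ * (g * c * g⁻¹) = g * (c * c) * g⁻¹ by group, hcc, scal_comm hP.inj hP.m_mem g,
      mul_inv_cancel_right]
  have hum : u * u = m := by
    rw [hu, show g * y₀ * g⁻¹ * (g * y₀ * g⁻¹) = g * (y₀ * y₀) * g⁻¹ by group, hy₀m, scal_comm hP.inj hP.m_mem g,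
      mul_inv_cancel_right]
  have hne : mk c ≠ mk y₀ := by
    intro e
    have h2 : c⁻¹ * y₀ ∈ scal ρ := hmk1' (by rw [map_mul, map_inv, e, inv_mul_cancel])
    have h3 := scal_comm hP.inj h2 c
    refine hP.m_ne (hcomm.symm.trans (commutatorElement_eq_one_iff_mul_comm.2 ?_))
    calc c * y₀ = c * (c * (c⁻¹ * y₀)) := by group
      _ = c * ((c⁻¹ * y₀) * c) := by rw [h3]
      _ = y₀ * c := by group
  have hyy' : mk y₀ * mk y₀ = 1 := by rw [← map_mul, hy₀m]; exact hmk1 hP.m_mem
  have hgy : mk g * mk c = mk y₀ * mk g := by rw [← map_mul, ← map_mul, hy₀, inv_mul_cancel_right]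
  have hgu : mk g * mk y₀ = mk u * mk g := by rw [← map_mul, ← map_mul, hu, inv_mul_cancel_right]
  obtain ⟨s, hs', hus⟩ : ∃ s ∈ scal ρ, u = s * (c * y₀)⁻¹ := by
    rcases hPy.cases4 (hA.commutator huA hcA) (hA.commutator huA hy₀A) with h | h | h | h
    · exact absurd (by have h' := (inferInstance : (scal ρ).Normal).conj_mem _ h g⁻¹; rw [hu] at h'; simpa [mul_assoc] using h') hPy.symm.not_mem_left
    · exfalso
      have h1 : mk u = mk c := by
        have h1 : mk u * mk c = 1 := by rw [← map_mul]; exact hmk1 h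
        rw [eq_inv_of_mul_eq_one_left h1, ← eq_inv_of_mul_eq_one_left hcc']
      rw [h1] at hgu
      -- `g³` moves the coset of `y₀` to itself
      have h2 : mk g * (mk g * mk g) * mk y₀ = mk c * (mk g * (mk g * mk g)) := by
        calc mk g * (mk g * mk g) * mk y₀ = mk g * (mk g * (mk g * mk y₀)) := by simp only [mul_assoc]
          _ = mk g * ((mk g * mk c) * mk g) := by rw [hgu]; simp only [mul_assoc]
          _ = (mk g * mk y₀) * (mk g * mk g) := by rw [hgy]; simp only [mul_assoc]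
          _ = mk c * (mk g * (mk g * mk g)) := by rw [hgu]; simp only [mul_assoc]
      rw [hG3, one_mul, mul_one] at h2
      exact hne h2.symm
    · exfalso
      have h1 : mk u = mk y₀ := by
        have h1 : mk u * mk y₀ = 1 := by rw [← map_mul]; exact hmk1 h
        rw [eq_inv_of_mul_eq_one_left h1, ← eq_inv_of_mul_eq_one_left hyy']
      rw [h1, ← hgy] at hgu
      exact hne (mul_left_cancel hgu).symm
    · exact ⟨u * (c * y₀), h, by group⟩
  have hcy : (c * y₀) * (c * y₀) = m := by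
    have e : y₀ * c = m * (c * y₀) := by
      have h1 : ⁅y₀, c⁆ = m := hPy.symm.comm
      rw [← h1, commutatorElement_def]
      group
    calc c * y₀ * (c * y₀) = c * (y₀ * c) * y₀ := by group
      _ = c * (m * (c * y₀)) * y₀ := by rw [e]
      _ = (c * m) * c * (y₀ * y₀) := by group
      _ = (m * c) * c * m := by rw [scal_comm hP.inj hP.m_mem c, hy₀m]
      _ = m := by rw [mul_assoc m c c, hcc, hP.m_sq, one_mul]
  have hcyinv : (c * y₀)⁻¹ = m * (c * y₀) := inv_eq_of_mul_eq_one_left (by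
    rw [mul_assoc, hcy, hP.m_sq])
  have hss : s * s = 1 := by
    have h1 := hum
    rw [hus, hcyinv, show s * (m * (c * y₀)) * (s * (m * (c * y₀))) = s * (m * (c * y₀) * s) * (m * (c * y₀)) by group,
      scal_comm hP.inj hs' (m * (c * y₀)), show s * (s * (m * (c * y₀))) * (m * (c * y₀)) = s * s * (m * ((c * y₀) * m) * (c * y₀)) by group,
      scal_comm hP.inj hP.m_mem (c * y₀), ← mul_assoc m m, hP.m_sq, one_mul, hcy] at h1
    exact mul_eq_right.1 h1
  have hsign : u = c * y₀ ∨ u = m * (c * y₀) := by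
    rcases eq_or_ne s 1 with rfl | hs1
    · exact Or.inr (by rw [hus, one_mul, hcyinv])
    · left
      have : s = m := eq_of_rho_eq hP.inj (by rw [neg_of_involution hreg hss hs1, hP.neg])
      rw [hus, this, hcyinv, ← mul_assoc, hP.m_sq, one_mul]
  -- final generator
  have hmain : ∀ c' : G, c' ∈ A → c' * c' = m → ⁅c', g * c' * g⁻¹⁆ = m →
      g * (g * c' * g⁻¹) * g⁻¹ = c' * (g * c' * g⁻¹) →
      ∃ c : G, H25.SL23Rel c g ∧ c ^ 2 ≠ 1 ∧ g ∉ Subgroup.closure ({c, g * c * g⁻¹} : Set G) := by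
    intro c' hc'A hc' hcom hsh
    have h4 : c' ^ 4 = 1 := by rw [show 4 = 2 * 2 from rfl, pow_mul, sq, sq, hc', hP.m_sq]
    refine ⟨c', ⟨hg3, h4, ?_, ?_, hsh⟩, by rw [sq, hc']; exact hP.m_ne, fun hmem => hgA ?_⟩
    · rw [sq, sq, show g * c' * g⁻¹ * (g * c' * g⁻¹) = g * (c' * c') * g⁻¹ by group, hc',
        scal_comm hP.inj hP.m_mem g, mul_inv_cancel_right]
    · set w := g * c' * g⁻¹
      have h1 : ⁅w, c'⁆ = m := by rw [← commutatorElement_inv, hcom, hP.m_inv]
      calc w * c' * w⁻¹ = ⁅w, c'⁆ * c' := by simp only [commutatorElement_def]; group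
        _ = m * c' := by rw [h1]
        _ = c'⁻¹ := (inv_eq_of_mul_eq_one_left (by rw [mul_assoc, hc', hP.m_sq])).symm
    · refine (Subgroup.closure_le _).2 ?_ hmem
      rintro w (rfl | rfl)
      exacts [hc'A, hA.normal.conj_mem _ hc'A g]
  rcases hsign with h | h
  · exact hmain c hcA hcc hcomm h
  · have hmc := scal_comm hP.inj hP.m_mem
    have hgm : g * (m * c) * g⁻¹ = m * y₀ := by rw [hy₀, ← mul_assoc, hmc g]; group
    refine hmain (m * c) (A.mul_mem (hA.scal_le hP.m_mem) hcA) ?_ ?_ ?_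
    · rw [show m * c * (m * c) = m * (c * m) * c by group, hmc c, ← mul_assoc m m, hP.m_sq, one_mul, hcc]
    · rw [hgm]
      have e : ⁅m * c, m * y₀⁆ = ⁅c, y₀⁆ := by
        simp only [commutatorElement_def, mul_inv_rev, hP.m_inv]
        calc m * c * (m * y₀) * (c⁻¹ * m) * (y₀⁻¹ * m) = m * (c * m) * y₀ * (c⁻¹ * m) * (y₀⁻¹ * m) := by group
          _ = m * (m * c) * y₀ * (m * c⁻¹) * (m * y₀⁻¹) := by rw [hmc c, hmc c⁻¹, hmc y₀⁻¹]
          _ = (m * m) * c * (y₀ * m) * c⁻¹ * m * y₀⁻¹ := by group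
          _ = (m * m) * c * (m * y₀) * c⁻¹ * m * y₀⁻¹ := by rw [hmc y₀]
          _ = (m * m) * (c * m) * y₀ * (c⁻¹ * m) * y₀⁻¹ := by group
          _ = (m * m) * (m * c) * y₀ * (m * c⁻¹) * y₀⁻¹ := by rw [hmc c, hmc c⁻¹]
          _ = (m * m) * m * c * (y₀ * m) * c⁻¹ * y₀⁻¹ := by group
          _ = (m * m) * m * c * (m * y₀) * c⁻¹ * y₀⁻¹ := by rw [hmc y₀]
          _ = (m * m) * m * (c * m) * y₀ * c⁻¹ * y₀⁻¹ := by group
          _ = (m * m) * m * (m * c) * y₀ * c⁻¹ * y₀⁻¹ := by rw [hmc c]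
          _ = (m * m) * (m * m) * (c * y₀ * c⁻¹ * y₀⁻¹) := by group
          _ = _ := by rw [hP.m_sq, one_mul, one_mul]
      rw [e, hcomm]
    · rw [hgm, show g * (m * y₀) * g⁻¹ = (g * m) * y₀ * g⁻¹ by group, hmc g,
        show m * g * y₀ * g⁻¹ = m * u by rw [hu]; group, h, ← mul_assoc, hP.m_sq, one_mul,
        show m * c * (m * y₀) = m * (c * m) * y₀ by group, hmc c, ← mul_assoc m m, hP.m_sq, one_mul]

/-- Zassenhaus. -/
theorem zassenhaus (hsol : Group.IsSolvable G) (hρ : Function.Injective ρ)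
    (htrans : ∀ v w : V, v ≠ 0 → w ≠ 0 → ∃ g : G, ρ g v = w)
    (hreg : ∀ v : V, v ≠ 0 → ∀ g : G, ρ g v = v → g = 1) :
    (Semilinear ρ ∨ Nat.card V ∈ ({25, 49, 121, 529} : Set ℕ)) ∧
    (q ≠ 2 → (∃ N : Subgroup G, N.Normal ∧ N.index = 2) ∨
      (Nat.card V = 25 ∧ Nonempty (G ≃* Matrix.SpecialLinearGroup (Fin 2) (ZMod 3))) ∨
      (Nat.card V = 121 ∧ Nonempty (G ≃* Matrix.SpecialLinearGroup (Fin 2) (ZMod 3) × Multiplicative (ZMod 5)))) := by
  classical
  have hq : q.Prime := Fact.out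
  have hG : Nat.card G = Nat.card V - 1 := card_regular htrans hreg
  have hcases : Semilinear ρ ∨ ∃ A, TwoExc ρ A ∧ Nat.card V = q ^ 2 ∧ q ∈ ({5, 7, 11, 23} : Set ℕ) := by
    rcases huppert hsol hρ htrans with h | ⟨hV, A, hA⟩ | h
    · exact Or.inl h
    · have hp := hA.prime
      simp only [Set.mem_insert_iff, Set.mem_singleton_iff] at hp
      rcases hp with h | h
      · refine Or.inl (semilinear_nine hρ htrans hreg h ?_)
        obtain ⟨m, x, y, hP, -, -⟩ := hA.pair
        exact hP.dim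
      · exact Or.inr ⟨A, hA, hV, by simpa using h⟩
    · exact Or.inl (semilinear_eighty_one hρ htrans hreg h)
  rcases hcases with h | ⟨A, hA, hV, hqm⟩
  · refine ⟨Or.inl h, fun hq2 => Or.inl (h.exists_index_two hρ ?_)⟩
    rw [hG, Module.natCard_eq_pow_finrank (K := ZMod q), Nat.card_zmod]
    exact even_iff_two_dvd.1 (Nat.Odd.sub_odd (hq.odd_of_ne_two hq2).pow odd_one)
  refine ⟨Or.inr ?_, fun _ => ?_⟩
  · rw [hV]
    simp only [Set.mem_insert_iff, Set.mem_singleton_iff] at hqm ⊢
    rcases hqm with rfl | rfl | rfl | rfl <;> norm_num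
  haveI := hA.normal
  obtain ⟨m, x, y, hP, -, -⟩ := hA.pair
  have hs := card_scal_dvd (ρ := ρ) hρ
  have hmul : Nat.card (scal ρ) * (4 * A.index) = q ^ 2 - 1 := by
    rw [← hA.index_scal, Subgroup.card_mul_index, hG, hV]
  have hidx : A.index = 1 ∨ A.index = 2 ∨ A.index = 3 ∨ A.index = 6 := by
    have h6 := hA.index_dvd
    have hle := Nat.le_of_dvd (by norm_num) h6
    have h0 : A.index ≠ 0 := Subgroup.index_ne_zero_of_finite
    interval_cases hA' : A.index <;> first | omega | (norm_num at h6)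
  by_cases h2 : A.index = 2
  · exact Or.inl ⟨A, hA.normal, h2⟩
  by_cases h6 : A.index = 6
  · haveI : Fact (Nat.Prime 3) := ⟨Nat.prime_three⟩
    obtain ⟨K, hK⟩ := Sylow.exists_subgroup_card_pow_prime (G := G ⧸ A) 3 (n := 1)
      (by rw [pow_one, ← Subgroup.index_eq_card, h6]; norm_num)
    refine Or.inl ⟨K.comap (QuotientGroup.mk' A), ?_⟩
    have hK2 : (K.comap (QuotientGroup.mk' A)).index = 2 := by
      rw [Subgroup.index_comap_of_surjective _ (QuotientGroup.mk'_surjective A)]
      have h1 := K.card_mul_index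
      rw [hK, ← Subgroup.index_eq_card, h6] at h1
      omega
    exact ⟨Subgroup.normal_of_index_eq_two hK2, hK2⟩
  have h13 : A.index = 1 ∨ A.index = 3 := by omega
  haveI : Fact (Nat.Prime 3) := ⟨Nat.prime_three⟩
  have hle : Nat.card (scal ρ) ≤ q - 1 := Nat.le_of_dvd (by have := hq.two_le; omega) hs
  have hAcard : Nat.card A = 4 * Nat.card (scal ρ) := by
    have h1 := A.card_mul_index
    rw [← (scal ρ).card_mul_index, hA.index_scal, ← mul_assoc] at h1
    rw [mul_comm 4]
    exact Nat.eq_of_mul_eq_mul_right (Nat.pos_of_ne_zero Subgroup.index_ne_zero_of_finite) h1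
  have hq5 : (q = 5 ∧ Nat.card (scal ρ) = 2 ∧ A.index = 3) ∨ (q = 11 ∧ Nat.card (scal ρ) = 10 ∧ A.index = 3) := by
    simp only [Set.mem_insert_iff, Set.mem_singleton_iff] at hqm
    rcases hqm with rfl | rfl | rfl | rfl <;> rcases h13 with e | e <;> rw [e] at hmul <;> norm_num at hmul hle hs ⊢
    all_goals first
      | omega
      | (have hv : Nat.card (scal ρ) = 6 := (by omega); rw [hv] at hs; norm_num at hs)
      | (have hv : Nat.card (scal ρ) = 4 := (by omega); rw [hv] at hs; norm_num at hs)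
  obtain ⟨g, hg⟩ := exists_prime_orderOf_dvd_card' (G := G) 3 (by
    rw [hG, hV]
    rcases hq5 with ⟨rfl, -⟩ | ⟨rfl, -⟩ <;> norm_num)
  have hg3 : g ^ 3 = 1 := hg ▸ pow_orderOf_eq_one g
  have hgA : g ∉ A := by
    intro h
    have h1 := orderOf_dvd_natCard (⟨g, h⟩ : A)
    rw [← Subgroup.orderOf_coe, hg, hAcard] at h1
    rcases hq5 with ⟨-, e, -⟩ | ⟨-, e, -⟩ <;> rw [e] at h1 <;> norm_num at h1
  have hModel : Nat.card H25.Model = 24 := by
    rw [SemidirectProduct.card, Nat.card_eq_fintype_card, Nat.card_eq_fintype_card, QuaternionGroup.card]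
    rfl
  obtain ⟨eSL⟩ := H25.nonempty_model_equiv_SL
  rcases hq5 with ⟨rfl, hs2, -⟩ | ⟨rfl, hs2, -⟩
  · obtain ⟨c, hrel, hc2, hgc⟩ := hA.exists_rel hreg (j := 0) (by rw [hs2]) hg3 hgA
    obtain ⟨f, hf, -, -⟩ := H25.exists_model_hom hrel hc2 hgc
    refine Or.inr (Or.inl ⟨by rw [hV]; norm_num, ⟨?_⟩⟩)
    exact (MulEquiv.ofBijective f (hf.bijective_of_nat_card_le (by rw [hG, hV, hModel]; norm_num))).symm.trans eSL
  · obtain ⟨c, hrel, hc2, hgc⟩ := hA.exists_rel hreg (j := 2) (by rw [hs2]) hg3 hgA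
    obtain ⟨f, hf, -, -⟩ := H25.exists_model_hom hrel hc2 hgc
    refine Or.inr (Or.inr ⟨by rw [hV]; norm_num, ?_⟩)
    haveI : Fact (Nat.Prime 5) := ⟨by norm_num⟩
    obtain ⟨z, hz⟩ := exists_prime_orderOf_dvd_card' (G := scal ρ) 5 (by rw [hs2]; norm_num)
    have hzo : orderOf (z : G) = 5 := by rw [Subgroup.orderOf_coe, hz]
    let e : Multiplicative (ZMod 5) ≃* Subgroup.zpowers (z : G) := mulEquivOfCyclicCardEq (by
      rw [Nat.card_zpowers, hzo, Nat.card_eq_fintype_card, Fintype.card_multiplicative, ZMod.card])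
    let F : H25.Model × Multiplicative (ZMod 5) →* G := MonoidHom.noncommCoprod f
      ((Subgroup.zpowers (z : G)).subtype.comp e.toMonoidHom) (fun a b =>
        scal_comm hρ (Subgroup.zpowers_le.2 z.2 (e b).2) (f a))
    have hF : Function.Injective F := by
      rw [injective_iff_map_eq_one]
      rintro ⟨a, b⟩ hab
      have hab' : f a * (e b : G) = 1 := hab
      have h24 : (e b : G) ^ 24 = 1 := by
        rw [eq_inv_of_mul_eq_one_right hab', ← map_inv, ← map_pow, ← hModel, pow_card_eq_one', map_one]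
      have h5 : (e b : G) ^ 5 = 1 := by
        have : b ^ 5 = 1 := by
          have h := pow_card_eq_one' (x := b)
          rwa [Nat.card_eq_fintype_card, Fintype.card_multiplicative, ZMod.card] at h
        rw [← SubmonoidClass.coe_pow, ← map_pow, this, map_one, OneMemClass.coe_one]
      have hb : (e b : G) = 1 := by
        have h := (pow_gcd_eq_one (m := 24) (n := 5)).2 ⟨h24, h5⟩
        rwa [show Nat.gcd 24 5 = 1 from rfl, pow_one] at h
      rw [hb, mul_one] at hab'
      have ha : a = 1 := hf (by rw [hab', map_one])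
      have hb' : b = 1 := e.injective (Subtype.ext (by rw [hb, map_one]; rfl))
      rw [ha, hb']
      rfl
    have hbij := hF.bijective_of_nat_card_le (by
      rw [hG, hV, Nat.card_prod, hModel, Nat.card_eq_fintype_card (α := Multiplicative (ZMod 5)),
        Fintype.card_multiplicative, ZMod.card]
      norm_num)
    exact ⟨(MulEquiv.ofBijective F hbij).symm.trans (eSL.prodCongr (MulEquiv.refl _))⟩

end Cfsg.Agent.H88
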