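/-
A conjugation invariant set of subgroups, any two of which generate a unipotent group, generates a unipotent group.
-/
import Cfsg.Agent.H88.QFiltration
set_option autoImplicit false
set_option maxHeartbeats 1000000

namespace Cfsg.Agent.H88

variable {k : Type*} [Field k] {M : Type*} [AddCommGroup M] [Module k M]

lemma one_mem_wordSpan (S : Set (Module.End k M)) : (1 : Module.End k M) ∈ wordSpan S 0 := by
  refine Submodule.subset_span ?_
  exact ⟨[], fun a ha => absurd ha List.not_mem_nil, le_refl 0, List.prod_nil.symm⟩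

/-- The algebra without unit spanned by the `g - 1`, `g ∈ W`. -/
def devAlg (W : Set (Module.End k M)ˣ) : Submodule k (Module.End k M) :=
  wordSpan ((fun g : (Module.End k M)ˣ => (g : Module.End k M) - 1) '' W) 1

/-- Long products of the `g - 1`, `g ∈ W`, vanish. -/
def Vanishing (W : Set (Module.End k M)ˣ) : Prop :=
  ∃ L : ℕ, ∀ l : List (Module.End k M),
    (∀ a ∈ l, a ∈ (fun g : (Module.End k M)ˣ => (g : Module.End k M) - 1) '' W) → l.length = L → l.prod = 0

lemma mem_devAlg {W : Set (Module.End k M)ˣ} {g : (Module.End k M)ˣ} (hg : g ∈ W) :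
    (g : Module.End k M) - 1 ∈ devAlg W := mem_wordSpan_one ⟨g, hg, rfl⟩

lemma devAlg_mono {W W' : Set (Module.End k M)ˣ} (h : W ⊆ W') : devAlg W ≤ devAlg W' :=
  Submodule.span_mono fun _ ⟨l, h1, h2, h3⟩ => ⟨l, fun a ha => Set.image_mono h (h1 a ha), h2, h3⟩

lemma devAlg_mul {W : Set (Module.End k M)ˣ} {a b : Module.End k M} (ha : a ∈ devAlg W) (hb : b ∈ devAlg W) :
    a * b ∈ devAlg W := wordSpan_anti (by omega) (wordSpan_mul ha hb)

lemma devAlg_le {W : Set (Module.End k M)ˣ} {J : Submodule k (Module.End k M)}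
    (hm : ∀ a ∈ J, ∀ b ∈ J, a * b ∈ J) (hW : ∀ g ∈ W, (g : Module.End k M) - 1 ∈ J) : devAlg W ≤ J := by
  refine Submodule.span_le.2 ?_
  rintro _ ⟨l, h1, h2, rfl⟩
  induction l with
  | nil => simp at h2
  | cons a t ih =>
    obtain ⟨g, hg, rfl⟩ := h1 a (by simp)
    rw [List.prod_cons]
    rcases eq_or_ne t [] with rfl | ht
    · simpa using hW g hg
    · exact hm _ (hW g hg) _ (ih (fun b hb => h1 b (by simp [hb])) (List.length_pos_iff.2 ht))

lemma Vanishing.mono {W W' : Set (Module.End k M)ˣ} (h : W ⊆ W') (hW : Vanishing W') : Vanishing W :=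
  ⟨hW.choose, fun l hl hlen => hW.choose_spec l (fun a ha => Set.image_mono h (hl a ha)) hlen⟩

lemma Vanishing.of_alg {W W' : Set (Module.End k M)ˣ} (hW : Vanishing W)
    (h : ∀ g ∈ W', (g : Module.End k M) - 1 ∈ devAlg W) : Vanishing W' := by
  obtain ⟨L, hL⟩ := hW
  refine ⟨L, fun l hl hlen => ?_⟩
  have key : ∀ l : List (Module.End k M), (∀ a ∈ l, a ∈ devAlg W) →
      l.prod ∈ wordSpan ((fun g : (Module.End k M)ˣ => (g : Module.End k M) - 1) '' W) l.length := by
    intro l
    induction l with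
    | nil => exact fun _ => Submodule.subset_span ⟨[], by simp, le_rfl, rfl⟩
    | cons a t ih =>
      intro hl
      rw [List.prod_cons, List.length_cons, add_comm]
      exact wordSpan_mul (hl a (by simp)) (ih fun b hb => hl b (by simp [hb]))
  have := key l (fun a ha => by obtain ⟨g, hg, rfl⟩ := hl a ha; exact h g hg)
  rw [hlen, wordSpan_eq_bot hL le_rfl] at this
  exact (Submodule.mem_bot k).1 this

/-- Adjoining normalising elements keeps long products zero. -/
theorem Vanishing.union {D Z : Set (Module.End k M)ˣ} (hD : Vanishing D) (hZ : Vanishing Z)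
    (hn : ∀ z ∈ Z, ∀ a ∈ devAlg D, (z : Module.End k M) * a * ((z⁻¹ : (Module.End k M)ˣ) : Module.End k M) ∈ devAlg D) :
    Vanishing (D ∪ Z) := by
  obtain ⟨L, hL⟩ := hD
  obtain ⟨K, hK⟩ := hZ
  set SD := (fun g : (Module.End k M)ˣ => (g : Module.End k M) - 1) '' D with hSD
  set SZ := (fun g : (Module.End k M)ˣ => (g : Module.End k M) - 1) '' Z with hSZ
  -- conjugation by `z` keeps every power of the algebra
  have hconj : ∀ z ∈ Z, ∀ {n : ℕ} {a : Module.End k M}, a ∈ wordSpan SD n →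
      (z : Module.End k M) * a * ((z⁻¹ : (Module.End k M)ˣ) : Module.End k M) ∈ wordSpan SD n := by
    intro z hz n a ha
    induction ha using Submodule.span_induction with
    | mem a ha =>
      obtain ⟨l, h1, h2, rfl⟩ := ha
      refine wordSpan_anti h2 ?_
      clear h2
      induction l with
      | nil => simpa using one_mem_wordSpan SD
      | cons a t ih =>
        rw [List.prod_cons, List.length_cons, add_comm,
          show (z : Module.End k M) * (a * t.prod) * ((z⁻¹ : (Module.End k M)ˣ) : Module.End k M)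
            = (z : Module.End k M) * a * ((z⁻¹ : (Module.End k M)ˣ) : Module.End k M) *
              ((z : Module.End k M) * t.prod * ((z⁻¹ : (Module.End k M)ˣ) : Module.End k M)) by
            simp only [mul_assoc, Units.inv_mul_cancel_left]]
        exact wordSpan_mul (hn z hz a (mem_wordSpan_one (h1 a (by simp))))
          (ih fun b hb => h1 b (by simp [hb]))
    | zero => simp
    | add a b _ _ ha hb => rw [mul_add, add_mul]; exact Submodule.add_mem _ ha hb
    | smul c a _ ha => rw [mul_smul_comm, smul_mul_assoc]; exact Submodule.smul_mem _ c ha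
  -- normal forms: (word in `D` of length at least `n`) * (word in `Z`)
  let E : ℕ → Submodule k (Module.End k M) := fun n =>
    Submodule.span k {x | ∃ (a b : Module.End k M), a ∈ wordSpan SD n ∧ b ∈ wordSpan SZ 0 ∧ x = a * b}
  have hone : ∀ S : Set (Module.End k M), (1 : Module.End k M) ∈ wordSpan S 0 := fun S => one_mem_wordSpan S
  have hEanti : ∀ {n x}, x ∈ E (n + 1) → x ∈ E n := by
    intro n x hx
    refine Submodule.span_mono ?_ hx
    rintro y ⟨a, b, ha, hb, e⟩
    exact ⟨a, b, wordSpan_anti (by omega) ha, hb, e⟩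
  have stepD : ∀ c ∈ SD, ∀ n, ∀ x ∈ E n, c * x ∈ E (n + 1) := by
    intro c hc n x hx
    induction hx using Submodule.span_induction with
    | mem x hx =>
      obtain ⟨a, b, ha, hb, rfl⟩ := hx
      exact Submodule.subset_span ⟨c * a, b, by rw [add_comm]; exact wordSpan_mul (mem_wordSpan_one hc) ha, hb,
        by simp [mul_assoc]⟩
    | zero => simp
    | add a b _ _ ha hb => rw [mul_add]; exact Submodule.add_mem _ ha hb
    | smul r a _ ha => rw [mul_smul_comm]; exact Submodule.smul_mem _ r ha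
  have step : ∀ c ∈ SD ∪ SZ, ∀ n, ∀ x ∈ E n, c * x ∈ E n := by
    intro c hc n x hx
    rcases hc with hc | ⟨z, hz, rfl⟩
    · exact hEanti (stepD c hc n x hx)
    induction hx using Submodule.span_induction with
    | mem x hx =>
      obtain ⟨a, b, ha, hb, rfl⟩ := hx
      dsimp only
      rw [show ((z : Module.End k M) - 1) * (a * b)
          = (z : Module.End k M) * a * ((z⁻¹ : (Module.End k M)ˣ) : Module.End k M) * (((z : Module.End k M) - 1) * b)
            + ((z : Module.End k M) * a * ((z⁻¹ : (Module.End k M)ˣ) : Module.End k M) * b - a * b) by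
        simp only [sub_mul, one_mul, mul_sub, mul_assoc, Units.inv_mul_cancel_left]; abel]
      have hz' := hconj z hz ha
      refine Submodule.add_mem _ ?_ (Submodule.sub_mem _ (Submodule.subset_span ⟨_, b, hz', hb, rfl⟩)
        (Submodule.subset_span ⟨a, b, ha, hb, rfl⟩))
      exact Submodule.subset_span ⟨_, _, hz', wordSpan_anti (by omega)
        (wordSpan_mul (i := 1) (mem_wordSpan_one ⟨z, hz, rfl⟩) hb), rfl⟩
    | zero => simp
    | add a b _ _ ha hb => rw [mul_add]; exact Submodule.add_mem _ ha hb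
    | smul r a _ ha => rw [mul_smul_comm]; exact Submodule.smul_mem _ r ha
  have steps : ∀ t : List (Module.End k M), (∀ a ∈ t, a ∈ SD ∪ SZ) → ∀ n, ∀ x ∈ E n, t.prod * x ∈ E n := by
    intro t
    induction t with
    | nil => intro _ n x hx; simpa using hx
    | cons c t ih =>
      intro ht n x hx
      rw [List.prod_cons, mul_assoc]
      exact step c (ht c (by simp)) n _ (ih (fun a ha => ht a (by simp [ha])) n x hx)
  have key : ∀ n, ∀ l : List (Module.End k M), (∀ a ∈ l, a ∈ SD ∪ SZ) → n * K ≤ l.length → l.prod ∈ E n := by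
    intro n
    induction n with
    | zero =>
      intro l hl _
      have := steps l hl 0 1 (Submodule.subset_span ⟨1, 1, hone _, hone _, by simp⟩)
      rwa [mul_one] at this
    | succ n ih =>
      intro l hl hlen
      rw [Nat.add_mul, one_mul] at hlen
      rw [← List.take_append_drop K l, List.prod_append]
      have hr := ih (l.drop K) (fun a ha => hl a (List.mem_of_mem_drop ha)) (by rw [List.length_drop]; omega)
      have ht : ∀ a ∈ l.take K, a ∈ SD ∪ SZ := fun a ha => hl a (List.mem_of_mem_take ha)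
      by_cases hall : ∀ a ∈ l.take K, a ∈ SZ
      · rw [hK _ hall (by rw [List.length_take]; omega), zero_mul]
        exact Submodule.zero_mem _
      · push Not at hall
        obtain ⟨d, hd, hdZ⟩ := hall
        obtain ⟨t₁, t₂, e⟩ := List.append_of_mem hd
        rw [e] at ht ⊢
        rw [List.prod_append, List.prod_cons, mul_assoc, mul_assoc]
        exact steps t₁ (fun a ha => ht a (by simp [ha])) _ _
          (stepD d ((ht d (by simp)).resolve_right hdZ) n _ (steps t₂ (fun a ha => ht a (by simp [ha])) n _ hr))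
  refine ⟨L * K, fun l hl hlen => ?_⟩
  rw [Set.image_union] at hl
  have hmem := key L l hl hlen.ge
  have hbot : E L = ⊥ := by
    refine Submodule.span_eq_bot.2 ?_
    rintro _ ⟨a, b, ha, -, rfl⟩
    rw [wordSpan_eq_bot hL le_rfl, Submodule.mem_bot] at ha
    rw [ha, zero_mul]
  rw [hbot, Submodule.mem_bot] at hmem
  exact hmem

variable [FiniteDimensional k M]

/-- In a finite dimensional algebra of nilpotent elements inverses stay inside. -/
lemma inv_dev_mem {J : Submodule k (Module.End k M)} {u : (Module.End k M)ˣ} (hu : (u : Module.End k M) - 1 ∈ J)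
    (hmul : ∀ a ∈ J, ((u : Module.End k M) - 1) * a ∈ J) :
    ((u⁻¹ : (Module.End k M)ˣ) : Module.End k M) - 1 ∈ J := by
  let f : J →ₗ[k] J :=
    { toFun := fun a => ⟨(u : Module.End k M) * (a : Module.End k M), by
        have := J.add_mem (hmul _ a.2) a.2
        rwa [sub_mul, one_mul, sub_add_cancel] at this⟩
      map_add' := fun a b => by ext1; simp [mul_add]
      map_smul' := fun c a => by ext1; simp }
  have hinj : Function.Injective f := fun a b h => Subtype.ext ((u.mul_right_inj).1 (congrArg Subtype.val h))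
  obtain ⟨y, hy⟩ := LinearMap.injective_iff_surjective.1 hinj ⟨-((u : Module.End k M) - 1), J.neg_mem hu⟩
  have hy' : (u : Module.End k M) * (y : Module.End k M) = -((u : Module.End k M) - 1) := congrArg Subtype.val hy
  have : (y : Module.End k M) = ((u⁻¹ : (Module.End k M)ˣ) : Module.End k M) - 1 := by
    refine (u.mul_right_inj).1 ?_
    rw [hy', mul_sub, Units.mul_inv, mul_one]; abel
  exact this ▸ y.2

lemma conj_dev (z d : (Module.End k M)ˣ) :
    ((z * d * z⁻¹ : (Module.End k M)ˣ) : Module.End k M) - 1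
      = (z : Module.End k M) * ((d : Module.End k M) - 1) * ((z⁻¹ : (Module.End k M)ˣ) : Module.End k M) := by
  simp [mul_sub, sub_mul]

lemma conj_mem_devAlg {W : Set (Module.End k M)ˣ} {z : (Module.End k M)ˣ} {δ : Module.End k M}
    (hz : (z : Module.End k M) - 1 ∈ devAlg W) (hδ : δ ∈ devAlg W) :
    (z : Module.End k M) * δ * ((z⁻¹ : (Module.End k M)ˣ) : Module.End k M) ∈ devAlg W := by
  have hzi := inv_dev_mem hz fun a ha => devAlg_mul hz ha
  rw [show (z : Module.End k M) * δ * ((z⁻¹ : (Module.End k M)ˣ) : Module.End k M)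
    = δ + ((z : Module.End k M) - 1) * δ + (δ + ((z : Module.End k M) - 1) * δ) *
        (((z⁻¹ : (Module.End k M)ˣ) : Module.End k M) - 1) by noncomm_ring]
  have h1 := Submodule.add_mem _ hδ (devAlg_mul hz hδ)
  exact Submodule.add_mem _ h1 (devAlg_mul h1 hzi)

/-- A proper closed subset of a vanishing closed set is normalised by an element outside. -/
theorem exists_normalizing {T W D : Set (Module.End k M)ˣ} (hT : ∀ x ∈ T, ∀ y ∈ T, x * y * x⁻¹ ∈ T)
    (hWT : W ⊆ T) (hW : Vanishing W) (hWcl : ∀ g ∈ T, (g : Module.End k M) - 1 ∈ devAlg W → g ∈ W)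
    (hDW : D ⊆ W) (hDcl : ∀ g ∈ W, (g : Module.End k M) - 1 ∈ devAlg D → g ∈ D) (hne : ∃ g ∈ W, g ∉ D) :
    ∃ z ∈ W, z ∉ D ∧
      ∀ a ∈ devAlg D, (z : Module.End k M) * a * ((z⁻¹ : (Module.End k M)ˣ) : Module.End k M) ∈ devAlg D := by
  obtain ⟨L, hL⟩ := hW
  set S := (fun g : (Module.End k M)ˣ => (g : Module.End k M) - 1) '' W with hS
  let I : ℕ → Submodule k (Module.End k M) := fun n => devAlg D ⊔ wordSpan S n
  have hDI : devAlg D ≤ wordSpan S 1 := devAlg_mono hDW
  -- multiplication rules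
  have hmul : ∀ n, 1 ≤ n → ∀ a ∈ I n, ∀ b ∈ I n, a * b ∈ I n := by
    intro n hn a ha b hb
    obtain ⟨a1, ha1, a2, ha2, rfl⟩ := Submodule.mem_sup.1 ha
    obtain ⟨b1, hb1, b2, hb2, rfl⟩ := Submodule.mem_sup.1 hb
    rw [add_mul, mul_add, mul_add]
    refine Submodule.add_mem _ (Submodule.add_mem _ (Submodule.mem_sup_left (devAlg_mul ha1 hb1)) ?_)
      (Submodule.add_mem _ ?_ ?_) <;> refine Submodule.mem_sup_right ?_
    · exact wordSpan_anti (by omega) (wordSpan_mul (hDI ha1) hb2)
    · exact wordSpan_anti (by omega) (wordSpan_mul ha2 (hDI hb1))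
    · exact wordSpan_anti (by omega) (wordSpan_mul ha2 hb2)
  have hgain : ∀ n, ∀ x ∈ I n, ∀ δ ∈ devAlg D, x * δ ∈ I (n + 1) ∧ δ * x ∈ I (n + 1) := by
    intro n x hx δ hδ
    obtain ⟨a, ha, b, hb, rfl⟩ := Submodule.mem_sup.1 hx
    rw [add_mul, mul_add]
    refine ⟨Submodule.add_mem _ (Submodule.mem_sup_left (devAlg_mul ha hδ)) (Submodule.mem_sup_right ?_),
      Submodule.add_mem _ (Submodule.mem_sup_left (devAlg_mul hδ ha)) (Submodule.mem_sup_right ?_)⟩
    · exact wordSpan_mul hb (hDI hδ)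
    · rw [add_comm n 1]; exact wordSpan_mul (hDI hδ) hb
  by_contra hno
  push Not at hno
  have hbad : ∀ z ∈ W, z ∉ D → ∃ d ∈ D, z * d * z⁻¹ ∈ W ∧ z * d * z⁻¹ ∉ D := by
    intro z hz hzD
    by_contra hall
    push Not at hall
    obtain ⟨a, ha, hna⟩ := hno z hz hzD
    refine hna ?_
    have hsub : devAlg D ≤ (devAlg D).comap ((LinearMap.mulLeft k (z : Module.End k M)).comp
        (LinearMap.mulRight k ((z⁻¹ : (Module.End k M)ˣ) : Module.End k M))) := by
      refine devAlg_le (fun a ha b hb => ?_) (fun d hd => ?_)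
      · simp only [Submodule.mem_comap, LinearMap.comp_apply, LinearMap.mulLeft_apply, LinearMap.mulRight_apply,
          ← mul_assoc] at ha hb ⊢
        have := devAlg_mul ha hb
        simpa only [mul_assoc, Units.inv_mul_cancel_left] using this
      · have hmemW : z * d * z⁻¹ ∈ W := hWcl _ (hT z (hWT hz) d (hWT (hDW hd))) (by
          rw [conj_dev]; exact conj_mem_devAlg (mem_devAlg hz) (mem_devAlg (hDW hd)))
        have h := mem_devAlg (hall d hd hmemW)
        rw [conj_dev] at h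
        simpa [mul_assoc] using h
    simpa [mul_assoc] using hsub ha
  have chain : ∀ n, ∃ z ∈ W, z ∉ D ∧ (z : Module.End k M) - 1 ∈ I (n + 1) := by
    intro n
    induction n with
    | zero =>
      obtain ⟨g, hg, hgD⟩ := hne
      exact ⟨g, hg, hgD, Submodule.mem_sup_right (mem_devAlg hg)⟩
    | succ n ih =>
      obtain ⟨z, hz, hzD, hzI⟩ := ih
      obtain ⟨d, hd, h1, h2⟩ := hbad z hz hzD
      refine ⟨_, h1, h2, ?_⟩
      have hzi := inv_dev_mem hzI fun a ha => hmul (n + 1) (by omega) _ hzI a ha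
      have hδ := mem_devAlg hd
      rw [conj_dev, show (z : Module.End k M) * ((d : Module.End k M) - 1) * ((z⁻¹ : (Module.End k M)ˣ) : Module.End k M)
        = ((d : Module.End k M) - 1) + ((z : Module.End k M) - 1) * ((d : Module.End k M) - 1)
          + ((d : Module.End k M) - 1) * (((z⁻¹ : (Module.End k M)ˣ) : Module.End k M) - 1)
          + ((z : Module.End k M) - 1) * (((d : Module.End k M) - 1) * (((z⁻¹ : (Module.End k M)ˣ) : Module.End k M) - 1)) by
        noncomm_ring]
      refine Submodule.add_mem _ (Submodule.add_mem _ (Submodule.add_mem _ (Submodule.mem_sup_left hδ)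
        (hgain _ _ hzI _ hδ).1) (hgain _ _ hzi _ hδ).2) ?_
      have h3 := (hgain _ _ hzi _ hδ).2
      obtain ⟨a, ha, b, hb, e⟩ := Submodule.mem_sup.1 h3
      rw [← e, mul_add]
      refine Submodule.add_mem _ (hgain _ _ hzI _ ha).1 (Submodule.mem_sup_right ?_)
      obtain ⟨a', ha', b', hb', e'⟩ := Submodule.mem_sup.1 hzI
      rw [← e', add_mul]
      refine Submodule.add_mem _ (wordSpan_anti (by omega) (wordSpan_mul (hDI ha') hb))
        (wordSpan_anti (by omega) (wordSpan_mul hb' hb))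
  obtain ⟨z, hz, hzD, hzI⟩ := chain L
  have hbot : wordSpan S (L + 1) = ⊥ := wordSpan_eq_bot hL (by omega)
  simp only [I, hbot, sup_bot_eq] at hzI
  exact hzD (hDcl z hz hzI)

/-- Maximal vanishing subsets. -/
def MaxVanishing (T W : Set (Module.End k M)ˣ) : Prop :=
  W ⊆ T ∧ Vanishing W ∧ ∀ W' ⊆ T, Vanishing W' → W ⊆ W' → W' = W

omit [FiniteDimensional k M] in
lemma MaxVanishing.closed {T W : Set (Module.End k M)ˣ} (h : MaxVanishing T W) {g : (Module.End k M)ˣ} (hg : g ∈ T)
    (hd : (g : Module.End k M) - 1 ∈ devAlg W) : g ∈ W := by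
  have := h.2.2 (insert g W) (Set.insert_subset hg h.1)
    (h.2.1.of_alg fun x hx => by rcases hx with rfl | hx; exacts [hd, mem_devAlg hx]) (Set.subset_insert g W)
  exact this ▸ Set.mem_insert g W

lemma exists_maxVanishing {T W : Set (Module.End k M)ˣ} (hWT : W ⊆ T) (hW : Vanishing W) :
    ∃ W', W ⊆ W' ∧ MaxVanishing T W' := by
  classical
  let P : ℕ → Prop := fun d => ∃ W', W' ⊆ T ∧ W ⊆ W' ∧ Vanishing W' ∧ Module.finrank k (devAlg W') = d
  obtain ⟨W', h1, h2, h3, h4⟩ : P (Nat.findGreatest P (Module.finrank k (Module.End k M))) :=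
    Nat.findGreatest_spec (P := P) (Submodule.finrank_le (devAlg W)) ⟨W, hWT, subset_rfl, hW, rfl⟩
  refine ⟨{g ∈ T | (g : Module.End k M) - 1 ∈ devAlg W'}, fun g hg => ⟨hWT hg, mem_devAlg (h2 hg)⟩,
    fun g hg => hg.1, h3.of_alg fun g hg => hg.2, fun W'' hT'' hV hsub => ?_⟩
  have hle : devAlg W' ≤ devAlg W'' := devAlg_mono fun g hg => hsub ⟨h1 hg, mem_devAlg hg⟩
  have heq : devAlg W' = devAlg W'' := by
    refine Submodule.eq_of_le_of_finrank_le hle (h4 ▸ ?_)
    exact Nat.le_findGreatest (Submodule.finrank_le _)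
      ⟨W'', hT'', fun g hg => hsub ⟨hWT hg, mem_devAlg (h2 hg)⟩, hV, rfl⟩
  exact Set.Subset.antisymm (fun g hg => ⟨hT'' hg, heq ▸ mem_devAlg hg⟩) hsub

/-- Conjugation closed, pairwise vanishing sets vanish. -/
theorem vanishing_of_pairs {T : Set (Module.End k M)ˣ} (hT : ∀ x ∈ T, ∀ y ∈ T, x * y * x⁻¹ ∈ T)
    (hpair : ∀ x ∈ T, ∀ y ∈ T, Vanishing ({x, y} : Set (Module.End k M)ˣ)) : Vanishing T := by
  by_contra hTV
  obtain ⟨W₀, -, hW₀⟩ := exists_maxVanishing (T := T) (W := ∅) (Set.empty_subset _)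
    ⟨1, fun l hl hlen => by
      obtain ⟨a, rfl⟩ := List.length_eq_one_iff.1 hlen
      simp at hl⟩
  obtain ⟨g, hg, hgW⟩ : ∃ g ∈ T, g ∉ W₀ := by
    by_contra h
    push Not at h
    exact hTV (hW₀.2.1.mono h)
  obtain ⟨V₀, hgV, hV₀⟩ := exists_maxVanishing (T := T) (W := {g}) (Set.singleton_subset_iff.2 hg)
    ((hpair g hg g hg).mono (by simp))
  classical
  let P : ℕ → Prop := fun d => ∃ W₁ W₂, MaxVanishing T W₁ ∧ MaxVanishing T W₂ ∧ W₁ ≠ W₂ ∧
    Module.finrank k (devAlg (W₁ ∩ W₂)) = d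
  obtain ⟨W₁, W₂, h1, h2, hne, hd⟩ : P (Nat.findGreatest P (Module.finrank k (Module.End k M))) :=
    Nat.findGreatest_spec (P := P) (Submodule.finrank_le (devAlg (W₀ ∩ V₀)))
      ⟨W₀, V₀, hW₀, hV₀, fun e => hgW (e ▸ hgV rfl), rfl⟩
  have hcl : ∀ x ∈ T, (x : Module.End k M) - 1 ∈ devAlg (W₁ ∩ W₂) → x ∈ W₁ ∩ W₂ := fun x hx hx' =>
    ⟨h1.closed hx (devAlg_mono Set.inter_subset_left hx'), h2.closed hx (devAlg_mono Set.inter_subset_right hx')⟩
  have hnot : ∀ {W W' : Set (Module.End k M)ˣ}, MaxVanishing T W → MaxVanishing T W' → W ≠ W' → ∃ x ∈ W, x ∉ W ∩ W' := by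
    intro W W' hW hW' hne
    by_contra h
    push Not at h
    exact hne (hW.2.2 W' hW'.1 hW'.2.1 (fun x hx => (h x hx).2)).symm
  obtain ⟨z₁, hz₁, hz₁D, hn₁⟩ := exists_normalizing hT h1.1 h1.2.1 (fun x hx => h1.closed hx)
    Set.inter_subset_left (fun x hx => hcl x (h1.1 hx)) (hnot h1 h2 hne)
  obtain ⟨z₂, hz₂, hz₂D, hn₂⟩ := exists_normalizing hT h2.1 h2.2.1 (fun x hx => h2.closed hx)
    Set.inter_subset_right (fun x hx => hcl x (h2.1 hx)) (Set.inter_comm W₂ W₁ ▸ hnot h2 h1 (Ne.symm hne))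
  have hD : Vanishing (W₁ ∩ W₂) := h1.2.1.mono Set.inter_subset_left
  obtain ⟨W₃, hsub, h3⟩ := exists_maxVanishing (T := T) (W := (W₁ ∩ W₂) ∪ {z₁, z₂})
    (Set.union_subset (Set.inter_subset_left.trans h1.1) (Set.insert_subset (h1.1 hz₁) (Set.singleton_subset_iff.2 (h2.1 hz₂))))
    (hD.union (hpair z₁ (h1.1 hz₁) z₂ (h2.1 hz₂)) (by rintro z (rfl | rfl); exacts [hn₁, hn₂]))
  have hne' : W₁ ≠ W₃ := fun e => hz₂D ⟨e ▸ hsub (Or.inr (Or.inr rfl)), hz₂⟩
  have hlt : devAlg (W₁ ∩ W₂) < devAlg (W₁ ∩ W₃) :=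
    lt_of_le_of_ne (devAlg_mono fun x hx => ⟨hx.1, hsub (Or.inl hx)⟩)
      (fun e => hz₁D (hcl z₁ (h1.1 hz₁) (e ▸ mem_devAlg ⟨hz₁, hsub (Or.inr (Or.inl rfl))⟩)))
  have h4 := Submodule.finrank_lt_finrank_of_lt hlt
  have h5 := Nat.le_findGreatest (P := P) (Submodule.finrank_le (devAlg (W₁ ∩ W₃))) ⟨W₁, W₃, h1, h3, hne', rfl⟩
  omega

end Cfsg.Agent.H88
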