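/-
Small exponent abelian subgroups control fusion in saturated fusion systems: if `E ≤ F` are saturated and have
the same maps on abelian subgroups of exponent `e` (`e = p`, or `4` for `p = 2`), then `F ≤ E`.

The proof descends on a small subgroup `B`: the maps of `F` which normalise `B` and induce on it an element of
`Aut_S(B)` are in `E`.
-/
import Cfsg.Agent.FusionSys.KInstances
import Cfsg.Agent.FusionSys.Alperin
import Cfsg.Agent.PGroups.MaxAbelian
import Cfsg.Agent.PGroups.Critical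
import Cfsg.Agent.H62.CoprimeFix
set_option autoImplicit false
set_option maxHeartbeats 400000

open Cfsg Cfsg.FusionSystem
open Cfsg.Agent.FusionSys

namespace Cfsg.Agent.H88

/-- Abelian of exponent dividing `e`. -/
def IsSmall {G : Type*} [Group G] (e : ℕ) (A : Subgroup G) : Prop :=
  (∀ a ∈ A, ∀ b ∈ A, a * b = b * a) ∧ ∀ a ∈ A, a ^ e = 1

variable {Ω : Type*} [Group Ω] {S : Subgroup Ω} {F E : FusionSystem S}

lemma IsSmall.image {e : ℕ} {A : Subgroup Ω} (hA : IsSmall e A) {f : Ω → Ω} (hf : IsMap F A f) :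
    IsSmall e (imgSub f A) := by
  constructor
  · intro a ha b hb
    obtain ⟨x, hx, rfl⟩ := hf.mem_imgSub.1 ha
    obtain ⟨y, hy, rfl⟩ := hf.mem_imgSub.1 hb
    rw [← hf.map_mul hx hy, ← hf.map_mul hy hx, hA.1 x hx y hy]
  · intro a ha
    obtain ⟨x, hx, rfl⟩ := hf.mem_imgSub.1 ha
    rw [← hf.map_pow hx, hA.2 x hx, hf.map_one]

/-- A subgroup with coprime elements and one Sylow subgroup is everything. -/
lemma eq_top_of_coprime_mem {G : Type*} [Group G] [Finite G] {p : ℕ} [Fact p.Prime] (H : Subgroup G)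
    (hp : ¬ p ∣ H.index) (h : ∀ x : G, (orderOf x).Coprime p → x ∈ H) : H = ⊤ := by
  rw [← Subgroup.index_eq_one]
  by_contra hne
  obtain ⟨r, hr, hrd⟩ := Nat.exists_prime_and_dvd hne
  haveI := Fact.mk hr
  obtain ⟨P⟩ := (inferInstance : Nonempty (Sylow r G))
  refine P.not_dvd_index (hrd.trans (Subgroup.index_dvd_of_le fun x hx => h x ?_))
  obtain ⟨k, hk⟩ := (IsPGroup.iff_orderOf.1 P.isPGroup') ⟨x, hx⟩
  rw [← Subgroup.orderOf_coe] at hk
  rw [hk]
  refine Nat.Coprime.pow_left k ((Nat.coprime_primes hr Fact.out).2 ?_)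
  rintro rfl
  exact hp hrd

lemma autMap_pow_agree {R U : Subgroup Ω} (hRU : R ≤ U) (α : MulAut R) (α' : MulAut U)
    (h : ∀ x ∈ R, autMap α' x = autMap α x) (k : ℕ) : ∀ x ∈ R, autMap (α' ^ k) x = autMap (α ^ k) x := by
  induction k with
  | zero => intro x hx; rw [pow_zero, pow_zero, autMap_one hx, autMap_one (hRU hx)]
  | succ k ih =>
    intro x hx
    rw [pow_succ', pow_succ', autMap_mul _ _ (hRU hx), ih x hx, autMap_mul _ _ hx, h _ (autMap_mem _ hx)]

variable [Finite S] {p e : ℕ} [Fact p.Prime]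

/-- Either a coprime automorphism moves a small normal subgroup above a given one, or it is trivial. -/
lemma exists_moved {Q : Type*} [Group Q] [Finite Q] (hQ : IsPGroup p Q) {n : ℕ} (hn : p ^ n ≠ 2)
    (he : e = p ^ n) (he1 : ∀ x : Q, x ^ p = 1 → x ^ e = 1) (he4 : p = 2 → ∀ x : Q, x ^ 4 = 1 → x ^ e = 1)
    (β : MulAut Q) (hβ1 : β ≠ 1) {m : ℕ} (hm : m.Coprime p) (hβ : β ^ m = 1) (B : Subgroup Q) [B.Normal]
    (hB : IsSmall e B) (hfix : ∀ b ∈ B, β b = b) :
    ∃ A : Subgroup Q, A.Normal ∧ B < A ∧ IsSmall e A := by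
  classical
  -- a maximal small normal subgroup above `B`
  let Good : ℕ → Prop := fun k => ∃ A : Subgroup Q, A.Normal ∧ B ≤ A ∧ IsSmall e A ∧ Nat.card A = k
  obtain ⟨A, hAn, hBA, hA, hAk⟩ : Good (Nat.findGreatest Good (Nat.card Q)) :=
    Nat.findGreatest_spec (P := Good) (Subgroup.card_le_card_group B) ⟨B, inferInstance, le_rfl, hB, rfl⟩
  haveI := hAn
  by_contra hno
  push Not at hno
  have hAB : B = A := by
    by_contra hne
    exact hno A hAn (lt_of_le_of_ne hBA hne) hA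
  subst hAB
  have hmax : ∀ D : Subgroup Q, D.Normal → IsMulCommutative D → (∀ b ∈ D, b ^ p ^ n = 1) → B ≤ D → D = B := by
    intro D hD hDc hDe hBD
    refine (Subgroup.eq_of_le_of_card_ge hBD ?_).symm
    rw [hAk]
    exact Nat.le_findGreatest (Subgroup.card_le_card_group D)
      ⟨D, hD, hBD, ⟨fun a ha b hb => PGroups.comm_of_isMulCommutative hDc ha hb, fun a ha => he ▸ hDe a ha⟩, rfl⟩
  set C := Subgroup.centralizer (B : Set Q) with hC
  haveI : C.Normal := inferInstance
  have hsmall : ∀ x ∈ C, x ^ e = 1 → β x = x := fun x hx hxe =>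
    hfix x (PGroups.mem_of_pow_eq_one hQ hn (PGroups.isMulCommutative_of_comm hB.1)
      (fun a ha => he ▸ hB.2 a ha) hmax hx (he ▸ hxe))
  have hmap : C.map β.toMonoidHom = C := by
    refine Subgroup.eq_of_le_of_card_ge ?_ (Subgroup.card_map_of_injective β.injective).ge
    rintro _ ⟨x, hx, rfl⟩
    refine Subgroup.mem_centralizer_iff.2 fun b hb => ?_
    show b * β x = β x * b
    rw [← hfix b hb, ← map_mul, ← map_mul, Subgroup.mem_centralizer_iff.1 hx b hb]
  let γ : MulAut C := (β.subgroupMap C).trans (MulEquiv.subgroupCongr hmap)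
  have hγ : ∀ x : C, ((γ x : C) : Q) = β x := fun x => rfl
  have hγpow : ∀ (k : ℕ) (x : C), (((γ ^ k) x : C) : Q) = (β ^ k) (x : Q) := by
    intro k
    induction k with
    | zero => intro x; rfl
    | succ k ih => intro x; rw [pow_succ', pow_succ', MulAut.mul_apply, MulAut.mul_apply, hγ, ih]
  have hγm : γ ^ m = 1 := MulEquiv.ext fun x => Subtype.ext (by rw [hγpow, hβ]; rfl)
  have hγ1 : γ = 1 := H62.fix_all (hQ.to_subgroup C) γ hm hγm
    (fun x hx => Subtype.ext (hsmall x x.2 (he1 _ (congrArg Subtype.val hx))))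
    (fun hp2 x hx => Subtype.ext (hsmall x x.2 (he4 hp2 _ (congrArg Subtype.val hx))))
  refine hβ1 (PGroups.mulAut_eq_one_of_fixed hQ C ?_ β ?_ fun x hx => ?_)
  · have hBC : B ≤ C := fun b hb => Subgroup.mem_centralizer_iff.2 fun a ha => hB.1 a ha b hb
    exact Subgroup.centralizer_le hBC
  · exact hm.coprime_dvd_left (orderOf_dvd_of_pow_eq_one hβ)
  · rw [← hγ ⟨x, hx⟩, hγ1]
    rfl

section

variable (hS : IsPGroup p S) (hE : E.IsSaturated p) (hF : F.IsSaturated p) (hEF : E ≤ F)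
  (hH : ∀ A, IsSmall e A → ∀ f, IsMap F A f → IsMap E A f)

include hEF hH in
lemma fullyNormalized_of_small {B : Subgroup Ω} (hB : IsSmall e B) (hBn : E.IsFullyNormalized B) :
    F.IsFullyNormalized B := by
  refine ⟨hBn.1, fun Q hQ => hBn.2 Q ?_⟩
  obtain ⟨f, hf⟩ := isConj_iff.1 hQ
  exact isConj_iff.2 ⟨f, hH B hB f hf.isMap, hf.image_eq⟩

include hS hE hF hEF hH in
/-- The descent. -/
theorem maps_fixing_small {n : ℕ} (hn : p ^ n ≠ 2) (he : e = p ^ n)
    (he1 : ∀ x : Ω, x ^ p = 1 → x ^ e = 1) (he4 : p = 2 → ∀ x : Ω, x ^ 4 = 1 → x ^ e = 1)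
    (B : Subgroup Ω) (hB : IsSmall e B) (hBn : E.IsFullyNormalized B) (P : Subgroup Ω) (f : Ω → Ω)
    (hf : IsMap F (P ⊔ B) f) (hPN : P ≤ normalizerIn S B) (hfN : ∀ x ∈ P, f x ∈ normalizerIn S B)
    (hQ : OnQ (autInducedBy S B) f) : IsMap E P f := by
  induction hk : Nat.card S - Nat.card B using Nat.strong_induction_on generalizing B P f with
  | _ k ih =>
  subst hk
  classical
  have hBS := hBn.1
  set K := autInducedBy S B
  set T := kNorm S K with hT
  haveI : Finite T := finite_of_le (kNorm_le (S := S) (K := K))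
  haveI : Finite B := finite_of_le hBS
  set D := kSys F hBS K
  have hmemT : ∀ x, x ∈ T ↔ x ∈ normalizerIn S B := fun x =>
    ⟨fun hx => kNorm_le_normalizerIn hx, fun hx => mem_kNorm.2 ⟨hx, mem_autInducedBy.2 ⟨x, hx.1, hx.2, rfl⟩⟩⟩
  have hFn := fullyNormalized_of_small hEF hH hB hBn
  have hKF : autInducedBy S B ≤ F.autGroup B := autInducedBy_le_autGroup F hBS
  have hD : D.IsSaturated p := isSaturated_of_isKSys hS hF (receptive_of_isFullyNormalized hS hF hFn)
    (by rw [inf_idem, inf_eq_right.2 hKF, Subgroup.relIndex_self]; exact (Fact.out : p.Prime).not_dvd_one)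
    (isKSys_kSys F hBS K)
  have hTS : T ≤ S := kNorm_le
  let D' : FusionSystem T := subSys D (fun P f => IsMap E P f) (fun _ _ _ h he => h.congr he)
    (fun P a hP ha => isMap_conj E (hP.trans hTS) (hTS ha))
    (fun _ _ _ _ _ _ h hf hg => hf.comp hg h)
    (fun P R f g hf hg hgf h => by
      obtain ⟨g', hg', hgg'⟩ := h.exists_inv
      have hR : imgSub f P = R := hf.eq_imgSub.symm
      rw [hR] at hg'
      refine hg'.congr fun y hy => ?_
      obtain ⟨x, hx, rfl⟩ := hf.exists_preimage hy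
      rw [hgf x hx, hgg' x hx])
  -- automorphisms of order prime to `p`
  have hcop : ∀ (U : Subgroup Ω), B ≤ U → U ≤ normalizerIn S B → ∀ (β : MulAut U) (m : ℕ), β ∈ F.autGroup U →
      m.Coprime p → β ^ m = 1 → (∀ b ∈ B, autMap β b = b) → IsMap E U (autMap β) := by
    intro U hBU hUN β m hβ hm hβm hfix
    have hUS : U ≤ S := hUN.trans normalizerIn_le
    haveI : Finite U := finite_of_le hUS
    rcases eq_or_ne β 1 with rfl | hβ1
    · exact (isMap_id E hUS).congr fun x hx => autMap_one hx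
    haveI : (B.subgroupOf U).Normal := ⟨fun b hb u => by
      rw [Subgroup.mem_subgroupOf] at hb ⊢
      exact conj_mem_of_mem_normalizerIn (hUN u.2) hb⟩
    obtain ⟨A, hAn, hBA, hA⟩ := exists_moved (e := e) (hS.to_le hUS) hn he
      (fun x hx => Subtype.ext (he1 _ (congrArg Subtype.val hx)))
      (fun h2 x hx => Subtype.ext (he4 h2 _ (congrArg Subtype.val hx))) β hβ1 hm hβm (B.subgroupOf U)
      ⟨fun a ha b hb => Subtype.ext (hB.1 _ ha _ hb), fun a ha => Subtype.ext (hB.2 _ ha)⟩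
      (fun b hb => Subtype.ext ((autMap_apply β b.2).symm.trans (hfix b hb)))
    set A₀ := A.map U.subtype
    have hA₀U : A₀ ≤ U := Subgroup.map_subtype_le A
    have hA₀ : IsSmall e A₀ := by
      constructor
      · rintro _ ⟨a, ha, rfl⟩ _ ⟨b, hb, rfl⟩
        exact congrArg Subtype.val (hA.1 a ha b hb)
      · rintro _ ⟨a, ha, rfl⟩
        exact congrArg Subtype.val (hA.2 a ha)
    have hβmap : IsMap F U (autMap β) := (mem_autGroup_iff hUS).1 hβ
    have hUnA : ∀ u ∈ U, u ∈ Subgroup.normalizer (A₀ : Set Ω) := by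
      intro u hu
      haveI : Finite A₀ := finite_of_le (hA₀U.trans hUS)
      refine mem_normalizer_of_maps fun y hy => ?_
      obtain ⟨a, ha, rfl⟩ := hy
      exact ⟨⟨u, hu⟩ * a * (⟨u, hu⟩ : U)⁻¹, hAn.conj_mem a ha _, rfl⟩
    set B₁ := imgSub (autMap β) A₀
    have hiso1 : IsIso F A₀ B₁ (autMap β) := (hβmap.mono hA₀U).isIso
    have hE1 : IsIso E A₀ B₁ (autMap β) := ⟨hH A₀ hA₀ _ hiso1.isMap, hiso1.image_eq⟩
    obtain ⟨B₂, hconj, hB₂⟩ := exists_isFullyNormalized E hE1.target_le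
    obtain ⟨t, ht, hti, htN⟩ := exists_map_to_fullyNormalized hS hE hB₂ hconj
    have htF : IsMap F (normalizerIn S B₁) t := le_iff_isMap.1 hEF _ _ ht
    have hβN : ∀ u ∈ U, autMap β u ∈ normalizerIn S B₁ := fun u hu =>
      ⟨hUS (autMap_mem β hu), by
        haveI : Finite B₁ := finite_of_le hE1.target_le
        refine mem_normalizer_of_maps fun y hy => ?_
        obtain ⟨x, hx, rfl⟩ := hiso1.exists_preimage hy
        rw [← hβmap.map_conj hu (hA₀U hx)]
        exact hiso1.mem ((Subgroup.mem_normalizer_iff.1 (hUnA u hu) x).1 hx)⟩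
    have hv : IsMap F U (t ∘ autMap β) := hβmap.comp htF hβN
    have hvi : IsIso E A₀ B₂ (t ∘ autMap β) := hE1.comp hti
    obtain ⟨k, hk, hke⟩ := receptive_extend (receptive_of_isFullyNormalized hS hE hB₂) hvi (N := U)
      (fun u hu => hv.inExt_of_extends hA₀U (fun _ _ => rfl) hu (hUnA u hu))
    have hkU : IsMap E U k := hk.mono le_sup_left
    have hkU' : IsMap F U k := le_iff_isMap.1 hEF _ _ hkU
    obtain ⟨k', hk', hk'e⟩ := hkU'.exists_inv
    set R' := imgSub k U
    have hB₂R : B₂ ≤ R' := fun y hy => by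
      obtain ⟨a, ha, rfl⟩ := hvi.exists_preimage hy
      exact hkU'.mem_imgSub.2 ⟨a, hA₀U ha, hke a ha⟩
    have hkN : ∀ u ∈ U, k u ∈ normalizerIn S B₂ := fun u hu =>
      ⟨hkU.mem_S hu, by
        haveI : Finite B₂ := finite_of_le hB₂.1
        refine mem_normalizer_of_maps fun y hy => ?_
        obtain ⟨a, ha, rfl⟩ := hvi.exists_preimage hy
        rw [← hke a ha, ← hkU.map_conj hu (hA₀U ha)]
        have hmem := (Subgroup.mem_normalizer_iff.1 (hUnA u hu) a).1 ha
        rw [hke _ hmem]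
        exact hvi.mem hmem⟩
    have hA₀card : Nat.card B < Nat.card B₂ := by
      rw [← hvi.card_eq]
      haveI : Finite A₀ := finite_of_le (hA₀U.trans hUS)
      have hlt : B < A₀ := by
        refine lt_of_le_of_ne (fun b hb => ⟨⟨b, hBU hb⟩, hBA.le hb, rfl⟩) fun e => hBA.ne ?_
        ext ⟨x, hx⟩
        rw [Subgroup.mem_subgroupOf, e]
        constructor
        · rintro ⟨a, ha, hax⟩
          rwa [show a = ⟨x, hx⟩ from Subtype.ext hax] at ha
        · exact fun hxA => ⟨_, hxA, rfl⟩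
      by_contra hle
      exact hlt.ne (Subgroup.eq_of_le_of_card_ge hlt.le (not_lt.1 hle))
    -- the difference fixes `B₂`
    have hδ : IsMap F R' ((t ∘ autMap β) ∘ k') := hk'.comp hv fun y hy => by
      obtain ⟨x, hx, rfl⟩ := hkU'.mem_imgSub.1 hy
      rw [hk'e x hx]; exact hx
    have hδE : IsMap E R' ((t ∘ autMap β) ∘ k') := by
      refine ih _ ?_ B₂ (hA₀.image hiso1.isMap |> fun h => ?_) hB₂ R' _ ?_ ?_ ?_ ?_ rfl
      · have := Subgroup.card_le_of_le hB₂.1
        omega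
      · rw [hti.eq_imgSub]
        exact (show IsSmall e B₁ from h).image hti.isMap
      · rw [sup_eq_left.2 hB₂R]; exact hδ
      · intro y hy
        obtain ⟨x, hx, rfl⟩ := hkU'.mem_imgSub.1 hy
        exact hkN x hx
      · intro y hy
        obtain ⟨x, hx, rfl⟩ := hkU'.mem_imgSub.1 hy
        show t (autMap β (k' (k x))) ∈ _
        rw [hk'e x hx]
        exact htN _ (hβN x hx)
      · refine ⟨1, one_mem _, fun y hy => ?_⟩
        obtain ⟨a, ha, rfl⟩ := hvi.exists_preimage hy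
        rw [autMap_one (hvi.mem ha)]
        show t (autMap β (k' ((t ∘ autMap β) a))) = _
        rw [← hke a ha, hk'e a (hA₀U ha), hke a ha]
        rfl
    have hvE : IsMap E U (t ∘ autMap β) :=
      (hkU.comp hδE fun x hx => hkU'.mem_imgSub.2 ⟨x, hx, rfl⟩).congr fun x hx => by
        show t (autMap β x) = t (autMap β (k' (k x)))
        rw [hk'e x hx]
    obtain ⟨t', ht', ht'e⟩ := ht.exists_inv
    exact (hvE.comp ht' fun x hx => ht.mem_imgSub.2 ⟨_, hβN x hx, rfl⟩).congr fun x hx =>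
      (ht'e _ (hβN x hx)).symm
  have hle : D ≤ D' := by
    refine le_of_autGroup_fullyNormalized (p := p) (hS.to_le hTS) hD fun R hR _ => ?_
    have hRT : R ≤ T := hR.1
    haveI : Finite R := finite_of_le (hRT.trans hTS)
    haveI := finite_autGroup D hRT
    rw [← Subgroup.subgroupOf_eq_top]
    refine eq_top_of_coprime_mem (p := p) _ (fun hdvd => ?_) ?_
    · refine ((isFullyAutomized_iff (hS.to_le hTS)).1
        (isFullyAutomized_of_isFullyNormalized (hS.to_le hTS) hD hR)).2 (hdvd.trans ?_)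
      exact Subgroup.index_dvd_of_le fun α hα => autInducedBy_le_autGroup D' hRT hα
    · rintro ⟨α, hα⟩ hαp
      rw [← Subgroup.orderOf_coe] at hαp
      change (orderOf α).Coprime p at hαp
      obtain ⟨-, -, g, hg, hge, hgQ⟩ := ((isKSys_kSys F hBS K).map_iff R _).1 ((mem_autGroup_iff hRT).1 hα)
      obtain ⟨κ, hκ, hκe⟩ := hgQ
      haveI : Finite (R ⊔ B : Subgroup Ω) := finite_of_le hg.le
      have hmaps : ∀ x ∈ R ⊔ B, g x ∈ R ⊔ B := fun x hx => hg.mapsTo_sup
        (fun y hy => Subgroup.mem_sup_left (hge y hy ▸ autMap_mem α hy))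
        (fun y hy => Subgroup.mem_sup_right (hκe y hy ▸ autMap_mem κ hy)) hx
      obtain ⟨α', hα', hα'e⟩ := (IsIso.mk hg (hg.image_eq_of_mapsTo hmaps)).exists_aut
      haveI := finite_autGroup F hg.le
      have hres : ∀ k, ∀ x ∈ R, autMap (α' ^ k) x = autMap (α ^ k) x := fun k =>
        autMap_pow_agree le_sup_left α α' (fun x hx => by rw [hα'e x (Subgroup.mem_sup_left hx), hge x hx]) k
      have hresB : ∀ k, ∀ x ∈ B, autMap (α' ^ k) x = autMap (κ ^ k) x := fun k =>
        autMap_pow_agree le_sup_right κ α' (fun x hx => by rw [hα'e x (Subgroup.mem_sup_right hx), hκe x hx]) k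
      have hn0 : orderOf α' ≠ 0 := by
        have h := (orderOf_pos (⟨α', hα'⟩ : F.autGroup (R ⊔ B))).ne'
        rwa [← Subgroup.orderOf_coe] at h
      obtain ⟨a, m, hpm, hnm⟩ := Nat.exists_eq_pow_mul_and_not_dvd hn0 p (Fact.out : p.Prime).ne_one
      have hm : m.Coprime p := ((Fact.out : p.Prime).coprime_iff_not_dvd.2 hpm).symm
      have hκ1 : κ ^ p ^ a = 1 := by
        have h1 : (κ ^ p ^ a) ^ m = 1 := aut_ext fun x hx => by
          rw [← pow_mul, ← hresB _ x hx, ← hnm, pow_orderOf_eq_one, autMap_one (Subgroup.mem_sup_right hx), autMap_one hx]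
        exact H62.eq_one_of_pow_eq_one_of_pGroup (isPGroup_autInducedBy hS B) hm
          (x := (⟨κ ^ p ^ a, pow_mem hκ _⟩ : K)) (Subtype.ext h1) |> congrArg Subtype.val
      have hUN : R ⊔ B ≤ normalizerIn S B := sup_le (fun x hx => (hmemT x).1 (hRT hx)) (le_normalizerIn_self hBS)
      have hb := hcop (R ⊔ B) le_sup_right hUN (α' ^ p ^ a) m (pow_mem hα' _) hm
        (by rw [← pow_mul, ← hnm, pow_orderOf_eq_one]) (fun b hb => by rw [hresB _ b hb, hκ1, autMap_one hb])
      have hαpow : α ^ p ^ a ∈ D'.autGroup R := by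
        refine (mem_autGroup_iff hRT).2 ?_
        obtain ⟨φ, hφ, hφe⟩ := (mem_autGroup_iff hRT).1 ((pow_mem hα (p ^ a)) : α ^ p ^ a ∈ D.autGroup R)
        exact ⟨φ, ⟨hφ, (hb.mono le_sup_left).congr fun x hx => by
          rw [hres _ x hx]
          exact (homFun_mem φ hx).trans (hφe ⟨x, hx⟩)⟩, hφe⟩
      rw [Subgroup.mem_subgroupOf]
      obtain ⟨j, hj⟩ := exists_pow_eq_self_of_coprime (n := p ^ a) (Nat.Coprime.pow_left a hαp.symm) (x := α)
      show α ∈ D'.autGroup R
      rw [← hj]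
      exact pow_mem hαpow j
  obtain ⟨φ, hφ, hφe⟩ := le_iff_isMap.1 hle P f ((isKSys_kSys F hBS K).map_iff P f |>.2
    ⟨fun x hx => (hmemT x).2 (hPN hx), fun x hx => (hmemT _).2 (hfN x hx), f, hf, fun _ _ => rfl, hQ⟩)
  exact hφ.2.congr fun x hx => by rw [homFun_mem φ hx]; exact (hφe ⟨x, hx⟩).symm

include hS hE hF hEF hH in
/-- The theorem. -/
theorem le_of_small {n : ℕ} (hn : p ^ n ≠ 2) (he : e = p ^ n) (he1 : ∀ x : Ω, x ^ p = 1 → x ^ e = 1)
    (he4 : p = 2 → ∀ x : Ω, x ^ 4 = 1 → x ^ e = 1) : F ≤ E := by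
  rw [le_iff_isMap]
  intro P f hf
  have hbot : E.IsFullyNormalized ⊥ := ⟨bot_le, fun Q hQ => by
    haveI := finite_of_le (le_of_isConj_right hQ)
    have h1 := card_eq_of_isConj hQ
    rw [Subgroup.card_bot] at h1
    rw [Subgroup.card_eq_one.1 h1.symm]⟩
  have hN : ∀ x ∈ S, x ∈ normalizerIn S (⊥ : Subgroup Ω) := fun x hx => ⟨hx,
    Subgroup.mem_normalizer_iff.2 fun y => by simp [Subgroup.mem_bot]⟩
  refine maps_fixing_small hS hE hF hEF hH hn he he1 he4 ⊥ ⟨?_, ?_⟩ hbot P f (by rwa [sup_bot_eq])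
    (fun x hx => hN x (hf.le hx)) (fun x hx => hN _ (hf.mem_S hx)) ⟨1, one_mem _, fun y hy => ?_⟩
  · intro a ha b hb
    rw [Subgroup.mem_bot] at ha hb
    rw [ha, hb]
  · intro a ha
    rw [Subgroup.mem_bot] at ha
    rw [ha, one_pow]
  · rw [autMap_one hy]
    rw [Subgroup.mem_bot] at hy
    rw [hy, hf.map_one]

end

end Cfsg.Agent.H88
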