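/-
Transvections of a vector space: basic algebra, recognition, generation of the special linear group.
-/
import Mathlib
import Cfsg.Agent.Linear.Generation
import Cfsg.Agent.Symplectic.Alt
set_option autoImplicit false

namespace Cfsg.Agent.H88

open Module (Dual)

variable {F : Type*} [Field F] {V : Type*} [AddCommGroup V] [Module F V]

open Classical in
/-- The transvection with functional `φ` and point `v`; the identity unless `φ v = 0`. -/
noncomputable def trv (φ : Dual F V) (v : V) : V ≃ₗ[F] V :=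
  if h : φ v = 0 then LinearEquiv.transvection h else 1

lemma trv_apply {φ : Dual F V} {v : V} (h : φ v = 0) (x : V) : trv φ v x = x + φ x • v := by
  rw [trv, dif_pos h]
  rfl

lemma equiv_mul_apply (g h : V ≃ₗ[F] V) (x : V) : (g * h) x = g (h x) := rfl

lemma trv_mul {φ ψ : Dual F V} {v : V} (hφ : φ v = 0) (hψ : ψ v = 0) :
    trv φ v * trv ψ v = trv (φ + ψ) v := by
  refine LinearEquiv.ext fun x => ?_
  rw [equiv_mul_apply, trv_apply hφ, trv_apply hψ, trv_apply (show (φ + ψ) v = 0 by simp [hφ, hψ])]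
  simp only [map_add, map_smul, hφ, smul_zero, add_zero, LinearMap.add_apply, add_smul]
  abel

lemma trv_zero_left (v : V) : trv (0 : Dual F V) v = 1 := by
  refine LinearEquiv.ext fun x => ?_
  rw [trv_apply (by simp)]
  simp

lemma trv_inv {φ : Dual F V} {v : V} (hφ : φ v = 0) : (trv φ v)⁻¹ = trv (-φ) v := by
  apply inv_eq_of_mul_eq_one_right
  rw [trv_mul hφ (by simp [hφ]), add_neg_cancel, trv_zero_left]

lemma trv_symm_apply {φ : Dual F V} {v : V} (hφ : φ v = 0) (x : V) : (trv φ v).symm x = x - φ x • v := by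
  change (trv φ v)⁻¹ x = _
  rw [trv_inv hφ, trv_apply (by simp [hφ])]
  simp [sub_eq_add_neg]

lemma trv_smul (φ : Dual F V) (v : V) {c : F} (hc : c ≠ 0) : trv φ (c • v) = trv (c • φ) v := by
  by_cases h : φ v = 0
  · refine LinearEquiv.ext fun x => ?_
    rw [trv_apply (by simp [h]), trv_apply (by simp [h])]
    simp [smul_smul, mul_comm c]
  · rw [trv, dif_neg (by simp [h, hc]), trv, dif_neg (by simp [h, hc])]

lemma trv_conj (g : V ≃ₗ[F] V) {φ : Dual F V} {v : V} (hφ : φ v = 0) :
    g * trv φ v * g⁻¹ = trv (φ.comp (g.symm : V →ₗ[F] V)) (g v) := by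
  refine LinearEquiv.ext fun x => ?_
  rw [equiv_mul_apply, equiv_mul_apply, trv_apply (show (φ.comp (g.symm : V →ₗ[F] V)) (g v) = 0 by simp [hφ])]
  change g (trv φ v (g.symm x)) = _
  rw [trv_apply hφ, map_add, map_smul, LinearEquiv.apply_symm_apply]
  rfl

/-- `t` is a nontrivial transvection. -/
def IsTv (t : V ≃ₗ[F] V) : Prop := ∃ φ : Dual F V, ∃ v : V, φ v = 0 ∧ φ ≠ 0 ∧ v ≠ 0 ∧ t = trv φ v

lemma isTv_trv {φ : Dual F V} {v : V} (h : φ v = 0) (h1 : φ ≠ 0) (h2 : v ≠ 0) : IsTv (trv φ v) :=
  ⟨φ, v, h, h1, h2, rfl⟩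

lemma trv_ne_one {φ : Dual F V} {v : V} (h : φ v = 0) (h1 : φ ≠ 0) (h2 : v ≠ 0) : trv φ v ≠ 1 := by
  intro e
  refine h1 (LinearMap.ext fun x => ?_)
  have := LinearEquiv.congr_fun e x
  rw [trv_apply h] at this
  simpa [h2] using this

lemma IsTv.ne_one {t : V ≃ₗ[F] V} (ht : IsTv t) : t ≠ 1 := by
  obtain ⟨φ, v, h, h1, h2, rfl⟩ := ht
  exact trv_ne_one h h1 h2

variable [FiniteDimensional F V]

lemma isTv_of_orderOf {p : ℕ} [Fact p.Prime] [CharP F p] {t : V ≃ₗ[F] V} (ht : orderOf t = p)
    (hk : Module.finrank F ↥(LinearMap.ker ((t : V →ₗ[F] V) - LinearMap.id)) + 1 = Module.finrank F V) :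
    IsTv t := by
  set f : Module.End F V := (t : V →ₗ[F] V) - LinearMap.id with hf
  have h1 : Module.finrank F ↥(LinearMap.range f) = 1 := by
    have := LinearMap.finrank_range_add_finrank_ker f
    omega
  obtain ⟨⟨v, hvr⟩, hv0, hvspan⟩ := finrank_eq_one_iff'.1 h1
  have hv : v ≠ 0 := fun e => hv0 (Subtype.ext e)
  obtain ⟨e, he⟩ := exists_dual_eq_one_of_ne hv
  have hfx : ∀ x, f x = e (f x) • v := by
    intro x
    obtain ⟨c, hc⟩ := hvspan ⟨f x, LinearMap.mem_range_self f x⟩
    have hc' : c • v = f x := congrArg Subtype.val hc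
    rw [← hc']
    simp [he]
  set φ : Dual F V := e.comp f with hφ
  have hpow : f ^ p = 0 := by
    have hb : (t : V →ₗ[F] V) = ((1 : Module.End F V) + f) := by simp [hf, Module.End.one_eq_id]
    have : ((t : V →ₗ[F] V) : Module.End F V) ^ p = 1 := by
      have := congrArg (fun g : V ≃ₗ[F] V => (g : V →ₗ[F] V)) (pow_orderOf_eq_one t)
      rw [ht] at this
      convert this using 1
      · exact (map_pow (LinearEquiv.automorphismGroup.toLinearMapMonoidHom (R := F) (M := V)) t p).symm
      · rfl
    rw [hb] at this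
    haveI hcp : CharP (Module.End F V) p := by
      haveI hnt : Nontrivial V := ⟨⟨v, 0, hv⟩⟩
      exact charP_of_injective_algebraMap (algebraMap F (Module.End F V)).injective p
    rw [add_pow_char_of_commute p (Commute.one_left f), one_pow] at this
    simpa using this
  have hφv : φ v = 0 := by
    by_contra hne
    have key : ∀ n : ℕ, (f ^ n) v = (φ v) ^ n • v := by
      intro n
      induction n with
      | zero => simp
      | succ n ih =>
        rw [pow_succ', Module.End.mul_apply, ih, map_smul, hfx v, smul_smul, pow_succ]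
        rfl
    have := key p
    rw [hpow] at this
    exact smul_ne_zero (pow_ne_zero p hne) hv this.symm
  refine ⟨φ, v, hφv, fun e0 => ?_, hv, LinearEquiv.ext fun x => ?_⟩
  · have : f = 0 := LinearMap.ext fun x => by
      rw [hfx x]
      simp [show e (f x) = 0 from LinearMap.congr_fun e0 x]
    rw [this] at h1
    rw [LinearMap.range_zero, finrank_bot] at h1
    omega
  · rw [trv_apply hφv]
    have := hfx x
    simp only [hf, LinearMap.sub_apply, LinearEquiv.coe_coe, LinearMap.id_apply] at this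
    rw [eq_add_of_sub_eq this, add_comm]
    rfl
where
  exists_dual_eq_one_of_ne {v : V} (hv : v ≠ 0) : ∃ e : Dual F V, e v = 1 := by
    obtain ⟨e, he⟩ : ∃ e : Dual F V, e v ≠ 0 := by
      by_contra h
      push Not at h
      exact hv ((Module.forall_dual_apply_eq_zero_iff F v).1 h)
    exact ⟨(e v)⁻¹ • e, by simp [he]⟩

lemma det_trv (φ : Dual F V) (v : V) : LinearMap.det (trv φ v : V →ₗ[F] V) = 1 := by
  unfold trv
  split_ifs with h
  · rw [LinearEquiv.transvection.coe_toLinearMap, LinearMap.transvection.det, h, add_zero]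
  · exact LinearMap.det_id

/-- Determinant one implies product of transvections. -/
theorem mem_of_det_eq_one {H : Subgroup (V ≃ₗ[F] V)} (h : ∀ (φ : Dual F V) (v : V), φ v = 0 → trv φ v ∈ H)
    {g : V ≃ₗ[F] V} (hg : LinearMap.det (g : V →ₗ[F] V) = 1) : g ∈ H := by
  classical
  set b := Module.finBasis F V
  let A : Matrix.SpecialLinearGroup (Fin (Module.finrank F V)) F :=
    ⟨LinearMap.toMatrix b b g, by rw [LinearMap.det_toMatrix]; exact hg⟩
  have key : ∀ B : Matrix.SpecialLinearGroup (Fin (Module.finrank F V)) F,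
      ∃ k ∈ H, ((k : V ≃ₗ[F] V) : V →ₗ[F] V) = Matrix.toLin b b (B : Matrix _ _ F) := by
    intro B
    induction B using Linear.transvection_induction with
    | one => exact ⟨1, H.one_mem, by simp [Matrix.toLin_one]⟩
    | htr i j hij c =>
      refine ⟨trv (c • b.coord j) (b i), h _ _ (by simp [Finsupp.single_eq_of_ne hij.symm]),
        b.ext fun l => ?_⟩
      rw [LinearEquiv.coe_coe, trv_apply (by simp [Finsupp.single_eq_of_ne hij.symm]),
        Matrix.toLin_self]
      rw [Matrix.SpecialLinearGroup.transvection_coe]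
      simp only [Matrix.add_apply, add_smul, Finset.sum_add_distrib]
      congr 1
      · simp [Matrix.one_apply]
      · rcases eq_or_ne l j with rfl | hl
        · simp [Matrix.single, Finset.sum_ite_eq]
        · simp [Matrix.single, hl, hl.symm]
    | hmul B C hB hC =>
      obtain ⟨k, hk, ek⟩ := hB
      obtain ⟨l, hl, el⟩ := hC
      refine ⟨k * l, H.mul_mem hk hl, ?_⟩
      rw [Matrix.SpecialLinearGroup.coe_mul, Matrix.toLin_mul b b b, ← ek, ← el]
      rfl
  obtain ⟨k, hk, ek⟩ := key A
  have : k = g := LinearEquiv.toLinearMap_injective (ek.trans (Matrix.toLin_toMatrix b b _))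
  exact this ▸ hk

end Cfsg.Agent.H88
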