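/-
An irreducible group generated by transvections over a prime field of odd order: all points occur, and
the functionals of a point form either a line or the whole annihilator.
-/
import Cfsg.Agent.H88.TBasic
set_option autoImplicit false
set_option maxHeartbeats 1000000

namespace Cfsg.Agent.H88

open Module (Dual)

variable {p : ℕ} [Fact p.Prime] {V : Type*} [AddCommGroup V] [Module (ZMod p) V]

lemma exists_ne_two (hp : 3 ≤ p) (a b : ZMod p) : ∃ c : ZMod p, c ≠ a ∧ c ≠ b := by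
  classical
  obtain ⟨c, hc⟩ : ∃ c, c ∉ ({a, b} : Finset (ZMod p)) := by
    by_contra h
    push Not at h
    have h1 : Fintype.card (ZMod p) ≤ ({a, b} : Finset (ZMod p)).card :=
      Finset.card_le_card (fun x _ => h x)
    have h2 := Finset.card_le_two (a := a) (b := b)
    rw [ZMod.card] at h1
    omega
  simp only [Finset.mem_insert, Finset.mem_singleton, not_or] at hc
  exact ⟨c, hc⟩

/-- A linear polynomial with a nonzero coefficient has at most one zero. -/
lemma exists_good_scalar (hp : 3 ≤ p) {a a' b b' : ZMod p} (ha : a ≠ 0 ∨ a' ≠ 0) (hb : b ≠ 0 ∨ b' ≠ 0) :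
    ∃ c : ZMod p, a + c * a' ≠ 0 ∧ b + c * b' ≠ 0 := by
  obtain ⟨c, h1, h2⟩ := exists_ne_two hp (-a / a') (-b / b')
  refine ⟨c, fun h => ?_, fun h => ?_⟩
  · rcases eq_or_ne a' 0 with e | e
    · rw [e, mul_zero, add_zero] at h; rcases ha with ha | ha <;> contradiction
    · exact h1 (by rw [eq_div_iff e]; linear_combination h)
  · rcases eq_or_ne b' 0 with e | e
    · rw [e, mul_zero, add_zero] at h; rcases hb with hb | hb <;> contradiction
    · exact h2 (by rw [eq_div_iff e]; linear_combination h)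

/-- The functionals of transvections of `H` with point `v`. -/
noncomputable def phi (H : Subgroup (V ≃ₗ[ZMod p] V)) (v : V) : Submodule (ZMod p) (Dual (ZMod p) V) :=
  AddSubgroup.toZModSubmodule p
    { carrier := {φ | φ v = 0 ∧ trv φ v ∈ H}
      add_mem' := fun {a b} ha hb => ⟨by simp [ha.1, hb.1], trv_mul ha.1 hb.1 ▸ H.mul_mem ha.2 hb.2⟩
      zero_mem' := ⟨rfl, by rw [trv_zero_left]; exact H.one_mem⟩
      neg_mem' := fun {a} ha => ⟨by simp [ha.1], trv_inv ha.1 ▸ H.inv_mem ha.2⟩ }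

variable {H : Subgroup (V ≃ₗ[ZMod p] V)}

lemma mem_phi {φ : Dual (ZMod p) V} {v : V} : φ ∈ phi H v ↔ φ v = 0 ∧ trv φ v ∈ H := Iff.rfl

lemma finrank_map_inj {K M N : Type*} [Field K] [AddCommGroup M] [Module K M] [AddCommGroup N] [Module K N]
    {f : M →ₗ[K] N} {P : Submodule K M} (hf : Function.Injective f) :
    Module.finrank K ↥(P.map f) = Module.finrank K ↥P :=
  (Submodule.equivMapOfInjective f hf P).finrank_eq.symm

/-- `v` is a point of `H`. -/
def IsPt (H : Subgroup (V ≃ₗ[ZMod p] V)) (v : V) : Prop := v ≠ 0 ∧ phi H v ≠ ⊥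

/-- Some transvection of `H` with point `v` moves `w`. -/
def Adj (H : Subgroup (V ≃ₗ[ZMod p] V)) (v w : V) : Prop := ∃ φ ∈ phi H v, φ w ≠ 0

lemma Adj.right_ne_zero {v w : V} (h : Adj H v w) : w ≠ 0 := by
  obtain ⟨φ, -, hw⟩ := h
  intro e
  exact hw (by rw [e, map_zero])

lemma not_adj_self {v : V} : ¬ Adj H v v := fun ⟨_, hφ, hv⟩ => hv hφ.1

lemma phi_image {g : V ≃ₗ[ZMod p] V} (hg : g ∈ H) (v : V) :
    phi H (g v) = (phi H v).map (LinearMap.lcomp (ZMod p) (ZMod p) (g.symm : V →ₗ[ZMod p] V)) := by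
  apply le_antisymm
  · intro φ hφ
    refine ⟨φ.comp (g : V →ₗ[ZMod p] V), ⟨by simpa using hφ.1, ?_⟩, ?_⟩
    · have h := trv_conj g⁻¹ hφ.1
      rw [inv_inv] at h
      have e : (φ.comp (g : V →ₗ[ZMod p] V)) = φ.comp ((g⁻¹).symm : V →ₗ[ZMod p] V) := rfl
      rw [e, show v = g⁻¹ (g v) from (g.symm_apply_apply v).symm, ← h]
      exact H.mul_mem (H.mul_mem (H.inv_mem hg) hφ.2) hg
    · ext x
      simp
  · rintro _ ⟨φ, hφ, rfl⟩
    refine ⟨by simpa using hφ.1, ?_⟩
    have h := trv_conj g hφ.1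
    change trv (φ.comp (g.symm : V →ₗ[ZMod p] V)) (g v) ∈ H
    rw [← h]
    exact H.mul_mem (H.mul_mem hg hφ.2) (H.inv_mem hg)

lemma phi_comp_mem {g : V ≃ₗ[ZMod p] V} (hg : g ∈ H) {v : V} {φ : Dual (ZMod p) V} (hφ : φ ∈ phi H v) :
    φ.comp (g.symm : V →ₗ[ZMod p] V) ∈ phi H (g v) := by
  rw [phi_image hg]
  exact ⟨φ, hφ, rfl⟩

lemma IsPt.image {g : V ≃ₗ[ZMod p] V} (hg : g ∈ H) {v : V} (hv : IsPt H v) : IsPt H (g v) := by
  refine ⟨by simpa using hv.1, fun e => hv.2 ?_⟩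
  rw [Submodule.eq_bot_iff] at e ⊢
  intro φ hφ
  ext x
  have := LinearMap.congr_fun (e _ (phi_comp_mem hg hφ)) (g x)
  simpa using this

lemma phi_smul {v : V} {c : ZMod p} (hc : c ≠ 0) : phi H (c • v) = phi H v := by
  have key : ∀ (v : V) (c : ZMod p), c ≠ 0 → phi H (c • v) ≤ phi H v := by
    intro v c hc φ hφ
    have h1 : φ v = 0 := by simpa [hc] using hφ.1
    have h2 : c • φ ∈ phi H v := ⟨by simp [h1], trv_smul φ v hc ▸ hφ.2⟩
    simpa [smul_smul, hc] using (phi H v).smul_mem c⁻¹ h2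
  refine le_antisymm (key v c hc) ?_
  simpa [smul_smul, hc] using key (c • v) c⁻¹ (inv_ne_zero hc)

lemma adj_pt {v w : V} (hv : v ≠ 0) (h : Adj H v w) : IsPt H v := by
  refine ⟨hv, fun e => ?_⟩
  obtain ⟨φ, hφ, hw⟩ := h
  rw [e, Submodule.mem_bot] at hφ
  exact hw (by simp [hφ])

/-- Irreducibility with respect to a set of generators. -/
def Irr (T : Set (V ≃ₗ[ZMod p] V)) : Prop :=
  ∀ U : Submodule (ZMod p) V, (∀ t ∈ T, ∀ x ∈ U, t x ∈ U) → U = ⊥ ∨ U = ⊤

variable [FiniteDimensional (ZMod p) V] {T : Set (V ≃ₗ[ZMod p] V)} (hp : 3 ≤ p)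
  (hH : H = Subgroup.closure T) (hT : ∀ t ∈ T, IsTv t) (hirr : Irr T) (hne : T.Nonempty)

include hH hT hirr hne in
/-- A nonempty set of points invariant enough, such that the other points kill it, is everything. -/
lemma pts_subset (S : Set V) (hS : ∃ s ∈ S, s ≠ 0)
    (hin : ∀ w ∈ S, ∀ s ∈ S, ∀ φ ∈ phi H w, trv φ w s ∈ Submodule.span (ZMod p) S)
    (hout : ∀ w, IsPt H w → w ∉ S → ∀ φ ∈ phi H w, ∀ s ∈ S, φ s = 0) :
    Submodule.span (ZMod p) S = ⊤ ∧ ∀ w, IsPt H w → w ∈ S := by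
  have hinv : ∀ t ∈ T, ∀ x ∈ Submodule.span (ZMod p) S, t x ∈ Submodule.span (ZMod p) S := by
    intro t ht x hx
    obtain ⟨φ, v, hφ, hφ0, hv, rfl⟩ := hT t ht
    have hmem : φ ∈ phi H v := ⟨hφ, hH ▸ Subgroup.subset_closure ht⟩
    have hpt : IsPt H v := ⟨hv, fun e => hφ0 (by rwa [e, Submodule.mem_bot] at hmem)⟩
    induction hx using Submodule.span_induction with
    | mem s hs =>
      by_cases hvS : v ∈ S
      · exact hin v hvS s hs φ hmem
      · rw [trv_apply hφ, hout v hpt hvS φ hmem s hs, zero_smul, add_zero]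
        exact Submodule.subset_span hs
    | zero => simp
    | add a b _ _ ha hb => rw [map_add]; exact Submodule.add_mem _ ha hb
    | smul c a _ ha => rw [map_smul]; exact Submodule.smul_mem _ c ha
  have htop : Submodule.span (ZMod p) S = ⊤ := by
    rcases hirr _ hinv with h | h
    · obtain ⟨s, hs, hs0⟩ := hS
      exact absurd ((Submodule.eq_bot_iff _).1 h s (Submodule.subset_span hs)) hs0
    · exact h
  refine ⟨htop, fun w hw => by_contra fun hwS => hw.2 ?_⟩
  rw [Submodule.eq_bot_iff]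
  intro φ hφ
  exact LinearMap.ext_on htop (fun s hs => by simpa using hout w hw hwS φ hφ s hs)

include hH hT hne in
omit [FiniteDimensional (ZMod p) V] in
lemma exists_pt : ∃ v, IsPt H v := by
  obtain ⟨t, ht⟩ := hne
  obtain ⟨φ, v, hφ, hφ0, hv, rfl⟩ := hT t ht
  refine ⟨v, hv, fun e => hφ0 ?_⟩
  have hmem : φ ∈ phi H v := ⟨hφ, hH ▸ Subgroup.subset_closure ht⟩
  rwa [e, Submodule.mem_bot] at hmem

/-- If `v` moves `w` and `w` moves `v`, the two spaces of functionals have the same dimension. -/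
lemma finrank_phi_of_mutual {v w : V} (h1 : Adj H v w) (h2 : Adj H w v) :
    Module.finrank (ZMod p) ↥(phi H v) = Module.finrank (ZMod p) ↥(phi H w) := by
  obtain ⟨φ, hφ, hw⟩ := h1
  obtain ⟨ψ, hψ, hv⟩ := h2
  set φ' := (φ w)⁻¹ • φ
  set ψ' := (-(ψ v)⁻¹) • ψ
  have hφ' : φ' ∈ phi H v := Submodule.smul_mem _ _ hφ
  have hψ' : ψ' ∈ phi H w := Submodule.smul_mem _ _ hψ
  set g := trv φ' v * trv ψ' w * trv φ' v
  have hg : g ∈ H := H.mul_mem (H.mul_mem hφ'.2 hψ'.2) hφ'.2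
  have e : g w = v := by
    simp only [g, equiv_mul_apply, trv_apply hφ'.1, trv_apply hψ'.1]
    simp [φ', ψ', hφ.1, hψ.1, hw, hv]
  rw [← e, phi_image hg, finrank_map_inj]
  intro a b hab
  ext x
  have := LinearMap.congr_fun hab (g x)
  simpa using this

lemma phi_le_of_not_adj {v w : V} (h1 : Adj H v w) (h2 : ¬ Adj H w v) : phi H w ≤ phi H v := by
  obtain ⟨φ, hφ, hw⟩ := h1
  intro ψ hψ
  have hψv : ψ v = 0 := by
    by_contra h
    exact h2 ⟨ψ, hψ, h⟩
  have h := phi_comp_mem hφ.2 hψ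
  have e : ψ.comp ((trv φ v).symm : V →ₗ[ZMod p] V) = ψ := by
    ext x
    simp [trv_symm_apply hφ.1, hψv]
  rw [e, trv_apply hφ.1] at h
  -- the transvection with point `w + φ w • v` times the inverse of the one with point `w`
  have hv : (φ w) • ψ ∈ phi H v := by
    refine ⟨by simp [hψv], ?_⟩
    have := H.mul_mem h.2 (H.inv_mem hψ.2)
    convert this using 1
    rw [trv_inv hψ.1]
    refine LinearEquiv.ext fun x => ?_
    rw [equiv_mul_apply, trv_apply (φ := φ w • ψ) (v := v) (by simp [hψv]),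
      trv_apply (φ := -ψ) (v := w) (by simp [hψ.1]), trv_apply h.1]
    simp [hψ.1, smul_smul, mul_comm (φ w)]
  simpa [smul_smul, hw] using (phi H v).smul_mem (φ w)⁻¹ hv

include hH hT hirr hne in
/-- All points have equally many functionals. -/
lemma finrank_phi_eq : ∃ r, 0 < r ∧ ∀ v, IsPt H v → Module.finrank (ZMod p) ↥(phi H v) = r := by
  classical
  obtain ⟨v₀, hv₀⟩ := exists_pt hH hT hne
  let P : ℕ → Prop := fun d => ∃ v, IsPt H v ∧ Module.finrank (ZMod p) ↥(phi H v) = d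
  set r := Nat.findGreatest P (Module.finrank (ZMod p) (Dual (ZMod p) V)) with hr
  have hmax : ∀ v, IsPt H v → Module.finrank (ZMod p) ↥(phi H v) ≤ r := fun v hv =>
    Nat.le_findGreatest (Submodule.finrank_le _) ⟨v, hv, rfl⟩
  obtain ⟨v₁, hv₁, hr₁⟩ : P r := Nat.findGreatest_spec (P := P) (Submodule.finrank_le (phi H v₀)) ⟨v₀, hv₀, rfl⟩
  refine ⟨r, (Nat.pos_of_ne_zero fun e => hv₀.2 ?_), ?_⟩
  · have := hmax v₀ hv₀
    rw [e, Nat.le_zero, Submodule.finrank_eq_zero] at this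
    exact this
  intro w hw
  refine ((pts_subset hH hT hirr hne {v | IsPt H v ∧ Module.finrank (ZMod p) ↥(phi H v) = r}
    ⟨v₁, ⟨hv₁, hr₁⟩, hv₁.1⟩ ?_ ?_).2 w hw).2
  · rintro w ⟨-, -⟩ s ⟨hs, hsr⟩ φ hφ
    refine Submodule.subset_span ⟨hs.image hφ.2, ?_⟩
    rw [phi_image hφ.2, finrank_map_inj, hsr]
    intro a b hab
    ext x
    have := LinearMap.congr_fun hab (trv φ w x)
    simpa using this
  · intro w hw hwS φ hφ s hs
    obtain ⟨hs, hsr⟩ := hs
    by_contra hne0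
    by_cases h2 : Adj H s w
    · exact hwS ⟨hw, (finrank_phi_of_mutual h2 ⟨φ, hφ, hne0⟩).symm.trans hsr⟩
    · have hle := phi_le_of_not_adj ⟨φ, hφ, hne0⟩ h2
      have := Submodule.eq_of_le_of_finrank_le hle (hsr.symm ▸ hmax w hw)
      exact hne0 (this ▸ hφ : φ ∈ phi H s).1

include hH hT hirr hne in
/-- Being moved is symmetric. -/
lemma Adj.symm {v w : V} (hv : IsPt H v) (hw : IsPt H w) (h : Adj H v w) : Adj H w v := by
  by_contra h2
  obtain ⟨r, -, hr⟩ := finrank_phi_eq hH hT hirr hne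
  have := Submodule.eq_of_le_of_finrank_le (phi_le_of_not_adj h h2) (le_of_eq ((hr v hv).trans (hr w hw).symm))
  obtain ⟨φ, hφ, hwne⟩ := h
  exact hwne (this.symm ▸ hφ : φ ∈ phi H w).1

/-- The line through two adjacent points consists of points. -/
lemma IsPt.line {v w : V} (hw : IsPt H w) (h : Adj H v w) (c : ZMod p) : IsPt H (w + c • v) := by
  obtain ⟨φ, hφ, hwne⟩ := h
  have hmem : (c * (φ w)⁻¹) • φ ∈ phi H v := Submodule.smul_mem _ _ hφ
  have := hw.image hmem.2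
  rw [trv_apply hmem.1] at this
  simpa [hwne] using this

include hp hH hT hirr hne in
/-- Two points have a common neighbour unless they are adjacent. -/
lemma exists_common {v w : V} (hv : IsPt H v) (hw : IsPt H w) :
    Adj H v w ∨ ∃ u, IsPt H u ∧ Adj H v u ∧ Adj H w u := by
  have hsymm := fun {a b : V} => @Adj.symm p _ V _ _ H _ T hH hT hirr hne a b
  set S : Set V := {x | IsPt H x ∧ (Adj H v x ∨ ∃ u, IsPt H u ∧ Adj H v u ∧ Adj H x u)}
  -- the set is closed under adjacency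
  have hclosed : ∀ c ∈ S, ∀ d, IsPt H d → Adj H d c → d ∈ S := by
    rintro c ⟨hc, hvc | ⟨b, hb, hvb, hcb⟩⟩ d hd hdc
    · exact ⟨hd, Or.inr ⟨c, hc, hvc, hdc⟩⟩
    · obtain ⟨α, hα, hαb⟩ := hvb
      obtain ⟨δ, hδ, hδc⟩ := hdc
      obtain ⟨l, h1, h2⟩ := exists_good_scalar hp (a := α b) (a' := α c) (b := δ b) (b' := δ c) (Or.inl hαb) (Or.inr hδc)
      refine ⟨hd, Or.inr ⟨b + l • c, IsPt.line hb hcb l, ⟨α, hα, by simpa using h1⟩, ⟨δ, hδ, by simpa using h2⟩⟩⟩
  obtain ⟨φ, hφ, hφ0⟩ : ∃ φ ∈ phi H v, φ ≠ 0 := Submodule.exists_mem_ne_zero_of_ne_bot hv.2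
  have hex : ∃ x, IsPt H x ∧ Adj H v x := by
    by_contra h
    push Not at h
    obtain ⟨htop, -⟩ := pts_subset hH hT hirr hne {x | IsPt H x} ⟨v, hv, hv.1⟩
      (fun a _ s hs ψ hψ => Submodule.subset_span (hs.image hψ.2)) (fun a ha hna => absurd ha hna)
    exact hφ0 (LinearMap.ext_on htop fun x hx => by_contra fun hne0 => h x hx ⟨φ, hφ, by simpa using hne0⟩)
  obtain ⟨x₀, hx₀, hvx₀⟩ := hex
  have hvS : v ∈ S := ⟨hv, Or.inr ⟨x₀, hx₀, hvx₀, hvx₀⟩⟩
  refine ((pts_subset hH hT hirr hne S ⟨v, hvS, hv.1⟩ ?_ ?_).2 w hw).2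
  · intro a ha s hs ψ hψ
    rw [trv_apply hψ.1]
    exact Submodule.add_mem _ (Submodule.subset_span hs) (Submodule.smul_mem _ _ (Submodule.subset_span ha))
  · intro a ha haS ψ hψ s hs
    by_contra hne0
    exact haS (hclosed s hs a ha ⟨ψ, hψ, hne0⟩)

include hp hH hT hirr hne in
/-- Every nonzero vector is a point. -/
theorem isPt_of_ne_zero {x : V} (hx : x ≠ 0) : IsPt H x := by
  have hsymm := fun {a b : V} => @Adj.symm p _ V _ _ H _ T hH hT hirr hne a b
  obtain ⟨htop, -⟩ := pts_subset hH hT hirr hne {x | IsPt H x}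
    (by obtain ⟨v, hv⟩ := exists_pt hH hT hne; exact ⟨v, hv, hv.1⟩)
    (fun a _ s hs ψ hψ => Submodule.subset_span (hs.image hψ.2)) (fun a ha hna => absurd ha hna)
  have hsum : ∀ v w, IsPt H v → IsPt H w → v + w ≠ 0 → IsPt H (v + w) := by
    intro v w hv hw hvw
    by_cases hadj : Adj H v w
    · simpa [add_comm] using IsPt.line hw hadj 1
    have hwv : ¬ Adj H w v := fun h => hadj (hsymm hw hv h)
    have hαw : ∀ α ∈ phi H v, α w = 0 := fun α hα => by_contra fun h => hadj ⟨α, hα, h⟩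
    have hχv : ∀ χ ∈ phi H w, χ v = 0 := fun χ hχ => by_contra fun h => hwv ⟨χ, hχ, h⟩
    -- a common neighbour of `v`, `w` moving `v + w` suffices
    have finish : ∀ z, IsPt H z → Adj H v z → Adj H w z → Adj H z (v + w) → IsPt H (v + w) := by
      intro z hz hvz hwz hzx
      have h1 : IsPt H (z + (1 : ZMod p) • v) := hz.line hvz 1
      rw [one_smul] at h1
      have h2 : IsPt H (z + v + (1 : ZMod p) • w) := by
        refine h1.line ?_ 1
        obtain ⟨χ, hχ, hne0⟩ := hwz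
        exact ⟨χ, hχ, by simpa [hχv χ hχ] using hne0⟩
      rw [one_smul] at h2
      have h3 : IsPt H (z + v + w + (-1 : ZMod p) • z) := by
        refine h2.line ?_ (-1)
        obtain ⟨ψ, hψ, hne0⟩ := hzx
        exact ⟨ψ, hψ, by simpa [hψ.1] using hne0⟩
      have e : z + v + w + (-1 : ZMod p) • z = v + w := by simp; abel
      rwa [e] at h3
    obtain ⟨u, hu, hvu, hwu⟩ := (exists_common hp hH hT hirr hne hv hw).resolve_left hadj
    by_cases hux : Adj H u (v + w)
    · exact finish u hu hvu hwu hux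
    obtain ⟨z, hz, φ, hφ, hφx⟩ : ∃ z, IsPt H z ∧ ∃ φ ∈ phi H z, φ (v + w) ≠ 0 := by
      by_contra h
      push Not at h
      have hsub : ∀ s ∈ {s | IsPt H s}, ∀ a, IsPt H a → ∀ φ ∈ phi H a, φ (v + w) = 0 := fun s _ a ha => h a ha
      have hinv : ∀ t ∈ T, ∀ y ∈ Submodule.span (ZMod p) {v + w}, t y ∈ Submodule.span (ZMod p) {v + w} := by
        intro t ht y hy
        obtain ⟨c, rfl⟩ := Submodule.mem_span_singleton.1 hy
        obtain ⟨φ, a, hφ, hφ0, ha, rfl⟩ := hT t ht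
        have hmem : φ ∈ phi H a := ⟨hφ, hH ▸ Subgroup.subset_closure ht⟩
        rw [trv_apply hφ, map_smul, h a ⟨ha, fun e => hφ0 (by rwa [e, Submodule.mem_bot] at hmem)⟩ φ hmem]
        simpa using Submodule.smul_mem _ c (Submodule.mem_span_singleton_self (v + w))
      rcases hirr _ hinv with h0 | h0
      · exact hvw (Submodule.span_singleton_eq_bot.1 h0)
      · obtain ⟨φ, hφ, hφ0⟩ := Submodule.exists_mem_ne_zero_of_ne_bot hv.2
        refine hφ0 (LinearMap.ext_on (s := {v + w}) h0 fun y hy => ?_)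
        rw [Set.mem_singleton_iff] at hy
        subst hy
        simpa using h v hv φ hφ
    -- the case where `z` is adjacent to `a` but maybe not to `b`
    have main : ∀ a b, IsPt H a → IsPt H b → (∀ α ∈ phi H a, α b = 0) → (∀ χ ∈ phi H b, χ a = 0) →
        Adj H a u → Adj H b u → φ a ≠ 0 → ¬ Adj H u (a + b) → φ (a + b) ≠ 0 →
        ∃ z', IsPt H z' ∧ Adj H a z' ∧ Adj H b z' ∧ Adj H z' (a + b) := by
      intro a b ha hb hαb hχa hau hbu hφa hux hφab
      have haz : Adj H a z := hsymm hz ha ⟨φ, hφ, hφa⟩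
      by_cases hbz : Adj H b z
      · exact ⟨z, hz, haz, hbz, φ, hφ, hφab⟩
      have hχz : ∀ χ ∈ phi H b, χ z = 0 := fun χ hχ => by_contra fun h => hbz ⟨χ, hχ, h⟩
      obtain ⟨l, hl, -⟩ := exists_good_scalar hp (a := φ u) (a' := φ a) (b := (1 : ZMod p)) (b' := 0) (Or.inr hφa) (Or.inl one_ne_zero)
      have hy : IsPt H (u + l • a) := hu.line hau l
      obtain ⟨α, hα, hαu⟩ := hau
      obtain ⟨χ, hχ, hχu⟩ := hbu
      have hay : α (u + l • a) ≠ 0 := by simpa [hα.1] using hαu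
      have hby : χ (u + l • a) ≠ 0 := by simpa [hχa χ hχ] using hχu
      by_cases hyx : Adj H (u + l • a) (a + b)
      · exact ⟨_, hy, ⟨α, hα, hay⟩, ⟨χ, hχ, hby⟩, hyx⟩
      obtain ⟨η, hη, hηz⟩ : Adj H (u + l • a) z :=
        hsymm hz hy ⟨φ, hφ, by simpa using hl⟩
      have hηx : η (a + b) = 0 := by_contra fun h => hyx ⟨η, hη, h⟩
      obtain ⟨m, hm1, hm2⟩ := exists_good_scalar hp (a := α z) (a' := η z * α (u + l • a))
        (b := (0 : ZMod p)) (b' := η z * χ (u + l • a)) (Or.inr (mul_ne_zero hηz hay)) (Or.inr (mul_ne_zero hηz hby))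
      have hmem : m • η ∈ phi H (u + l • a) := Submodule.smul_mem _ _ hη
      have hz' := hz.image hmem.2
      have hφ' := phi_comp_mem hmem.2 hφ
      refine ⟨_, hz', ⟨α, hα, ?_⟩, ⟨χ, hχ, ?_⟩, _, hφ', ?_⟩
      · rw [trv_apply hmem.1]
        simpa [mul_assoc, mul_add] using hm1
      · rw [trv_apply hmem.1]
        simpa [hχz χ hχ, hχa χ hχ, mul_assoc, mul_add] using hm2
      · simp only [LinearMap.comp_apply, LinearEquiv.coe_coe, trv_symm_apply hmem.1, LinearMap.smul_apply,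
          hηx, smul_zero, zero_smul, sub_zero]
        exact hφab
    by_cases hφv : φ v = 0
    · have hφw : φ w ≠ 0 := by simpa [hφv] using hφx
      rw [add_comm] at hux hφx ⊢
      obtain ⟨z', h1, h2, h3, h4⟩ := main w v hw hv hχv hαw hwu hvu hφw hux hφx
      rw [add_comm] at h4 ⊢
      exact finish z' h1 h3 h2 h4
    · obtain ⟨z', h1, h2, h3, h4⟩ := main v w hv hw hαw hχv hvu hwu hφv hux hφx
      exact finish z' h1 h2 h3 h4
  have key : ∀ y ∈ Submodule.span (ZMod p) {x | IsPt H x}, y ≠ 0 → IsPt H y := by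
    intro y hy
    induction hy using Submodule.span_induction with
    | mem y hy => exact fun _ => hy
    | zero => exact fun h => absurd rfl h
    | add a b _ _ ha hb =>
      intro hne0
      rcases eq_or_ne a 0 with rfl | ha0
      · rw [zero_add] at hne0 ⊢; exact hb hne0
      rcases eq_or_ne b 0 with rfl | hb0
      · rw [add_zero]; exact ha ha0
      exact hsum a b (ha ha0) (hb hb0) hne0
    | smul c a _ ha =>
      intro hne0
      have hc : c ≠ 0 := by rintro rfl; exact hne0 (zero_smul _ _)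
      have ha0 : a ≠ 0 := by rintro rfl; exact hne0 (smul_zero _)
      refine ⟨hne0, ?_⟩
      rw [phi_smul hc]
      exact (ha ha0).2
  exact key x (htop ▸ Submodule.mem_top) hx

include hp hH hT hirr hne in
lemma adj_comm {v w : V} (hv : v ≠ 0) (h : Adj H v w) : Adj H w v :=
  Adj.symm hH hT hirr hne (adj_pt hv h) (isPt_of_ne_zero hp hH hT hirr hne h.right_ne_zero) h

include hp hH hT hirr hne in
/-- The kernels depend linearly on the point. -/
lemma not_adj_add {x y z : V} (hz : z ≠ 0) (h1 : ¬ Adj H x z) (h2 : ¬ Adj H y z) (hx : x ≠ 0) (hy : y ≠ 0)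
    (hxy : x + y ≠ 0) : ¬ Adj H (x + y) z := by
  intro h
  obtain ⟨φ, hφ, hne0⟩ := adj_comm hp hH hT hirr hne hxy h
  rw [map_add] at hne0
  by_cases hφx : φ x = 0
  · exact h2 (adj_comm hp hH hT hirr hne hz ⟨φ, hφ, by simpa [hφx] using hne0⟩)
  · exact h1 (adj_comm hp hH hT hirr hne hz ⟨φ, hφ, hφx⟩)

end Cfsg.Agent.H88
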