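/-
McLaughlin: an irreducible group generated by transvections over a prime field of odd order is the
special linear group or a symplectic group.
-/
import Cfsg.Agent.H88.TIrred
set_option autoImplicit false
set_option maxHeartbeats 1000000

namespace Cfsg.Agent.H88

open Module (Dual)

variable {p : ℕ} [Fact p.Prime] {V : Type*} [AddCommGroup V] [Module (ZMod p) V]

/-- The special linear group or a symplectic group. -/
def Classical (K : Subgroup (V ≃ₗ[ZMod p] V)) : Prop :=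
  (3 ≤ Module.finrank (ZMod p) V ∧
      (K : Set (V ≃ₗ[ZMod p] V)) = {f : V ≃ₗ[ZMod p] V | LinearMap.det (f : V →ₗ[ZMod p] V) = 1}) ∨
    ∃ B : LinearMap.BilinForm (ZMod p) V, B.IsAlt ∧ B.Nondegenerate ∧
      (K : Set (V ≃ₗ[ZMod p] V)) = {f : V ≃ₗ[ZMod p] V | ∀ x y, B (f x) (f y) = B x y}

/-- Changing the space. -/
noncomputable def eConj {W : Type*} [AddCommGroup W] [Module (ZMod p) W] (e : V ≃ₗ[ZMod p] W) :
    (V ≃ₗ[ZMod p] V) →* (W ≃ₗ[ZMod p] W) where
  toFun g := e.symm.trans (g.trans e)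
  map_one' := by ext x; simp
  map_mul' g h := by ext x; simp

lemma eConj_apply {W : Type*} [AddCommGroup W] [Module (ZMod p) W] (e : V ≃ₗ[ZMod p] W) (g : V ≃ₗ[ZMod p] V)
    (x : W) : eConj e g x = e (g (e.symm x)) := rfl

variable [FiniteDimensional (ZMod p) V]

theorem Classical.congr {W : Type*} [AddCommGroup W] [Module (ZMod p) W] {K : Subgroup (V ≃ₗ[ZMod p] V)}
    (hK : Classical K) (e : V ≃ₗ[ZMod p] W) : Classical (K.map (eConj e)) := by
  rcases hK with ⟨h3, hK⟩ | ⟨B, hA, hB, hK⟩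
  · refine Or.inl ⟨e.finrank_eq ▸ h3, Set.ext fun f => ⟨?_, fun hf => ?_⟩⟩
    · rintro ⟨g, hg, rfl⟩
      have hg' : g ∈ (K : Set (V ≃ₗ[ZMod p] V)) := hg
      rw [hK] at hg'
      exact (LinearMap.det_conj (g : V →ₗ[ZMod p] V) e).trans hg'
    · refine ⟨eConj e.symm f, ?_, by ext x; simp [eConj_apply]⟩
      rw [hK]
      exact (LinearMap.det_conj (f : W →ₗ[ZMod p] W) e.symm).trans hf
  · refine Or.inr ⟨B.compl₁₂ (e.symm : W →ₗ[ZMod p] V) (e.symm : W →ₗ[ZMod p] V), fun x => hA _,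
      ⟨fun x hx => ?_, fun y hy => ?_⟩, Set.ext fun f => ⟨?_, fun hf => ?_⟩⟩
    · exact e.symm.map_eq_zero_iff.1 (hB.1 _ fun y => by simpa using hx (e y))
    · exact e.symm.map_eq_zero_iff.1 (hB.2 _ fun x => by simpa using hy (e x))
    · rintro ⟨g, hg, rfl⟩ x y
      have hg' : g ∈ (K : Set (V ≃ₗ[ZMod p] V)) := hg
      rw [hK] at hg'
      simpa [eConj_apply] using hg' (e.symm x) (e.symm y)
    · refine ⟨eConj e.symm f, ?_, by ext x; simp [eConj_apply]⟩
      rw [hK]
      intro x y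
      simpa [eConj_apply] using hf (e x) (e y)

variable {H : Subgroup (V ≃ₗ[ZMod p] V)} {T : Set (V ≃ₗ[ZMod p] V)} (hp : 3 ≤ p)
  (hH : H = Subgroup.closure T) (hT : ∀ t ∈ T, IsTv t) (hirr : Irr T) (hne : T.Nonempty)

omit [FiniteDimensional (ZMod p) V] in
lemma finrank_phi_inf {v w : V} [FiniteDimensional (ZMod p) V] (h : Adj H v w) :
    Module.finrank (ZMod p) ↥(phi H v ⊓ LinearMap.ker (LinearMap.applyₗ w : Dual (ZMod p) V →ₗ[ZMod p] ZMod p)) + 1
      = Module.finrank (ZMod p) ↥(phi H v) := by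
  obtain ⟨φ, hφ, hw⟩ := h
  let ev : ↥(phi H v) →ₗ[ZMod p] ZMod p := (LinearMap.applyₗ w).comp (phi H v).subtype
  have hr : LinearMap.range ev = ⊤ :=
    LinearMap.range_eq_top.2 (LinearMap.surjective (fun e => hw (LinearMap.congr_fun e ⟨φ, hφ⟩)))
  have h1 := LinearMap.finrank_range_add_finrank_ker ev
  rw [hr, finrank_top, Module.finrank_self] at h1
  have h2 : (LinearMap.ker ev).map (phi H v).subtype
      = phi H v ⊓ LinearMap.ker (LinearMap.applyₗ w : Dual (ZMod p) V →ₗ[ZMod p] ZMod p) := by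
    rw [show LinearMap.ker ev = (LinearMap.ker (LinearMap.applyₗ w : Dual (ZMod p) V →ₗ[ZMod p] ZMod p)).comap
      (phi H v).subtype from LinearMap.ker_comp _ _, Submodule.map_comap_subtype]
  rw [← h2, Submodule.finrank_map_subtype_eq]
  omega

omit [FiniteDimensional (ZMod p) V] in
lemma mem_inf_ker {v w : V} {φ : Dual (ZMod p) V} :
    φ ∈ phi H v ⊓ LinearMap.ker (LinearMap.applyₗ w : Dual (ZMod p) V →ₗ[ZMod p] ZMod p) ↔
      φ ∈ phi H v ∧ φ w = 0 := Iff.rfl

include hp hH hT hirr hne in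
/-- If some point has two independent functionals, the group contains all transvections. -/
theorem all_trv_mem {r : ℕ} (hr2 : 2 ≤ r) (hr : ∀ v : V, v ≠ 0 → Module.finrank (ZMod p) ↥(phi H v) = r) :
    3 ≤ Module.finrank (ZMod p) V ∧ ∀ (φ : Dual (ZMod p) V) (v : V), φ v = 0 → trv φ v ∈ H := by
  have hcomm := fun {a b : V} => @adj_comm p _ V _ _ H _ T hp hH hT hirr hne a b
  -- functionals killing the other point are common
  have hshare : ∀ {a b : V}, a ≠ 0 → Adj H a b → ∀ δ ∈ phi H a, δ b = 0 → δ ∈ phi H b := by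
    intro a b ha hab δ hδ hδb
    obtain ⟨ψ, hψ, hψa⟩ := hcomm ha hab
    have h := phi_comp_mem hδ.2 hψ
    rw [trv_apply hδ.1, hδb, zero_smul, add_zero] at h
    have h' : (ψ a) • δ ∈ phi H b := by
      have e : ψ - ψ.comp ((trv δ a).symm : V →ₗ[ZMod p] V) = (ψ a) • δ := by
        ext x
        simp [trv_symm_apply hδ.1, mul_comm]
      exact e ▸ Submodule.sub_mem _ hψ h
    simpa [smul_smul, hψa] using (phi H b).smul_mem (ψ a)⁻¹ h'
  obtain ⟨t, ht⟩ := hne
  obtain ⟨φ₀, v, hφ₀v, hφ₀, hv, rfl⟩ := hT t ht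
  obtain ⟨w, hw⟩ : ∃ w, φ₀ w ≠ 0 := by
    by_contra h
    push Not at h
    exact hφ₀ (LinearMap.ext h)
  have hvw : Adj H v w := ⟨φ₀, ⟨hφ₀v, hH ▸ Subgroup.subset_closure ht⟩, hw⟩
  have hw0 := hvw.right_ne_zero
  set K := phi H v ⊓ LinearMap.ker (LinearMap.applyₗ w : Dual (ZMod p) V →ₗ[ZMod p] ZMod p) with hK
  have hKdim : Module.finrank (ZMod p) ↥K + 1 = r := (finrank_phi_inf hvw).trans (hr v hv)
  obtain ⟨δ₀, hδ₀, hδ₀0⟩ : ∃ δ ∈ K, δ ≠ 0 := Submodule.exists_mem_ne_zero_of_ne_bot fun e => by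
    have h1 : Module.finrank (ZMod p) ↥K = 0 := by rw [e]; exact finrank_bot _ _
    omega
  set W := phi H v ⊔ phi H w
  -- good vectors
  let S : Submodule (ZMod p) V := K.dualCoannihilator
  let R : Submodule (ZMod p) V := (phi H w).dualCoannihilator
  have hgood : ∀ z, z ∉ S → z ∉ R → phi H z ≤ W := by
    intro z hzS hzR
    obtain ⟨δ, hδ, hδz⟩ : ∃ δ ∈ K, δ z ≠ 0 := by
      by_contra h
      push Not at h
      exact hzS ((Submodule.mem_dualCoannihilator z).2 h)
    obtain ⟨χ, hχ, hχz⟩ : ∃ χ ∈ phi H w, χ z ≠ 0 := by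
      by_contra h
      push Not at h
      exact hzR ((Submodule.mem_dualCoannihilator z).2 h)
    have hz : z ≠ 0 := by rintro rfl; exact hδz (map_zero δ)
    have hzv : Adj H z v := hcomm hv ⟨δ, hδ.1, hδz⟩
    have hzw : Adj H z w := hcomm hw0 ⟨χ, hχ, hχz⟩
    obtain ⟨ζ, hζ, hζv, hζw⟩ : ∃ ζ ∈ phi H z, ζ v = 0 ∧ ζ w ≠ 0 := by
      by_contra h
      push Not at h
      set L := phi H z ⊓ LinearMap.ker (LinearMap.applyₗ v : Dual (ZMod p) V →ₗ[ZMod p] ZMod p)
      have hLK : L ≤ K := fun ζ hζ => ⟨hshare hz hzv ζ hζ.1 hζ.2, h ζ hζ.1 hζ.2⟩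
      have hdim := finrank_phi_inf hzv
      rw [hr z hz] at hdim
      have hdim' : Module.finrank (ZMod p) ↥L + 1 = r := hdim
      have hLeq : L = K := Submodule.eq_of_le_of_finrank_le hLK (by omega)
      exact hδz (hLeq.symm ▸ hδ : δ ∈ L).1.1
    intro ψ hψ
    have hmem : ψ - (ψ w / ζ w) • ζ ∈ phi H z := Submodule.sub_mem _ hψ (Submodule.smul_mem _ _ hζ)
    have h1 : ψ - (ψ w / ζ w) • ζ ∈ phi H w := hshare hz hzw _ hmem (by simp [hζw])
    have h2 : ζ ∈ phi H v := hshare hz hzv ζ hζ hζv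
    simpa using W.add_mem (Submodule.mem_sup_right h1) (Submodule.mem_sup_left (Submodule.smul_mem _ (ψ w / ζ w) h2))
  have hSne : ∃ a, a ∉ S := by
    by_contra h
    push Not at h
    exact hδ₀0 (LinearMap.ext fun x => (Submodule.mem_dualCoannihilator x).1 (h x) δ₀ hδ₀)
  have hRne : ∃ b, b ∉ R := by
    obtain ⟨χ, hχ, hχv⟩ := hcomm hv hvw
    exact ⟨v, fun h => hχv ((Submodule.mem_dualCoannihilator v).1 h χ hχ)⟩
  -- every vector is a combination of two good ones
  obtain ⟨a, haS, haR⟩ : ∃ a, a ∉ S ∧ a ∉ R := by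
    obtain ⟨a, ha⟩ := hSne
    obtain ⟨b, hb⟩ := hRne
    by_cases haR : a ∈ R
    · by_cases hbS : b ∈ S
      · exact ⟨a + b, fun h => ha (by simpa using S.sub_mem h hbS), fun h => hb (by simpa using R.sub_mem h haR)⟩
      · exact ⟨b, hbS, hb⟩
    · exact ⟨a, ha, haR⟩
  have hperp : ∀ z, z ∈ W.dualCoannihilator → z = 0 := by
    intro z hz
    by_contra hz0
    have hgood' : ∀ g, g ∉ S → g ∉ R → ∀ ψ ∈ phi H z, ψ g = 0 := by
      intro g hgS hgR ψ hψ
      by_contra hne0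
      obtain ⟨χ, hχ, hχz⟩ := hcomm hz0 ⟨ψ, hψ, hne0⟩
      exact hχz ((Submodule.mem_dualCoannihilator z).1 hz χ (hgood g hgS hgR hχ))
    have hall : ∀ x, ∀ ψ ∈ phi H z, ψ x = 0 := by
      intro x ψ hψ
      obtain ⟨c, hc1, hc2⟩ : ∃ c : ZMod p, x + c • a ∉ S ∧ x + c • a ∉ R := by
        by_cases hex : ∃ c₁ : ZMod p, x + c₁ • a ∈ S
        · obtain ⟨c₁, hc₁⟩ := hex
          by_cases hex2 : ∃ c₂ : ZMod p, x + c₂ • a ∈ R
          · obtain ⟨c₂, hc₂⟩ := hex2
            obtain ⟨c, h1, h2⟩ := exists_ne_two hp c₁ c₂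
            refine ⟨c, fun h => haS ?_, fun h => haR ?_⟩
            · have := S.smul_mem (c - c₁)⁻¹ (S.sub_mem h hc₁)
              simpa [← sub_smul, smul_smul, sub_ne_zero.2 h1] using this
            · have := R.smul_mem (c - c₂)⁻¹ (R.sub_mem h hc₂)
              simpa [← sub_smul, smul_smul, sub_ne_zero.2 h2] using this
          · push Not at hex2
            obtain ⟨c, h1, -⟩ := exists_ne_two hp c₁ c₁
            refine ⟨c, fun h => haS ?_, hex2 c⟩
            have := S.smul_mem (c - c₁)⁻¹ (S.sub_mem h hc₁)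
            simpa [← sub_smul, smul_smul, sub_ne_zero.2 h1] using this
        · push Not at hex
          by_cases hex2 : ∃ c₂ : ZMod p, x + c₂ • a ∈ R
          · obtain ⟨c₂, hc₂⟩ := hex2
            obtain ⟨c, h1, -⟩ := exists_ne_two hp c₂ c₂
            refine ⟨c, hex c, fun h => haR ?_⟩
            have := R.smul_mem (c - c₂)⁻¹ (R.sub_mem h hc₂)
            simpa [← sub_smul, smul_smul, sub_ne_zero.2 h1] using this
          · push Not at hex2
            exact ⟨0, hex 0, hex2 0⟩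
      have h1 := hgood' _ hc1 hc2 ψ hψ
      simpa [hgood' a haS haR ψ hψ] using h1
    refine (isPt_of_ne_zero hp hH hT hirr ⟨_, ht⟩ hz0).2 ((Submodule.eq_bot_iff _).2 fun ψ hψ => ?_)
    exact LinearMap.ext fun x => hall x ψ hψ
  have hW : Module.finrank (ZMod p) ↥W = Module.finrank (ZMod p) V := by
    have := Subspace.finrank_add_finrank_dualCoannihilator_eq W
    rw [(Submodule.eq_bot_iff _).2 hperp, finrank_bot, add_zero] at this
    exact this
  have hsum := Submodule.finrank_sup_add_finrank_inf_eq (phi H v) (phi H w)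
  have hKle : Module.finrank (ZMod p) ↥K ≤ Module.finrank (ZMod p) ↥(phi H v ⊓ phi H w) :=
    Submodule.finrank_mono fun δ hδ => ⟨hδ.1, hshare hv hvw δ hδ.1 hδ.2⟩
  have hn : Module.finrank (ZMod p) V ≤ r + 1 := by
    rw [← hW]
    simp only [W]
    rw [hr v hv, hr w hw0] at hsum
    omega
  have hfull : ∀ a : V, a ≠ 0 → ∀ φ : Dual (ZMod p) V, φ a = 0 → φ ∈ phi H a := by
    intro a ha φ hφ
    have h1 : phi H a ≤ (Submodule.span (ZMod p) {a}).dualAnnihilator := fun ψ hψ =>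
      (Submodule.mem_dualAnnihilator ψ).2 fun x hx => by
        obtain ⟨c, rfl⟩ := Submodule.mem_span_singleton.1 hx
        simp [hψ.1]
    have h2 := Subspace.finrank_add_finrank_dualAnnihilator_eq (Submodule.span (ZMod p) ({a} : Set V))
    rw [finrank_span_singleton ha] at h2
    have h3 : phi H a = (Submodule.span (ZMod p) {a}).dualAnnihilator :=
      Submodule.eq_of_le_of_finrank_le h1 (by rw [hr a ha]; omega)
    rw [h3, Submodule.mem_dualAnnihilator]
    intro x hx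
    obtain ⟨c, rfl⟩ := Submodule.mem_span_singleton.1 hx
    simp [hφ]
  refine ⟨?_, fun φ a hφ => ?_⟩
  · have h1 : phi H v ≤ (Submodule.span (ZMod p) {v}).dualAnnihilator := fun ψ hψ =>
      (Submodule.mem_dualAnnihilator ψ).2 fun x hx => by
        obtain ⟨c, rfl⟩ := Submodule.mem_span_singleton.1 hx
        simp [hψ.1]
    have h2 := Subspace.finrank_add_finrank_dualAnnihilator_eq (Submodule.span (ZMod p) ({v} : Set V))
    rw [finrank_span_singleton hv] at h2
    have h4 := Submodule.finrank_mono h1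
    rw [hr v hv] at h4
    omega
  · rcases eq_or_ne a 0 with rfl | ha
    · have : trv φ (0 : V) = 1 := LinearEquiv.ext fun x => by rw [trv_apply (map_zero φ)]; simp
      rw [this]
      exact H.one_mem
    · exact (hfull a ha φ hφ).2

end Cfsg.Agent.H88
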