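/-
An irreducible transvection group with one functional for each point carries an alternating form.
-/
import Cfsg.Agent.H88.TMcLaughlin
set_option autoImplicit false
set_option maxHeartbeats 1000000

namespace Cfsg.Agent.H88

open Module (Dual)

variable {p : ℕ} [Fact p.Prime] {V : Type*} [AddCommGroup V] [Module (ZMod p) V] [FiniteDimensional (ZMod p) V]
  {H : Subgroup (V ≃ₗ[ZMod p] V)} {T : Set (V ≃ₗ[ZMod p] V)} (hp : 3 ≤ p)
  (hH : H = Subgroup.closure T) (hT : ∀ t ∈ T, IsTv t) (hirr : Irr T) (hne : T.Nonempty)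

include hp hH hT hirr hne in
/-- With one functional for each point the group is symplectic. -/
theorem exists_form (hr : ∀ v : V, v ≠ 0 → Module.finrank (ZMod p) ↥(phi H v) = 1) :
    ∃ B : LinearMap.BilinForm (ZMod p) V, B.IsAlt ∧ B.Nondegenerate ∧
      (H : Set (V ≃ₗ[ZMod p] V)) = {f : V ≃ₗ[ZMod p] V | ∀ x y, B (f x) (f y) = B x y} := by
  classical
  have h2 : (2 : ZMod p) ≠ 0 := by
    intro h
    have h' : ((2 : ℕ) : ZMod p) = 0 := by exact_mod_cast h
    rw [ZMod.natCast_eq_zero_iff] at h'
    have := Nat.le_of_dvd (by norm_num) h'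
    omega
  -- a functional for each point
  have hex : ∀ v : V, ∃ f : Dual (ZMod p) V, v ≠ 0 → f ∈ phi H v ∧ f ≠ 0 := by
    intro v
    rcases eq_or_ne v 0 with rfl | hv
    · exact ⟨0, fun h => absurd rfl h⟩
    · obtain ⟨f, h1, h2⟩ := Submodule.exists_mem_ne_zero_of_ne_bot (isPt_of_ne_zero hp hH hT hirr hne hv).2
      exact ⟨f, fun _ => ⟨h1, h2⟩⟩
  choose f hf using hex
  have hmul : ∀ v : V, v ≠ 0 → ∀ φ ∈ phi H v, ∃ c : ZMod p, φ = c • f v := by
    intro v hv φ hφ
    have hle : Submodule.span (ZMod p) {f v} ≤ phi H v := (Submodule.span_singleton_le_iff_mem _ _).2 (hf v hv).1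
    have := Submodule.eq_of_le_of_finrank_le hle (by rw [hr v hv, finrank_span_singleton (hf v hv).2])
    rw [← this] at hφ
    obtain ⟨c, hc⟩ := Submodule.mem_span_singleton.1 hφ
    exact ⟨c, hc.symm⟩
  have hadj : ∀ v w : V, v ≠ 0 → (Adj H v w ↔ f v w ≠ 0) := by
    intro v w hv
    refine ⟨fun ⟨φ, hφ, hne0⟩ e => hne0 ?_, fun h => ⟨f v, (hf v hv).1, h⟩⟩
    obtain ⟨c, rfl⟩ := hmul v hv φ hφ
    simp [e]
  have hsymm : ∀ v w : V, v ≠ 0 → w ≠ 0 → f v w = 0 → f w v = 0 := by
    intro v w hv hw h
    by_contra hne0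
    exact (hadj v w hv).1 (adj_comm hp hH hT hirr hne hw ((hadj w v hw).2 hne0)) h
  obtain ⟨t, ht⟩ := hne
  obtain ⟨-, u, -, -, hu, -⟩ := hT t ht
  have hne' : T.Nonempty := ⟨t, ht⟩
  set A : Set V := {x | f u x ≠ 0}
  have hA0 : ∀ {x}, x ∈ A → x ≠ 0 := fun hx e => hx (by rw [e, map_zero])
  have hAu : ∀ {x}, x ∈ A → f x u ≠ 0 := fun hx h => hx (hsymm _ _ (hA0 hx) hu h)
  -- normalized functional on `A`
  let F : V → Dual (ZMod p) V := fun x => (-(f u x) / f x u) • f x
  have hFu : ∀ {x}, x ∈ A → F x u = -(f u x) := by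
    intro x hx
    simp only [F, LinearMap.smul_apply, smul_eq_mul]
    rw [div_mul_cancel₀ _ (hAu hx)]
  have hFne : ∀ {x}, x ∈ A → (-(f u x) / f x u) ≠ 0 := fun hx => div_ne_zero (neg_ne_zero.2 hx) (hAu hx)
  have hFmem : ∀ {x}, x ∈ A → F x ∈ phi H x := fun hx => Submodule.smul_mem _ _ (hf _ (hA0 hx)).1
  have huniq : ∀ {x}, x ∈ A → ∀ φ ∈ phi H x, φ u = -(f u x) → φ = F x := by
    intro x hx φ hφ h
    obtain ⟨c, rfl⟩ := hmul x (hA0 hx) φ hφ
    simp only [F]
    congr 1
    simp only [LinearMap.smul_apply, smul_eq_mul] at h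
    rw [eq_div_iff (hAu hx), h]
  -- moving along the point `u`
  have hFline : ∀ {x}, x ∈ A → ∀ c : ZMod p, F (x + c • u) = F x + c • f u := by
    intro x hx c
    have hmem : (c / f u x) • f u ∈ phi H u := Submodule.smul_mem _ _ (hf u hu).1
    have h := phi_comp_mem hmem.2 (hFmem hx)
    have e : trv ((c / f u x) • f u) u x = x + c • u := by
      rw [trv_apply hmem.1]
      congr 1
      simp [div_mul_cancel₀ c hx]
    rw [e] at h
    have huu : f u u = 0 := (hf u hu).1.1
    have hx' : x + c • u ∈ A := by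
      show f u (x + c • u) ≠ 0
      simpa [A, huu] using hx
    have e2 : (F x).comp ((trv ((c / f u x) • f u) u).symm : V →ₗ[ZMod p] V) = F x + c • f u := by
      ext y
      simp only [LinearMap.comp_apply, LinearEquiv.coe_coe, trv_symm_apply hmem.1, map_sub, map_smul, hFu hx,
        LinearMap.add_apply, LinearMap.smul_apply, smul_eq_mul]
      have hx0 : f u x ≠ 0 := hx
      field_simp
      ring
    rw [e2] at h
    exact (huniq hx' _ h (by simp [hFu hx, huu])).symm
  -- lines between adjacent points of `A`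
  have hFadj : ∀ {x y}, f u x = 1 → f u y = 1 → f x y ≠ 0 → ∀ a : ZMod p,
      F ((1 - a) • x + a • y) = (1 - a) • F x + a • F y := by
    intro x y hx hy hxy a
    have hxA : x ∈ A := by show f u x ≠ 0; rw [hx]; exact one_ne_zero
    have hyA : y ∈ A := by show f u y ≠ 0; rw [hy]; exact one_ne_zero
    have hFxy : F x y ≠ 0 := by
      simp only [F, LinearMap.smul_apply, smul_eq_mul]
      exact mul_ne_zero (hFne hxA) hxy
    have hFyx : F y x ≠ 0 := by
      simp only [F, LinearMap.smul_apply, smul_eq_mul]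
      exact mul_ne_zero (hFne hyA) fun h => hxy (hsymm y x (hA0 hyA) (hA0 hxA) h)
    -- conjugates of `x` on the line
    have key : ∀ d : ZMod p, (x + d • y) ≠ 0 ∧
        F x + (-(d * F x y / F y x)) • F y ∈ phi H (x + d • y) := by
      intro d
      have hmem : (d / F y x) • F y ∈ phi H y := Submodule.smul_mem _ _ (hFmem hyA)
      have h := phi_comp_mem hmem.2 (hFmem hxA)
      have e : trv ((d / F y x) • F y) y x = x + d • y := by
        rw [trv_apply hmem.1]
        congr 1
        simp [div_mul_cancel₀ d hFyx]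
      rw [e] at h
      have e2 : (F x).comp ((trv ((d / F y x) • F y) y).symm : V →ₗ[ZMod p] V)
          = F x + (-(d * F x y / F y x)) • F y := by
        ext z
        simp only [LinearMap.comp_apply, LinearEquiv.coe_coe, trv_symm_apply hmem.1, map_sub, map_smul,
          LinearMap.add_apply, LinearMap.smul_apply, smul_eq_mul]
        field_simp
        ring
      rw [e2] at h
      refine ⟨fun h0 => ?_, h⟩
      rw [← e] at h0
      exact hA0 hxA (by simpa using h0)
    -- the one outside `A` gives the ratio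
    obtain ⟨h0, hmem⟩ := key (-1)
    have hperp : f u (x + (-1 : ZMod p) • y) = 0 := by simp [hx, hy]
    have hk := hsymm u _ hu h0 hperp
    obtain ⟨c, hc⟩ := hmul _ h0 _ hmem
    have hrat : F x y / F y x = -1 ∨ False := by
      left
      have := LinearMap.congr_fun hc u
      simp only [LinearMap.add_apply, LinearMap.smul_apply, smul_eq_mul, hFu hxA, hFu hyA, hx, hy, hk,
        mul_zero] at this
      field_simp at this ⊢
      linear_combination -this
    simp only [or_false] at hrat
    rcases eq_or_ne a 1 with rfl | ha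
    · simp
    have ha' : (1 : ZMod p) - a ≠ 0 := sub_ne_zero.2 (Ne.symm ha)
    obtain ⟨-, hmem'⟩ := key (a / (1 - a))
    have e3 : (1 - a) • x + a • y = (1 - a) • (x + (a / (1 - a)) • y) := by
      rw [smul_add, smul_smul, mul_div_cancel₀ _ ha']
    have hA' : (1 - a) • x + a • y ∈ A := by
      show f u ((1 - a) • x + a • y) ≠ 0
      simp [hx, hy]
    have hmem'' : (1 - a) • F x + a • F y ∈ phi H ((1 - a) • x + a • y) := by
      rw [e3, phi_smul ha']
      have e4 : (1 - a) • F x + a • F y
          = (1 - a) • (F x + (-(a / (1 - a) * F x y / F y x)) • F y) := by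
        have e5 : -(a / (1 - a) * F x y / F y x) = a / (1 - a) := by rw [mul_div_assoc, hrat]; ring
        rw [e5, smul_add, smul_smul (1 - a) (a / (1 - a)) (F y), mul_div_cancel₀ _ ha']
      rw [e4]
      exact Submodule.smul_mem _ _ hmem'
    exact (huniq hA' _ hmem'' (by simp [hFu hxA, hFu hyA, hx, hy]; ring)).symm
  have huu : f u u = 0 := (hf u hu).1.1
  have haff : ∀ {x y}, f u x = 1 → f u y = 1 → ∀ a : ZMod p,
      F ((1 - a) • x + a • y) = (1 - a) • F x + a • F y := by
    intro x y hx hy a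
    by_cases hxy : f x y = 0
    · have hxA : x ∈ A := by show f u x ≠ 0; rw [hx]; exact one_ne_zero
      have hyA : y ∈ A := by show f u y ≠ 0; rw [hy]; exact one_ne_zero
      have h := hFadj hx (y := y + u) (by simp [hy, huu]) (by simpa [hxy] using hAu hxA) a
      have h1 : F (y + u) = F y + f u := by
        have := hFline hyA 1
        simpa using this
      have hA' : (1 - a) • x + a • y ∈ A := by
        show f u ((1 - a) • x + a • y) ≠ 0
        simp [hx, hy]
      have h2 := hFline hA' a
      rw [h1, smul_add, smul_add, ← add_assoc, h2, ← add_assoc] at h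
      exact add_right_cancel h
    · exact hFadj hx hy hxy a
  obtain ⟨w₁, hw₁⟩ : ∃ w, f u w ≠ 0 := by
    by_contra h
    push Not at h
    exact (hf u hu).2 (LinearMap.ext h)
  set w₀ := (f u w₁)⁻¹ • w₁ with hw₀def
  have hw₀ : f u w₀ = 1 := by simp [w₀, hw₁]
  let pr : V → V := fun x => x - (f u x) • w₀
  have hpr : ∀ x, f u (w₀ + pr x) = 1 := by intro x; simp [pr, hw₀]
  let G : V → Dual (ZMod p) V := fun x => (f u x) • F w₀ + (F (w₀ + pr x) - F w₀)
  have hdil : ∀ l, f u l = 0 → ∀ c : ZMod p, F (w₀ + c • l) - F w₀ = c • (F (w₀ + l) - F w₀) := by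
    intro l hl c
    have h := haff hw₀ (y := w₀ + l) (by simp [hw₀, hl]) c
    rw [show (1 - c) • w₀ + c • (w₀ + l) = w₀ + c • l by module] at h
    rw [h]
    module
  have hadd : ∀ l m, f u l = 0 → f u m = 0 →
      F (w₀ + (l + m)) - F w₀ = (F (w₀ + l) - F w₀) + (F (w₀ + m) - F w₀) := by
    intro l m hl hm
    have h := haff (x := w₀ + (2 : ZMod p) • l) (y := w₀ + (2 : ZMod p) • m) (by simp [hw₀, hl])
      (by simp [hw₀, hm]) (2 : ZMod p)⁻¹
    have e : (1 : ZMod p) - 2⁻¹ = 2⁻¹ := by field_simp; norm_num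
    rw [e] at h
    have e2 : (2 : ZMod p)⁻¹ • (w₀ + (2 : ZMod p) • l) + (2 : ZMod p)⁻¹ • (w₀ + (2 : ZMod p) • m)
        = w₀ + (l + m) := by
      match_scalars <;> field_simp
      norm_num
    rw [e2] at h
    have hl' := hdil l hl 2
    have hm' := hdil m hm 2
    rw [sub_eq_iff_eq_add] at hl' hm'
    rw [h, hl', hm']
    match_scalars <;> field_simp <;> ring
  have hprA : ∀ x, f u (pr x) = 0 := by intro x; simp [pr, hw₀]
  let Gl : V →ₗ[ZMod p] Dual (ZMod p) V :=
    { toFun := G
      map_add' := fun x y => by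
        simp only [G]
        have e : pr (x + y) = pr x + pr y := by simp only [pr, map_add]; module
        rw [e, hadd _ _ (hprA x) (hprA y), map_add]
        module
      map_smul' := fun c x => by
        simp only [G, RingHom.id_apply]
        have e : pr (c • x) = c • pr x := by simp only [pr, map_smul, smul_eq_mul]; module
        rw [e, hdil _ (hprA x) c, map_smul]
        module }
  have hG1 : ∀ y, f u y = 1 → Gl y = F y := by
    intro y hy
    show (f u y) • F w₀ + (F (w₀ + pr y) - F w₀) = F y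
    rw [hy, show w₀ + pr y = y by simp [pr, hy]]
    simp
  have hGA : ∀ y ∈ A, ∃ c : ZMod p, c ≠ 0 ∧ Gl y = c • f y := by
    intro y hy
    have hy' : f u y ≠ 0 := hy
    set y₁ := (f u y)⁻¹ • y
    have hy₁ : f u y₁ = 1 := by simp [y₁, hy']
    have hy₁0 : y₁ ≠ 0 := smul_ne_zero (inv_ne_zero hy') (hA0 hy)
    obtain ⟨d, hd⟩ := hmul y (hA0 hy) (f y₁) (phi_smul (H := H) (inv_ne_zero hy') ▸ (hf y₁ hy₁0).1)
    refine ⟨f u y * (-(f u y₁) / f y₁ u) * d,
      mul_ne_zero (mul_ne_zero hy' (hFne (by show f u y₁ ≠ 0; rw [hy₁]; exact one_ne_zero))) ?_, ?_⟩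
    · rintro rfl
      exact (hf y₁ hy₁0).2 (by simpa using hd)
    · have : Gl y = (f u y) • Gl y₁ := by rw [← map_smul]; simp [y₁, smul_smul, hy']
      rw [this, hG1 y₁ hy₁]
      simp only [F]
      rw [hd, smul_smul, smul_smul]
  have halt : ∀ x, Gl x x = 0 := by
    have hA' : ∀ y ∈ A, Gl y y = 0 := by
      intro y hy
      obtain ⟨c, -, hc⟩ := hGA y hy
      rw [hc]
      simp [(hf y (hA0 hy)).1.1]
    intro x
    by_cases hx : x ∈ A
    · exact hA' x hx
    · have hx' : f u x = 0 := not_not.1 hx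
      have h1 := hA' (w₀ + x) (by show f u (w₀ + x) ≠ 0; simp [hw₀, hx'])
      have h3 := hA' (w₀ - x) (by show f u (w₀ - x) ≠ 0; simp [hw₀, hx'])
      have h4 := hA' w₀ (by show f u w₀ ≠ 0; simp [hw₀])
      simp only [map_add, map_sub, LinearMap.add_apply, LinearMap.sub_apply] at h1 h3
      have : 2 * Gl x x = 0 := by linear_combination h1 + h3 - 2 * h4
      exact (mul_eq_zero.1 this).resolve_left h2
  have hswap : ∀ x y, Gl x y = - Gl y x := by
    intro x y
    have := halt (x + y)
    simp only [map_add, LinearMap.add_apply, halt x, halt y, zero_add, add_zero] at this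
    linear_combination this
  have hker : ∀ x, x ≠ 0 → ∀ y ∈ A, (Gl x y = 0 ↔ f x y = 0) := by
    intro x hx y hy
    obtain ⟨c, hc0, hc⟩ := hGA y hy
    rw [hswap, neg_eq_zero, hc, LinearMap.smul_apply, smul_eq_mul, mul_eq_zero, or_iff_right hc0]
    exact ⟨hsymm y x (hA0 hy) hx, hsymm x y hx (hA0 hy)⟩
  have hspanA : ∀ (g : Dual (ZMod p) V), (∀ y ∈ A, g y = 0) → g = 0 := by
    intro g hg
    ext x
    by_cases hx : x ∈ A
    · exact hg x hx
    · have h1 := hg (w₀ + x) (by show f u (w₀ + x) ≠ 0; simp [hw₀, not_not.1 hx])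
      simpa [hg w₀ (by show f u w₀ ≠ 0; simp [hw₀])] using h1
  have hGne : ∀ x, x ≠ 0 → Gl x ≠ 0 := by
    intro x hx h0
    exact (hf x hx).2 (hspanA _ fun y hy => (hker x hx y hy).1 (by rw [h0]; rfl))
  have hGprop : ∀ x, x ≠ 0 → ∃ c : ZMod p, c ≠ 0 ∧ Gl x = c • f x := by
    intro x hx
    obtain ⟨z, hz⟩ : ∃ z, f x z ≠ 0 := by
      by_contra h
      push Not at h
      exact (hf x hx).2 (LinearMap.ext h)
    refine ⟨Gl x z / f x z, ?_, ?_⟩
    · -- otherwise the two kernels would differ on `A`
      intro h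
      have hGz : Gl x z = 0 := by simpa [hz] using h
      by_cases hzA : z ∈ A
      · exact hz ((hker x hx z hzA).1 hGz)
      · -- both kernels lie in the complement of `A`
        have hz' : f u z = 0 := not_not.1 hzA
        by_cases hw : ∃ y ∈ A, f x y = 0
        · obtain ⟨y, hy, hxy⟩ := hw
          have hyz : y + z ∈ A := by
            show f u (y + z) ≠ 0
            simpa [A, hz'] using hy
          exact hz (by simpa [hxy] using (hker x hx _ hyz).1 (by simp [(hker x hx y hy).2 hxy, hGz]))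
        · push Not at hw
          refine hw (z - (f x z / f x w₀) • w₀) ?_ ?_
          · show f u (z - (f x z / f x w₀) • w₀) ≠ 0
            simp [hz', hw₀, hz, hw w₀ (by show f u w₀ ≠ 0; simp [hw₀])]
          · simp [div_mul_cancel₀ _ (hw w₀ (by show f u w₀ ≠ 0; simp [hw₀]))]
    · refine sub_eq_zero.1 (hspanA _ fun y hy => ?_)
      simp only [LinearMap.sub_apply, LinearMap.smul_apply, smul_eq_mul]
      -- move `y` into the kernel
      set y' := y - (f x y / f x z) • z
      have hy'0 : f x y' = 0 := by simp [y', div_mul_cancel₀ _ hz]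
      have hG0 : Gl x y' = 0 := by
        by_cases hy'A : y' ∈ A
        · exact (hker x hx y' hy'A).2 hy'0
        · have hy'u : f u y' = 0 := not_not.1 hy'A
          by_cases hw : ∃ a ∈ A, f x a = 0
          · obtain ⟨a, ha, hxa⟩ := hw
            have hay : a + y' ∈ A := by
              show f u (a + y') ≠ 0
              simpa [A, hy'u] using ha
            have := (hker x hx _ hay).2 (by simp [hxa, hy'0])
            simpa [(hker x hx a ha).2 hxa] using this
          · -- the kernel of `Gl x` avoids `A`, hence lies in that of `f u`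
            push Not at hw
            have hw0A : w₀ ∈ A := by show f u w₀ ≠ 0; simp [hw₀]
            by_contra hne0
            have hmem : w₀ - (Gl x w₀ / Gl x y') • y' ∈ A := by
              show f u (w₀ - (Gl x w₀ / Gl x y') • y') ≠ 0
              simp [hw₀, hy'u]
            exact hw _ hmem ((hker x hx _ hmem).1 (by simp [div_mul_cancel₀ _ hne0]))
      simp only [y', map_sub, map_smul, smul_eq_mul] at hG0
      field_simp at hG0 ⊢
      linear_combination hG0
  refine ⟨Gl, halt, ⟨fun x hx => ?_, fun y hy => ?_⟩, ?_⟩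
  · by_contra h0
    exact hGne x h0 (LinearMap.ext hx)
  · by_contra h0
    exact hGne y h0 (LinearMap.ext fun x => by rw [hswap, hy x, neg_zero]; rfl)
  · -- equality with the isometry group
    have hAlt : LinearMap.IsAlt Gl := halt
    have hnd : LinearMap.BilinForm.Nondegenerate (R := ZMod p) (M := V) Gl := by
      refine ⟨fun x hx => ?_, fun y hy => ?_⟩
      · by_contra h0
        exact hGne x h0 (LinearMap.ext hx)
      · by_contra h0
        exact hGne y h0 (LinearMap.ext fun x => by rw [hswap, hy x, neg_zero]; rfl)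
    have htv : ∀ (w : V) (c : ZMod p), Symplectic.tv (B := Gl) hAlt w c = trv ((-c) • Gl w) w := by
      intro w c
      refine LinearEquiv.ext fun x => ?_
      refine (Symplectic.tv_apply (B := Gl) hAlt w c x).trans ?_
      rw [trv_apply (by simp [halt w])]
      simp [hswap x w]
    have heq : H = Symplectic.Isom Gl := by
      apply le_antisymm
      · rw [hH, Subgroup.closure_le]
        intro g hg
        obtain ⟨φ, v, hφ, hφ0, hv, rfl⟩ := hT g hg
        obtain ⟨c, rfl⟩ := hmul v hv φ ⟨hφ, hH ▸ Subgroup.subset_closure hg⟩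
        obtain ⟨d, hd0, hd⟩ := hGprop v hv
        have e : c • f v = (-(-(c / d))) • Gl v := by
          rw [hd, smul_smul, neg_neg, div_mul_cancel₀ _ hd0]
        rw [e, ← htv]
        exact Symplectic.tv_mem hAlt _ _
      · rw [← Symplectic.isom_eq_closure hnd hAlt, Subgroup.closure_le]
        rintro _ ⟨w, c, rfl⟩
        rw [htv]
        rcases eq_or_ne w 0 with rfl | hw
        · simp only [map_zero, smul_zero, trv_zero_left]
          exact H.one_mem
        · obtain ⟨d, -, hd⟩ := hGprop w hw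
          rw [hd, smul_smul]
          exact (Submodule.smul_mem _ _ (hf w hw).1 : _ ∈ phi H w).2
    rw [heq]
    rfl

include hp hH hT hirr hne in
/-- McLaughlin's theorem. -/
theorem classical_of_irr : Classical H := by
  obtain ⟨r, hr0, hr⟩ := finrank_phi_eq hH hT hirr hne
  have hr' : ∀ v : V, v ≠ 0 → Module.finrank (ZMod p) ↥(phi H v) = r := fun v hv =>
    hr v (isPt_of_ne_zero hp hH hT hirr hne hv)
  rcases (show r = 1 ∨ 2 ≤ r by omega) with rfl | h2
  · exact Or.inr (exists_form hp hH hT hirr hne hr')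
  · obtain ⟨h3, hall⟩ := all_trv_mem hp hH hT hirr hne h2 hr'
    refine Or.inl ⟨h3, Set.ext fun g => ⟨fun hg => ?_, fun hg => mem_of_det_eq_one hall hg⟩⟩
    have hle : H ≤ MonoidHom.ker ((LinearMap.det : (V →ₗ[ZMod p] V) →* ZMod p).comp
        (LinearEquiv.automorphismGroup.toLinearMapMonoidHom (R := ZMod p) (M := V))) := by
      rw [hH, Subgroup.closure_le]
      intro t ht
      obtain ⟨φ, v, -, -, -, rfl⟩ := hT t ht
      exact det_trv φ v
    exact hle hg

end Cfsg.Agent.H88
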