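/-
Properties of the classical groups used for splitting: no fixed vectors, and either a central `-1` or
generation by as many conjugate transvections as the dimension.
-/
import Cfsg.Agent.H88.TSymp
set_option autoImplicit false
set_option maxHeartbeats 1000000

namespace Cfsg.Agent.H88

open Module (Dual)

variable {p : ℕ} [Fact p.Prime] {V : Type*} [AddCommGroup V] [Module (ZMod p) V] [FiniteDimensional (ZMod p) V]
  {K : Subgroup (V ≃ₗ[ZMod p] V)}

lemma trv_mem_of_det (h : (K : Set (V ≃ₗ[ZMod p] V)) = {f : V ≃ₗ[ZMod p] V | LinearMap.det (f : V →ₗ[ZMod p] V) = 1})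
    (φ : Dual (ZMod p) V) (v : V) : trv φ v ∈ K := by
  show trv φ v ∈ (K : Set (V ≃ₗ[ZMod p] V))
  rw [h]
  exact det_trv φ v

/-- Every nonzero vector is a point of a nontrivial transvection in a classical group. -/
lemma Classical.exists_trv (hK : Classical K) {v : V} (hv : v ≠ 0) :
    ∃ φ : Dual (ZMod p) V, φ v = 0 ∧ φ ≠ 0 ∧ trv φ v ∈ K := by
  rcases hK with ⟨h3, hK⟩ | ⟨B, hA, hB, hK⟩
  · have h2 := Subspace.finrank_add_finrank_dualAnnihilator_eq (Submodule.span (ZMod p) ({v} : Set V))
    rw [finrank_span_singleton hv] at h2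
    obtain ⟨φ, hφ, hφ0⟩ := Submodule.exists_mem_ne_zero_of_ne_bot
      (p := (Submodule.span (ZMod p) ({v} : Set V)).dualAnnihilator) (fun e => by
        rw [e, finrank_bot] at h2
        omega)
    exact ⟨φ, (Submodule.mem_dualAnnihilator φ).1 hφ v (Submodule.mem_span_singleton_self v), hφ0,
      trv_mem_of_det hK φ v⟩
  · refine ⟨B v, hA v, fun e => hv (hB.1 v fun y => by rw [e]; rfl), ?_⟩
    show trv (B v) v ∈ (K : Set (V ≃ₗ[ZMod p] V))
    rw [hK]
    intro x y
    rw [trv_apply (hA v), trv_apply (hA v)]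
    simp only [map_add, map_smul, LinearMap.add_apply, LinearMap.smul_apply, smul_eq_mul, hA v]
    have h1 := Symplectic.alt_swap hA x v
    rw [h1]
    ring

lemma Classical.no_fixed (hK : Classical K) {x : V} (hfix : ∀ g ∈ K, g x = x) : x = 0 := by
  by_contra hx
  obtain ⟨z, hz⟩ : ∃ z : Dual (ZMod p) V, z x ≠ 0 := by
    by_contra h
    push Not at h
    exact hx ((Module.forall_dual_apply_eq_zero_iff _ x).1 h)
  rcases hK with ⟨h3, hK⟩ | ⟨B, hA, hB, hK⟩
  · obtain ⟨v, hv, hv0⟩ : ∃ v, z v = 0 ∧ v ≠ 0 := by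
      have h1 := LinearMap.finrank_range_add_finrank_ker z
      have h2 := (Submodule.finrank_le (LinearMap.range z)).trans_eq (Module.finrank_self _)
      obtain ⟨v, hv, hv0⟩ := Submodule.exists_mem_ne_zero_of_ne_bot
        (p := LinearMap.ker z) (fun e => by rw [e, finrank_bot] at h1; omega)
      exact ⟨v, hv, hv0⟩
    have := hfix _ (trv_mem_of_det hK z v)
    rw [trv_apply hv] at this
    simp [hz, hv0] at this
  · obtain ⟨w, hw⟩ := Symplectic.exists_apply_ne_zero hB hx
    have hwv : B w x ≠ 0 := by rw [Symplectic.alt_swap hA]; simpa using hw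
    have hw0 : w ≠ 0 := by rintro rfl; simp at hwv
    have hmem : trv (B w) w ∈ K := by
      show trv (B w) w ∈ (K : Set (V ≃ₗ[ZMod p] V))
      rw [hK]
      intro a b
      rw [trv_apply (hA w), trv_apply (hA w)]
      simp only [map_add, map_smul, LinearMap.add_apply, LinearMap.smul_apply, smul_eq_mul, hA w]
      rw [Symplectic.alt_swap hA a w]
      ring
    have := hfix _ hmem
    rw [trv_apply (hA w)] at this
    simp [hwv, hw0] at this

/-- The images of `g - 1` span. -/
lemma Classical.span_moved (hK : Classical K) {Y : Submodule (ZMod p) V} (hY : ∀ g ∈ K, ∀ x, g x - x ∈ Y) :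
    Y = ⊤ := by
  refine eq_top_iff.2 fun v _ => ?_
  rcases eq_or_ne v 0 with rfl | hv
  · exact Y.zero_mem
  obtain ⟨φ, hφ, hφ0, hmem⟩ := hK.exists_trv hv
  obtain ⟨x, hx⟩ : ∃ x, φ x ≠ 0 := by
    by_contra h
    push Not at h
    exact hφ0 (LinearMap.ext h)
  have := Y.smul_mem (φ x)⁻¹ (hY _ hmem x)
  rw [trv_apply hφ, add_sub_cancel_left, smul_smul, inv_mul_cancel₀ hx, one_smul] at this
  exact this

/-- All transvections are conjugate in a group containing all of them, in dimension at least `3`. -/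
lemma exists_conj (h3 : 3 ≤ Module.finrank (ZMod p) V) (hall : ∀ (φ : Dual (ZMod p) V) (v : V), trv φ v ∈ K)
    {φ φ' : Dual (ZMod p) V} {v v' : V} (hφ : φ v = 0) (hφ0 : φ ≠ 0) (hv : v ≠ 0)
    (hφ' : φ' v' = 0) (hφ'0 : φ' ≠ 0) (hv' : v' ≠ 0) :
    ∃ g ∈ K, g * trv φ v * g⁻¹ = trv φ' v' := by
  -- moving points
  have hstep : ∀ {a b : V}, LinearIndependent (ZMod p) ![a, b] → ∃ g ∈ K, g a = b := by
    intro a b hab
    have hd : b - a ∉ Submodule.span (ZMod p) ({b - a} : Set V) → False := fun h => h (Submodule.mem_span_singleton_self _)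
    have hane : a ∉ Submodule.span (ZMod p) ({b - a} : Set V) := by
      intro h
      obtain ⟨c, hc⟩ := Submodule.mem_span_singleton.1 h
      have h' := LinearIndependent.pair_iff.1 hab (-c - 1) c (by
        linear_combination (norm := module) hc)
      rw [h'.2, zero_smul] at hc
      exact hab.ne_zero 0 hc.symm
    obtain ⟨η, hη, hηd⟩ := Submodule.exists_dual_map_eq_bot_of_notMem hane inferInstance
    have hηd' : η (b - a) = 0 :=
      (Submodule.eq_bot_iff _).1 hηd _ (Submodule.mem_map_of_mem (Submodule.mem_span_singleton_self _))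
    refine ⟨trv ((η a)⁻¹ • η) (b - a), hall _ _, ?_⟩
    rw [trv_apply (by simp only [LinearMap.smul_apply, hηd', smul_zero])]
    simp [hη]
  have hpt : ∀ {a b : V}, a ≠ 0 → b ≠ 0 → ∃ g ∈ K, g a = b := by
    intro a b ha hb
    by_cases hab : LinearIndependent (ZMod p) ![a, b]
    · exact hstep hab
    · obtain ⟨c, hc⟩ : ∃ c, c ∉ Submodule.span (ZMod p) ({a, b} : Set V) := by
        by_contra h
        push Not at h
        have h1 : Submodule.span (ZMod p) ({a, b} : Set V) = ⊤ := eq_top_iff.2 fun x _ => h x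
        classical
        have h2 : (Submodule.span (ZMod p) (({a, b} : Finset V) : Set V)) = ⊤ := by simpa using h1
        have h4 := finrank_span_finset_le_card (R := ZMod p) ({a, b} : Finset V)
        rw [Set.finrank, h2, finrank_top] at h4
        have h5 := Finset.card_le_two (a := a) (b := b)
        omega
      have hind : ∀ {x : V}, x ≠ 0 → x ∈ Submodule.span (ZMod p) ({a, b} : Set V) →
          LinearIndependent (ZMod p) ![x, c] := by
        intro x hx hxs
        rw [LinearIndependent.pair_iff' hx]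
        intro d hd
        exact hc (hd ▸ Submodule.smul_mem _ d hxs)
      obtain ⟨g₁, hg₁, e₁⟩ := hstep (hind ha (Submodule.subset_span (by simp)))
      obtain ⟨g₂, hg₂, e₂⟩ := hstep (LinearIndependent.pair_symm_iff.1 (hind hb (Submodule.subset_span (by simp))))
      exact ⟨g₂ * g₁, K.mul_mem hg₂ hg₁, by rw [equiv_mul_apply, e₁, e₂]⟩
  obtain ⟨g₁, hg₁, e₁⟩ := hpt hv hv'
  set ψ : Dual (ZMod p) V := φ.comp (g₁.symm : V →ₗ[ZMod p] V)
  have hψ : ψ v' = 0 := by simp [ψ, ← e₁, hφ]
  have hψ0 : ψ ≠ 0 := fun e => hφ0 (LinearMap.ext fun x => by simpa [ψ] using LinearMap.congr_fun e (g₁ x))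
  -- moving functionals, fixing the point
  have hfun : ∀ {α β : Dual (ZMod p) V}, α v' = 0 → β v' = 0 → α ≠ 0 → LinearIndependent (ZMod p) ![α, β] →
      ∃ g ∈ K, g v' = v' ∧ α.comp (g.symm : V →ₗ[ZMod p] V) = β := by
    intro α β hα hβ hα0 hind
    obtain ⟨x, hx1, hx2⟩ : ∃ x, α x = 1 ∧ β x = 1 := by
      let m : V →ₗ[ZMod p] ZMod p × ZMod p := α.prod β
      have hm : LinearMap.range m = ⊤ := by
        by_contra h
        obtain ⟨q, hq⟩ : ∃ q, q ∉ LinearMap.range m := by
          by_contra h'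
          push Not at h'
          exact h (eq_top_iff.2 fun y _ => h' y)
        obtain ⟨e, he, hem⟩ := Submodule.exists_dual_map_eq_bot_of_notMem hq inferInstance
        have hcomb : ∀ x, e (1, 0) * α x + e (0, 1) * β x = 0 := by
          intro x
          have h0 : e (m x) = 0 :=
            (Submodule.eq_bot_iff _).1 hem _ (Submodule.mem_map_of_mem (LinearMap.mem_range_self m x))
          rw [show m x = (α x) • ((1 : ZMod p), (0 : ZMod p)) + (β x) • ((0 : ZMod p), (1 : ZMod p)) by
            simp [m], map_add, map_smul, map_smul] at h0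
          simp only [smul_eq_mul] at h0
          linear_combination h0
        have h' := LinearIndependent.pair_iff.1 hind (e (1, 0)) (e (0, 1)) (LinearMap.ext fun x => by
          simpa using hcomb x)
        refine he ?_
        rw [show q = q.1 • ((1 : ZMod p), (0 : ZMod p)) + q.2 • ((0 : ZMod p), (1 : ZMod p)) by simp,
          map_add, map_smul, map_smul, h'.1, h'.2]
        simp
      obtain ⟨x, hx⟩ := LinearMap.range_eq_top.1 hm (1, 1)
      exact ⟨x, congrArg Prod.fst hx, congrArg Prod.snd hx⟩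
    have hsum : (β - α) x = 0 := by simp [hx1, hx2]
    refine ⟨(trv (β - α) x)⁻¹, K.inv_mem (hall _ _), ?_, ?_⟩
    · rw [trv_inv hsum, trv_apply (by simp [hx1, hx2])]
      simp [hα, hβ]
    · refine LinearMap.ext fun y => ?_
      show α (trv (β - α) x y) = β y
      rw [trv_apply hsum, map_add, map_smul, hx1]
      simp
  obtain ⟨g₂, hg₂, hfix, e₂⟩ : ∃ g ∈ K, g v' = v' ∧ ψ.comp (g.symm : V →ₗ[ZMod p] V) = φ' := by
    by_cases hind : LinearIndependent (ZMod p) ![ψ, φ']
    · exact hfun hψ hφ' hψ0 hind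
    · obtain ⟨χ, hχ, hχn⟩ : ∃ χ : Dual (ZMod p) V, χ v' = 0 ∧ χ ∉ Submodule.span (ZMod p) ({ψ} : Set _) := by
        by_contra h
        push Not at h
        have hle : (Submodule.span (ZMod p) ({v'} : Set V)).dualAnnihilator ≤ Submodule.span (ZMod p) {ψ} :=
          fun χ hχ => h χ ((Submodule.mem_dualAnnihilator χ).1 hχ v' (Submodule.mem_span_singleton_self v'))
        have h1 := Submodule.finrank_mono hle
        have h2 := Subspace.finrank_add_finrank_dualAnnihilator_eq (Submodule.span (ZMod p) ({v'} : Set V))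
        rw [finrank_span_singleton hv'] at h2
        rw [finrank_span_singleton hψ0] at h1
        omega
      have hi1 : LinearIndependent (ZMod p) ![ψ, χ] := by
        rw [LinearIndependent.pair_iff' hψ0]
        intro a ha
        exact hχn (Submodule.mem_span_singleton.2 ⟨a, ha⟩)
      obtain ⟨g, hg, hgv, eg⟩ := hfun hψ hχ hψ0 hi1
      have hi2 : LinearIndependent (ZMod p) ![χ, φ'] := by
        refine LinearIndependent.pair_symm_iff.1 ((LinearIndependent.pair_iff' hφ'0).2 fun a ha => ?_)
        obtain ⟨d, hd⟩ := not_forall_not.1 (mt (LinearIndependent.pair_iff' hψ0).2 hind)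
        exact hχn (Submodule.mem_span_singleton.2 ⟨a * d, by rw [mul_smul, hd, ha]⟩)
      have hχ0 : χ ≠ 0 := fun e => hχn (e ▸ Submodule.zero_mem _)
      obtain ⟨g', hg', hgv', eg'⟩ := hfun hχ hφ' hχ0 hi2
      refine ⟨g' * g, K.mul_mem hg' hg, by rw [equiv_mul_apply, hgv, hgv'], ?_⟩
      rw [← eg', ← eg]
      rfl
  refine ⟨g₂ * g₁, K.mul_mem hg₂ hg₁, ?_⟩
  rw [show g₂ * g₁ * trv φ v * (g₂ * g₁)⁻¹ = g₂ * (g₁ * trv φ v * g₁⁻¹) * g₂⁻¹ by group,
    trv_conj g₁ hφ, e₁, trv_conj g₂ hψ, hfix, e₂]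

open Fin.NatCast in
/-- Either `-1` is present, or as many conjugates of a transvection as the dimension generate. -/
theorem Classical.neg_or_gens (hK : Classical K) (hp : 3 ≤ p) :
    LinearEquiv.neg (ZMod p) ∈ K ∨
    ∀ t ∈ K, IsTv t → ∃ g : Fin (Module.finrank (ZMod p) V) → (V ≃ₗ[ZMod p] V),
      (∀ i, g i ∈ K) ∧ Subgroup.closure (Set.range fun i => g i * t * (g i)⁻¹) = K := by
  rcases hK with ⟨h3, hK⟩ | ⟨B, hA, hB, hK⟩
  · right
    intro t _ ht
    obtain ⟨φ, v, hφ, hφ0, hv, rfl⟩ := ht
    have hall := trv_mem_of_det hK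
    haveI : NeZero (Module.finrank (ZMod p) V) := ⟨by omega⟩
    set b := Module.finBasis (ZMod p) V
    have hne1 : ∀ i : Fin (Module.finrank (ZMod p) V), i ≠ i + 1 := by
      intro i e
      have h1 : (1 : Fin (Module.finrank (ZMod p) V)) = 0 := left_eq_add.1 e
      have := congrArg Fin.val h1
      rw [Fin.val_one', Nat.mod_eq_of_lt (by omega)] at this
      simp at this
    have hbz : ∀ i, b.coord (i + 1) (b i) = 0 := fun i => by
      simp [Finsupp.single_eq_of_ne (hne1 i).symm]
    have hbc : ∀ i, b.coord i ≠ 0 := fun i e => by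
      have := LinearMap.congr_fun e (b i)
      simp at this
    choose g hg hge using fun i => exists_conj h3 hall hφ hφ0 hv (hbz i) (hbc (i + 1)) (b.ne_zero i)
    refine ⟨g, hg, ?_⟩
    set T : Set (V ≃ₗ[ZMod p] V) := Set.range fun i => g i * trv φ v * (g i)⁻¹
    have hT : ∀ s ∈ T, IsTv s := by
      rintro _ ⟨i, rfl⟩
      dsimp only
      rw [hge i]
      exact isTv_trv (hbz i) (hbc _) (b.ne_zero i)
    have hmem : ∀ i, b.coord (i + 1) ∈ phi (Subgroup.closure T) (b i) := fun i =>
      ⟨hbz i, hge i ▸ Subgroup.subset_closure ⟨i, rfl⟩⟩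
    have hirr : Irr T := by
      intro U hU
      refine or_iff_not_imp_left.2 fun hne => ?_
      have hstep : ∀ i, ∀ x ∈ U, b.coord (i + 1) x ≠ 0 → b i ∈ U := by
        intro i x hx hne0
        have h1 := U.sub_mem (hU _ ⟨i, rfl⟩ x hx) hx
        dsimp only at h1
        rw [hge i, trv_apply (hbz i), add_sub_cancel_left] at h1
        have h4 := U.smul_mem (b.coord (i + 1) x)⁻¹ h1
        rwa [smul_smul, inv_mul_cancel₀ hne0, one_smul] at h4
      obtain ⟨x, hx, hx0⟩ := Submodule.exists_mem_ne_zero_of_ne_bot hne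
      obtain ⟨j, hj⟩ : ∃ j, b.coord j x ≠ 0 := by
        by_contra h
        push Not at h
        exact hx0 (b.forall_coord_eq_zero_iff.1 h)
      obtain ⟨i, hi⟩ : ∃ i, b i ∈ U := ⟨j - 1, hstep (j - 1) x hx (by rwa [sub_add_cancel])⟩
      have hdown : ∀ k : ℕ, b (i - (k : Fin (Module.finrank (ZMod p) V))) ∈ U := by
        intro k
        induction k with
        | zero => simpa using hi
        | succ k ih =>
          refine hstep _ _ ih ?_
          rw [show i - ((k + 1 : ℕ) : Fin (Module.finrank (ZMod p) V)) + 1 = i - (k : Fin _) by push_cast; abel]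
          simp
      rw [eq_top_iff, ← b.span_eq, Submodule.span_le]
      rintro _ ⟨l, rfl⟩
      have := hdown (i - l).val
      rwa [Fin.cast_val_eq_self, sub_sub_cancel] at this
    have hTne : T.Nonempty := ⟨_, ⟨0, rfl⟩⟩
    obtain ⟨r, hr0, hr⟩ := finrank_phi_eq rfl hT hirr hTne
    have hr' : ∀ w : V, w ≠ 0 → Module.finrank (ZMod p) ↥(phi (Subgroup.closure T) w) = r := fun w hw =>
      hr w (isPt_of_ne_zero hp rfl hT hirr hTne hw)
    have hr2 : 2 ≤ r := by
      by_contra hlt
      have hr1 : r = 1 := by omega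
      -- two independent functionals at the point `b 1`
      have hadj : Adj (Subgroup.closure T) (b 0) (b 1) := ⟨_, hmem 0, by simp⟩
      obtain ⟨ψ, hψ, hψ0⟩ := adj_comm hp rfl hT hirr hTne (b.ne_zero 0) hadj
      have hne2 : (1 : Fin (Module.finrank (ZMod p) V)) + 1 ≠ 0 := by
        intro e
        have := congrArg Fin.val e
        rw [Fin.val_add, Fin.val_one', Nat.mod_eq_of_lt (a := 1) (by omega),
          Nat.mod_eq_of_lt (a := 1 + 1) (by omega)] at this
        simp at this
      have hc : b.coord (1 + 1) (b 0) = 0 := by simp [Finsupp.single_eq_of_ne hne2]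
      have hle : Submodule.span (ZMod p) {b.coord (1 + 1)} ≤ phi (Subgroup.closure T) (b 1) :=
        (Submodule.span_singleton_le_iff_mem _ _).2 (hmem 1)
      have := Submodule.eq_of_le_of_finrank_le hle
        (by rw [hr' _ (b.ne_zero 1), hr1, finrank_span_singleton (hbc _)])
      rw [← this] at hψ
      obtain ⟨d, rfl⟩ := Submodule.mem_span_singleton.1 hψ
      exact hψ0 (by simp only [LinearMap.smul_apply, hc, smul_zero])
    obtain ⟨-, hall'⟩ := all_trv_mem hp rfl hT hirr hTne hr2 hr'
    apply le_antisymm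
    · rw [Subgroup.closure_le]
      rintro _ ⟨i, rfl⟩
      exact K.mul_mem (K.mul_mem (hg i) (hall φ v)) (K.inv_mem (hg i))
    · intro f hf
      have hf' : f ∈ (K : Set (V ≃ₗ[ZMod p] V)) := hf
      rw [hK] at hf'
      exact mem_of_det_eq_one hall' hf'
  · left
    show LinearEquiv.neg (ZMod p) ∈ (K : Set (V ≃ₗ[ZMod p] V))
    rw [hK]
    intro x y
    simp

end Cfsg.Agent.H88
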