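/-
Blocks of transvections inducing a classical group on a direct summand, and their lifting from an invariant
subspace or from a quotient.
-/
import Cfsg.Agent.H88.TFacts
set_option autoImplicit false
set_option maxHeartbeats 1000000

namespace Cfsg.Agent.H88

open Module (Dual)

variable {p : ℕ} [Fact p.Prime] {G : Type*} [Group G] {V : Type*} [AddCommGroup V] [Module (ZMod p) V]

/-- The span of the vectors `t x - x`. -/
def moved (ρ : G →* (V ≃ₗ[ZMod p] V)) (S : Set G) : Submodule (ZMod p) V :=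
  Submodule.span (ZMod p) {y | ∃ t ∈ S, ∃ x, y = ρ t x - x}

/-- The vectors fixed by `S`. -/
def fixSp (ρ : G →* (V ≃ₗ[ZMod p] V)) (S : Set G) : Submodule (ZMod p) V where
  carrier := {x | ∀ t ∈ S, ρ t x = x}
  add_mem' := fun {a b} ha hb t ht => by rw [map_add, ha t ht, hb t ht]
  zero_mem' := fun t _ => map_zero _
  smul_mem' := fun c {x} hx t ht => by rw [map_smul, hx t ht]

variable {ρ : G →* (V ≃ₗ[ZMod p] V)} {S : Set G}

lemma mem_moved {g : G} (hg : g ∈ Subgroup.closure S) (x : V) : ρ g x - x ∈ moved ρ S := by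
  induction hg using Subgroup.closure_induction generalizing x with
  | mem t ht => exact Submodule.subset_span ⟨t, ht, x, rfl⟩
  | one => simp
  | mul a b _ _ ha hb =>
    have := (moved ρ S).add_mem (ha (ρ b x)) (hb x)
    simpa [equiv_mul_apply] using this
  | inv a _ ha =>
    have := (moved ρ S).neg_mem (ha ((ρ a)⁻¹ x))
    rw [neg_sub, ← equiv_mul_apply, mul_inv_cancel] at this
    rw [map_inv]
    exact this

lemma fix_of_mem {g : G} (hg : g ∈ Subgroup.closure S) {x : V} (hx : x ∈ fixSp ρ S) : ρ g x = x := by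
  induction hg using Subgroup.closure_induction with
  | mem t ht => exact hx t ht
  | one => simp
  | mul a b _ _ ha hb => rw [map_mul, equiv_mul_apply, hb, ha]
  | inv a _ ha =>
    conv_lhs => rw [← ha]
    rw [← equiv_mul_apply, ← map_mul, inv_mul_cancel, map_one]
    rfl

/-- `S` induces a classical group on the summand `W` and fixes `C`. -/
def IsBlock (ρ : G →* (V ≃ₗ[ZMod p] V)) (S : Set G) (W C : Submodule (ZMod p) V) : Prop :=
  IsCompl W C ∧ W ≤ moved ρ S ∧ C ≤ fixSp ρ S ∧
    ∃ r : ↥(Subgroup.closure S) →* (↥W ≃ₗ[ZMod p] ↥W),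
      (∀ h x, ((r h x : ↥W) : V) = ρ h (x : V)) ∧ Classical r.range

variable [FiniteDimensional (ZMod p) V] {W C : Submodule (ZMod p) V}

omit [FiniteDimensional (ZMod p) V] in
lemma IsBlock.exists_decomp (h : IsBlock ρ S W C) (x : V) : ∃ w ∈ W, ∃ c ∈ C, w + c = x :=
  Submodule.mem_sup.1 (h.1.sup_eq_top ▸ Submodule.mem_top)

omit [FiniteDimensional (ZMod p) V] in
lemma IsBlock.apply_mem (h : IsBlock ρ S W C) {g : G} (hg : g ∈ Subgroup.closure S) {w : V} (hw : w ∈ W) :
    ρ g w ∈ W := by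
  obtain ⟨r, hr, -⟩ := h.2.2.2
  exact hr ⟨g, hg⟩ ⟨w, hw⟩ ▸ Subtype.mem _

omit [FiniteDimensional (ZMod p) V] in
lemma IsBlock.sub_mem (h : IsBlock ρ S W C) {g : G} (hg : g ∈ Subgroup.closure S) (x : V) : ρ g x - x ∈ W := by
  obtain ⟨w, hw, c, hc, rfl⟩ := h.exists_decomp x
  rw [map_add, fix_of_mem hg (h.2.2.1 hc), add_sub_add_right_eq_sub]
  exact W.sub_mem (h.apply_mem hg hw) hw

omit [FiniteDimensional (ZMod p) V] in
lemma IsBlock.moved_eq (h : IsBlock ρ S W C) : moved ρ S = W :=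
  le_antisymm (Submodule.span_le.2 fun _ ⟨_, ht, x, e⟩ => e ▸ h.sub_mem (Subgroup.subset_closure ht) x) h.2.1

lemma IsBlock.fix_inter (h : IsBlock ρ S W C) {x : V} (hW : x ∈ W) (hx : x ∈ fixSp ρ S) : x = 0 := by
  obtain ⟨r, hr, hcl⟩ := h.2.2.2
  have h0 : (⟨x, hW⟩ : ↥W) = 0 := hcl.no_fixed (by
    rintro _ ⟨g, rfl⟩
    exact Subtype.ext ((hr g ⟨x, hW⟩).trans (fix_of_mem g.2 hx)))
  exact congrArg Subtype.val h0

lemma IsBlock.fix_eq (h : IsBlock ρ S W C) : fixSp ρ S = C := by
  refine le_antisymm (fun x hx => ?_) h.2.2.1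
  obtain ⟨w, hw, c, hc, rfl⟩ := h.exists_decomp x
  have := h.fix_inter hw (by simpa using (fixSp ρ S).sub_mem hx (h.2.2.1 hc))
  rw [this, zero_add]
  exact hc

omit [FiniteDimensional (ZMod p) V] in
lemma image_range_eq {G' : Type*} [Group G'] (f : G →* G') (S : Set G) :
    Subgroup.closure (f '' S) = (Subgroup.closure S).map f := (MonoidHom.map_closure f S).symm

omit [FiniteDimensional (ZMod p) V] in
/-- Blocks are preserved by an injective change of group. -/
lemma IsBlock.map_hom {G' : Type*} [Group G'] {f : G →* G'} (hf : Function.Injective f)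
    {σ : G' →* (V ≃ₗ[ZMod p] V)} (h : IsBlock (σ.comp f) S W C) : IsBlock σ (f '' S) W C := by
  obtain ⟨h1, h2, h3, r, hr, hcl⟩ := h
  refine ⟨h1, h2.trans (Submodule.span_mono ?_), fun x hx => ?_, ?_⟩
  · rintro _ ⟨t, ht, x, rfl⟩
    exact ⟨f t, ⟨t, ht, rfl⟩, x, rfl⟩
  · rintro _ ⟨t, ht, rfl⟩
    exact h3 hx t ht
  · let e : ↥(Subgroup.closure S) ≃* ↥(Subgroup.closure (f '' S)) :=
      ((Subgroup.closure S).equivMapOfInjective f hf).trans (MulEquiv.subgroupCongr (image_range_eq f S).symm)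
    refine ⟨r.comp e.symm.toMonoidHom, fun g x => ?_, ?_⟩
    · obtain ⟨g, rfl⟩ := e.surjective g
      simp only [MonoidHom.comp_apply, MulEquiv.coe_toMonoidHom, MulEquiv.symm_apply_apply]
      exact hr g x
    · rw [MonoidHom.range_comp, MonoidHom.range_eq_top.2 e.symm.surjective, ← MonoidHom.range_eq_map]
      exact hcl

variable {V' : Type*} [AddCommGroup V'] [Module (ZMod p) V'] [FiniteDimensional (ZMod p) V']
  {a : G →* (V' ≃ₗ[ZMod p] V')} {W' C' : Submodule (ZMod p) V'}

/-- A bound for the support of a lifted block. -/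
lemma exists_bound (hp : 3 ≤ p) (hinj : ∀ g ∈ Subgroup.closure S, ρ g = 1 → g = 1)
    (hfaith : ∀ g ∈ Subgroup.closure S, a g = 1 → g = 1)
    (hT : ∀ t ∈ S, IsTv (ρ t)) (hT' : ∀ t ∈ S, IsTv (a t)) (blk : IsBlock a S W' C')
    (hneg : ∀ z ∈ Subgroup.closure S, (∀ w ∈ W', a z w = -w) → (∀ c ∈ C', a z c = c) →
      (∀ t ∈ S, Commute z t) →
      Module.finrank (ZMod p) ↥(LinearMap.ker ((ρ z : V →ₗ[ZMod p] V) + LinearMap.id)) ≤ Module.finrank (ZMod p) ↥W' ∧
      ∀ t ∈ S, ∀ x, ρ z (ρ t x - x) = -(ρ t x - x)) :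
    Module.finrank (ZMod p) ↥(moved ρ S) ≤ Module.finrank (ZMod p) ↥W' ∧
      Module.finrank (ZMod p) V ≤ Module.finrank (ZMod p) ↥W' + Module.finrank (ZMod p) ↥(fixSp ρ S) := by
  classical
  obtain ⟨r, hr, hcl⟩ := blk.2.2.2
  have hrinj : ∀ g : ↥(Subgroup.closure S), r g = 1 → g = 1 := by
    intro g hg
    refine Subtype.ext (hfaith g g.2 (LinearEquiv.ext fun x => ?_))
    obtain ⟨w, hw, c, hc, rfl⟩ := blk.exists_decomp x
    rw [map_add, fix_of_mem g.2 (blk.2.2.1 hc)]
    have := hr g ⟨w, hw⟩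
    rw [hg] at this
    rw [← this]
    rfl
  rcases hcl.neg_or_gens hp with ⟨z, hz⟩ | hgens
  · -- the central involution
    have hz1 : ∀ w ∈ W', a z w = -w := fun w hw => by
      have := hr z ⟨w, hw⟩
      rw [hz] at this
      simpa using this.symm
    have hz2 : ∀ c ∈ C', a z c = c := fun c hc => fix_of_mem z.2 (blk.2.2.1 hc)
    have hneg1 : ∀ x, (LinearEquiv.neg (ZMod p) : ↥W' ≃ₗ[ZMod p] ↥W') x = -x := fun x => rfl
    have hcomm : ∀ t ∈ S, Commute (z : G) t := by
      intro t ht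
      have h1 : r (z * ⟨t, Subgroup.subset_closure ht⟩ * z⁻¹ * ⟨t, Subgroup.subset_closure ht⟩⁻¹) = 1 := by
        refine LinearEquiv.ext fun x => ?_
        simp only [map_mul, map_inv, hz, equiv_mul_apply]
        have hinv : ((LinearEquiv.neg (ZMod p) : ↥W' ≃ₗ[ZMod p] ↥W'))⁻¹ = LinearEquiv.neg (ZMod p) :=
          inv_eq_of_mul_eq_one_right (LinearEquiv.ext fun y => by simp [equiv_mul_apply, hneg1])
        rw [hinv, hneg1, hneg1, map_neg, neg_neg, ← equiv_mul_apply, mul_inv_cancel]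
      have h2 := congrArg Subtype.val (hrinj _ h1)
      simp only [Subgroup.coe_mul, Subgroup.coe_inv, Subgroup.coe_one] at h2
      exact mul_inv_eq_iff_eq_mul.1 (mul_inv_eq_one.1 h2)
    obtain ⟨hdim, hanti⟩ := hneg z z.2 hz1 hz2 hcomm
    have hsq : ∀ x, ρ z (ρ z x) = x := by
      intro x
      have h1 : r (z * z) = 1 := by
        refine LinearEquiv.ext fun y => ?_
        simp [map_mul, hz, equiv_mul_apply, hneg1]
      have h2 := congrArg Subtype.val (hrinj _ h1)
      simp only [Subgroup.coe_mul, Subgroup.coe_one] at h2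
      rw [← equiv_mul_apply, ← map_mul, h2, map_one]
      rfl
    set Vm := LinearMap.ker ((ρ z : V →ₗ[ZMod p] V) + LinearMap.id) with hVm
    set Vp := LinearMap.ker ((ρ z : V →ₗ[ZMod p] V) - LinearMap.id) with hVp
    have h2ne : (2 : ZMod p) ≠ 0 := by
      intro h
      have h' : ((2 : ℕ) : ZMod p) = 0 := by exact_mod_cast h
      rw [ZMod.natCast_eq_zero_iff] at h'
      have := Nat.le_of_dvd (by norm_num) h'
      omega
    have hsup : Vm ⊔ Vp = ⊤ := by
      refine eq_top_iff.2 fun x _ => Submodule.mem_sup.2 ⟨(2 : ZMod p)⁻¹ • (x - ρ z x), ?_, (2 : ZMod p)⁻¹ • (x + ρ z x), ?_, ?_⟩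
      · rw [hVm, LinearMap.mem_ker]
        simp only [LinearMap.add_apply, LinearEquiv.coe_coe, LinearMap.id_apply, map_smul, map_sub, hsq]
        module
      · rw [hVp, LinearMap.mem_ker]
        simp only [LinearMap.sub_apply, LinearEquiv.coe_coe, LinearMap.id_apply, map_smul, map_add, hsq]
        module
      · match_scalars <;> field_simp <;> norm_num
    have hm : moved ρ S ≤ Vm := Submodule.span_le.2 fun _ ⟨t, ht, x, e⟩ => by
      subst e
      show _ ∈ LinearMap.ker _
      rw [LinearMap.mem_ker]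
      simp only [LinearMap.add_apply, LinearEquiv.coe_coe, LinearMap.id_apply, hanti t ht x, neg_add_cancel]
    have hp' : Vp ≤ fixSp ρ S := by
      intro x hx t ht
      rw [hVp, LinearMap.mem_ker, LinearMap.sub_apply, LinearEquiv.coe_coe, LinearMap.id_apply, sub_eq_zero] at hx
      have h1 := hanti t ht x
      rw [map_sub, hx, ← equiv_mul_apply, ← map_mul, (hcomm t ht).eq, map_mul, equiv_mul_apply, hx] at h1
      have h3 : (2 : ZMod p) • (ρ t x - x) = 0 := by rw [two_smul]; exact eq_neg_iff_add_eq_zero.1 h1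
      exact sub_eq_zero.1 ((smul_eq_zero.1 h3).resolve_left h2ne)
    have h4 := Submodule.finrank_add_le_finrank_add_finrank Vm Vp
    rw [hsup, finrank_top] at h4
    exact ⟨(Submodule.finrank_mono hm).trans hdim,
      h4.trans (Nat.add_le_add hdim (Submodule.finrank_mono hp'))⟩
  · -- generation by conjugates of one transvection
    rcases S.eq_empty_or_nonempty with rfl | ⟨t, ht⟩
    · have h1 : moved ρ (∅ : Set G) = ⊥ := Submodule.span_eq_bot.2 (by rintro _ ⟨t, ht, -⟩; exact absurd ht (Set.notMem_empty t))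
      have h2 : fixSp ρ (∅ : Set G) = ⊤ := eq_top_iff.2 fun x _ t ht => absurd ht (Set.notMem_empty t)
      rw [h1, h2, finrank_bot, finrank_top]
      exact ⟨Nat.zero_le _, Nat.le_add_left _ _⟩
    have hrt : IsTv (r ⟨t, Subgroup.subset_closure ht⟩) := by
      obtain ⟨φ, v, hφ, hφ0, hv, e⟩ := hT' t ht
      obtain ⟨x, hx⟩ : ∃ x, φ x ≠ 0 := by
        by_contra h
        push Not at h
        exact hφ0 (LinearMap.ext h)
      have hvW : v ∈ W' := by
        have := W'.smul_mem (φ x)⁻¹ (blk.sub_mem (Subgroup.subset_closure ht) x)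
        rwa [e, trv_apply hφ, add_sub_cancel_left, smul_smul, inv_mul_cancel₀ hx, one_smul] at this
      obtain ⟨w, hw, c, hc, rfl⟩ := blk.exists_decomp x
      have hc0 : φ c = 0 := by
        have := blk.2.2.1 hc t ht
        rw [e, trv_apply hφ, add_eq_left] at this
        exact (smul_eq_zero.1 this).resolve_right hv
      refine ⟨φ.comp W'.subtype, ⟨v, hvW⟩, hφ, fun h0 => hx ?_, fun h0 => hv (congrArg Subtype.val h0),
        LinearEquiv.ext fun y => Subtype.ext ?_⟩
      · rw [map_add, hc0, add_zero]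
        exact LinearMap.congr_fun h0 ⟨w, hw⟩
      · rw [hr, trv_apply (φ := φ.comp W'.subtype) (v := ⟨v, hvW⟩) hφ]
        show a t (y : V') = _
        rw [e, trv_apply hφ]
        rfl
    obtain ⟨g, hg, hclos⟩ := hgens _ ⟨_, rfl⟩ hrt
    choose k hk using hg
    let s : Fin (Module.finrank (ZMod p) ↥W') → G := fun i => (k i : G) * t * (k i : G)⁻¹
    have hs : ∀ i, IsTv (ρ (s i)) := by
      intro i
      obtain ⟨φ, v, hφ, hφ0, hv, e⟩ := hT t ht
      simp only [s, map_mul, map_inv, e]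
      rw [trv_conj _ hφ]
      refine isTv_trv (by simp [hφ]) (fun h0 => hφ0 (LinearMap.ext fun x => ?_)) (by simpa using hv)
      simpa using LinearMap.congr_fun h0 (ρ (k i) x)
    -- the lifts generate
    have hgen : ∀ h ∈ Subgroup.closure S, h ∈ Subgroup.closure (Set.range s) := by
      intro h hh
      let kt : Fin (Module.finrank (ZMod p) ↥W') → ↥(Subgroup.closure S) :=
        fun i => k i * ⟨t, Subgroup.subset_closure ht⟩ * (k i)⁻¹
      have h1 : r ⟨h, hh⟩ ∈ (Subgroup.closure (Set.range kt)).map r := by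
        rw [MonoidHom.map_closure, ← Set.range_comp]
        have e : r ∘ kt = fun i => g i * r ⟨t, Subgroup.subset_closure ht⟩ * (g i)⁻¹ := by
          funext i
          simp [kt, hk i]
        rw [e, hclos]
        exact ⟨_, rfl⟩
      obtain ⟨h', hh', eh⟩ := h1
      have e' : h' = ⟨h, hh⟩ := mul_inv_eq_one.1 (hrinj _ (by rw [map_mul, map_inv, eh, mul_inv_cancel]))
      subst e'
      have h2 := Subgroup.mem_map_of_mem (Subgroup.closure S).subtype hh'
      rw [MonoidHom.map_closure, ← Set.range_comp] at h2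
      exact h2
    choose φ v hφ hφ0 hv hsv using hs
    have hmW : moved ρ S ≤ Submodule.span (ZMod p) (Set.range v) := by
      refine le_trans (Submodule.span_le.2 ?_) (show moved ρ (Set.range s) ≤ _ from Submodule.span_le.2 ?_)
      · rintro _ ⟨u, hu, x, rfl⟩
        exact mem_moved (hgen u (Subgroup.subset_closure hu)) x
      · rintro _ ⟨_, ⟨i, rfl⟩, x, rfl⟩
        rw [hsv i, trv_apply (hφ i), add_sub_cancel_left]
        exact Submodule.smul_mem _ _ (Submodule.subset_span ⟨i, rfl⟩)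
    have hker : LinearMap.ker (LinearMap.pi φ) ≤ fixSp ρ S := by
      intro x hx u hu
      refine fix_of_mem (hgen u (Subgroup.subset_closure hu)) ?_
      rintro _ ⟨i, rfl⟩
      have h0 : φ i x = 0 := congrFun (LinearMap.mem_ker.1 hx) i
      rw [hsv i, trv_apply (hφ i), h0, zero_smul, add_zero]
    have h1 := finrank_range_le_card (R := ZMod p) v
    rw [Fintype.card_fin, Set.finrank] at h1
    refine ⟨(Submodule.finrank_mono hmW).trans h1, ?_⟩
    have h2 := LinearMap.finrank_range_add_finrank_ker (LinearMap.pi φ)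
    have h3 := Submodule.finrank_le (LinearMap.range (LinearMap.pi φ))
    rw [Module.finrank_pi, Fintype.card_fin] at h3
    have h4 := Submodule.finrank_mono hker
    omega

/-- A block acting on the space `moved ρ S`. -/
lemma isBlock_of_equiv (blk : IsBlock a S W' C') (e : ↥(moved ρ S) ≃ₗ[ZMod p] ↥W')
    (he : ∀ g ∈ Subgroup.closure S, ∀ x : ↥(moved ρ S), ∀ hx : ρ g x ∈ moved ρ S,
      (e ⟨ρ g x, hx⟩ : V') = a g (e x))
    (hdim : Module.finrank (ZMod p) V ≤ Module.finrank (ZMod p) ↥(moved ρ S) + Module.finrank (ZMod p) ↥(fixSp ρ S))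
    (hdisj : ∀ x ∈ moved ρ S, x ∈ fixSp ρ S → x = 0) :
    IsBlock ρ S (moved ρ S) (fixSp ρ S) := by
  obtain ⟨r, hr, hcl⟩ := blk.2.2.2
  have hd : Disjoint (moved ρ S) (fixSp ρ S) := Submodule.disjoint_def.2 hdisj
  refine ⟨⟨hd, ?_⟩, le_rfl, le_rfl, ?_⟩
  · rw [codisjoint_iff]
    refine Submodule.eq_top_of_finrank_eq (le_antisymm (Submodule.finrank_le _) ?_)
    have h2 := Submodule.finrank_sup_add_finrank_inf_eq (moved ρ S) (fixSp ρ S)
    rw [hd.eq_bot, finrank_bot] at h2
    omega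
  · refine ⟨(eConj e.symm).comp r, fun g x => ?_, ?_⟩
    · have hx : ρ g x ∈ moved ρ S := by
        have := (moved ρ S).add_mem (mem_moved (ρ := ρ) g.2 (x : V)) x.2
        simpa using this
      have key : e ⟨ρ g x, hx⟩ = r g (e x) := Subtype.ext ((he g g.2 x hx).trans (hr g (e x)).symm)
      rw [MonoidHom.comp_apply, eConj_apply, LinearEquiv.symm_symm, ← key, LinearEquiv.symm_apply_apply]
    · rw [MonoidHom.range_comp]
      exact hcl.congr e.symm

/-- Lifting a block from an invariant subspace containing all points. -/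
theorem block_lift_sub (hp : 3 ≤ p) {U : Submodule (ZMod p) V} {a : G →* (↥U ≃ₗ[ZMod p] ↥U)}
    (ha : ∀ g x, ((a g x : ↥U) : V) = ρ g (x : V))
    (hinj : ∀ g ∈ Subgroup.closure S, ρ g = 1 → g = 1)
    (hfaith : ∀ g ∈ Subgroup.closure S, a g = 1 → g = 1)
    (hT : ∀ t ∈ S, IsTv (ρ t)) (hT' : ∀ t ∈ S, IsTv (a t))
    (hU : ∀ t ∈ S, ∀ x, ρ t x - x ∈ U)
    {W' C' : Submodule (ZMod p) ↥U} (blk : IsBlock a S W' C') :
    IsBlock ρ S (moved ρ S) (fixSp ρ S) ∧ moved ρ S = W'.map U.subtype := by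
  have hmU : moved ρ S ≤ U := Submodule.span_le.2 fun _ ⟨t, ht, x, e⟩ => e ▸ hU t ht x
  have hle : W'.map U.subtype ≤ moved ρ S := by
    rw [← blk.moved_eq, moved, Submodule.map_span_le]
    rintro _ ⟨t, ht, x, rfl⟩
    rw [Submodule.subtype_apply, AddSubgroupClass.coe_sub, ha]
    exact Submodule.subset_span ⟨t, ht, x, rfl⟩
  have hdimW := Submodule.finrank_map_subtype_eq U W'
  obtain ⟨hb1, hb2⟩ := exists_bound hp hinj hfaith hT hT' blk (fun z hz hz1 hz2 hcomm => by
    have hzU : ∀ x, ρ z x - x ∈ U := fun x => hmU (mem_moved hz x)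
    refine ⟨?_, fun t ht x => ?_⟩
    · rw [← hdimW]
      refine Submodule.finrank_mono fun x hx => ?_
      rw [LinearMap.mem_ker, LinearMap.add_apply, LinearEquiv.coe_coe, LinearMap.id_apply,
        add_eq_zero_iff_eq_neg] at hx
      have h2 : (2 : ZMod p) ≠ 0 := by
        intro h
        have h' : ((2 : ℕ) : ZMod p) = 0 := by exact_mod_cast h
        rw [ZMod.natCast_eq_zero_iff] at h'
        have := Nat.le_of_dvd (by norm_num) h'
        omega
      have hxU : x ∈ U := by
        have h := hzU x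
        rw [hx, show -x - x = (-2 : ZMod p) • x by module] at h
        simpa [smul_smul, h2] using U.smul_mem (-2 : ZMod p)⁻¹ h
      obtain ⟨w, hw, c, hc, e⟩ := blk.exists_decomp (⟨x, hxU⟩ : ↥U)
      have h3 : a z (⟨x, hxU⟩ : ↥U) = -⟨x, hxU⟩ := Subtype.ext (by rw [ha]; exact hx)
      rw [← e, map_add, hz1 w hw, hz2 c hc, neg_add] at h3
      have h4 : (2 : ZMod p) • c = 0 := by
        rw [two_smul]
        exact eq_neg_iff_add_eq_zero.1 (add_left_cancel h3)
      rw [(smul_eq_zero.1 h4).resolve_left h2, add_zero] at e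
      exact ⟨w, hw, congrArg Subtype.val e⟩
    · have hy : (⟨ρ t x - x, hU t ht x⟩ : ↥U) ∈ W' := by
        obtain ⟨φ, v, hφ, hφ0, hv, e⟩ := hT t ht
        obtain ⟨φ', v', hφ', hφ'0, hv', e'⟩ := hT' t ht
        obtain ⟨u, hu⟩ : ∃ u, φ' u ≠ 0 := by
          by_contra h
          push Not at h
          exact hφ'0 (LinearMap.ext h)
        have h1 := blk.sub_mem (Subgroup.subset_closure ht) u
        have h2 : ((a t u - u : ↥U) : V) = φ (u : V) • v := by
          rw [AddSubgroupClass.coe_sub, ha, e, trv_apply hφ, add_sub_cancel_left]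
        have h3 : φ (u : V) ≠ 0 := by
          intro h0
          rw [h0, zero_smul] at h2
          have h4 : a t u - u = 0 := Subtype.ext h2
          rw [e', trv_apply hφ', add_sub_cancel_left, smul_eq_zero] at h4
          tauto
        have h5 := W'.smul_mem (φ x * (φ (u : V))⁻¹) h1
        have e6 : (φ x * (φ (u : V))⁻¹) • (a t u - u) = ⟨ρ t x - x, hU t ht x⟩ := Subtype.ext (by
          rw [Submodule.coe_smul, h2, smul_smul, mul_assoc, inv_mul_cancel₀ h3, mul_one]
          show _ = ρ t x - x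
          rw [e, trv_apply hφ, add_sub_cancel_left])
        exact e6 ▸ h5
      have := congrArg Subtype.val (hz1 _ hy)
      rw [ha] at this
      exact this)
  have heq : moved ρ S = W'.map U.subtype := (Submodule.eq_of_le_of_finrank_le hle (by omega)).symm
  refine ⟨?_, heq⟩
  let e : ↥(moved ρ S) ≃ₗ[ZMod p] ↥W' :=
    (LinearEquiv.ofEq _ _ heq).trans (Submodule.equivMapOfInjective U.subtype Subtype.val_injective W').symm
  have hval : ∀ x : ↥(moved ρ S), ((e x : ↥U) : V) = x := by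
    intro x
    have h := (Submodule.equivMapOfInjective U.subtype Subtype.val_injective W').apply_symm_apply
      (LinearEquiv.ofEq _ _ heq x)
    have h' := congrArg Subtype.val h
    exact h'
  refine isBlock_of_equiv blk e (fun g hg x hx => ?_) ?_ ?_
  · refine Subtype.ext ?_
    rw [hval, ha, hval]
  · rw [e.finrank_eq]
    exact hb2
  · intro x hx hfix
    rw [heq] at hx
    obtain ⟨w, hw, rfl⟩ := hx
    have h0 : w = 0 := blk.fix_inter hw (fun t ht => Subtype.ext (by rw [ha]; exact hfix t ht))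
    rw [h0, map_zero]

/-- Lifting a block from a quotient by a subspace fixed pointwise. -/
theorem block_lift_quot (hp : 3 ≤ p) {U : Submodule (ZMod p) V} {b : G →* ((V ⧸ U) ≃ₗ[ZMod p] (V ⧸ U))}
    (hb : ∀ g x, b g (U.mkQ x) = U.mkQ (ρ g x))
    (hinj : ∀ g ∈ Subgroup.closure S, ρ g = 1 → g = 1)
    (hfaith : ∀ g ∈ Subgroup.closure S, b g = 1 → g = 1)
    (hT : ∀ t ∈ S, IsTv (ρ t)) (hT' : ∀ t ∈ S, IsTv (b t))
    (hU : ∀ t ∈ S, ∀ x ∈ U, ρ t x = x)
    {W' C' : Submodule (ZMod p) (V ⧸ U)} (blk : IsBlock b S W' C') :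
    IsBlock ρ S (moved ρ S) (fixSp ρ S) ∧ (moved ρ S).map U.mkQ = W' ∧
      ∀ x ∈ moved ρ S, x ∈ U → x = 0 := by
  have hUfix : U ≤ fixSp ρ S := fun x hx t ht => hU t ht x hx
  have hmap : (moved ρ S).map U.mkQ = W' := by
    rw [← blk.moved_eq]
    simp only [moved, Submodule.map_span]
    congr 1
    ext y
    constructor
    · rintro ⟨_, ⟨t, ht, x, rfl⟩, rfl⟩
      exact ⟨t, ht, U.mkQ x, by rw [hb, map_sub]⟩
    · rintro ⟨t, ht, x, rfl⟩
      obtain ⟨x, rfl⟩ := U.mkQ_surjective x
      exact ⟨_, ⟨t, ht, x, rfl⟩, by rw [hb, map_sub]⟩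
  have h2 : (2 : ZMod p) ≠ 0 := by
    intro h
    have h' : ((2 : ℕ) : ZMod p) = 0 := by exact_mod_cast h
    rw [ZMod.natCast_eq_zero_iff] at h'
    have := Nat.le_of_dvd (by norm_num) h'
    omega
  obtain ⟨hb1, hb2⟩ := exists_bound hp hinj hfaith hT hT' blk (fun z hz hz1 hz2 hcomm => by
    refine ⟨?_, fun t ht x => ?_⟩
    · set Vm := LinearMap.ker ((ρ z : V →ₗ[ZMod p] V) + LinearMap.id) with hVm
      have hmem : ∀ x ∈ Vm, ρ z x = -x := fun x hx => by
        rw [hVm, LinearMap.mem_ker, LinearMap.add_apply, LinearEquiv.coe_coe, LinearMap.id_apply,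
          add_eq_zero_iff_eq_neg] at hx
        exact hx
      have hmemW : ∀ x : ↥Vm, U.mkQ x ∈ W' := by
        intro x
        obtain ⟨w, hw, c, hc, e⟩ := blk.exists_decomp (U.mkQ x)
        have h3 : b z (U.mkQ x) = -U.mkQ x := by rw [hb, hmem x x.2, map_neg]
        rw [← e, map_add, hz1 w hw, hz2 c hc, neg_add] at h3
        have h4 : (2 : ZMod p) • c = 0 := by
          rw [two_smul]
          exact eq_neg_iff_add_eq_zero.1 (add_left_cancel h3)
        rw [(smul_eq_zero.1 h4).resolve_left h2, add_zero] at e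
        exact e ▸ hw
      refine LinearMap.finrank_le_finrank_of_injective
        (f := (U.mkQ.comp Vm.subtype).codRestrict W' hmemW) (fun x y hxy => Subtype.ext ?_)
      have hd : ((x - y : ↥Vm) : V) ∈ U := by
        exact (Submodule.Quotient.eq U).1 (congrArg Subtype.val hxy)
      have h4 := hmem _ (x - y).2
      rw [fix_of_mem hz (hUfix hd)] at h4
      have h5 : (2 : ZMod p) • ((x - y : ↥Vm) : V) = 0 := by
        rw [two_smul]; exact eq_neg_iff_add_eq_zero.1 h4
      have h6 := (smul_eq_zero.1 h5).resolve_left h2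
      rwa [AddSubgroupClass.coe_sub, sub_eq_zero] at h6
    · obtain ⟨φ, v, hφ, hφ0, hv, e⟩ := hT t ht
      obtain ⟨φ', v', hφ', hφ'0, hv', e'⟩ := hT' t ht
      obtain ⟨u', hu'⟩ : ∃ u, φ' u ≠ 0 := by
        by_contra h
        push Not at h
        exact hφ'0 (LinearMap.ext h)
      obtain ⟨u, rfl⟩ := U.mkQ_surjective u'
      have h1 : U.mkQ (ρ t u - u) = φ u • U.mkQ v := by
        rw [e, trv_apply hφ, add_sub_cancel_left, map_smul]
      have h1' : U.mkQ (ρ t u - u) ≠ 0 := by
        rw [map_sub, ← hb, e', trv_apply hφ', add_sub_cancel_left]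
        exact smul_ne_zero hu' hv'
      have hvU : U.mkQ v ≠ 0 := fun h0 => h1' (by rw [h1, h0, smul_zero])
      -- the point is an eigenvector of `z`
      obtain ⟨x₀, hx₀⟩ : ∃ x₀, φ x₀ = 1 := by
        obtain ⟨y, hy⟩ : ∃ y, φ y ≠ 0 := by
          by_contra h
          push Not at h
          exact hφ0 (LinearMap.ext h)
        exact ⟨(φ y)⁻¹ • y, by simp [hy]⟩
      have hzv : ρ z v = φ (ρ z x₀) • v := by
        have h3 : ρ z (ρ t x₀) = ρ t (ρ z x₀) := by
          rw [← equiv_mul_apply, ← map_mul, (hcomm t ht).eq, map_mul, equiv_mul_apply]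
        rw [e, trv_apply hφ, trv_apply hφ, hx₀, one_smul, map_add] at h3
        exact add_left_cancel h3
      have hW : U.mkQ v ∈ W' := by
        rw [← hmap]
        refine Submodule.mem_map_of_mem ?_
        have h5 : ρ t x₀ - x₀ ∈ moved ρ S := Submodule.subset_span ⟨t, ht, x₀, rfl⟩
        rwa [e, trv_apply hφ, add_sub_cancel_left, hx₀, one_smul] at h5
      have h4 := hz1 _ hW
      rw [hb, hzv, map_smul, ← neg_one_smul (ZMod p) (U.mkQ v)] at h4
      rw [e, trv_apply hφ, add_sub_cancel_left, map_smul, hzv, smul_left_injective (ZMod p) hvU h4,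
        neg_one_smul, smul_neg])
  have hWdim : Module.finrank (ZMod p) ↥W' ≤ Module.finrank (ZMod p) ↥(moved ρ S) := by
    rw [← hmap]
    exact Submodule.finrank_map_le _ _
  set m := (U.mkQ.comp (moved ρ S).subtype).codRestrict W' (fun x => hmap ▸ Submodule.mem_map_of_mem x.2) with hm
  have hmsurj : Function.Surjective m := by
    rintro ⟨y, hy⟩
    rw [← hmap] at hy
    obtain ⟨x, hx, rfl⟩ := hy
    exact ⟨⟨x, hx⟩, rfl⟩
  have hminj : Function.Injective m :=
    (LinearMap.injective_iff_surjective_of_finrank_eq_finrank (le_antisymm hb1 hWdim)).2 hmsurj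
  have hU0 : ∀ x ∈ moved ρ S, x ∈ U → x = 0 := by
    intro x hx hxU
    have : m ⟨x, hx⟩ = m 0 := Subtype.ext (by simpa [hm] using hxU)
    exact congrArg Subtype.val (hminj this)
  refine ⟨?_, hmap, hU0⟩
  refine isBlock_of_equiv blk (LinearEquiv.ofBijective m ⟨hminj, hmsurj⟩) (fun g hg x hx => ?_) ?_ ?_
  · show U.mkQ (ρ g x) = b g (U.mkQ x)
    rw [hb]
  · omega
  · intro x hx hfix
    refine hU0 x hx ?_
    have h0 : U.mkQ x = 0 := blk.fix_inter (hmap ▸ Submodule.mem_map_of_mem hx)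
      (fun t ht => by rw [hb, hfix t ht])
    simpa using h0

end Cfsg.Agent.H88
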