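/-
Groups generated by transvections without nontrivial normal `p`-subgroups split into classical blocks.
-/
import Cfsg.Agent.H88.TBlock
set_option autoImplicit false
set_option maxHeartbeats 1000000

namespace Cfsg.Agent.H88

open Module (Dual)
open scoped commutatorElement
universe u v

variable {p : ℕ} [Fact p.Prime]

/-- A decomposition into blocks. -/
def Decomp {G : Type u} [Group G] {V : Type v} [AddCommGroup V] [Module (ZMod p) V]
    (ρ : G →* (V ≃ₗ[ZMod p] V)) (T : Set G) : Prop :=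
  ∃ (ι : Type) (_ : Fintype ι) (W C : ι → Submodule (ZMod p) V) (S : ι → Set G),
    (⋃ j, S j) = T ∧ (∀ j, IsBlock ρ (S j) (W j) (C j)) ∧
      ∀ i j, i ≠ j → ∀ t ∈ S j, ∀ x ∈ W i, ρ t x = x

lemma commute_of_cross {G : Type u} [Group G] {V : Type v} [AddCommGroup V] [Module (ZMod p) V]
    [FiniteDimensional (ZMod p) V] {ρ : G →* (V ≃ₗ[ZMod p] V)} (hinj : Function.Injective ρ)
    {S S' : Set G} {W C W' C' : Submodule (ZMod p) V} (h : IsBlock ρ S W C) (h' : IsBlock ρ S' W' C')
    (hc : ∀ s ∈ S, ∀ x ∈ W', ρ s x = x) (hc' : ∀ t ∈ S', ∀ x ∈ W, ρ t x = x) {s t : G}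
    (hs : s ∈ S) (ht : t ∈ S') : Commute s t := by
  refine hinj (LinearEquiv.ext fun x => ?_)
  rw [map_mul, map_mul, equiv_mul_apply, equiv_mul_apply]
  obtain ⟨w, hw, c, hcc, rfl⟩ := h.exists_decomp x
  have hfix : ∀ y ∈ fixSp ρ S, ρ s y = y := fun y hy => hy s hs
  have h1 : ρ t c ∈ fixSp ρ S := by
    have hd : ρ t c - c ∈ fixSp ρ S := fun a ha =>
      hc a ha _ (h'.sub_mem (Subgroup.subset_closure ht) c)
    simpa using (fixSp ρ S).add_mem hd (h.2.2.1 hcc)
  rw [map_add, hc' t ht w hw, map_add, hfix _ h1, map_add, hfix c (h.2.2.1 hcc), map_add,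
    hc' t ht _ (h.apply_mem (Subgroup.subset_closure hs) hw)]

lemma trv_map {F : Type*} [Field F] {V W : Type*} [AddCommGroup V] [Module F V] [AddCommGroup W] [Module F W]
    {t : V ≃ₗ[F] V} {φ : Dual F V} {v : V} (hφ : φ v = 0) (e : t = trv φ v) {s : W ≃ₗ[F] W} {ψ : Dual F W} {w : W}
    (hψ : ψ w = 0) (h : ∀ x, s x = x + ψ x • w) : s = trv ψ w :=
  LinearEquiv.ext fun x => by rw [trv_apply hψ, h]

/-- The decomposition theorem. -/
theorem decomp (hp : 3 ≤ p) : ∀ (n : ℕ) {G : Type u} [Group G] {V : Type v} [AddCommGroup V] [Module (ZMod p) V]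
    [FiniteDimensional (ZMod p) V], Module.finrank (ZMod p) V = n →
    ∀ (ρ : G →* (V ≃ₗ[ZMod p] V)), Function.Injective ρ → ∀ (T : Set G), Subgroup.closure T = ⊤ →
    (∀ t ∈ T, IsTv (ρ t)) → (∀ N : Subgroup G, N.Normal → IsPGroup p N → N = ⊥) → Decomp ρ T := by
  intro n
  induction n using Nat.strong_induction_on with
  | _ n IH =>
  intro G _ V _ _ _ hn ρ hρ T hgen hT hOp
  classical
  rcases T.eq_empty_or_nonempty with rfl | ⟨t₀, ht₀⟩
  · exact ⟨Fin 0, inferInstance, finZeroElim, finZeroElim, finZeroElim, by simp, finZeroElim, finZeroElim⟩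
  by_cases hirr : Irr (ρ '' T)
  · -- irreducible
    set H := Subgroup.closure (ρ '' T)
    have hcl : Classical H := classical_of_irr hp rfl (by rintro _ ⟨t, ht, rfl⟩; exact hT t ht) hirr ⟨_, t₀, ht₀, rfl⟩
    have hrange : ρ.range = H := by
      rw [MonoidHom.range_eq_map, ← hgen, MonoidHom.map_closure]
    refine ⟨Fin 1, inferInstance, fun _ => ⊤, fun _ => ⊥, fun _ => T, Set.iUnion_const T, fun _ => ?_,
      fun i j hij => absurd (Subsingleton.elim i j) hij⟩
    refine ⟨isCompl_top_bot, ?_, bot_le, ?_⟩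
    · refine (hcl.span_moved (Y := moved ρ T) fun g hg x => ?_).ge
      rw [← hrange] at hg
      obtain ⟨g, rfl⟩ := hg
      exact mem_moved (hgen.symm ▸ Subgroup.mem_top g) x
    · let e : V ≃ₗ[ZMod p] ↥(⊤ : Submodule (ZMod p) V) := Submodule.topEquiv.symm
      refine ⟨((eConj e).comp ρ).comp (Subgroup.closure T).subtype, fun h x => rfl, ?_⟩
      have hr : (((eConj e).comp ρ).comp (Subgroup.closure T).subtype).range = H.map (eConj e) := by
        rw [MonoidHom.range_comp, Subgroup.range_subtype, hgen, ← Subgroup.map_map, ← MonoidHom.range_eq_map,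
          hrange]
      rw [hr]
      exact hcl.congr e
  -- reducible
  unfold Irr at hirr
  push Not at hirr
  obtain ⟨U, hUT, hUbot, hUtop⟩ := hirr
  have hUinv : ∀ g : G, ∀ x ∈ U, ρ g x ∈ U := by
    intro g
    have hg : g ∈ Subgroup.closure T := hgen.symm ▸ Subgroup.mem_top g
    induction hg using Subgroup.closure_induction with
    | mem t ht => exact hUT _ ⟨t, ht, rfl⟩
    | one => intro x hx; simpa using hx
    | mul a b _ _ ha hb => intro x hx; rw [map_mul, equiv_mul_apply]; exact ha _ (hb x hx)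
    | inv a _ ha =>
      intro x hx
      -- a finite dimensional invariant subspace is mapped onto itself
      let f : ↥U →ₗ[ZMod p] ↥U := (ρ a : V →ₗ[ZMod p] V).restrict ha
      have hf : Function.Injective f := fun y z h => Subtype.ext ((ρ a).injective (congrArg Subtype.val h))
      obtain ⟨y, hy⟩ := LinearMap.injective_iff_surjective.1 hf ⟨x, hx⟩
      have : ρ a (y : V) = x := congrArg Subtype.val hy
      rw [← this, ← equiv_mul_apply, ← map_mul, inv_mul_cancel, map_one]
      exact y.2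
  let aU : G →* (↥U ≃ₗ[ZMod p] ↥U) :=
    { toFun := fun g =>
        { (ρ g : V →ₗ[ZMod p] V).restrict (hUinv g) with
          invFun := (ρ g⁻¹ : V →ₗ[ZMod p] V).restrict (hUinv g⁻¹)
          left_inv := fun x => Subtype.ext (by
            show ρ g⁻¹ (ρ g (x : V)) = x
            rw [← equiv_mul_apply, ← map_mul, inv_mul_cancel, map_one]; rfl)
          right_inv := fun x => Subtype.ext (by
            show ρ g (ρ g⁻¹ (x : V)) = x
            rw [← equiv_mul_apply, ← map_mul, mul_inv_cancel, map_one]; rfl) }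
      map_one' := LinearEquiv.ext fun x => Subtype.ext (by show ρ 1 (x : V) = x; rw [map_one]; rfl)
      map_mul' := fun g h => LinearEquiv.ext fun x => Subtype.ext (by
        show ρ (g * h) (x : V) = ρ g (ρ h (x : V))
        rw [map_mul]; rfl) }
  have haU : ∀ g x, ((aU g x : ↥U) : V) = ρ g (x : V) := fun g x => rfl
  let qU : G → (V ⧸ U) →ₗ[ZMod p] (V ⧸ U) := fun g => U.mapQ U (ρ g : V →ₗ[ZMod p] V) (fun x hx => hUinv g x hx)
  let bU : G →* ((V ⧸ U) ≃ₗ[ZMod p] (V ⧸ U)) :=
    { toFun := fun g => LinearEquiv.ofLinearMap (qU g) (qU g⁻¹)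
        (by ext x; simp only [LinearMap.comp_apply, Submodule.mkQ_apply, qU, Submodule.mapQ_apply, LinearEquiv.coe_coe, LinearMap.id_apply]
            rw [← equiv_mul_apply, ← map_mul, mul_inv_cancel, map_one]; rfl)
        (by ext x; simp only [LinearMap.comp_apply, Submodule.mkQ_apply, qU, Submodule.mapQ_apply, LinearEquiv.coe_coe, LinearMap.id_apply]
            rw [← equiv_mul_apply, ← map_mul, inv_mul_cancel, map_one]; rfl)
      map_one' := LinearEquiv.toLinearMap_injective (by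
        ext x
        simp [qU])
      map_mul' := fun g h => LinearEquiv.toLinearMap_injective (by
        ext x
        simp [qU, equiv_mul_apply]) }
  have hbU : ∀ g x, bU g (U.mkQ x) = U.mkQ (ρ g x) := fun g x => rfl
  -- the common kernel is a normal `p`-subgroup
  have hker : ∀ g, aU g = 1 → bU g = 1 → g = 1 := by
    have hN := hOp (aU.ker ⊓ bU.ker) inferInstance (fun g => ⟨1, Subtype.ext (hρ (LinearEquiv.ext fun x => ?_))⟩)
    · intro g h1 h2
      have hg : g ∈ aU.ker ⊓ bU.ker := ⟨h1, h2⟩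
      rw [hN] at hg
      exact Subgroup.mem_bot.1 hg
    · obtain ⟨g, h1, h2⟩ := g
      show ρ (g ^ p ^ 1) x = ρ 1 x
      have hd : ρ g x - x ∈ U := by
        have h4 : bU g (U.mkQ x) = U.mkQ x := by rw [MonoidHom.mem_ker.1 h2]; rfl
        rw [hbU] at h4
        exact (Submodule.Quotient.eq U).1 h4
      have hfix : ∀ y ∈ U, ρ g y = y := fun y hy => by
        have h4 := congrArg (fun e : ↥U ≃ₗ[ZMod p] ↥U => ((e ⟨y, hy⟩ : ↥U) : V)) (MonoidHom.mem_ker.1 h1)
        exact h4
      have hk : ∀ k : ℕ, ρ (g ^ k) x = x + k • (ρ g x - x) := by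
        intro k
        induction k with
        | zero => simp
        | succ k ih =>
          rw [pow_succ', map_mul, equiv_mul_apply, ih, map_add, map_nsmul, hfix _ hd, succ_nsmul]
          abel
      rw [pow_one, hk, map_one, ← Nat.cast_smul_eq_nsmul (ZMod p), ZMod.natCast_self, zero_smul, add_zero]
      rfl
  set T₁ : Set G := {t | t ∈ T ∧ ∀ x, ρ t x - x ∈ U} with hT₁
  set T₂ : Set G := T \ T₁ with hT₂
  have hT₁b : ∀ g ∈ Subgroup.closure T₁, bU g = 1 := by
    intro g hg
    refine (show Subgroup.closure T₁ ≤ bU.ker from (Subgroup.closure_le _).2 fun t ht => ?_) hg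
    refine LinearEquiv.ext fun y => ?_
    obtain ⟨y, rfl⟩ := U.mkQ_surjective y
    rw [hbU]
    exact (Submodule.Quotient.eq U).2 (ht.2 y)
  have hT₂a : ∀ g ∈ Subgroup.closure T₂, aU g = 1 := by
    intro g hg
    refine (show Subgroup.closure T₂ ≤ aU.ker from (Subgroup.closure_le _).2 fun t ht => ?_) hg
    refine LinearEquiv.ext fun y => Subtype.ext ?_
    show ρ t (y : V) = y
    obtain ⟨φ, v, hφ, hφ0, hv, e⟩ := hT t ht.1
    by_contra hne
    have h1 := U.sub_mem (hUinv t y y.2) y.2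
    rw [e, trv_apply hφ, add_sub_cancel_left] at h1
    have hφy : φ (y : V) ≠ 0 := fun h0 => hne (by rw [e, trv_apply hφ, h0, zero_smul, add_zero])
    have hvU : v ∈ U := by simpa [smul_smul, hφy] using U.smul_mem (φ (y : V))⁻¹ h1
    exact ht.2 ⟨ht.1, fun x => by rw [e, trv_apply hφ, add_sub_cancel_left]; exact U.smul_mem _ hvU⟩
  have hcomm : ∀ g ∈ Subgroup.closure T₁, ∀ h ∈ Subgroup.closure T₂, g * h = h * g := by
    intro g hg h hh
    refine commutatorElement_eq_one_iff_mul_comm.1 (hker _ ?_ ?_)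
    · rw [map_commutatorElement, hT₂a h hh, commutatorElement_one_right]
    · rw [map_commutatorElement, hT₁b g hg, commutatorElement_one_left]
  have hcent : ∀ {A B : Set G}, A ∪ B = T → (∀ g ∈ Subgroup.closure A, ∀ h ∈ Subgroup.closure B, g * h = h * g) →
      ∀ N : Subgroup ↥(Subgroup.closure A), N.Normal → IsPGroup p N → N = ⊥ := by
    intro A B hAB hc N hN hNp
    have hnorm : (N.map (Subgroup.closure A).subtype).Normal := by
      rw [← Subgroup.normalizer_eq_top_iff, eq_top_iff, ← hgen, Subgroup.closure_le, ← hAB]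
      intro t ht
      rw [SetLike.mem_coe, Subgroup.mem_normalizer_iff]
      rcases ht with ht | ht
      · intro x
        constructor
        · rintro ⟨⟨y, hy⟩, hyN, rfl⟩
          exact ⟨_, hN.conj_mem _ hyN ⟨t, Subgroup.subset_closure ht⟩, rfl⟩
        · rintro ⟨⟨y, hy⟩, hyN, e⟩
          refine ⟨_, hN.conj_mem _ hyN ⟨t, Subgroup.subset_closure ht⟩⁻¹, ?_⟩
          change t⁻¹ * y * t⁻¹⁻¹ = x
          change y = t * x * t⁻¹ at e
          rw [e]; group
      · intro x
        constructor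
        · rintro ⟨⟨y, hy⟩, hyN, rfl⟩
          refine ⟨⟨y, hy⟩, hyN, ?_⟩
          change y = t * y * t⁻¹
          rw [← hc y hy t (Subgroup.subset_closure ht), mul_inv_cancel_right]
        · rintro ⟨⟨y, hy⟩, hyN, e⟩
          refine ⟨⟨y, hy⟩, hyN, ?_⟩
          change y = t * x * t⁻¹ at e
          change y = x
          have h1 := hc y hy t (Subgroup.subset_closure ht)
          have h2 : t * y = t * x := by
            rw [← h1, e, inv_mul_cancel_right]
          exact mul_left_cancel h2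
    have := hOp _ hnorm (hNp.map _)
    rwa [Subgroup.map_eq_bot_iff_of_injective _ Subtype.val_injective] at this
  have hunion : T₁ ∪ T₂ = T := Set.union_diff_cancel fun t ht => ht.1
  -- the part seen on the subspace
  have hlt1 : Module.finrank (ZMod p) ↥U < n := hn ▸ Submodule.finrank_lt hUtop
  have hlt2 : Module.finrank (ZMod p) (V ⧸ U) < n := by
    have h1 := Submodule.finrank_quotient_add_finrank U
    have h2 : 0 < Module.finrank (ZMod p) ↥U := Nat.pos_of_ne_zero fun e => hUbot (Submodule.finrank_eq_zero.1 e)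
    omega
  have hf1 : ∀ g ∈ Subgroup.closure T₁, aU g = 1 → g = 1 := fun g hg h => hker g h (hT₁b g hg)
  have hf2 : ∀ g ∈ Subgroup.closure T₂, bU g = 1 → g = 1 := fun g hg h => hker g (hT₂a g hg) h
  have hTv1 : ∀ t ∈ T₁, IsTv (aU t) := by
    intro t ht
    obtain ⟨φ, v, hφ, hφ0, hv, e⟩ := hT t ht.1
    have hvU : v ∈ U := by
      obtain ⟨x, hx⟩ : ∃ x, φ x ≠ 0 := by
        by_contra h
        push Not at h
        exact hφ0 (LinearMap.ext h)
      have h1 := ht.2 x
      rw [e, trv_apply hφ, add_sub_cancel_left] at h1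
      simpa [smul_smul, hx] using U.smul_mem (φ x)⁻¹ h1
    have he : aU t = trv (φ.comp U.subtype) ⟨v, hvU⟩ := trv_map hφ e hφ fun x => Subtype.ext (by
      rw [haU, e, trv_apply hφ]; rfl)
    refine ⟨_, _, hφ, fun h0 => ?_, fun h0 => hv (congrArg Subtype.val h0), he⟩
    have h2 : aU t = 1 := by rw [he, h0, trv_zero_left]
    have h3 := hf1 t (Subgroup.subset_closure ht) h2
    exact (hT t ht.1).ne_one (by rw [h3, map_one])
  have hTv2 : ∀ t ∈ T₂, IsTv (bU t) := by
    intro t ht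
    obtain ⟨φ, v, hφ, hφ0, hv, e⟩ := hT t ht.1
    have hker' : U ≤ LinearMap.ker φ := by
      intro y hy
      have h1 : ρ t y = y := congrArg (fun f : ↥U ≃ₗ[ZMod p] ↥U => ((f ⟨y, hy⟩ : ↥U) : V))
        (hT₂a t (Subgroup.subset_closure ht))
      rw [e, trv_apply hφ, add_eq_left, smul_eq_zero] at h1
      exact h1.resolve_right hv
    have he : bU t = trv (U.liftQ φ hker') (U.mkQ v) := trv_map hφ e (by simpa using hφ) fun y => by
      obtain ⟨y, rfl⟩ := U.mkQ_surjective y
      rw [hbU, e, trv_apply hφ, map_add, map_smul]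
      rfl
    refine ⟨U.liftQ φ hker', U.mkQ v, by simpa using hφ, fun h0 => ?_, fun h0 => ?_, he⟩
    · refine hφ0 (LinearMap.ext fun x => ?_)
      simpa using LinearMap.congr_fun h0 (U.mkQ x)
    · refine ht.2 ⟨ht.1, fun x => ?_⟩
      rw [e, trv_apply hφ, add_sub_cancel_left]
      exact U.smul_mem _ (by simpa using h0)
  -- apply induction
  have hgen' : ∀ A : Set G, Subgroup.closure ((Subgroup.closure A).subtype ⁻¹' A) = ⊤ := fun A =>
    Subgroup.closure_closure_coe_preimage
  have hinjA : Function.Injective (aU.comp (Subgroup.closure T₁).subtype) :=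
    (injective_iff_map_eq_one _).2 fun g hg => Subtype.ext (hf1 g g.2 hg)
  have hinjB : Function.Injective (bU.comp (Subgroup.closure T₂).subtype) :=
    (injective_iff_map_eq_one _).2 fun g hg => Subtype.ext (hf2 g g.2 hg)
  obtain ⟨ι₁, hι₁, W₁, C₁, S₁, hS₁, hB₁, hX₁⟩ := IH _ hlt1 rfl _ hinjA
    ((Subgroup.closure T₁).subtype ⁻¹' T₁) (hgen' T₁) (fun t ht => hTv1 _ ht)
    (hcent hunion (fun g hg h hh => hcomm g hg h hh))
  obtain ⟨ι₂, hι₂, W₂, C₂, S₂, hS₂, hB₂, hX₂⟩ := IH _ hlt2 rfl _ hinjB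
    ((Subgroup.closure T₂).subtype ⁻¹' T₂) (hgen' T₂) (fun t ht => hTv2 _ ht)
    (hcent (Set.union_comm T₂ T₁ ▸ hunion) (fun g hg h hh => (hcomm h hh g hg).symm))
  haveI := hι₁
  haveI := hι₂
  set R₁ : ι₁ → Set G := fun i => (Subgroup.closure T₁).subtype '' S₁ i with hR₁
  set R₂ : ι₂ → Set G := fun i => (Subgroup.closure T₂).subtype '' S₂ i with hR₂
  have hsub1 : ∀ i, R₁ i ⊆ T₁ := by
    rintro i _ ⟨s, hs, rfl⟩
    have h1 : s ∈ (Subgroup.closure T₁).subtype ⁻¹' T₁ := hS₁ ▸ Set.mem_iUnion.2 ⟨i, hs⟩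
    exact h1
  have hsub2 : ∀ i, R₂ i ⊆ T₂ := by
    rintro i _ ⟨s, hs, rfl⟩
    have h1 : s ∈ (Subgroup.closure T₂).subtype ⁻¹' T₂ := hS₂ ▸ Set.mem_iUnion.2 ⟨i, hs⟩
    exact h1
  have hρinj : ∀ A : Set G, ∀ g ∈ Subgroup.closure A, ρ g = 1 → g = 1 := fun A g _ h => hρ (by rw [h, map_one])
  have hblk1 := fun i => block_lift_sub (ρ := ρ) hp haU (hρinj (R₁ i))
    (fun g hg h => hf1 g (Subgroup.closure_mono (hsub1 i) hg) h)
    (fun t ht => hT t (hsub1 i ht).1) (fun t ht => hTv1 t (hsub1 i ht)) (fun t ht => (hsub1 i ht).2)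
    ((hB₁ i).map_hom (σ := aU) Subtype.val_injective)
  have hblk2 := fun i => block_lift_quot (ρ := ρ) hp hbU (hρinj (R₂ i))
    (fun g hg h => hf2 g (Subgroup.closure_mono (hsub2 i) hg) h)
    (fun t ht => hT t (hsub2 i ht).1) (fun t ht => hTv2 t (hsub2 i ht))
    (fun t ht y hy => congrArg (fun f : ↥U ≃ₗ[ZMod p] ↥U => ((f ⟨y, hy⟩ : ↥U) : V))
      (hT₂a t (Subgroup.subset_closure (hsub2 i ht))))
    ((hB₂ i).map_hom (σ := bU) Subtype.val_injective)
  -- elements commuting with a block preserve its space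
  have hpres : ∀ (S : Set G) (t : G), (∀ s ∈ S, s * t = t * s) → ∀ x ∈ moved ρ S, ρ t x ∈ moved ρ S := by
    intro S t hst x hx
    have hle : moved ρ S ≤ (moved ρ S).comap (ρ t : V →ₗ[ZMod p] V) := Submodule.span_le.2 (by
      rintro _ ⟨s, hs, y, rfl⟩
      refine Submodule.subset_span ⟨s, hs, ρ t y, ?_⟩
      rw [LinearEquiv.coe_coe, map_sub, ← equiv_mul_apply, ← map_mul, ← hst s hs, map_mul, equiv_mul_apply])
    exact hle hx
  refine ⟨ι₁ ⊕ ι₂, inferInstance, Sum.elim (fun i => moved ρ (R₁ i)) (fun i => moved ρ (R₂ i)),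
    Sum.elim (fun i => fixSp ρ (R₁ i)) (fun i => fixSp ρ (R₂ i)), Sum.elim R₁ R₂, ?_, ?_, ?_⟩
  · rw [Set.iUnion_sum]
    simp only [Sum.elim_inl, Sum.elim_inr, hR₁, hR₂, ← Set.image_iUnion, hS₁, hS₂]
    rw [Set.image_preimage_eq_of_subset (fun t ht => ⟨⟨t, Subgroup.subset_closure ht⟩, rfl⟩),
      Set.image_preimage_eq_of_subset (fun t ht => ⟨⟨t, Subgroup.subset_closure ht⟩, rfl⟩)]
    exact hunion
  · rintro (i | i)
    exacts [(hblk1 i).1, (hblk2 i).1]
  · rintro (i | i) (j | j) hij t ht x hx <;> simp only [Sum.elim_inl, Sum.elim_inr] at ht hx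
    · -- both on the subspace
      rw [(hblk1 i).2] at hx
      obtain ⟨w, hw, rfl⟩ := hx
      obtain ⟨s, hs, rfl⟩ := ht
      have h1 := hX₁ i j (fun e => hij (congrArg Sum.inl e)) s hs w hw
      exact congrArg Subtype.val h1
    · rw [(hblk1 i).2] at hx
      obtain ⟨w, hw, rfl⟩ := hx
      exact congrArg (fun f : ↥U ≃ₗ[ZMod p] ↥U => ((f w : ↥U) : V)) (hT₂a t (Subgroup.subset_closure (hsub2 j ht)))
    · have htx := hpres _ t (fun s hs => (hcomm t (Subgroup.subset_closure (hsub1 j ht)) s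
        (Subgroup.subset_closure (hsub2 i hs))).symm) x hx
      exact sub_eq_zero.1 ((hblk2 i).2.2 _ (Submodule.sub_mem _ htx hx) ((hsub1 j ht).2 x))
    · obtain ⟨t, ht', rfl⟩ := ht
      have hij' : i ≠ j := fun e => hij (congrArg Sum.inr e)
      have htx := hpres (R₂ i) ((Subgroup.closure T₂).subtype t) (by
        rintro _ ⟨s, hs, rfl⟩
        exact congrArg Subtype.val (commute_of_cross hinjB (hB₂ i) (hB₂ j)
          (fun a ha y hy => hX₂ j i hij'.symm a ha y hy) (fun a ha y hy => hX₂ i j hij' a ha y hy) hs ht').eq) x hx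
      refine sub_eq_zero.1 ((hblk2 i).2.2 _ (Submodule.sub_mem _ htx hx) ?_)
      have hmk : U.mkQ x ∈ W₂ i := by
        rw [← (hblk2 i).2.1]
        exact Submodule.mem_map_of_mem hx
      have h1 := hX₂ i j hij' t ht' _ hmk
      rw [MonoidHom.comp_apply, hbU] at h1
      exact (Submodule.Quotient.eq U).1 h1

end Cfsg.Agent.H88
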